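import Groth.Agent.CommAlg6.FibreField
import Groth.Agent.CAlgH3.CMPolynomial
import Groth.Agent.CAlgH3.RegularHom
import Groth.Agent.CAlgH.RegularBase
import Groth.Prelude.Def_EGA4b

/-! Serre conditions for geometric fibres: composition and descent. -/

universe u

open TensorProduct IsLocalRing

namespace Groth.Agent.CommAlg6

section ring

variable {R S : Type u} [CommRing R] [CommRing S] [IsNoetherianRing R]

omit [IsNoetherianRing R] in
theorem isLocalization_bot_of_ringEquiv (e : R ≃+* S) :
    letI := e.toRingHom.toAlgebra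
    IsLocalization (⊥ : Submonoid R) S := by
  let : Algebra R S := e.toRingHom.toAlgebra
  have : IsLocalization (⊥ : Submonoid R) R := IsLocalization.self bot_le
  exact IsLocalization.isLocalization_of_algEquiv _ (S := R)
    (AlgEquiv.ofRingEquiv (f := e) fun _ => rfl)

theorem hasRk_of_ringEquiv (e : R ≃+* S) {k : ℕ} (h : _root_.LocCoh.HasRk k R) :
    _root_.LocCoh.HasRk k S := by
  letI := e.toRingHom.toAlgebra
  haveI := isLocalization_bot_of_ringEquiv e
  exact CAlgH3.hasRk_localization (W := (⊥ : Submonoid R)) h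

theorem hasSk_of_ringEquiv (e : R ≃+* S) {k : ℕ} (h : _root_.LocCoh.HasSk k R R) :
    _root_.LocCoh.HasSk k S S := by
  letI := e.toRingHom.toAlgebra
  haveI := isLocalization_bot_of_ringEquiv e
  exact CAlgH3.hasSk_localization (W := (⊥ : Submonoid R)) h

theorem isCMRing_iff_forall_hasSk :
    _root_.LocCoh.IsCohenMacaulayRing R ↔ ∀ n, _root_.LocCoh.HasSk n R R := by
  constructor
  · intro h n
    rw [CAlgH3.hasSk_self_iff]
    intro p _
    have := h.isCohenMacaulayLocalRing_localization p
    rw [CAlgH3.isCohenMacaulayLocalRing_iff_depth] at this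
    exact (min_le_right _ _).trans this.le
  · intro h
    refine ⟨fun p _ => ?_⟩
    rw [CAlgH3.isCohenMacaulayLocalRing_iff_depth]
    obtain ⟨d, hd⟩ := ENat.ne_top_iff_exists.1
      (Ideal.height_ne_top (maximalIdeal.isMaximal (Localization.AtPrime p)).ne_top :
        (maximalIdeal (Localization.AtPrime p)).height ≠ ⊤)
    have hdim : ringKrullDim (Localization.AtPrime p) = (d : WithBot ℕ∞) := by
      rw [← maximalIdeal_height_eq_ringKrullDim, ← hd]; rfl
    refine le_antisymm ?_ ?_
    · have := (CAlgH3.hasSk_self_iff d).1 (h d) p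
      rwa [hdim, min_self, ← hdim] at this
    · rw [← Module.supportDim_self_eq_ringKrullDim]
      exact CAlgH3.depth_le_supportDim

theorem isRegularRing_iff_forall_hasRk :
    IsRegularRing R ↔ ∀ k, _root_.LocCoh.HasRk k R := by
  constructor
  · intro h k p _ _
    exact inferInstance
  · intro h
    refine ⟨fun p _ => ?_⟩
    obtain ⟨d, hd⟩ := ENat.ne_top_iff_exists.1 (Ideal.height_ne_top (I := p) Ideal.IsPrime.ne_top')
    exact h d p hd.ge

theorem isReduced_iff_R0_S1 :
    IsReduced R ↔ _root_.LocCoh.HasRk 0 R ∧ _root_.LocCoh.HasSk 1 R R :=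
  ⟨fun _ => ⟨CAlgH3.hasR0_of_isReduced, CAlgH3.hasS1_of_isReduced⟩,
    fun h => CAlgH3.isReduced_of_R0_S1 h.1 h.2⟩

theorem isNormalRing_iff_R1_S2 :
    EGA4.IsNormalRing R ↔ _root_.LocCoh.HasRk 1 R ∧ _root_.LocCoh.HasSk 2 R R :=
  CAlgH3.normal_localization_iff

theorem isCMRing_of_isRegularRing [IsRegularRing R] : ∀ n, _root_.LocCoh.HasSk n R R :=
  isCMRing_iff_forall_hasSk.1 CAlgH3.isCohenMacaulayRing_of_isRegularRing

end ring

variable {A B C : Type u} [CommRing A] [CommRing B] [CommRing C]
variable [Algebra A B] [Algebra B C] [Algebra A C] [IsScalarTower A B C]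

/-- Base change along `A → B → C`. -/
noncomputable def towerEquiv (K : Type u) [CommRing K] [Algebra A K] :
    (B ⊗[A] K) ⊗[B] C ≃+* K ⊗[A] C :=
  ((Algebra.TensorProduct.comm B (B ⊗[A] K) C).toRingEquiv.trans
    (Algebra.TensorProduct.cancelBaseChange A B C C K).toRingEquiv).trans
    (Algebra.TensorProduct.comm A C K).toRingEquiv

/-- The fibre of `T → T ⊗_B C` at a prime `P`. -/
noncomputable def fibreBaseChangeEquiv {T : Type u} [CommRing T] [Algebra B T] (P : Ideal T)
    [P.IsPrime] : P.ResidueField ⊗[B] C ≃+* P.Fiber (T ⊗[B] C) :=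
  (Algebra.TensorProduct.cancelBaseChange B T P.ResidueField P.ResidueField C).toRingEquiv.symm

omit [Algebra A C] [IsScalarTower A B C] in
theorem isNoetherianRing_resFinite [IsNoetherianRing B] {K : Type u} [Field K] [Algebra A K]
    (h : IsResFinite A K) : IsNoetherianRing (K ⊗[A] B) := by
  haveI := h.isNoetherianRing (B := B)
  exact isNoetherianRing_of_ringEquiv _ (Algebra.TensorProduct.comm A B K).toRingEquiv

variable [IsNoetherianRing B] [IsNoetherianRing C]

theorem hasSk_fibre_comp [Module.Flat B C] (n : ℕ) {K : Type u} [Field K] [Algebra A K]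
    (hK : IsResFinite A K) (hB : _root_.LocCoh.HasSk n (K ⊗[A] B) (K ⊗[A] B))
    (hC : ∀ (L : Type u) [Field L] [Algebra B L], IsResFinite B L →
      _root_.LocCoh.HasSk n (L ⊗[B] C) (L ⊗[B] C)) :
    _root_.LocCoh.HasSk n (K ⊗[A] C) (K ⊗[A] C) := by
  haveI := hK.isNoetherianRing (B := B)
  haveI := isNoetherianRing_resFinite (B := B) hK
  haveI := isNoetherianRing_resFinite (B := C) hK
  haveI : IsNoetherianRing ((B ⊗[A] K) ⊗[B] C) :=
    isNoetherianRing_of_ringEquiv _ (towerEquiv K).symm
  refine hasSk_of_ringEquiv (R := (B ⊗[A] K) ⊗[B] C) (towerEquiv K) ?_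
  refine hasSk_of_base_and_fibres (A := B ⊗[A] K) n
    (hasSk_of_ringEquiv (Algebra.TensorProduct.comm A K B).toRingEquiv hB) ?_
  refine (forall_hasSk_fiber_iff n).1 fun P _ => ?_
  haveI := isNoetherianRing_resFinite (B := C) (hK.residueField P)
  exact hasSk_of_ringEquiv (fibreBaseChangeEquiv P) (hC _ (hK.residueField P))

theorem hasRk_fibre_comp [Module.Flat B C] (k : ℕ) {K : Type u} [Field K] [Algebra A K]
    (hK : IsResFinite A K) (hB : _root_.LocCoh.HasRk k (K ⊗[A] B))
    (hC : ∀ (L : Type u) [Field L] [Algebra B L], IsResFinite B L →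
      _root_.LocCoh.HasRk k (L ⊗[B] C)) :
    _root_.LocCoh.HasRk k (K ⊗[A] C) := by
  haveI := hK.isNoetherianRing (B := B)
  haveI := isNoetherianRing_resFinite (B := B) hK
  haveI := isNoetherianRing_resFinite (B := C) hK
  haveI : IsNoetherianRing ((B ⊗[A] K) ⊗[B] C) :=
    isNoetherianRing_of_ringEquiv _ (towerEquiv K).symm
  refine hasRk_of_ringEquiv (R := (B ⊗[A] K) ⊗[B] C) (towerEquiv K) ?_
  refine hasRk_of_base_and_fibres (A := B ⊗[A] K) k
    (hasRk_of_ringEquiv (Algebra.TensorProduct.comm A K B).toRingEquiv hB) ?_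
  refine fib_regular_of_hasRk_fiber k fun P _ => ?_
  haveI := isNoetherianRing_resFinite (B := C) (hK.residueField P)
  exact hasRk_of_ringEquiv (fibreBaseChangeEquiv P) (hC _ (hK.residueField P))

theorem hasSk_fibre_descend [Module.FaithfullyFlat B C] (n : ℕ) {K : Type u} [Field K] [Algebra A K]
    (hK : IsResFinite A K) (hC : _root_.LocCoh.HasSk n (K ⊗[A] C) (K ⊗[A] C)) :
    _root_.LocCoh.HasSk n (K ⊗[A] B) (K ⊗[A] B) := by
  haveI := hK.isNoetherianRing (B := B)
  haveI := isNoetherianRing_resFinite (B := B) hK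
  haveI := isNoetherianRing_resFinite (B := C) hK
  haveI : IsNoetherianRing ((B ⊗[A] K) ⊗[B] C) :=
    isNoetherianRing_of_ringEquiv _ (towerEquiv K).symm
  exact hasSk_of_ringEquiv (Algebra.TensorProduct.comm A B K).toRingEquiv
    (hasSk_descend (B := (B ⊗[A] K) ⊗[B] C) n (hasSk_of_ringEquiv (towerEquiv K).symm hC))

theorem hasRk_fibre_descend [Module.FaithfullyFlat B C] (k : ℕ) {K : Type u} [Field K] [Algebra A K]
    (hK : IsResFinite A K) (hC : _root_.LocCoh.HasRk k (K ⊗[A] C)) :
    _root_.LocCoh.HasRk k (K ⊗[A] B) := by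
  haveI := hK.isNoetherianRing (B := B)
  haveI := isNoetherianRing_resFinite (B := B) hK
  haveI := isNoetherianRing_resFinite (B := C) hK
  haveI : IsNoetherianRing ((B ⊗[A] K) ⊗[B] C) :=
    isNoetherianRing_of_ringEquiv _ (towerEquiv K).symm
  exact hasRk_of_ringEquiv (Algebra.TensorProduct.comm A B K).toRingEquiv
    (hasRk_descend (B := (B ⊗[A] K) ⊗[B] C) k (hasRk_of_ringEquiv (towerEquiv K).symm hC))

section bridge

omit [Algebra A C] [IsScalarTower A B C] [IsNoetherianRing B] [IsNoetherianRing C]

/-- Geometric fibres as base changes from the base. -/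
theorem geomNormal_fibres_iff :
    (∀ (p : Ideal A) [p.IsPrime], EGA4.IsGeomNormal p.ResidueField (p.Fiber B)) ↔
      ∀ (K : Type u) [Field K] [Algebra A K], IsResFinite A K → EGA4.IsNormalRing (K ⊗[A] B) := by
  constructor
  · intro h K _ _ hK
    obtain ⟨p, _, _, _, hf⟩ := hK
    exact isNormalRing_of_ringEquiv
      (Algebra.TensorProduct.cancelBaseChange A p.ResidueField K K B).toRingEquiv (h p K hf)
  · intro h p _ k' _ _ hk'
    letI : Algebra A k' := Algebra.compHom k' (algebraMap A p.ResidueField)
    haveI : IsScalarTower A p.ResidueField k' := .of_algebraMap_eq fun _ => rfl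
    exact isNormalRing_of_ringEquiv
      (Algebra.TensorProduct.cancelBaseChange A p.ResidueField k' k' B).toRingEquiv.symm
      (h k' ⟨p, inferInstance, inferInstance, inferInstance, hk'⟩)

theorem isReduced_tensor_of_finite_subalgebras (k K F : Type u) [Field k] [Field K] [Algebra k K]
    [Algebra.IsAlgebraic k K] [CommRing F] [Algebra k F]
    (h : ∀ (k' : Type u) [Field k'] [Algebra k k'], Module.Finite k k' → IsReduced (k' ⊗[k] F)) :
    IsReduced (K ⊗[k] F) := by
  haveI : IsReduced (F ⊗[k] K) := IsReduced.tensorProduct_of_flat_of_forall_fg fun D hD => by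
    haveI : Algebra.IsIntegral k D :=
      Algebra.IsIntegral.of_injective D.val Subtype.val_injective
    haveI : Algebra.FiniteType k D := ⟨Subalgebra.fg_top _ |>.2 hD⟩
    haveI : Module.Finite k D := Algebra.IsIntegral.finite
    letI : Field D := (isField_of_isIntegral_of_isField' (R := k) (Field.toIsField k)).toField
    haveI := h D inferInstance
    exact isReduced_of_injective (Algebra.TensorProduct.comm k F D)
      (Algebra.TensorProduct.comm k F D).injective
  exact isReduced_of_injective (Algebra.TensorProduct.comm k K F)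
    (Algebra.TensorProduct.comm k K F).injective

theorem geomReduced_fibres_iff :
    (∀ (p : Ideal A) [p.IsPrime], Algebra.IsGeometricallyReduced p.ResidueField (p.Fiber B)) ↔
      ∀ (K : Type u) [Field K] [Algebra A K], IsResFinite A K → IsReduced (K ⊗[A] B) := by
  constructor
  · intro h K _ _ hK
    obtain ⟨p, _, _, _, hf⟩ := hK
    haveI := h p
    haveI : IsReduced (K ⊗[p.ResidueField] p.Fiber B) := inferInstance
    let e := (Algebra.TensorProduct.cancelBaseChange A p.ResidueField K K B).symm
    exact isReduced_of_injective e e.injective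
  · intro h p _
    rw [Algebra.isGeometricallyReduced_field_iff]
    refine isReduced_tensor_of_finite_subalgebras _ _ _ fun k' _ _ hk' => ?_
    letI : Algebra A k' := Algebra.compHom k' (algebraMap A p.ResidueField)
    haveI : IsScalarTower A p.ResidueField k' := .of_algebraMap_eq fun _ => rfl
    haveI := h k' ⟨p, inferInstance, inferInstance, inferInstance, hk'⟩
    exact isReduced_of_injective
      (Algebra.TensorProduct.cancelBaseChange A p.ResidueField k' k' B)
      (Algebra.TensorProduct.cancelBaseChange A p.ResidueField k' k' B).injective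

theorem isRegularRing_resFinite (h : CAlg.IsRegularHom A B) (K : Type u) [Field K] [Algebra A K]
    (hK : IsResFinite A K) : IsRegularRing (K ⊗[A] B) := by
  haveI := hK.essFiniteType
  exact CAlgH.isRegularRing_field_tensor h K

end bridge

end Groth.Agent.CommAlg6
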