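import Groth.Agent.CommAlg6.FieldExtSerre

/-! Geometrically normal algebras: tensor products and base change. -/

universe u

open IsLocalRing TensorProduct

namespace Groth.Agent.CommAlg6

/-- Base change of a geometrically normal algebra to an extension of the field with Noetherian result. -/
theorem isNormalRing_geomNormal_field (k K S : Type u) [Field k] [Field K] [Algebra k K] [CommRing S]
    [Algebra k S] [IsNoetherianRing S] [IsNoetherianRing (K ⊗[k] S)] (h : EGA4.IsGeomNormal k S) :
    EGA4.IsNormalRing (K ⊗[k] S) :=
  isNormalRing_tensor_field k K S fun k' _ _ hf _ => h k' hf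

/-- Geometric normality passes to a finitely generated extension of the field. -/
theorem isGeomNormal_baseChange (k K S : Type u) [Field k] [Field K] [Algebra k K]
    [Algebra.EssFiniteType k K] [CommRing S] [Algebra k S] [IsNoetherianRing S]
    (h : EGA4.IsGeomNormal k S) : EGA4.IsGeomNormal K (K ⊗[k] S) := by
  intro L _ _ hL
  letI : Algebra k L := Algebra.compHom L (algebraMap k K)
  haveI : IsScalarTower k K L := .of_algebraMap_eq fun _ => rfl
  haveI : Algebra.EssFiniteType k L := Algebra.EssFiniteType.comp k K L
  haveI := isNoetherianRing_field_tensor k L S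
  exact isNormalRing_of_ringEquiv (Algebra.TensorProduct.cancelBaseChange k K L L S).toRingEquiv.symm
    (isNormalRing_geomNormal_field k L S h)

theorem isNormalRing_of_normal_fibres {G G' : Type u} [CommRing G] [CommRing G'] [IsNoetherianRing G]
    [IsNoetherianRing G'] [Algebra G G'] [Module.Flat G G'] (hG : EGA4.IsNormalRing G)
    (h : ∀ (p : Ideal G) [p.IsPrime], EGA4.IsNormalRing (p.Fiber G')) : EGA4.IsNormalRing G' := by
  rw [isNormalRing_iff_R1_S2] at hG ⊢
  refine ⟨hasRk_of_base_and_fibres (A := G) 1 hG.1 (fib_regular_of_hasRk_fiber 1 fun p _ => ?_),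
    hasSk_of_base_and_fibres (A := G) 2 hG.2 ((forall_hasSk_fiber_iff 2).1 fun p _ => ?_)⟩
  all_goals haveI := isNoetherianRing_fiber (B := G') p
  · exact (isNormalRing_iff_R1_S2.1 (h p)).1
  · exact (isNormalRing_iff_R1_S2.1 (h p)).2

theorem isNormalRing_descend {G G' : Type u} [CommRing G] [CommRing G'] [IsNoetherianRing G]
    [IsNoetherianRing G'] [Algebra G G'] [Module.FaithfullyFlat G G'] (h : EGA4.IsNormalRing G') :
    EGA4.IsNormalRing G := by
  rw [isNormalRing_iff_R1_S2] at h ⊢
  exact ⟨hasRk_descend (B := G') 1 h.1, hasSk_descend (B := G') 2 h.2⟩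

/-- Descent of normality along an extension of fields. -/
theorem isNormalRing_descend_field (k K L S : Type u) [Field k] [Field K] [Field L] [Algebra k K]
    [Algebra k L] [Algebra K L] [IsScalarTower k K L] [CommRing S] [Algebra k S]
    [IsNoetherianRing (K ⊗[k] S)] [IsNoetherianRing (L ⊗[k] S)]
    (h : EGA4.IsNormalRing (L ⊗[k] S)) : EGA4.IsNormalRing (K ⊗[k] S) := by
  let e : L ⊗[k] S ≃+* (K ⊗[k] S) ⊗[K] L :=
    ((Algebra.TensorProduct.cancelBaseChange k K L L S).toRingEquiv.symm).trans
      (Algebra.TensorProduct.comm K L (K ⊗[k] S)).toRingEquiv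
  haveI := isNoetherianRing_of_ringEquiv _ e
  exact isNormalRing_descend (G' := (K ⊗[k] S) ⊗[K] L) (isNormalRing_of_ringEquiv e h)

/-- `S ⊗_k T` is normal for normal `S`, geometrically normal `T`, one of them of finite type. -/
theorem isNormalRing_tensor (k S T : Type u) [Field k] [CommRing S] [CommRing T] [Algebra k S]
    [Algebra k T] [IsNoetherianRing S] [IsNoetherianRing T]
    (hft : Algebra.FiniteType k S ∨ Algebra.FiniteType k T) [IsNoetherianRing (S ⊗[k] T)]
    (hS : EGA4.IsNormalRing S) (hT : EGA4.IsGeomNormal k T) : EGA4.IsNormalRing (S ⊗[k] T) := by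
  refine isNormalRing_of_normal_fibres (G := S) hS fun p _ => ?_
  haveI : IsNoetherianRing (p.ResidueField ⊗[k] T) := by
    rcases hft with h | h
    · haveI : Algebra.EssFiniteType k p.ResidueField := Algebra.EssFiniteType.comp k S p.ResidueField
      exact isNoetherianRing_field_tensor k p.ResidueField T
    · exact Algebra.FiniteType.isNoetherianRing p.ResidueField _
  exact isNormalRing_of_ringEquiv
    (Algebra.TensorProduct.cancelBaseChange k S p.ResidueField p.ResidueField T).toRingEquiv.symm
    (isNormalRing_geomNormal_field k p.ResidueField T hT)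

/-- A normal homomorphism stays normal after base change to a field, if the result is Noetherian. -/
theorem isNormalRing_normalHom_field {A B : Type u} [CommRing A] [CommRing B] [IsNoetherianRing B]
    [Algebra A B] (h : EGA4.IsNormalHom A B) (K : Type u) [Field K] [Algebra A K]
    [IsNoetherianRing (K ⊗[A] B)] : EGA4.IsNormalRing (K ⊗[A] B) := by
  let p := RingHom.ker (algebraMap A K)
  haveI : p.IsPrime := RingHom.ker_isPrime _
  letI : Algebra p.ResidueField K :=
    (Ideal.ResidueField.lift p (algebraMap A K) le_rfl fun x hx => isUnit_iff_ne_zero.mpr hx).toAlgebra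
  haveI : IsScalarTower A p.ResidueField K :=
    IsScalarTower.of_algebraMap_eq fun x => (Ideal.ResidueField.lift_algebraMap p _ _ _ x).symm
  haveI : IsNoetherianRing (p.Fiber B) := isNoetherianRing_fiber p
  let e := (Algebra.TensorProduct.cancelBaseChange A p.ResidueField K K B).toRingEquiv
  haveI : IsNoetherianRing (K ⊗[p.ResidueField] p.Fiber B) := isNoetherianRing_of_ringEquiv _ e.symm
  exact isNormalRing_of_ringEquiv e
    (isNormalRing_geomNormal_field p.ResidueField K (p.Fiber B) (h.2 p))

end Groth.Agent.CommAlg6
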