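import Groth.Agent.CAlgH3.MoriFamily
import Groth.Agent.CommAlg6.GeomNormalBase
import Mathlib.RingTheory.LocalProperties.IntegrallyClosed
import Mathlib.LinearAlgebra.DirectSum.TensorProduct

/-! Normality of tensor products, without Noetherian hypotheses on one of the factors. -/

set_option autoImplicit false
set_option linter.style.haveILetI false

universe u

open TensorProduct IsLocalRing

namespace Groth.Agent.CommAlg6.NormalTensor

section general

theorem isNormalRing_localization {R S : Type u} [CommRing R] [CommRing S] [Algebra R S] (W : Submonoid R)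
    [IsLocalization W S] (h : EGA4.IsNormalRing R) : EGA4.IsNormalRing S := fun q _ => by
  obtain ⟨e, -⟩ := CAlgH3.isLocalization_atPrime_under W q
  obtain ⟨h1, h2⟩ := h (q.comap (algebraMap R S))
  haveI := h1
  haveI := h2
  exact ⟨e.toMulEquiv.symm.isDomain, IsIntegrallyClosed.of_equiv e⟩

theorem isDomain_of_local {S : Type u} [CommRing S] [IsLocalRing S] (h : EGA4.IsNormalRing S) :
    IsDomain S ∧ IsIntegrallyClosed S := by
  obtain ⟨h1, h2⟩ := h (maximalIdeal S)
  haveI := h1
  haveI := h2
  let e : S ≃+* Localization.AtPrime (maximalIdeal S) := (IsLocalization.atUnits S (maximalIdeal S).primeCompl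
    (S := Localization.AtPrime (maximalIdeal S)) fun x hx => not_not.1 fun hu => hx hu).toRingEquiv
  exact ⟨e.toMulEquiv.isDomain, IsIntegrallyClosed.of_equiv e.symm⟩

theorem isReduced_of_isNormalRing {R : Type u} [CommRing R] (h : EGA4.IsNormalRing R) : IsReduced R :=
  isReduced_ofLocalizationMaximal R fun M _ => haveI := (h M).1; inferInstance

/-- A Noetherian normal ring without nontrivial idempotents is a domain. -/
theorem isDomain_of_no_idempotent {R : Type u} [CommRing R] [Nontrivial R] [IsNoetherianRing R]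
    (h : EGA4.IsNormalRing R) (hid : ∀ e : R, IsIdempotentElem e → e = 0 ∨ e = 1) : IsDomain R := by
  classical
  haveI := isReduced_of_isNormalRing h
  have huniq : ∀ (M : Ideal R) [M.IsPrime] (p : Ideal R), p ∈ minimalPrimes R → p ≤ M →
      p = (⊥ : Ideal (Localization.AtPrime M)).comap (algebraMap R _) := fun M _ p hp hpM => by
    haveI := (h M).1
    haveI := hp.1.1
    have hdis : Disjoint (M.primeCompl : Set R) (p : Set R) := Set.disjoint_left.2 fun x hx hxp => hx (hpM hxp)
    refine le_antisymm (hp.2 ⟨Ideal.IsPrime.comap _, bot_le⟩ ?_) ?_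
    · refine le_trans (Ideal.comap_mono bot_le)
        (IsLocalization.comap_map_of_isPrime_disjoint M.primeCompl (Localization.AtPrime M) ‹_› hdis).le
    · refine le_trans (Ideal.comap_mono bot_le)
        (IsLocalization.comap_map_of_isPrime_disjoint M.primeCompl (Localization.AtPrime M) ‹_› hdis).le
  obtain ⟨p, hp⟩ : (minimalPrimes R).Nonempty := by
    obtain ⟨M, hM⟩ := Ideal.exists_maximal R
    obtain ⟨p, hp, -⟩ := Ideal.exists_minimalPrimes_le (bot_le : (⊥ : Ideal R) ≤ M)
    exact ⟨p, hp⟩
  haveI := hp.1.1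
  let s := (minimalPrimes.finite_of_isNoetherianRing R).toFinset.erase p
  have htop : p ⊔ ⨅ i ∈ s, i = ⊤ := by
    refine Ideal.sup_iInf_eq_top fun i hi => ?_
    by_contra hne
    obtain ⟨M, hM, hle⟩ := Ideal.exists_le_maximal _ hne
    simp only [s, Finset.mem_erase, Set.Finite.mem_toFinset] at hi
    exact hi.1 ((huniq M i hi.2 (le_sup_right.trans hle)).trans (huniq M p hp (le_sup_left.trans hle)).symm)
  obtain ⟨e, he, e', he', hee⟩ := Submodule.mem_sup.1 (htop.ge (Submodule.mem_top (x := (1 : R))))
  have h0 : e * e' = 0 := IsReduced.eq_zero _ (nilpotent_iff_mem_prime.2 fun J hJ => by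
    obtain ⟨q, hq, hqJ⟩ := Ideal.exists_minimalPrimes_le (bot_le : (⊥ : Ideal R) ≤ J)
    refine hqJ ?_
    by_cases hqp : q = p
    · exact hqp ▸ p.mul_mem_right _ he
    · refine q.mul_mem_left _ ?_
      simp only [Submodule.mem_iInf] at he'
      exact he' q (by simp [s, hqp]; exact hq))
  have hidem : IsIdempotentElem e := by
    show e * e = e
    linear_combination e * hee - h0
  rcases hid e hidem with rfl | rfl
  · rw [zero_add] at hee
    subst hee
    have hall : ∀ q ∈ minimalPrimes R, q = p := fun q hq => by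
      by_contra hqp
      simp only [Submodule.mem_iInf] at he'
      exact hq.1.1.ne_top ((Ideal.eq_top_iff_one q).2 (he' q (by simp [s, hqp]; exact hq)))
    have hbot : p = ⊥ := by
      refine le_antisymm (fun x hx => Ideal.mem_bot.2 (IsReduced.eq_zero _ (nilpotent_iff_mem_prime.2 fun J hJ => ?_))) bot_le
      obtain ⟨q, hq, hqJ⟩ := Ideal.exists_minimalPrimes_le (bot_le : (⊥ : Ideal R) ≤ J)
      exact hqJ ((hall q hq).symm ▸ hx)
    subst hbot
    exact (Ideal.Quotient.isDomain_iff_prime (⊥ : Ideal R)).2 ‹_› |> fun hd =>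
      (RingEquiv.quotientBot R).symm.toMulEquiv.isDomain
  · exact absurd ((Ideal.eq_top_iff_one p).2 he) (Ideal.IsPrime.ne_top ‹_›)

/-- A subring of a Noetherian normal ring which is integrally closed in it is normal. -/
theorem isNormalRing_of_integrallyClosed_in {R Q : Type u} [CommRing R] [CommRing Q] [IsNoetherianRing Q]
    [Algebra R Q] (hf : Function.Injective (algebraMap R Q)) (hQ : EGA4.IsNormalRing Q)
    (hint : ∀ z : Q, IsIntegral R z → z ∈ Set.range (algebraMap R Q)) : EGA4.IsNormalRing R := by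
  intro P _
  let S := Algebra.algebraMapSubmonoid Q P.primeCompl
  let RP := Localization.AtPrime P
  let QP := Localization S
  letI : Algebra RP QP := localizationAlgebra P.primeCompl Q
  haveI : IsScalarTower R RP QP := .of_algebraMap_eq fun x => by
    rw [IsScalarTower.algebraMap_apply R Q QP]
    exact (IsLocalization.map_eq _ x).symm
  have hinj : Function.Injective (algebraMap RP QP) :=
    localizationAlgebra_injective RP QP hf
  haveI : IsNoetherianRing QP := IsLocalization.isNoetherianRing S QP inferInstance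
  have hintP : ∀ z : QP, IsIntegral RP z → z ∈ Set.range (algebraMap RP QP) := fun z hz => by
    obtain ⟨⟨m, hm⟩, hmz⟩ := IsIntegral.exists_multiple_integral_of_isLocalization (R := R) (Rₘ := RP) P.primeCompl z hz
    obtain ⟨⟨q, ⟨_, w, hw, rfl⟩⟩, hq⟩ := IsLocalization.surj S (algebraMap R QP m * z)
    have hq' : IsIntegral R (algebraMap Q QP q) := by
      rw [← hq, ← IsScalarTower.algebraMap_apply R Q QP]
      exact IsIntegral.mul (by rw [← Algebra.smul_def]; exact hmz) isIntegral_algebraMap
    obtain ⟨p, hp, hpq⟩ := hq'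
    rw [IsScalarTower.algebraMap_eq R Q QP, ← Polynomial.hom_eval₂] at hpq
    obtain ⟨⟨_, v, hv, rfl⟩, hv0⟩ := (IsLocalization.map_eq_zero_iff S QP _).1 hpq
    obtain ⟨r, hr⟩ := hint (algebraMap R Q v * q) ⟨p.scaleRoots v, (Polynomial.monic_scaleRoots_iff v).2 hp, by
      rw [Polynomial.scaleRoots_eval₂_mul]
      rcases Nat.eq_zero_or_pos p.natDegree with hd | hd
      · have h1 : p = 1 := hp.natDegree_eq_zero.1 hd
        subst h1
        rw [Polynomial.eval₂_one, mul_one] at hv0
        exact absurd (hf (show algebraMap R Q v = algebraMap R Q 0 by rw [map_zero]; exact hv0))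
          (fun h => hv (h ▸ P.zero_mem))
      · obtain ⟨d, hd'⟩ := Nat.exists_eq_succ_of_ne_zero hd.ne'
        rw [hd', pow_succ, mul_assoc, show algebraMap R Q v * Polynomial.eval₂ (algebraMap R Q) q p = 0 from hv0, mul_zero]⟩
    have hu : ∀ x ∈ P.primeCompl, IsUnit (algebraMap R QP x) := fun x hx => by
      rw [IsScalarTower.algebraMap_apply R RP QP]
      exact (IsLocalization.map_units RP ⟨x, hx⟩).map _
    refine ⟨IsLocalization.mk' RP r (⟨v * w * m, mul_mem (mul_mem hv hw) hm⟩ : P.primeCompl), ?_⟩
    refine (hu _ (mul_mem (mul_mem hv hw) hm)).mul_left_cancel ?_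
    rw [IsScalarTower.algebraMap_apply R RP QP, ← map_mul, mul_comm, IsLocalization.mk'_spec,
      ← IsScalarTower.algebraMap_apply R RP QP, IsScalarTower.algebraMap_apply R Q QP, hr, map_mul, ← hq,
      ← IsScalarTower.algebraMap_apply R RP QP, ← IsScalarTower.algebraMap_apply R Q QP,
      ← IsScalarTower.algebraMap_apply R Q QP, map_mul, map_mul]
    ring
  haveI : Nontrivial QP := hinj.nontrivial
  have hN : EGA4.IsNormalRing QP := isNormalRing_localization S hQ
  haveI : IsDomain QP := isDomain_of_no_idempotent hN fun e he => by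
    obtain ⟨a, rfl⟩ := hintP e ⟨Polynomial.X ^ 2 - Polynomial.X, Polynomial.monic_X_pow_sub (by simp), by
      rw [Polynomial.eval₂_sub, Polynomial.eval₂_X_pow, Polynomial.eval₂_X, sq, he.eq, sub_self]⟩
    have ha : IsIdempotentElem a := hinj (by rw [map_mul]; exact he)
    have ha1 : a * (1 - a) = 0 := by rw [mul_sub, mul_one, ha.eq, sub_self]
    rcases IsLocalRing.isUnit_or_isUnit_one_sub_self a with hu | hu
    · rw [hu.mul_right_eq_zero, sub_eq_zero] at ha1
      exact Or.inr (by rw [← ha1, map_one])
    · rw [hu.mul_left_eq_zero] at ha1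
      exact Or.inl (by rw [ha1, map_zero])
  haveI : IsIntegrallyClosed QP :=
    IsIntegrallyClosed.of_localization_maximal fun M _ => (hN M).2
  haveI : IsDomain RP := hinj.isDomain
  refine ⟨inferInstance, (isIntegrallyClosed_iff (FractionRing RP)).2 fun {x} hx => ?_⟩
  let g : FractionRing RP →+* FractionRing QP := IsFractionRing.map hinj
  haveI : IsScalarTower RP QP (FractionRing QP) := inferInstance
  have hg : ∀ a : RP, g (algebraMap RP (FractionRing RP) a) = algebraMap QP (FractionRing QP) (algebraMap RP QP a) :=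
    fun a => IsLocalization.map_eq _ a
  have hgx : IsIntegral RP (g x) :=
    IsIntegral.map (AlgHom.mk g hg : FractionRing RP →ₐ[RP] FractionRing QP) hx
  obtain ⟨y, hy⟩ := IsIntegrallyClosed.isIntegral_iff.1 (IsIntegral.tower_top (A := QP) hgx)
  rw [← hy, isIntegral_algebraMap_iff (IsFractionRing.injective QP (FractionRing QP))] at hgx
  obtain ⟨r, rfl⟩ := hintP y hgx
  exact ⟨r, g.injective (by rw [hg, hy])⟩

/-- Elements integral over `R` divided by powers of `t` lie in `R` when `R/tR` is reduced. -/
theorem mem_range_of_reduced_quotient {R Q : Type u} [CommRing R] [CommRing Q] (f : R →+* Q)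
    (hf : Function.Injective f) (t : R) [IsReduced (R ⧸ Ideal.span {t})] (hreg : IsUnit (f t)) {z : Q}
    (hz : f.IsIntegralElem z) : ∀ n : ℕ, f t ^ n * z ∈ Set.range f → z ∈ Set.range f := by
  intro n
  induction n with
  | zero => simp
  | succ n ih =>
    rintro ⟨r, hr⟩
    obtain ⟨p, hp, hpz⟩ := hz
    have h0 : (p.scaleRoots (t ^ (n + 1))).eval r = 0 := hf (by
      rw [map_zero, ← Polynomial.eval₂_at_apply, hr, ← map_pow, Polynomial.scaleRoots_eval₂_mul, hpz, mul_zero])
    have hmem : r ^ p.natDegree ∈ Ideal.span {t} := by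
      rw [Polynomial.eval_eq_sum_range, Polynomial.natDegree_scaleRoots, Finset.sum_range_succ, Polynomial.coeff_scaleRoots,
        hp.coeff_natDegree, Nat.sub_self, pow_zero, mul_one, one_mul] at h0
      rw [eq_neg_of_add_eq_zero_right h0]
      refine neg_mem (Ideal.sum_mem _ fun i hi => Ideal.mul_mem_right _ _ ?_)
      rw [Polynomial.coeff_scaleRoots, ← pow_mul]
      refine Ideal.mul_mem_left _ _ (Ideal.pow_mem_of_mem _ (Ideal.mem_span_singleton_self t) _ ?_)
      have := Finset.mem_range.1 hi
      exact Nat.mul_pos n.succ_pos (by omega)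
    have hr' : r ∈ Ideal.span {t} := Ideal.Quotient.eq_zero_iff_mem.1 (IsReduced.eq_zero _
      ⟨p.natDegree, by rw [← map_pow, Ideal.Quotient.eq_zero_iff_mem]; exact hmem⟩)
    obtain ⟨r', rfl⟩ := Ideal.mem_span_singleton'.1 hr'
    refine ih ⟨r', hreg.mul_left_cancel ?_⟩
    rw [← mul_assoc, ← pow_succ', ← hr, map_mul, mul_comm]

/-- A ring is normal as soon as its finite subsets lie in normal subrings. -/
theorem isNormalRing_of_directed {R : Type u} [CommRing R]
    (h : ∀ s : Finset R, ∃ (S : Type u) (_ : CommRing S) (f : S →+* R),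
      Function.Injective f ∧ EGA4.IsNormalRing S ∧ ∀ x ∈ s, x ∈ Set.range f) : EGA4.IsNormalRing R := by
  classical
  intro P _
  haveI : Nontrivial R := nontrivial_of_ne (1 : R) 0 fun h0 =>
    ‹P.IsPrime›.ne_top ((Ideal.eq_top_iff_one P).2 (h0 ▸ P.zero_mem))
  let RP := Localization.AtPrime P
  haveI : IsDomain RP := by
    refine @NoZeroDivisors.to_isDomain RP _ _ ⟨fun {a b} hab => ?_⟩
    obtain ⟨a, sa, rfl⟩ := IsLocalization.exists_mk'_eq P.primeCompl a
    obtain ⟨b, sb, rfl⟩ := IsLocalization.exists_mk'_eq P.primeCompl b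
    rw [← IsLocalization.mk'_mul, IsLocalization.mk'_eq_zero_iff] at hab
    obtain ⟨c, hc⟩ := hab
    obtain ⟨S, _, f, hf, hS, hs⟩ := h {a, b, (c : R)}
    obtain ⟨a', rfl⟩ := hs a (by simp)
    obtain ⟨b', rfl⟩ := hs b (by simp)
    obtain ⟨c', hc'⟩ := hs c (by simp)
    let P' := P.comap f
    haveI := (hS P').1
    have hc2 : c' ∉ P' := fun h => c.2 (hc' ▸ h)
    have h0 : algebraMap S (Localization.AtPrime P') a' * algebraMap S (Localization.AtPrime P') b' = 0 := by
      rw [← map_mul, IsLocalization.map_eq_zero_iff P'.primeCompl]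
      exact ⟨⟨c', hc2⟩, hf (by rw [map_mul, map_mul, map_zero, hc', hc])⟩
    rcases mul_eq_zero.1 h0 with h0 | h0
    · obtain ⟨⟨u, hu⟩, hu0⟩ := (IsLocalization.map_eq_zero_iff P'.primeCompl _ _).1 h0
      exact Or.inl ((IsLocalization.mk'_eq_zero_iff _ _).2 ⟨⟨f u, hu⟩, by
        show f u * f a' = 0
        rw [← map_mul, hu0, map_zero]⟩)
    · obtain ⟨⟨u, hu⟩, hu0⟩ := (IsLocalization.map_eq_zero_iff P'.primeCompl _ _).1 h0
      exact Or.inr ((IsLocalization.mk'_eq_zero_iff _ _).2 ⟨⟨f u, hu⟩, by
        show f u * f b' = 0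
        rw [← map_mul, hu0, map_zero]⟩)
  refine ⟨inferInstance, (isIntegrallyClosed_iff (FractionRing RP)).2 fun {x} hx => ?_⟩
  haveI : IsScalarTower R RP (FractionRing RP) := inferInstance
  obtain ⟨⟨m, hm⟩, hmx⟩ := IsIntegral.exists_multiple_integral_of_isLocalization (R := R) (Rₘ := RP) P.primeCompl x hx
  obtain ⟨A0, B0, hB0, rfl⟩ := IsFractionRing.div_surjective RP x
  obtain ⟨a, sa, rfl⟩ := IsLocalization.exists_mk'_eq P.primeCompl A0
  obtain ⟨b, sb, rfl⟩ := IsLocalization.exists_mk'_eq P.primeCompl B0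
  have hunit : ∀ s ∈ P.primeCompl, algebraMap R (FractionRing RP) s ≠ 0 := fun s hs => by
    rw [IsScalarTower.algebraMap_apply R RP (FractionRing RP)]
    exact (map_ne_zero_iff _ (IsFractionRing.injective RP (FractionRing RP))).2 (IsLocalization.map_units RP ⟨s, hs⟩).ne_zero
  have hbF : algebraMap R (FractionRing RP) b ≠ 0 := fun h0 => nonZeroDivisors.ne_zero hB0 (by
    rw [IsScalarTower.algebraMap_apply R RP (FractionRing RP), map_eq_zero_iff _ (IsFractionRing.injective RP (FractionRing RP))] at h0
    rw [IsLocalization.mk'_eq_mul_mk'_one, h0, zero_mul])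
  have hmk : ∀ (y : R) (s : P.primeCompl), algebraMap RP (FractionRing RP) (IsLocalization.mk' RP y s) = algebraMap R (FractionRing RP) y / algebraMap R (FractionRing RP) s :=
    fun y s => by
      rw [eq_div_iff (hunit _ s.2), IsScalarTower.algebraMap_apply R RP (FractionRing RP), IsScalarTower.algebraMap_apply R RP (FractionRing RP),
        ← map_mul, IsLocalization.mk'_spec]
  -- `y = num / b` is integral over `R`
  have hy : IsIntegral R (algebraMap R (FractionRing RP) (m * a * sb) / algebraMap R (FractionRing RP) b) := by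
    have h1 := hunit _ hm
    have h2 := hunit _ sa.2
    have h3 := hunit _ sb.2
    have e1 : algebraMap R (FractionRing RP) (m * a * sb) / algebraMap R (FractionRing RP) b =
        algebraMap R (FractionRing RP) m * (algebraMap RP (FractionRing RP) (IsLocalization.mk' RP a sa) / algebraMap RP (FractionRing RP) (IsLocalization.mk' RP b sb)) *
          algebraMap R (FractionRing RP) sa := by
      rw [hmk, hmk, map_mul, map_mul]
      field_simp
    rw [e1]
    refine IsIntegral.mul ?_ isIntegral_algebraMap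
    rw [← Algebra.smul_def]
    exact hmx
  obtain ⟨p, hp, hpy⟩ := hy
  have he : algebraMap R (FractionRing RP) ((p.scaleRoots b).eval (m * a * sb)) = 0 := by
    rw [← Polynomial.eval₂_at_apply, show algebraMap R (FractionRing RP) (m * a * sb) =
      algebraMap R (FractionRing RP) b * (algebraMap R (FractionRing RP) (m * a * sb) / algebraMap R (FractionRing RP) b) by rw [mul_div_cancel₀ _ hbF],
      Polynomial.scaleRoots_eval₂_mul, hpy, mul_zero]
  rw [IsScalarTower.algebraMap_apply R RP (FractionRing RP), map_eq_zero_iff _ (IsFractionRing.injective RP (FractionRing RP)),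
    IsLocalization.map_eq_zero_iff P.primeCompl] at he
  obtain ⟨u, hu⟩ := he
  obtain ⟨S, _, f, hf, hS, hs⟩ := h ({b, m * a * (sb : R), (u : R)} ∪ p.coeffs)
  obtain ⟨b', hb'⟩ := hs b (by simp)
  obtain ⟨n', hn'⟩ := hs (m * a * sb) (by simp)
  obtain ⟨u', hu'⟩ := hs u (by simp)
  obtain ⟨p', hp', hp'm⟩ : ∃ p' : Polynomial S, p'.map f = p ∧ p'.Monic := by
    obtain ⟨p', h1, -, h2⟩ := Polynomial.lifts_and_degree_eq_and_monic (f := f) (p := p) (by
      rw [Polynomial.lifts_iff_coeff_lifts]
      intro i
      by_cases hi : p.coeff i = 0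
      · exact ⟨0, by rw [map_zero, hi]⟩
      · exact hs _ (Finset.mem_union_right _ (Polynomial.coeff_mem_coeffs hi))) hp
    exact ⟨p', h1, h2⟩
  let P' := P.comap f
  haveI := (hS P').1
  haveI := (hS P').2
  have hu2 : u' ∉ P' := fun h => u.2 (hu' ▸ h)
  let G := FractionRing (Localization.AtPrime P')
  have hb2 : algebraMap S (Localization.AtPrime P') b' ≠ 0 := fun h0 => by
    obtain ⟨⟨v, hv⟩, hv0⟩ := (IsLocalization.map_eq_zero_iff P'.primeCompl _ _).1 h0
    refine hbF ?_
    have : algebraMap R (FractionRing RP) (f v) * algebraMap R (FractionRing RP) b = 0 := by rw [← map_mul, ← hb', ← map_mul, hv0, map_zero, map_zero]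
    exact (mul_eq_zero.1 this).resolve_left (hunit _ hv)
  have he' : algebraMap S (Localization.AtPrime P') ((p'.scaleRoots b').eval n') = 0 := by
    rw [IsLocalization.map_eq_zero_iff P'.primeCompl]
    refine ⟨⟨u', hu2⟩, hf ?_⟩
    rw [map_mul, map_zero, hu', ← Polynomial.eval₂_hom, ← Polynomial.eval_map, Polynomial.map_scaleRoots _ _ _
      (by rw [hp'm.leadingCoeff, map_one]; exact one_ne_zero), hp', hb', hn']
    exact hu
  have hG : IsIntegral (Localization.AtPrime P') (algebraMap S G n' / algebraMap S G b') := by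
    refine IsIntegral.tower_top (R := S) ⟨p', hp'm, ?_⟩
    have hb3 : algebraMap S G b' ≠ 0 := by
      rw [IsScalarTower.algebraMap_apply S (Localization.AtPrime P') G]
      exact (map_ne_zero_iff _ (IsFractionRing.injective _ G)).2 hb2
    refine (mul_eq_zero.1 (?_ : algebraMap S G b' ^ p'.natDegree * _ = 0)).resolve_left (pow_ne_zero _ hb3)
    rw [← Polynomial.scaleRoots_eval₂_mul, mul_div_cancel₀ _ hb3, Polynomial.eval₂_at_apply,
      IsScalarTower.algebraMap_apply S (Localization.AtPrime P') G, he', map_zero]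
  obtain ⟨w, hw⟩ := IsIntegrallyClosed.isIntegral_iff.1 hG
  obtain ⟨r, t, rfl⟩ := IsLocalization.exists_mk'_eq P'.primeCompl w
  have hrel : algebraMap S (Localization.AtPrime P') (n' * t) = algebraMap S (Localization.AtPrime P') (r * b') := by
    apply IsFractionRing.injective (Localization.AtPrime P') G
    rw [eq_div_iff (by
      rw [IsScalarTower.algebraMap_apply S (Localization.AtPrime P') G]
      exact (map_ne_zero_iff _ (IsFractionRing.injective _ G)).2 hb2)] at hw
    rw [IsScalarTower.algebraMap_apply S (Localization.AtPrime P') G n',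
      IsScalarTower.algebraMap_apply S (Localization.AtPrime P') G b', ← map_mul] at hw
    have h1 := congrArg (· * algebraMap _ G (algebraMap S (Localization.AtPrime P') (t : S))) hw
    simp only [← map_mul] at h1
    rw [mul_right_comm, IsLocalization.mk'_spec, ← map_mul] at h1
    exact h1.symm.trans (by rw [mul_comm])
  obtain ⟨⟨v, hv⟩, hv0⟩ := (IsLocalization.eq_iff_exists P'.primeCompl _).1 hrel
  have hRel : algebraMap R (FractionRing RP) (m * a * sb) * algebraMap R (FractionRing RP) (f t) = algebraMap R (FractionRing RP) (f r) * algebraMap R (FractionRing RP) b := by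
    have := congrArg (fun z => algebraMap R (FractionRing RP) (f z)) hv0
    simp only [map_mul, hn', hb'] at this
    simp only [map_mul]
    exact mul_left_cancel₀ (hunit (f v) hv) this
  refine ⟨IsLocalization.mk' RP (f r) ⟨f t * m * sa, mul_mem (mul_mem (show f t ∈ P.primeCompl from t.2) hm) sa.2⟩, ?_⟩
  rw [hmk, hmk, hmk]
  have h1 := hunit _ hm
  have h2 := hunit _ sa.2
  have h3 := hunit _ sb.2
  have h4 := hunit (f t) t.2
  simp only [map_mul] at hRel ⊢
  field_simp
  linear_combination -hRel

end general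

section tensor

variable {A A' : Type u} [CommRing A] [CommRing A'] [Algebra A A'] [Module.Flat A A']

/-- The map `A' ⊗ C → A' ⊗ K`. -/
noncomputable abbrev incl {K : Type u} [CommRing K] [Algebra A K] (C : Subalgebra A K) :
    A' ⊗[A] C →ₐ[A] A' ⊗[A] K := Algebra.TensorProduct.map (AlgHom.id A A') C.val

theorem incl_injective {K : Type u} [CommRing K] [Algebra A K] (C : Subalgebra A K) :
    Function.Injective (incl (A' := A') C) := by
  show Function.Injective (C.val.toLinearMap.lTensor A')
  exact Module.Flat.lTensor_preserves_injective_linearMap _ Subtype.val_injective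

theorem exists_fg_mem_range {B : Type u} [CommRing B] [Algebra A B] (x : A' ⊗[A] B) :
    ∃ S : Subalgebra A B, S.FG ∧ x ∈ Set.range (incl (A' := A') S) := by
  classical
  induction x using TensorProduct.induction_on with
  | zero => exact ⟨⊥, Subalgebra.fg_bot, 0, map_zero _⟩
  | tmul a b => exact ⟨Algebra.adjoin A {b}, ⟨{b}, by simp⟩, a ⊗ₜ ⟨b, Algebra.subset_adjoin rfl⟩, by simp⟩
  | add x y hx hy =>
    obtain ⟨S, hS, u, rfl⟩ := hx
    obtain ⟨T, hT, v, rfl⟩ := hy
    refine ⟨S ⊔ T, hS.sup hT, Algebra.TensorProduct.map (AlgHom.id A A') (Subalgebra.inclusion le_sup_left) u +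
      Algebra.TensorProduct.map (AlgHom.id A A') (Subalgebra.inclusion le_sup_right) v, ?_⟩
    rw [map_add, ← AlgHom.comp_apply, ← AlgHom.comp_apply, ← Algebra.TensorProduct.map_comp,
      ← Algebra.TensorProduct.map_comp]
    rfl

theorem range_incl_mono {B : Type u} [CommRing B] [Algebra A B] {S T : Subalgebra A B} (h : S ≤ T) :
    Set.range (incl (A' := A') S) ⊆ Set.range (incl (A' := A') T) := by
  rintro _ ⟨u, rfl⟩
  refine ⟨Algebra.TensorProduct.map (AlgHom.id A A') (Subalgebra.inclusion h) u, ?_⟩
  rw [← AlgHom.comp_apply, ← Algebra.TensorProduct.map_comp]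
  rfl

theorem exists_fg_finset {B : Type u} [CommRing B] [Algebra A B] (s : Finset (A' ⊗[A] B)) :
    ∃ S : Subalgebra A B, S.FG ∧ ∀ x ∈ s, x ∈ Set.range (incl (A' := A') S) := by
  classical
  induction s using Finset.induction_on with
  | empty => exact ⟨⊥, Subalgebra.fg_bot, by simp⟩
  | insert x s _ ih =>
    obtain ⟨S, hS, hs⟩ := ih
    obtain ⟨T, hT, hx⟩ := exists_fg_mem_range x
    refine ⟨S ⊔ T, hS.sup hT, fun y hy => ?_⟩
    rcases Finset.mem_insert.1 hy with rfl | hy
    · exact range_incl_mono le_sup_right hx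
    · exact range_incl_mono le_sup_left (hs y hy)

/-- Tensor products with an intersection of finite character. -/
theorem mem_range_of_family {K : Type u} [Field K] [Algebra A K] (C : Subalgebra A K)
    {𝒲 : Set (ValuationSubring K)} (hfam : CAlgH3.KrullFamily.IsFamily C.toSubring 𝒲) (z : A' ⊗[A] K)
    (hz : ∀ W ∈ 𝒲, ∀ Wa : Subalgebra A K, (∀ x, x ∈ Wa ↔ x ∈ W) → z ∈ Set.range (incl (A' := A') Wa)) :
    z ∈ Set.range (incl (A' := A') C) := by
  classical
  have hA : ∀ W ∈ 𝒲, ∀ a : A, algebraMap A K a ∈ W := fun W hW a => (hfam.mem_iff _).1 (C.algebraMap_mem a) W hW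
  let Wa : 𝒲 → Subalgebra A K := fun W => { W.1.toSubring with algebraMap_mem' := hA W.1 W.2 }
  let M : 𝒲 → Type u := fun W => K ⧸ Subalgebra.toSubmodule (Wa W)
  have hfin : ∀ x : K, {W : 𝒲 | x ∉ W.1}.Finite := fun x =>
    ((hfam.finite x).preimage Subtype.val_injective.injOn).subset fun W hW => ⟨W.2, hW⟩
  let Φf : K → DirectSum 𝒲 M := fun x => DFinsupp.mk (hfin x).toFinset fun W => Submodule.Quotient.mk x
  have hΦ : ∀ (x : K) (W : 𝒲), (Φf x) W = (Submodule.Quotient.mk x : M W) := fun x W => by
    by_cases hW : x ∈ W.1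
    · have h0 : (Submodule.Quotient.mk x : M W) = 0 := (Submodule.Quotient.mk_eq_zero _).2 hW
      rw [h0]
      exact DFinsupp.mk_of_notMem (by simp [hW])
    · exact DFinsupp.mk_of_mem (by simp [hW])
  letI : AddCommGroup (DirectSum 𝒲 M) := inferInstance
  let Φ : K →ₗ[A] DirectSum 𝒲 M :=
    { toFun := Φf
      map_add' := fun x y => DFinsupp.ext fun W => by
        rw [DirectSum.add_apply, hΦ, hΦ, hΦ, Submodule.Quotient.mk_add]
      map_smul' := fun c x => DFinsupp.ext fun W => by
        rw [RingHom.id_apply, DirectSum.smul_apply, hΦ, hΦ, Submodule.Quotient.mk_smul] }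
  have hex : Function.Exact C.val.toLinearMap Φ := fun x => by
    constructor
    · intro hx
      refine ⟨⟨x, (hfam.mem_iff x).2 fun W hW => ?_⟩, rfl⟩
      have := congrArg (fun v : DirectSum 𝒲 M => v ⟨W, hW⟩) hx
      simp only [DirectSum.zero_apply] at this
      exact (Submodule.Quotient.mk_eq_zero _).1 ((hΦ x ⟨W, hW⟩).symm.trans this)
    · rintro ⟨c, rfl⟩
      refine DFinsupp.ext fun W => ?_
      show (Φf (c : K)) W = _
      rw [hΦ, DFinsupp.zero_apply]
      exact (Submodule.Quotient.mk_eq_zero _).2 ((hfam.mem_iff _).1 c.2 W.1 W.2)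
  refine (Module.Flat.lTensor_exact (R := A) (N'' := DirectSum 𝒲 M) A' hex z).1 ?_
  apply (TensorProduct.directSumRight A A A' M).injective
  rw [map_zero]
  refine DFinsupp.ext fun W => ?_
  have hcomp : (DirectSum.component A 𝒲 (fun W => A' ⊗[A] M W) W) ∘ₗ
      (TensorProduct.directSumRight A A A' M).toLinearMap ∘ₗ Φ.lTensor A' =
      ((Subalgebra.toSubmodule (Wa W)).mkQ).lTensor A' := by
    have hgen : ∀ (a : A') (v : DirectSum 𝒲 M), (TensorProduct.directSumRight A A A' M (a ⊗ₜ v)) W = a ⊗ₜ[A] (v W) := by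
      intro a v
      induction v using DirectSum.induction_on with
      | zero => rw [TensorProduct.tmul_zero, map_zero, DirectSum.zero_apply, DirectSum.zero_apply, TensorProduct.tmul_zero]
      | of i y =>
        rw [← DirectSum.lof_eq_of A, TensorProduct.directSumRight_tmul_lof, DirectSum.lof_eq_of, DirectSum.lof_eq_of]
        by_cases hi : i = W
        · subst hi; rw [DirectSum.of_eq_same, DirectSum.of_eq_same]
        · rw [DirectSum.of_eq_of_ne _ _ _ (Ne.symm hi), DirectSum.of_eq_of_ne _ _ _ (Ne.symm hi), TensorProduct.tmul_zero]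
      | add u v hu hv =>
        rw [TensorProduct.tmul_add, map_add, DirectSum.add_apply, DirectSum.add_apply, hu, hv, TensorProduct.tmul_add]
    refine TensorProduct.ext' fun a x => ?_
    show (TensorProduct.directSumRight A A A' M (a ⊗ₜ Φ x)) W = a ⊗ₜ Submodule.Quotient.mk x
    rw [hgen]
    exact congrArg _ (hΦ x W)
  obtain ⟨w, hw⟩ := hz W.1 W.2 (Wa W) fun x => Iff.rfl
  refine (LinearMap.congr_fun hcomp z).trans ?_
  rw [← hw]
  show ((Subalgebra.toSubmodule (Wa W)).mkQ).lTensor A' ((Wa W).val.toLinearMap.lTensor A' w) = 0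
  rw [← LinearMap.comp_apply, ← LinearMap.lTensor_comp,
    show (Subalgebra.toSubmodule (Wa W)).mkQ ∘ₗ (Wa W).val.toLinearMap = 0 from
      LinearMap.ext fun c => (Submodule.Quotient.mk_eq_zero _).2 c.2,
    LinearMap.lTensor_zero, LinearMap.zero_apply]

/-- Tensor products with a discrete valuation ring. -/
theorem mem_range_of_dvr (hred : ∀ (κ : Type u) [Field κ] [Algebra A κ], IsReduced (A' ⊗[A] κ))
    {K : Type u} [Field K] [Algebra A K] (Wa : Subalgebra A K) (W : ValuationSubring K) [IsDiscreteValuationRing W]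
    (hWa : ∀ x, x ∈ Wa ↔ x ∈ W) (z : A' ⊗[A] K) (hz : (incl (A' := A') Wa).toRingHom.IsIntegralElem z) :
    z ∈ Set.range (incl (A' := A') Wa) := by
  classical
  let eW : Wa ≃+* W :=
    { toFun := fun x => ⟨x.1, (hWa _).1 x.2⟩
      invFun := fun x => ⟨x.1, (hWa _).2 x.2⟩
      map_mul' := fun _ _ => rfl
      map_add' := fun _ _ => rfl }
  haveI : IsDiscreteValuationRing Wa := IsDiscreteValuationRing.RingEquivClass.isDiscreteValuationRing eW.symm
  obtain ⟨π, hπ⟩ := IsDiscreteValuationRing.exists_irreducible Wa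
  have hπ0 : (π : K) ≠ 0 := fun h => hπ.ne_zero (Subtype.ext h)
  let t : A' ⊗[A] Wa := 1 ⊗ₜ π
  have hpow : ∀ z : A' ⊗[A] K, ∃ n : ℕ, (incl (A' := A') Wa) t ^ n * z ∈ Set.range (incl (A' := A') Wa) := by
    intro z
    induction z using TensorProduct.induction_on with
    | zero => exact ⟨0, 0, by simp⟩
    | tmul a x =>
      rcases W.mem_or_inv_mem x with hx | hx
      · exact ⟨0, a ⊗ₜ ⟨x, (hWa _).2 hx⟩, by simp⟩
      by_cases hx0 : x = 0
      · exact ⟨0, 0, by simp [hx0]⟩
      let y : Wa := ⟨x⁻¹, (hWa _).2 hx⟩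
      have hy : y ≠ 0 := fun h => inv_ne_zero hx0 (congrArg Subtype.val h)
      obtain ⟨n, u, hu⟩ := IsDiscreteValuationRing.eq_unit_mul_pow_irreducible hy hπ
      refine ⟨n, a ⊗ₜ (↑u⁻¹ : Wa), ?_⟩
      have h1 : x⁻¹ = ((u : Wa) : K) * (π : K) ^ n := congrArg Subtype.val hu
      have h2 : ((u : Wa) : K) * ((↑u⁻¹ : Wa) : K) = 1 := congrArg Subtype.val u.mul_inv
      have hu0 : ((u : Wa) : K) ≠ 0 := left_ne_zero_of_mul_eq_one h2
      simp only [t, Algebra.TensorProduct.map_tmul, AlgHom.id_apply, Subalgebra.coe_val, Algebra.TensorProduct.tmul_pow,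
        one_pow, Algebra.TensorProduct.tmul_mul_tmul, one_mul]
      congr 1
      rw [← inv_inv x, h1, eq_inv_of_mul_eq_one_right h2, mul_inv]
      field_simp
    | add u v hu hv =>
      obtain ⟨n, u', hu'⟩ := hu
      obtain ⟨m, v', hv'⟩ := hv
      exact ⟨n + m, t ^ m * u' + t ^ n * v', by rw [map_add, map_mul, map_mul, map_pow, map_pow, hu', hv']; ring⟩
  obtain ⟨n, hn⟩ := hpow z
  let κ := IsLocalRing.ResidueField Wa
  haveI := hred κ
  haveI : IsReduced ((A' ⊗[A] Wa) ⧸ Ideal.span {t}) := by
    let ρ : A' ⊗[A] Wa →ₐ[A] A' ⊗[A] κ :=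
      Algebra.TensorProduct.map (AlgHom.id A A') (IsScalarTower.toAlgHom A Wa κ)
    refine isReduced_of_injective (Ideal.Quotient.lift (Ideal.span {t}) ρ.toRingHom ?_)
      (RingHom.lift_injective_of_ker_le_ideal _ _ fun w hw => ?_)
    · intro w hw
      obtain ⟨c, rfl⟩ := Ideal.mem_span_singleton'.1 hw
      show ρ (c * t) = 0
      rw [map_mul, show ρ t = 0 from ?_, mul_zero]
      show (1 : A') ⊗ₜ[A] IsLocalRing.residue Wa π = 0
      rw [(IsLocalRing.residue_eq_zero_iff π).2 ((IsLocalRing.mem_maximalIdeal π).2 hπ.not_isUnit), tmul_zero]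
    · have hex : Function.Exact (LinearMap.mulLeft A π) (IsScalarTower.toAlgHom A Wa κ).toLinearMap := fun x => by
        refine (IsLocalRing.residue_eq_zero_iff x).trans ?_
        rw [(IsDiscreteValuationRing.irreducible_iff_uniformizer π).1 hπ, Ideal.mem_span_singleton]
        exact ⟨fun ⟨c, hc⟩ => ⟨c, hc.symm⟩, fun ⟨c, hc⟩ => ⟨c, hc.symm⟩⟩
      obtain ⟨c, rfl⟩ := (Module.Flat.lTensor_exact A' hex w).1 hw
      rw [Ideal.mem_span_singleton]
      refine ⟨c, ?_⟩
      clear hw
      induction c using TensorProduct.induction_on with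
      | zero => simp
      | tmul a b => simp [t, LinearMap.mulLeft_apply]
      | add a b ha hb => rw [map_add, ha, hb, mul_add]
  refine mem_range_of_reduced_quotient (incl (A' := A') Wa).toRingHom (incl_injective Wa) t ?_ hz n hn
  exact ⟨⟨(1 : A') ⊗ₜ[A] (π : K), (1 : A') ⊗ₜ[A] (π : K)⁻¹, by simp [hπ0, Algebra.TensorProduct.one_def],
    by simp [hπ0, Algebra.TensorProduct.one_def]⟩, by simp [t]⟩

theorem isReduced_tensor_field [IsNoetherianRing A]
    (h : ∀ (K : Type u) [Field K] [Algebra A K] [Algebra.EssFiniteType A K], IsReduced (A' ⊗[A] K))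
    (κ : Type u) [Field κ] [Algebra A κ] : IsReduced (A' ⊗[A] κ) := by
  refine ⟨fun x hx => ?_⟩
  obtain ⟨S, hS, w, rfl⟩ := exists_fg_mem_range x
  haveI : Algebra.FiniteType A S := S.fg_iff_finiteType.1 hS
  haveI : Algebra.EssFiniteType A (FractionRing S) :=
    haveI := Algebra.EssFiniteType.of_isLocalization (FractionRing S) (nonZeroDivisors S)
    Algebra.EssFiniteType.comp A S (FractionRing S)
  haveI := h (FractionRing S)
  let g := Algebra.TensorProduct.map (AlgHom.id A A') (IsScalarTower.toAlgHom A S (FractionRing S))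
  have hg : Function.Injective g := Module.Flat.lTensor_preserves_injective_linearMap (M := A')
    (IsScalarTower.toAlgHom A S (FractionRing S)).toLinearMap (IsFractionRing.injective S (FractionRing S))
  obtain ⟨n, hn⟩ := hx
  have hw : w ^ n = 0 := incl_injective S (by rw [map_pow, map_zero]; exact hn)
  have h0 : g w = 0 := IsReduced.eq_zero _ ⟨n, by rw [← map_pow, hw, map_zero]⟩
  rw [hg (h0.trans (map_zero g).symm), map_zero]

/-- The ring embeds in a Noetherian normal ring in which it is integrally closed. -/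
def HasNormalEnvelope (T : Type u) [CommRing T] : Prop :=
  ∃ (Q : Type u) (_ : CommRing Q) (g : T →+* Q), IsNoetherianRing Q ∧ Function.Injective g ∧
    EGA4.IsNormalRing Q ∧ ∀ z, g.IsIntegralElem z → z ∈ Set.range g

theorem isReduced_of_envelope {T : Type u} [CommRing T] (h : HasNormalEnvelope T) : IsReduced T := by
  obtain ⟨Q, _, g, -, hg, hQ, -⟩ := h
  haveI := isReduced_of_isNormalRing hQ
  exact isReduced_of_injective g hg

/-- The ring of the integral closure of a Noetherian local domain. -/
theorem isNormalRing_tensor_integralClosure (hred : ∀ (κ : Type u) [Field κ] [Algebra A κ], IsReduced (A' ⊗[A] κ))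
    (C K : Type u) [CommRing C] [IsDomain C] [IsLocalRing C] [IsNoetherianRing C] [Field K] [Algebra C K]
    [IsFractionRing C K] [Algebra A C] [Algebra A K] [IsScalarTower A C K]
    (henv : HasNormalEnvelope (A' ⊗[A] K)) :
    EGA4.IsNormalRing (A' ⊗[A] ((integralClosure C K).restrictScalars A)) := by
  let C' := (integralClosure C K).restrictScalars A
  obtain ⟨Q, _, g, hN, hg, hQ, hint⟩ := henv
  haveI := hN
  obtain ⟨𝒲, -, hfam, -, -⟩ := CAlgH3.Mori.exists_family C K
  letI : Algebra (A' ⊗[A] C') Q := (g.comp (incl (A' := A') C').toRingHom).toAlgebra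
  refine isNormalRing_of_integrallyClosed_in (Q := Q) (hg.comp (incl_injective C')) hQ fun z hz => ?_
  obtain ⟨p, hp, hpz⟩ := hz
  rw [RingHom.algebraMap_toAlgebra] at hpz
  obtain ⟨y, rfl⟩ := hint z ⟨p.map (incl (A' := A') C').toRingHom, hp.map _, by rw [Polynomial.eval₂_map]; exact hpz⟩
  rw [← Polynomial.hom_eval₂] at hpz
  have hy : (incl (A' := A') C').toRingHom.IsIntegralElem y := ⟨p, hp, hg (hpz.trans (map_zero g).symm)⟩
  obtain ⟨w, hw⟩ := mem_range_of_family C' hfam y fun W hW Wa hWa => by
    haveI := hfam.dvr W hW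
    refine mem_range_of_dvr hred Wa W hWa y ?_
    have hle : C' ≤ Wa := fun x hx => (hWa x).2 ((hfam.mem_iff x).1 hx W hW)
    obtain ⟨q, hq, hqy⟩ := hy
    refine ⟨q.map (Algebra.TensorProduct.map (AlgHom.id A A') (Subalgebra.inclusion hle)).toRingHom, hq.map _, ?_⟩
    rw [Polynomial.eval₂_map]
    refine (congrArg (fun φ => Polynomial.eval₂ φ y q) ?_).trans hqy
    refine RingHom.ext fun v => ?_
    show incl (A' := A') Wa (Algebra.TensorProduct.map (AlgHom.id A A') (Subalgebra.inclusion hle) v) = incl (A' := A') C' v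
    rw [← AlgHom.comp_apply, ← Algebra.TensorProduct.map_comp]
    rfl
  exact ⟨w, by rw [RingHom.algebraMap_toAlgebra]; exact congrArg g hw⟩

/-- The normal subring attached to a Noetherian local subdomain. -/
theorem exists_normal_subring (hred : ∀ (κ : Type u) [Field κ] [Algebra A κ], IsReduced (A' ⊗[A] κ))
    (C K B F : Type u) [CommRing C] [IsDomain C] [IsLocalRing C] [IsNoetherianRing C] [Field K] [Algebra C K]
    [IsFractionRing C K] [CommRing B] [IsDomain B] [IsIntegrallyClosed B] [Field F] [Algebra B F] [IsFractionRing B F]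
    [Algebra A C] [Algebra A K] [IsScalarTower A C K] [Algebra A B] [Algebra A F] [IsScalarTower A B F]
    [Algebra C B] [IsScalarTower A C B] [Algebra C F] [IsScalarTower C B F] [IsScalarTower A C F]
    (hinj : Function.Injective (algebraMap C B)) (henv : HasNormalEnvelope (A' ⊗[A] K)) :
    ∃ (S : Type u) (_ : CommRing S) (f : S →+* A' ⊗[A] B), Function.Injective f ∧ EGA4.IsNormalRing S ∧
      Set.range (Algebra.TensorProduct.map (AlgHom.id A A') (IsScalarTower.toAlgHom A C B)) ⊆ Set.range f := by
  let C' := (integralClosure C K).restrictScalars A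
  have hN := isNormalRing_tensor_integralClosure hred C K henv
  have hg : Function.Injective (Algebra.ofId C F) := by
    show Function.Injective (algebraMap C F)
    rw [IsScalarTower.algebraMap_eq C B F]
    exact (IsFractionRing.injective B F).comp hinj
  let ιK : K →ₐ[C] F := IsFractionRing.liftAlgHom (A := C) (g := Algebra.ofId C F) hg
  have hmem : ∀ c : C', ιK c ∈ (IsScalarTower.toAlgHom A B F).range := fun c => by
    have h1 : IsIntegral B (ιK c) := (c.2.map ιK).tower_top
    obtain ⟨b, hb⟩ := IsIntegrallyClosed.isIntegral_iff.1 h1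
    exact ⟨b, hb⟩
  let j : C' →ₐ[A] B :=
    (AlgEquiv.ofInjective (IsScalarTower.toAlgHom A B F) (IsFractionRing.injective B F)).symm.toAlgHom.comp
      (((ιK.restrictScalars A).comp C'.val).codRestrict _ hmem)
  have hjv : ∀ c, algebraMap B F (j c) = ιK c := fun c => by
    have := (AlgEquiv.ofInjective (IsScalarTower.toAlgHom A B F) (IsFractionRing.injective B F)).apply_symm_apply
      (((ιK.restrictScalars A).comp C'.val).codRestrict _ hmem c)
    exact congrArg Subtype.val this
  have hj : Function.Injective j := fun x y hxy => Subtype.ext (ιK.toRingHom.injective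
    ((hjv x).symm.trans ((congrArg (algebraMap B F) hxy).trans (hjv y))))
  let i : C →ₐ[A] C' := (IsScalarTower.toAlgHom A C K).codRestrict C' fun x => by
    show IsIntegral C (algebraMap C K x)
    exact isIntegral_algebraMap
  have hji : j.comp i = IsScalarTower.toAlgHom A C B := AlgHom.ext fun x => IsFractionRing.injective B F (by
    show algebraMap B F (j (i x)) = algebraMap B F (algebraMap C B x)
    rw [hjv]
    show ιK (algebraMap C K x) = _
    rw [AlgHom.commutes, IsScalarTower.algebraMap_apply C B F])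
  refine ⟨A' ⊗[A] C', inferInstance, (Algebra.TensorProduct.map (AlgHom.id A A') j).toRingHom,
    Module.Flat.lTensor_preserves_injective_linearMap (M := A') j.toLinearMap hj, hN, ?_⟩
  rintro _ ⟨w, rfl⟩
  refine ⟨Algebra.TensorProduct.map (AlgHom.id A A') i w, ?_⟩
  show Algebra.TensorProduct.map (AlgHom.id A A') j (Algebra.TensorProduct.map (AlgHom.id A A') i w) = _
  rw [← AlgHom.comp_apply, ← Algebra.TensorProduct.map_comp, hji]
  rfl

omit [Module.Flat A A'] in
theorem essFiniteType_fractionRing (C : Type u) [CommRing C] [IsDomain C] [Algebra A C]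
    [Algebra.EssFiniteType A C] : Algebra.EssFiniteType A (FractionRing C) :=
  haveI := Algebra.EssFiniteType.of_isLocalization (FractionRing C) (nonZeroDivisors C)
  Algebra.EssFiniteType.comp A C (FractionRing C)

theorem exists_normal_subring' (hred : ∀ (κ : Type u) [Field κ] [Algebra A κ], IsReduced (A' ⊗[A] κ))
    (henv : ∀ (K : Type u) [Field K] [Algebra A K] [Algebra.EssFiniteType A K], HasNormalEnvelope (A' ⊗[A] K))
    (C B : Type u) [CommRing C] [IsDomain C] [IsLocalRing C] [IsNoetherianRing C]
    [CommRing B] [IsDomain B] [IsIntegrallyClosed B] [Algebra A C] [Algebra.EssFiniteType A C] [Algebra A B]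
    [Algebra C B] [IsScalarTower A C B] (hinj : Function.Injective (algebraMap C B)) :
    ∃ (S : Type u) (_ : CommRing S) (f : S →+* A' ⊗[A] B), Function.Injective f ∧ EGA4.IsNormalRing S ∧
      Set.range (Algebra.TensorProduct.map (AlgHom.id A A') (IsScalarTower.toAlgHom A C B)) ⊆ Set.range f := by
  haveI := essFiniteType_fractionRing (A := A) C
  exact exists_normal_subring hred C (FractionRing C) B (FractionRing B) hinj (henv _)

/-- Tensor products with local integrally closed domains. -/
theorem isNormalRing_tensor_local [IsNoetherianRing A]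
    (henv : ∀ (K : Type u) [Field K] [Algebra A K] [Algebra.EssFiniteType A K], HasNormalEnvelope (A' ⊗[A] K))
    (B : Type u) [CommRing B] [IsDomain B] [IsIntegrallyClosed B] [IsLocalRing B] [Algebra A B] :
    EGA4.IsNormalRing (A' ⊗[A] B) := by
  classical
  have hred := isReduced_tensor_field (A := A) (A' := A') fun K _ _ _ => isReduced_of_envelope (henv K)
  refine isNormalRing_of_directed fun s => ?_
  obtain ⟨S0, hS0, hs⟩ := exists_fg_finset s
  haveI : Algebra.FiniteType A S0 := S0.fg_iff_finiteType.1 hS0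
  haveI : IsNoetherianRing S0 := Algebra.FiniteType.isNoetherianRing A S0
  let q0 := (maximalIdeal B).comap S0.val.toRingHom
  haveI : q0.IsPrime := Ideal.IsPrime.comap _
  haveI : IsDomain (Localization.AtPrime q0) := IsLocalization.isDomain_localization q0.primeCompl_le_nonZeroDivisors
  haveI : IsNoetherianRing (Localization.AtPrime q0) := IsLocalization.isNoetherianRing q0.primeCompl _ inferInstance
  have hu : ∀ x : q0.primeCompl, IsUnit (S0.val.toRingHom (x : S0)) := fun x => not_not.1 fun h => x.2 h
  let ι0 : Localization.AtPrime q0 →+* B := IsLocalization.lift hu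
  have hι0 : Function.Injective ι0 := (IsLocalization.lift_injective_iff _).2 fun x y =>
    ⟨fun e => congrArg _ (IsLocalization.injective (Localization.AtPrime q0) q0.primeCompl_le_nonZeroDivisors e),
      fun e => congrArg _ (Subtype.ext e)⟩
  letI : Algebra (Localization.AtPrime q0) B := ι0.toAlgebra
  haveI : IsScalarTower A (Localization.AtPrime q0) B := .of_algebraMap_eq fun a => by
    rw [RingHom.algebraMap_toAlgebra, IsScalarTower.algebraMap_apply A S0 (Localization.AtPrime q0)]
    exact (IsLocalization.lift_eq (S := Localization.AtPrime q0) hu (algebraMap A S0 a)).symm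
  haveI : Algebra.EssFiniteType A (Localization.AtPrime q0) :=
    haveI := Algebra.EssFiniteType.of_isLocalization (Localization.AtPrime q0) q0.primeCompl
    Algebra.EssFiniteType.comp A S0 _
  obtain ⟨S, _, f, hf, hS, hsub⟩ := exists_normal_subring' hred henv (Localization.AtPrime q0) B hι0
  refine ⟨S, inferInstance, f, hf, hS, fun x hx => ?_⟩
  obtain ⟨w, rfl⟩ := hs x hx
  refine hsub ⟨Algebra.TensorProduct.map (AlgHom.id A A') (IsScalarTower.toAlgHom A S0 (Localization.AtPrime q0)) w, ?_⟩
  rw [← AlgHom.comp_apply, ← Algebra.TensorProduct.map_comp]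
  refine (congrArg (fun φ => Algebra.TensorProduct.map (AlgHom.id A A') φ w) ?_).trans rfl
  exact AlgHom.ext fun v => IsLocalization.lift_eq hu v

omit [Module.Flat A A'] in
/-- Normality of a tensor product is local on the second factor. -/
theorem isNormalRing_tensor_of_localizations (B : Type u) [CommRing B] [Algebra A B]
    (h : ∀ (q : Ideal B) [q.IsPrime], EGA4.IsNormalRing (A' ⊗[A] Localization.AtPrime q)) :
    EGA4.IsNormalRing (A' ⊗[A] B) := by
  intro P _
  let q := P.comap (Algebra.TensorProduct.includeRight : B →ₐ[A] A' ⊗[A] B).toRingHom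
  haveI : q.IsPrime := Ideal.IsPrime.comap _
  let W := q.primeCompl.map (Algebra.TensorProduct.includeRight (R := A) (A := A') (B := B))
  letI : Algebra (A' ⊗[A] B) (A' ⊗[A] Localization.AtPrime q) :=
    (Algebra.TensorProduct.map (AlgHom.id A A') (IsScalarTower.toAlgHom A B (Localization.AtPrime q))).toAlgebra
  haveI : IsScalarTower A' (A' ⊗[A] B) (A' ⊗[A] Localization.AtPrime q) :=
    @IsScalarTower.of_algebraMap_eq A' (A' ⊗[A] B) (A' ⊗[A] Localization.AtPrime q) _ _ _ _ _ _ fun x => by
      show x ⊗ₜ[A] (1 : Localization.AtPrime q) =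
        Algebra.TensorProduct.map (AlgHom.id A A') (IsScalarTower.toAlgHom A B (Localization.AtPrime q)) (x ⊗ₜ[A] (1 : B))
      simp
  haveI : IsLocalization W (A' ⊗[A] Localization.AtPrime q) :=
    IsLocalization.tensorProduct_tensorProduct_right A A' q.primeCompl (Localization.AtPrime q)
      (RingHom.ext fun x => by simp [RingHom.algebraMap_toAlgebra]; try rfl)
  have hle : W ≤ P.primeCompl := by
    rintro _ ⟨b, hb, rfl⟩ hbP
    exact hb hbP
  letI : Algebra (A' ⊗[A] Localization.AtPrime q) (Localization.AtPrime P) :=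
    IsLocalization.localizationAlgebraOfSubmonoidLe _ (Localization.AtPrime P) W P.primeCompl hle
  haveI := IsLocalization.localization_isScalarTower_of_submonoid_le (A' ⊗[A] Localization.AtPrime q) (Localization.AtPrime P) W P.primeCompl hle
  haveI := IsLocalization.isLocalization_of_submonoid_le (A' ⊗[A] Localization.AtPrime q) (Localization.AtPrime P) W P.primeCompl hle
  exact isDomain_of_local (isNormalRing_localization (S := Localization.AtPrime P)
    (P.primeCompl.map (algebraMap (A' ⊗[A] B) (A' ⊗[A] Localization.AtPrime q))) (h q))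

end tensor

end Groth.Agent.CommAlg6.NormalTensor
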