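import Mathlib.RingTheory.Ideal.Height
import Mathlib.RingTheory.RegularLocalRing.Defs
import Mathlib.RingTheory.KrullDimension.Module

/-! Localizations at primes of localizations at primes. -/

universe u v

namespace Groth.Agent.CommAlg6

variable {A : Type u} [CommRing A] (q : Ideal A) [q.IsPrime]

/-- The local ring of `A_q` at a prime `P` is the local ring of `A` at the contraction of `P`. -/
theorem nonempty_localization_ringEquiv (P : Ideal (Localization.AtPrime q)) [P.IsPrime] :
    Nonempty (Localization.AtPrime P ≃+* Localization.AtPrime (P.under A)) := by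
  haveI := IsLocalization.isLocalization_isLocalization_atPrime_isLocalization (R := A)
    (M := q.primeCompl) (Localization.AtPrime P) P
  exact ⟨(IsLocalization.algEquiv (P.under A).primeCompl (Localization.AtPrime P)
    (Localization.AtPrime (P.under A))).toRingEquiv⟩

theorem isRegularLocalRing_iff (P : Ideal (Localization.AtPrime q)) [P.IsPrime] :
    IsRegularLocalRing (Localization.AtPrime P) ↔
      IsRegularLocalRing (Localization.AtPrime (P.under A)) := by
  obtain ⟨e⟩ := nonempty_localization_ringEquiv q P
  exact ⟨fun _ => IsRegularLocalRing.of_ringEquiv e, fun _ => IsRegularLocalRing.of_ringEquiv e.symm⟩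

theorem height_under (P : Ideal (Localization.AtPrime q)) [P.IsPrime] :
    (P.under A).height = P.height :=
  IsLocalization.height_under q.primeCompl P

theorem under_le (P : Ideal (Localization.AtPrime q)) [P.IsPrime] : P.under A ≤ q := by
  intro a ha
  by_contra h
  exact Ideal.IsPrime.ne_top ‹P.IsPrime› (Ideal.eq_top_of_isUnit_mem P ha
    (IsLocalization.map_units _ (⟨a, h⟩ : q.primeCompl)))

theorem exists_under_eq (p : Ideal A) [p.IsPrime] (hp : p ≤ q) :
    ∃ P : Ideal (Localization.AtPrime q), ∃ _ : P.IsPrime, P.under A = p := by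
  have disj : Disjoint (q.primeCompl : Set A) (p : Set A) :=
    Set.disjoint_left.mpr fun a ha hap => ha (hp hap)
  exact ⟨_, IsLocalization.isPrime_of_isPrime_disjoint q.primeCompl _ p ‹_› disj,
    IsLocalization.under_map_of_isPrime_disjoint q.primeCompl _ ‹_› disj⟩

/-- `(R_k)` at `q` is a condition on the primes below `q`. -/
theorem forall_regular_iff (k : ℕ) :
    (∀ (P : Ideal (Localization.AtPrime q)) [P.IsPrime], P.height ≤ k →
        IsRegularLocalRing (Localization.AtPrime P)) ↔
      ∀ (p : Ideal A) [p.IsPrime], p ≤ q → p.height ≤ k →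
        IsRegularLocalRing (Localization.AtPrime p) := by
  constructor
  · intro h p hp hle hk
    obtain ⟨P, hP, rfl⟩ := exists_under_eq q p hle
    exact (isRegularLocalRing_iff q P).mp (h P ((height_under q P) ▸ hk))
  · intro h P hP hk
    exact (isRegularLocalRing_iff q P).mpr (h _ (under_le q P) ((height_under q P).symm ▸ hk))

variable {M : Type v} [AddCommGroup M] [Module A M]

theorem mem_support_localizedModule (P : PrimeSpectrum (Localization.AtPrime q)) :
    P ∈ Module.support (Localization.AtPrime q) (LocalizedModule q.primeCompl M) ↔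
      PrimeSpectrum.comap (algebraMap A _) P ∈ Module.support A M := by
  refine ⟨fun h => ?_, fun h => ?_⟩
  · have h1 := Module.support_subset_preimage_comap (R := A) h
    rw [Set.mem_preimage, Module.mem_support_iff'] at h1
    obtain ⟨z, hz⟩ := h1
    obtain ⟨⟨m, t⟩, rfl⟩ := IsLocalizedModule.mk'_surjective q.primeCompl
      (LocalizedModule.mkLinearMap q.primeCompl M) z
    rw [Module.mem_support_iff']
    refine ⟨m, fun r hr hrm => hz r hr ?_⟩
    simp only [Function.uncurry_apply_pair, ← IsLocalizedModule.mk'_smul, hrm,
      IsLocalizedModule.mk'_zero]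
  · rw [Module.mem_support_iff'] at h ⊢
    obtain ⟨m, hm⟩ := h
    refine ⟨LocalizedModule.mkLinearMap q.primeCompl M m, fun s hs hsm => ?_⟩
    obtain ⟨a, t, rfl⟩ := IsLocalization.exists_mk'_eq q.primeCompl s
    have ha : a ∉ P.asIdeal.under A := fun h' => hs (by
      rw [IsLocalization.mk'_eq_mul_mk'_one a t]
      exact P.asIdeal.mul_mem_right _ h')
    have h2 : algebraMap A (Localization.AtPrime q) (a : A) •
        LocalizedModule.mkLinearMap q.primeCompl M m = 0 := by
      rw [← IsLocalization.mk'_spec (Localization.AtPrime q) a t, mul_comm, mul_smul, hsm, smul_zero]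
    rw [algebraMap_smul, ← map_smul] at h2
    obtain ⟨u, hu⟩ := (IsLocalizedModule.eq_zero_iff q.primeCompl
      (LocalizedModule.mkLinearMap q.primeCompl M)).mp h2
    refine hm ((u : A) * a) (fun h' => ?_) (by rw [mul_smul]; exact hu)
    rcases (inferInstance : (P.asIdeal.under A).IsPrime).mem_or_mem h' with h'' | h''
    · exact u.2 (under_le q P.asIdeal h'')
    · exact ha h''

/-- The dimension of the localized support is monotone in the prime. -/
theorem supportDim_localizedModule_mono (p : Ideal A) [p.IsPrime] (hpq : p ≤ q) :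
    Module.supportDim (Localization.AtPrime p) (LocalizedModule p.primeCompl M) ≤
      Module.supportDim (Localization.AtPrime q) (LocalizedModule q.primeCompl M) := by
  have hex : ∀ P : Module.support (Localization.AtPrime p) (LocalizedModule p.primeCompl M),
      ∃ Q : Module.support (Localization.AtPrime q) (LocalizedModule q.primeCompl M),
        Q.1.asIdeal.under A = P.1.asIdeal.under A := by
    intro P
    obtain ⟨Q, hQ, hQP⟩ := exists_under_eq q (P.1.asIdeal.under A)
      ((under_le p P.1.asIdeal).trans hpq)
    refine ⟨⟨⟨Q, hQ⟩, ?_⟩, hQP⟩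
    rw [mem_support_localizedModule]
    have h := (mem_support_localizedModule p P.1).mp P.2
    convert h using 1
    exact PrimeSpectrum.ext hQP
  choose F hF using hex
  refine Order.krullDim_le_of_strictMono F fun P P' h => ?_
  have key : ∀ {r : Ideal A} [r.IsPrime] (I J : Ideal (Localization.AtPrime r)),
      I ≤ J ↔ I.under A ≤ J.under A := by
    intro r _ I J
    refine ⟨fun h => Ideal.comap_mono h, fun h => ?_⟩
    rw [← IsLocalization.map_under r.primeCompl (Localization.AtPrime r) I,
      ← IsLocalization.map_under r.primeCompl (Localization.AtPrime r) J]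
    exact Ideal.map_mono h
  have h' : P.1.asIdeal ≤ P'.1.asIdeal ∧ ¬ P'.1.asIdeal ≤ P.1.asIdeal := lt_iff_le_not_ge.mp h
  refine lt_iff_le_not_ge.mpr ⟨?_, ?_⟩
  · show (F P).1.asIdeal ≤ (F P').1.asIdeal
    rw [key, hF, hF, ← key]
    exact h'.1
  · show ¬ (F P').1.asIdeal ≤ (F P).1.asIdeal
    rw [key, hF, hF, ← key]
    exact h'.2

end Groth.Agent.CommAlg6
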