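import Groth.Prelude.Def_EGA4b
import Groth.Agent.CommAlg6.AtPrime
import Groth.Agent.CAlgH3.RegularHom
import Groth.Agent.H8Top.Noetherian
import Mathlib.RingTheory.Ideal.KrullsHeightTheorem
import Mathlib.RingTheory.KrullDimension.NonZeroDivisors

/-! The regular locus of a Noetherian ring. -/

universe u

open Topology IsLocalRing

namespace Groth.Agent.CommAlg6

variable {A : Type u} [CommRing A] [IsNoetherianRing A]

/-- The regular locus is stable under generalization. -/
theorem regLocus_stableUnderGeneralization :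
    StableUnderGeneralization (EGA4.regLocus A) := by
  intro p q hqp hp
  haveI : IsRegularLocalRing (Localization.AtPrime p.asIdeal) := hp
  have hle : q.asIdeal ≤ p.asIdeal := (PrimeSpectrum.le_iff_specializes q p).mpr hqp
  obtain ⟨Q, hQ, hQq⟩ := exists_under_eq p.asIdeal q.asIdeal hle
  have h := (isRegularLocalRing_iff p.asIdeal Q).mp
    (CAlgH3.isRegularLocalRing_localization (R := Localization.AtPrime p.asIdeal) Q)
  obtain ⟨qi, hqi⟩ := q
  subst hQq
  exact h

/-- Nagata's criterion. -/
theorem isOpen_regLocus_iff :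
    IsOpen (EGA4.regLocus A) ↔
      ∀ p ∈ EGA4.regLocus A, ∃ U : Set (PrimeSpectrum A), IsOpen U ∧
        (U ∩ PrimeSpectrum.zeroLocus (p.asIdeal : Set A)).Nonempty ∧
        U ∩ PrimeSpectrum.zeroLocus (p.asIdeal : Set A) ⊆ EGA4.regLocus A := by
  refine ⟨fun h p hp => ⟨_, h, ⟨p, hp, ?_⟩, Set.inter_subset_left⟩,
    fun h => (H8Top.isOpen_iff_forall_irreducible_closed _).mpr fun Y hY hYi ⟨y, hy, hyY⟩ => ?_⟩
  · exact (PrimeSpectrum.mem_zeroLocus _ _).mpr le_rfl
  · obtain ⟨ξ, hξ⟩ := QuasiSober.sober hYi hY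
    have hξreg := regLocus_stableUnderGeneralization (hξ.specializes hyY) hy
    have e : PrimeSpectrum.zeroLocus (ξ.asIdeal : Set A) = Y := by
      rw [← hξ.def, PrimeSpectrum.closure_singleton]
    obtain ⟨U, hU, hne, hsub⟩ := h ξ hξreg
    rw [e] at hne hsub
    exact ⟨U, hU, hne, hsub⟩

omit [IsNoetherianRing A] in
theorem height_add_ringKrullDim_quotient_le (p : Ideal A) [p.IsPrime] :
    (p.height : WithBot ℕ∞) + ringKrullDim (A ⧸ p) ≤ ringKrullDim A := by
  let P : PrimeSpectrum A := ⟨p, inferInstance⟩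
  have hset : PrimeSpectrum.zeroLocus (R := A) (p : Set A) = Set.Ici P := by
    ext x; rfl
  have h1 : p.height = Order.height P := (⟨p, inferInstance⟩ : PrimeSpectrum A).height_eq_orderHeight
  haveI : Nonempty (PrimeSpectrum A) := ⟨P⟩
  rw [ringKrullDim_quotient, hset, ← Order.coheight_eq_krullDim_Ici, h1, ringKrullDim,
    Order.krullDim_eq_iSup_height_add_coheight_of_nonempty, ← WithBot.coe_add, WithBot.coe_le_coe]
  exact le_iSup (fun a : PrimeSpectrum A => Order.height a + Order.coheight a) P

/-- A local ring is regular when it has a prime `p` generated by `ht p` elements with regular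
quotient. -/
theorem isRegularLocalRing_of_prime [IsLocalRing A] (p : Ideal A) [p.IsPrime]
    [IsRegularLocalRing (A ⧸ p)] (T : Finset A) (hT : Ideal.span (T : Set A) = p)
    (hcard : (T.card : ℕ∞) ≤ p.height) : IsRegularLocalRing A := by
  classical
  apply IsRegularLocalRing.of_spanFinrank_maximalIdeal_le
  have hm : ((maximalIdeal A).map (Ideal.Quotient.mk p)) = maximalIdeal (A ⧸ p) :=
    map_maximalIdeal_of_surjective _ Ideal.Quotient.mk_surjective
  have hfin := IsNoetherian.noetherian (maximalIdeal (A ⧸ p))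
  obtain ⟨s, hscard, hs⟩ := Submodule.FG.exists_span_finset_card_eq_spanFinrank hfin
  choose lift hlift using fun x : A ⧸ p => Ideal.Quotient.mk_surjective x
  have hspan : maximalIdeal A = Ideal.span (↑(T ∪ s.image lift) : Set A) := by
    have himg : Ideal.Quotient.mk p '' (lift '' (s : Set (A ⧸ p))) = s := by
      rw [Set.image_image]; simp [hlift]
    rw [Finset.coe_union, Finset.coe_image, Ideal.span_union, hT]
    have h1 : (Ideal.span (lift '' (s : Set (A ⧸ p)))).map (Ideal.Quotient.mk p) = maximalIdeal (A ⧸ p) := by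
      rw [Ideal.map_span, himg]; exact hs
    refine le_antisymm (fun x hx => ?_) (sup_le (le_maximalIdeal Ideal.IsPrime.ne_top') ?_)
    · have h2 : Ideal.Quotient.mk p x ∈ (Ideal.span (lift '' (s : Set (A ⧸ p)))).map (Ideal.Quotient.mk p) :=
        h1 ▸ hm ▸ Ideal.mem_map_of_mem _ hx
      rwa [← Ideal.mem_comap, Ideal.comap_map_of_surjective' _ Ideal.Quotient.mk_surjective,
        Ideal.mk_ker, sup_comm] at h2
    · refine (Ideal.le_comap_map.trans (Ideal.comap_mono (le_of_eq h1))).trans ?_
      intro x hx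
      rw [Ideal.mem_comap, ← hm, ← Ideal.mem_comap,
        Ideal.comap_map_of_surjective' _ Ideal.Quotient.mk_surjective, Ideal.mk_ker,
        sup_eq_left.mpr (le_maximalIdeal Ideal.IsPrime.ne_top')] at hx
      exact hx
  have hreg : ((maximalIdeal (A ⧸ p)).spanFinrank : WithBot ℕ∞) = ringKrullDim (A ⧸ p) :=
    IsRegularLocalRing.spanFinrank_maximalIdeal
  have hs' : s.card = (maximalIdeal (A ⧸ p)).spanFinrank := hscard
  have hle : (maximalIdeal A).spanFinrank ≤ T.card + (maximalIdeal (A ⧸ p)).spanFinrank := by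
    rw [hspan, ← hs']
    refine (Submodule.spanFinrank_span_le_ncard_of_finite (Finset.finite_toSet _)).trans ?_
    rw [Set.ncard_coe_finset]
    exact (Finset.card_union_le _ _).trans (Nat.add_le_add_left Finset.card_image_le _)
  calc ((maximalIdeal A).spanFinrank : WithBot ℕ∞)
      ≤ ((T.card + (maximalIdeal (A ⧸ p)).spanFinrank : ℕ) : WithBot ℕ∞) := by exact_mod_cast hle
    _ ≤ (p.height : WithBot ℕ∞) + ringKrullDim (A ⧸ p) := by
        rw [Nat.cast_add, hreg]
        gcongr
        exact_mod_cast hcard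
    _ ≤ ringKrullDim A := height_add_ringKrullDim_quotient_le p

/-- Lift a finite generating set of a localized prime to a basic open neighbourhood. -/
theorem exists_generators (p : Ideal A) [p.IsPrime] [IsRegularLocalRing (Localization.AtPrime p)] :
    ∃ (T : Finset A) (f : A), (T.card : ℕ∞) ≤ p.height ∧ f ∉ p ∧ (↑T : Set A) ⊆ p ∧
      ∀ x ∈ p, f * x ∈ Ideal.span (T : Set A) := by
  classical
  obtain ⟨s, hscard, hs⟩ := Submodule.FG.exists_span_finset_card_eq_spanFinrank
    (IsNoetherian.noetherian (maximalIdeal (Localization.AtPrime p)))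
  choose num hnum using fun z : Localization.AtPrime p => IsLocalization.surj p.primeCompl z
  let T := s.image fun z => (num z).1
  have hcard : (T.card : ℕ∞) ≤ p.height := by
    have h1 : T.card ≤ (maximalIdeal (Localization.AtPrime p)).spanFinrank := by
      exact Finset.card_image_le.trans (le_of_eq hscard)
    have h2 : ((maximalIdeal (Localization.AtPrime p)).spanFinrank : WithBot ℕ∞) = p.height := by
      rw [IsRegularLocalRing.spanFinrank_maximalIdeal, IsLocalization.AtPrime.ringKrullDim_eq_height p]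
    have h3 : (T.card : WithBot ℕ∞) ≤ p.height := le_of_le_of_eq (by exact_mod_cast h1) h2
    exact_mod_cast h3
  have hTp : (↑T : Set A) ⊆ p := by
    intro a ha
    simp only [T, Finset.coe_image, Set.mem_image, Finset.mem_coe] at ha
    obtain ⟨z, hz, rfl⟩ := ha
    have hzm : z ∈ maximalIdeal (Localization.AtPrime p) := hs ▸ Submodule.subset_span hz
    have h : algebraMap A (Localization.AtPrime p) (num z).1 ∈ maximalIdeal (Localization.AtPrime p) :=
      hnum z ▸ Ideal.mul_mem_right _ _ hzm
    exact (IsLocalization.AtPrime.to_map_mem_maximal_iff (Localization.AtPrime p) p _).mp h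
  have hmap : maximalIdeal (Localization.AtPrime p) ≤
      (Ideal.span (T : Set A)).map (algebraMap A (Localization.AtPrime p)) := by
    rw [← hs]
    refine Submodule.span_le.mpr fun z hz => ?_
    have h : algebraMap A (Localization.AtPrime p) (num z).1 ∈
        (Ideal.span (T : Set A)).map (algebraMap A (Localization.AtPrime p)) :=
      Ideal.mem_map_of_mem _ (Ideal.subset_span (by
        simp only [T, Finset.coe_image, Set.mem_image, Finset.mem_coe]
        exact ⟨z, hz, rfl⟩))
    rw [← hnum z] at h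
    exact ((Ideal.unit_mul_mem_iff_mem _ (IsLocalization.map_units _ _)).mp (by rwa [mul_comm]))
  obtain ⟨G, hG⟩ := (IsNoetherian.noetherian p : p.FG)
  have hex : ∀ g : A, g ∈ p → ∃ u : A, u ∉ p ∧ u * g ∈ Ideal.span (T : Set A) := by
    intro g hg
    have hgm : algebraMap A (Localization.AtPrime p) g ∈
        (Ideal.span (T : Set A)).map (algebraMap A (Localization.AtPrime p)) :=
      hmap ((IsLocalization.AtPrime.to_map_mem_maximal_iff (Localization.AtPrime p) p g).mpr hg)
    obtain ⟨u, hu, hmem⟩ := (IsLocalization.algebraMap_mem_map_algebraMap_iff p.primeCompl _ _ g).mp hgm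
    exact ⟨u, hu, hmem⟩
  have hgen : ∀ G : Finset A, (↑G : Set A) ⊆ p →
      ∃ u : A, u ∉ p ∧ ∀ g ∈ Ideal.span (G : Set A), u * g ∈ Ideal.span (T : Set A) := by
    intro G
    induction G using Finset.induction with
    | empty =>
      exact fun _ => ⟨1, (Ideal.ne_top_iff_one p).mp Ideal.IsPrime.ne_top', fun g hg => by simp_all⟩
    | insert a G _ ih =>
      intro hsub
      obtain ⟨u, hu, hug⟩ := ih fun z hz => hsub (by simp [hz])
      obtain ⟨v, hv, hva⟩ := hex a (hsub (by simp))
      refine ⟨u * v, fun h => ((inferInstance : p.IsPrime).mem_or_mem h).elim hu hv, fun g hg => ?_⟩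
      rw [Finset.coe_insert, Ideal.span, Submodule.mem_span_insert] at hg
      obtain ⟨c, z, hz, rfl⟩ := hg
      have h1 := Ideal.mul_mem_left _ (u * c) hva
      have h2 := Ideal.mul_mem_left _ v (hug z hz)
      convert Ideal.add_mem _ h1 h2 using 1
      rw [smul_eq_mul]; ring
  obtain ⟨u, hu, hug⟩ := hgen G (by rw [← hG]; exact Submodule.subset_span)
  exact ⟨T, u, hcard, hu, hTp, fun x hx => hug x (show x ∈ Submodule.span A (G : Set A) by rw [hG]; exact hx)⟩

end Groth.Agent.CommAlg6

namespace Groth.Agent.CommAlg6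

variable {A : Type u} [CommRing A] [IsNoetherianRing A]

/-- Regularity at `q ⊇ p` follows from regularity of `A/p` at `q` and a presentation of `p` near `q`
by `ht p` elements. -/
theorem isRegularLocalRing_atPrime_of_generators (p q : Ideal A) [p.IsPrime] [q.IsPrime] (hpq : p ≤ q)
    (T : Finset A) (f : A) (hcard : (T.card : ℕ∞) ≤ p.height) (hf : f ∉ q) (hT : (↑T : Set A) ⊆ p)
    (hgen : ∀ x ∈ p, f * x ∈ Ideal.span (T : Set A))
    (hreg : IsRegularLocalRing (Localization.AtPrime (q.map (Ideal.Quotient.mk p))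
      (hp := Ideal.map_isPrime_of_surjective Ideal.Quotient.mk_surjective (by rwa [Ideal.mk_ker])))) :
    IsRegularLocalRing (Localization.AtPrime q) := by
  classical
  haveI : (q.map (Ideal.Quotient.mk p)).IsPrime :=
    Ideal.map_isPrime_of_surjective Ideal.Quotient.mk_surjective (by rwa [Ideal.mk_ker])
  have disj : Disjoint (q.primeCompl : Set A) (p : Set A) :=
    Set.disjoint_left.mpr fun a ha hap => ha (hpq hap)
  set P := p.map (algebraMap A (Localization.AtPrime q)) with hP
  haveI : P.IsPrime := IsLocalization.isPrime_of_isPrime_disjoint q.primeCompl _ p ‹_› disj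
  have hPunder : P.under A = p := IsLocalization.under_map_of_isPrime_disjoint q.primeCompl _ ‹_› disj
  letI : Algebra (A ⧸ p) (Localization.AtPrime q ⧸ P) :=
    (Ideal.quotientMap P (algebraMap A (Localization.AtPrime q)) hPunder.ge).toAlgebra
  have hmk : ∀ a : A, algebraMap (A ⧸ p) (Localization.AtPrime q ⧸ P) (Ideal.Quotient.mk p a) =
      Ideal.Quotient.mk P (algebraMap A (Localization.AtPrime q) a) := fun a => rfl
  have hmem : ∀ a : A, Ideal.Quotient.mk p a ∈ q.map (Ideal.Quotient.mk p) ↔ a ∈ q := fun a =>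
    Ideal.mem_quotient_iff_mem hpq
  haveI : IsLocalization.AtPrime (Localization.AtPrime q ⧸ P) (q.map (Ideal.Quotient.mk p)) := by
    refine ⟨?_, fun z => ?_, fun {x y} h => ⟨1, ?_⟩⟩
    · rintro ⟨x, hx⟩
      obtain ⟨a, rfl⟩ := Ideal.Quotient.mk_surjective x
      rw [hmk]
      exact (IsLocalization.map_units (Localization.AtPrime q) (⟨a, fun h => hx ((hmem a).mpr h)⟩ : q.primeCompl)).map _
    · obtain ⟨z, rfl⟩ := Ideal.Quotient.mk_surjective z
      obtain ⟨⟨a, s⟩, has⟩ := IsLocalization.surj q.primeCompl z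
      refine ⟨⟨Ideal.Quotient.mk p a, ⟨Ideal.Quotient.mk p s, fun h => s.2 ((hmem _).mp h)⟩⟩, ?_⟩
      rw [hmk, hmk, ← map_mul, has]
    · obtain ⟨a, rfl⟩ := Ideal.Quotient.mk_surjective x
      obtain ⟨b, rfl⟩ := Ideal.Quotient.mk_surjective y
      rw [hmk, hmk, Ideal.Quotient.eq, ← map_sub] at h
      have h' : a - b ∈ P.under A := h
      rw [hPunder] at h'
      rw [Ideal.Quotient.eq.mpr h']
  haveI : IsRegularLocalRing (Localization.AtPrime q ⧸ P) :=
    IsRegularLocalRing.of_ringEquiv (IsLocalization.algEquiv (q.map (Ideal.Quotient.mk p)).primeCompl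
      (Localization.AtPrime (q.map (Ideal.Quotient.mk p))) (Localization.AtPrime q ⧸ P)).toRingEquiv
  refine isRegularLocalRing_of_prime P (T.image (algebraMap A (Localization.AtPrime q))) ?_ ?_
  · rw [Finset.coe_image, ← Ideal.map_span, hP]
    refine le_antisymm (Ideal.map_mono (Ideal.span_le.mpr hT)) (Ideal.map_le_iff_le_comap.mpr fun x hx => ?_)
    have h := Ideal.mem_map_of_mem (algebraMap A (Localization.AtPrime q)) (hgen x hx)
    rw [map_mul] at h
    have hu : IsUnit (algebraMap A (Localization.AtPrime q) f) :=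
      IsLocalization.map_units (Localization.AtPrime q) (⟨f, hf⟩ : q.primeCompl)
    exact (Ideal.unit_mul_mem_iff_mem _ hu).mp h
  · refine le_trans (le_trans (by exact_mod_cast Finset.card_image_le) hcard) ?_
    rw [hP, IsLocalization.height_map_of_disjoint q.primeCompl p disj]

end Groth.Agent.CommAlg6
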