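import Groth.Agent.CommAlg6.FieldExtGen
import Groth.Agent.CommAlg6.RegularLocus
import Groth.Agent.CAlgH.RegularSmooth
import Groth.Agent.CAlgH3.SepGenPow
import Groth.Agent.S9255
import Groth.Prelude.Def_EGA4b
import Mathlib.RingTheory.Smooth.Locus
import Mathlib.RingTheory.Smooth.Field
import Mathlib.RingTheory.Nilpotent.GeometricallyReduced

/-! The generic point of a finite type domain with formally smooth fraction field extension. -/

set_option linter.style.haveILetI false

universe u

open IsLocalRing TensorProduct

namespace Groth.Agent.CommAlg6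

/-- A geometrically reduced finitely generated field extension is formally smooth. -/
theorem formallySmooth_of_isGeometricallyReduced (k K : Type u) [Field k] [Field K] [Algebra k K]
    [Algebra.EssFiniteType k K] [Algebra.IsGeometricallyReduced k K] : Algebra.FormallySmooth k K := by
  classical
  obtain _ | ⟨p, hp, hpk⟩ := CharP.exists' k
  · infer_instance
  haveI : ExpChar k p := .prime hp.out
  suffices h : ∃ s : Finset K, IsTranscendenceBasis k ((↑) : s → K) ∧
      Algebra.IsSeparable (IntermediateField.adjoin k (s : Set K)) K by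
    obtain ⟨s, hs, hsep⟩ := h
    haveI : Algebra.IsSeparable (↥(IntermediateField.adjoin k (Set.range ((↑) : s → K)))) K := by
      convert! hsep <;> simp
    exact .of_algebraicIndependent_of_isSeparable hs.1
  refine exists_isTranscendenceBasis_and_isSeparable_of_linearIndepOn_pow_of_essFiniteType p hp.out
    fun s hs => ?_
  let Ω := AlgebraicClosure k
  haveI : CharP (Ω ⊗[k] K) p :=
    charP_of_injective_ringHom (FaithfulSMul.algebraMap_injective k (Ω ⊗[k] K)) p
  rw [LinearIndepOn, Fintype.linearIndependent_iff]
  intro c hc i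
  choose r hr using fun j : (s : Set K) => IsAlgClosed.exists_pow_nat_eq (algebraMap k Ω (c j)) hp.out.pos
  let x : Ω ⊗[k] K := ∑ j : (s : Set K), r j ⊗ₜ[k] (j : K)
  have hxp : x ^ p = 0 := by
    rw [sum_pow_char]
    calc ∑ j : (s : Set K), (r j ⊗ₜ[k] (j : K)) ^ p
        = ∑ j : (s : Set K), (1 : Ω) ⊗ₜ[k] (c j • (j : K) ^ p) := by
          refine Finset.sum_congr rfl fun j _ => ?_
          rw [Algebra.TensorProduct.tmul_pow, hr, Algebra.algebraMap_eq_smul_one, TensorProduct.smul_tmul]
      _ = 0 := by rw [← TensorProduct.tmul_sum, hc, TensorProduct.tmul_zero]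
  have hx : x = 0 := IsReduced.eq_zero _ ⟨p, hxp⟩
  have hr0 : r i = 0 := by
    have hli : LinearIndependent k fun j : (s : Set K) => (j : K) := hs
    let B := Module.Basis.extend (hs : LinearIndepOn k _root_.id (s : Set K))
    have hB : ∀ j : (s : Set K), ∃ e, B e = (j : K) ∧ (e : K) = j := fun j =>
      ⟨⟨j, LinearIndepOn.subset_extend (hs : LinearIndepOn k _root_.id (s : Set K)) _ j.2⟩,
        Module.Basis.extend_apply_self _ _, rfl⟩
    choose e he he' using hB
    let f : K →ₗ[k] k := B.coord (e i)
    have h := congrArg ((TensorProduct.rid k Ω).toLinearMap ∘ₗ f.lTensor Ω) hx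
    rw [map_zero, map_sum] at h
    rw [Finset.sum_eq_single i (fun j _ hji => ?_) (by simp)] at h
    · simpa [f, ← he i] using h
    · have hne : e j ≠ e i := fun h' => hji (Subtype.ext (by rw [← he' j, h', he' i]))
      simp [f, ← he j, hne]
  have := hr i
  rw [hr0, zero_pow hp.out.ne_zero] at this
  exact (map_eq_zero_iff _ (RingHom.injective _)).1 this.symm

/-- Regularity near the generic point passes to finite type domains with formally smooth generic
fibre field. -/
theorem regLocus_nonempty_open_of_formallySmooth (A B : Type u) [CommRing A] [IsDomain A]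
    [IsNoetherianRing A] [CommRing B] [IsDomain B] [Algebra A B] [Algebra.FiniteType A B]
    (hinj : Function.Injective (algebraMap A B)) (K L : Type u) [Field K] [Field L] [Algebra A K]
    [IsFractionRing A K] [Algebra B L] [IsFractionRing B L] [Algebra K L] [Algebra A L]
    [IsScalarTower A K L] [IsScalarTower A B L] [Algebra.FormallySmooth K L]
    (h : ∃ U : Set (PrimeSpectrum A), IsOpen U ∧ U.Nonempty ∧ U ⊆ EGA4.regLocus A) :
    ∃ V : Set (PrimeSpectrum B), IsOpen V ∧ V.Nonempty ∧ V ⊆ EGA4.regLocus B := by
  obtain ⟨U, hU, ⟨u, hu⟩, hsub⟩ := h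
  obtain ⟨_, ⟨f, rfl⟩, hfu, hfU⟩ :=
    PrimeSpectrum.isTopologicalBasis_basic_opens.exists_subset_of_mem_open hu hU
  have hf0 : f ≠ 0 := fun h => hfu (h ▸ u.asIdeal.zero_mem)
  haveI : Algebra.FinitePresentation A B := Algebra.FinitePresentation.of_finiteType.1 inferInstance
  haveI : Algebra.FormallySmooth A K := .of_isLocalization (nonZeroDivisors A)
  haveI : Algebra.FormallySmooth A L := .comp A K L
  have hbot : (⊥ : Ideal B).primeCompl = nonZeroDivisors B := by
    ext x; simp [Ideal.primeCompl]
  haveI : IsLocalization (⊥ : Ideal B).primeCompl L := hbot ▸ (inferInstance : IsLocalization (nonZeroDivisors B) L)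
  haveI : Algebra.IsSmoothAt A (⊥ : Ideal B) := (Algebra.FormallySmooth.iff_of_equiv
    ((IsLocalization.algEquiv (⊥ : Ideal B).primeCompl (Localization.AtPrime (⊥ : Ideal B)) L).restrictScalars A)).2
      inferInstance
  obtain ⟨g, hg, hsm⟩ := Algebra.IsSmoothAt.exists_notMem_smooth A (⊥ : Ideal B)
  let F := algebraMap A B f
  let h' := g * F
  have hh : h' ≠ 0 := mul_ne_zero (fun h => hg (h ▸ Submodule.zero_mem _))
    fun h => hf0 (hinj (h.trans (map_zero _).symm))
  refine ⟨PrimeSpectrum.basicOpen h', (PrimeSpectrum.basicOpen h').isOpen,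
    ⟨⟨⊥, Ideal.isPrime_bot⟩, by simpa using hh⟩, fun q hq => ?_⟩
  let Af := Localization.Away f
  haveI : IsNoetherianRing Af := IsLocalization.isNoetherianRing (Submonoid.powers f) Af inferInstance
  haveI : IsRegularRing Af := by
    refine isRegularRing_iff.2 fun P _ => ?_
    haveI := IsLocalization.isLocalization_isLocalization_atPrime_isLocalization (R := A)
      (M := Submonoid.powers f) (Localization.AtPrime P) P
    haveI : IsRegularLocalRing (Localization.AtPrime (P.under A)) :=
      hsub (a := ⟨P.under A, inferInstance⟩) (hfU (fun h => ‹P.IsPrime›.ne_top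
        (Ideal.eq_top_of_isUnit_mem _ h (IsLocalization.Away.algebraMap_isUnit f))))
    exact IsRegularLocalRing.of_ringEquiv (IsLocalization.algEquiv (P.under A).primeCompl
      (Localization.AtPrime P) (Localization.AtPrime (P.under A))).symm.toRingEquiv
  let Bh := Localization.Away h'
  haveI : Algebra.Smooth A Bh := by
    rw [← Algebra.basicOpen_subset_smoothLocus_iff_smooth]
    refine Set.Subset.trans ?_ (Algebra.basicOpen_subset_smoothLocus_iff_smooth.2 hsm)
    exact fun P hP hgP => hP (P.asIdeal.mul_mem_right _ hgP)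
  have hu : IsUnit (algebraMap A Bh f) := by
    rw [IsScalarTower.algebraMap_apply A B Bh]
    exact isUnit_of_mul_isUnit_right ((map_mul (algebraMap B Bh) g F) ▸ IsLocalization.Away.algebraMap_isUnit h')
  letI : Algebra Af Bh := (IsLocalization.Away.lift f hu).toAlgebra
  haveI : IsScalarTower A Af Bh := .of_algebraMap_eq fun a => (IsLocalization.Away.lift_eq f hu a).symm
  haveI : Algebra.FormallySmooth Af Bh := Algebra.FormallySmooth.localization_base (R := A) (Submonoid.powers f)
  haveI : Algebra.FinitePresentation Af Bh := Algebra.FinitePresentation.of_restrict_scalars_finitePresentation A Af Bh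
  haveI : Algebra.Smooth Af Bh := ⟨inferInstance, inferInstance⟩
  haveI : IsRegularRing Bh := CAlgH.isRegularRing_of_smooth Af Bh
  let Q := q.asIdeal.map (algebraMap B Bh)
  have hdisj : Disjoint (Submonoid.powers h' : Set B) (q.asIdeal : Set B) := by
    rw [Set.disjoint_left]
    rintro _ ⟨n, rfl⟩ hn
    exact hq (q.2.mem_of_pow_mem n hn)
  haveI : Q.IsPrime := IsLocalization.isPrime_of_isPrime_disjoint _ Bh _ q.2 hdisj
  haveI := IsLocalization.isLocalization_isLocalization_atPrime_isLocalization (R := B)
    (M := Submonoid.powers h') (Localization.AtPrime Q) Q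
  have hQ : Q.comap (algebraMap B Bh) = q.asIdeal :=
    IsLocalization.under_map_of_isPrime_disjoint _ Bh q.2 hdisj
  haveI : IsRegularLocalRing (Localization.AtPrime Q) := IsRegularRing.isRegularLocalRing_localization Q
  haveI : IsLocalization.AtPrime (Localization.AtPrime Q) q.asIdeal := by
    have : IsLocalization.AtPrime (Localization.AtPrime Q) (Q.comap (algebraMap B Bh)) := inferInstance
    convert this <;> exact hQ.symm
  exact IsRegularLocalRing.of_ringEquiv
    (IsLocalization.algEquiv q.asIdeal.primeCompl (Localization.AtPrime Q) (Localization.AtPrime q.asIdeal)).toRingEquiv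

set_option maxHeartbeats 1200000 in
set_option synthInstance.maxHeartbeats 100000 in
/-- If every finite domain over `A` is regular near its generic point, so is every finite type
domain over `A`. -/
theorem regLocus_nonempty_open_of_finite_domains (A : Type u) [CommRing A] [IsNoetherianRing A]
    (h : ∀ (A' : Type u) [CommRing A'] [IsDomain A'] [Algebra A A'], Module.Finite A A' →
        ∃ U : Set (PrimeSpectrum A'), IsOpen U ∧ U.Nonempty ∧ U ⊆ EGA4.regLocus A')
    (D : Type u) [CommRing D] [IsDomain D] [Algebra A D] [Algebra.FiniteType A D] :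
    ∃ U : Set (PrimeSpectrum D), IsOpen U ∧ U.Nonempty ∧ U ⊆ EGA4.regLocus D := by
  classical
  let p := RingHom.ker (algebraMap A D)
  haveI : p.IsPrime := RingHom.ker_isPrime _
  let A0 := A ⧸ p
  let K := FractionRing A0
  let K' := FractionRing D
  letI : Algebra A0 D := (Ideal.Quotient.lift p (algebraMap A D) fun _ hx => hx).toAlgebra
  haveI : IsScalarTower A A0 D := .of_algebraMap_eq fun _ => rfl
  haveI : FaithfulSMul A0 D := (faithfulSMul_iff_algebraMap_injective A0 D).2
    (RingHom.lift_injective_of_ker_le_ideal p (fun _ hx => hx) le_rfl)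
  haveI : Algebra.FiniteType A0 D := Algebra.FiniteType.of_restrictScalars_finiteType A A0 D
  haveI : FaithfulSMul A0 K' := FaithfulSMul.trans A0 D K'
  letI : Algebra K K' := FractionRing.liftAlgebra A0 K'
  haveI : IsScalarTower A0 K K' := inferInstance
  haveI : Algebra.EssFiniteType D K' := Algebra.EssFiniteType.of_isLocalization K' (nonZeroDivisors D)
  haveI : Algebra.EssFiniteType A0 K' := Algebra.EssFiniteType.comp A0 D K'
  haveI : Algebra.EssFiniteType K K' := Algebra.EssFiniteType.of_comp A0 K K'
  obtain ⟨k', L, _, _, _, _, _, _, _, _, _, -, -, hfs, htop, -⟩ :=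
    exists_purelyInseparable_separablyGenerated K K'
  letI : Algebra A0 k' := ((algebraMap K k').comp (algebraMap A0 K)).toAlgebra
  haveI : IsScalarTower A0 K k' := .of_algebraMap_eq fun _ => rfl
  -- a finite `A0`-subalgebra with fraction field `k'`
  obtain ⟨d, hd0, hd⟩ := exists_integral_multiples A0 K
    (Finset.univ.image (Module.finBasis K k'))
  let gen : Finset k' := (Finset.univ.image (Module.finBasis K k')).image fun b => algebraMap A0 k' d * b
  let A1 := Algebra.adjoin A0 (gen : Set k')
  have hinj0 : Function.Injective (algebraMap A0 k') :=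
    (algebraMap K k').injective.comp (IsFractionRing.injective A0 K)
  have hdk : algebraMap A0 k' d ≠ 0 := fun h0 => hd0 ((map_eq_zero_iff _ hinj0).1 h0)
  haveI : Module.Finite A0 A1 := Module.Finite.iff_fg.2 (fg_adjoin_of_finite gen.finite_toSet fun x hx => by
    obtain ⟨b, hb, rfl⟩ := Finset.mem_image.1 hx
    have := hd b hb
    rwa [Algebra.smul_def] at this)
  haveI hA1frac : IsFractionRing A1 k' := by
    refine IsFractionRing.of_field _ _ fun z => ?_
    have hz := (Module.finBasis K k').sum_repr z
    obtain ⟨e, he⟩ := IsLocalization.exist_integer_multiples (nonZeroDivisors A0) Finset.univ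
      fun i => (Module.finBasis K k').repr z i
    choose c hc using fun i => he i (Finset.mem_univ i)
    refine ⟨⟨∑ i, algebraMap A0 k' (c i) * (algebraMap A0 k' d * Module.finBasis K k' i), ?_⟩,
      algebraMap A0 A1 (e * d), ?_⟩
    · exact Subalgebra.sum_mem _ fun i _ => Subalgebra.mul_mem _ (Subalgebra.algebraMap_mem _ _)
        (Algebra.subset_adjoin (Finset.mem_image.2 ⟨_, Finset.mem_image_of_mem _ (Finset.mem_univ i), rfl⟩))
    · have hne : algebraMap A0 k' ((e : A0) * d) ≠ 0 := by
        rw [map_mul]
        exact mul_ne_zero (fun h0 => nonZeroDivisors.ne_zero e.2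
          ((map_eq_zero_iff _ hinj0).1 h0)) hdk
      show z = (∑ i, algebraMap A0 k' (c i) * (algebraMap A0 k' d * Module.finBasis K k' i)) /
        algebraMap A0 k' ((e : A0) * d)
      rw [eq_div_iff hne]
      conv_lhs => rw [← hz, Finset.sum_mul]
      refine Finset.sum_congr rfl fun i _ => ?_
      rw [IsScalarTower.algebraMap_apply A0 K k' (c i), hc, Algebra.smul_def, Algebra.smul_def, map_mul, map_mul,
        ← IsScalarTower.algebraMap_apply A0 K k']
      ring
  haveI : Algebra.IsIntegral A0 A1 := Algebra.IsIntegral.of_finite A0 A1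
  haveI : IsNoetherianRing A1 := IsNoetherianRing.of_finite A0 A1
  -- the finite type `A1`-algebra generated by `D`
  obtain ⟨sD, hsD⟩ := Algebra.FiniteType.out (R := A0) (A := D)
  let φ : D →+* L := (algebraMap K' L).comp (algebraMap D K')
  haveI : IsScalarTower A1 k' L := inferInstance
  let B1 := Algebra.adjoin A1 ((sD.image φ : Finset L) : Set L)
  haveI : Algebra.FiniteType A1 B1 :=
    ⟨Subalgebra.fg_top B1 |>.2 ⟨_, rfl⟩⟩
  have hφA0 : ∀ a : A0, φ (algebraMap A0 D a) = algebraMap A1 L (algebraMap A0 A1 a) := fun a => by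
    show algebraMap K' L (algebraMap D K' (algebraMap A0 D a)) = algebraMap k' L (algebraMap K k' (algebraMap A0 K a))
    rw [← IsScalarTower.algebraMap_apply A0 D K', IsScalarTower.algebraMap_apply A0 K K',
      ← IsScalarTower.algebraMap_apply K K' L, ← IsScalarTower.algebraMap_apply K k' L]
  have hDB : ∀ x : D, φ x ∈ B1 := fun x => by
    have hx : x ∈ Algebra.adjoin A0 (sD : Set D) := hsD ▸ Algebra.mem_top
    induction hx using Algebra.adjoin_induction with
    | mem y hy => exact Algebra.subset_adjoin (Finset.mem_image_of_mem _ hy)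
    | algebraMap a => rw [hφA0]; exact Subalgebra.algebraMap_mem _ _
    | add y z _ _ hy hz => rw [map_add]; exact add_mem hy hz
    | mul y z _ _ hy hz => rw [map_mul]; exact mul_mem hy hz
  haveI hB1frac : IsFractionRing B1 L := by
    refine IsFractionRing.of_field ↥B1 L fun z => ?_
    let F := Subfield.closure (B1 : Set L)
    have hk : ∀ x : k', algebraMap k' L x ∈ F := fun x => by
      obtain ⟨a, b, -, rfl⟩ := IsFractionRing.div_surjective A1 x
      rw [map_div₀, ← IsScalarTower.algebraMap_apply, ← IsScalarTower.algebraMap_apply]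
      exact div_mem (Subfield.subset_closure (Subalgebra.algebraMap_mem B1 a))
        (Subfield.subset_closure (Subalgebra.algebraMap_mem B1 b))
    let F' : IntermediateField k' L := F.toIntermediateField hk
    have hle : IntermediateField.adjoin k' (Set.range (algebraMap K' L)) ≤ F' := by
      rw [IntermediateField.adjoin_le_iff]
      rintro _ ⟨x, rfl⟩
      obtain ⟨a, b, -, rfl⟩ := IsFractionRing.div_surjective D x
      rw [map_div₀]
      exact div_mem (Subfield.subset_closure (hDB a)) (Subfield.subset_closure (hDB b))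
    rw [htop] at hle
    have hzF : z ∈ F := hle IntermediateField.mem_top
    rw [Subfield.mem_closure_iff] at hzF
    obtain ⟨a, ha, b, hb, rfl⟩ := hzF
    rw [show Subring.closure (B1 : Set L) = B1.toSubring from Subring.closure_eq B1.toSubring] at ha hb
    exact ⟨⟨a, ha⟩, ⟨b, hb⟩, rfl⟩
  have hinj1 : Function.Injective (algebraMap A1 B1) := fun a b hab => Subtype.ext
    ((algebraMap k' L).injective (congrArg Subtype.val hab))
  letI : Algebra A A1 := ((algebraMap A0 A1).comp (algebraMap A A0)).toAlgebra
  haveI : IsScalarTower A A0 A1 := .of_algebraMap_eq fun _ => rfl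
  letI : Algebra A0 B1 := ((algebraMap A1 B1).comp (algebraMap A0 A1)).toAlgebra
  haveI : IsScalarTower A0 A1 B1 := .of_algebraMap_eq fun _ => rfl
  haveI : Module.Finite A A0 := inferInstance
  haveI : Module.Finite A A1 := Module.Finite.trans A0 A1
  have hA1 := h A1 inferInstance
  have hB1 := regLocus_nonempty_open_of_formallySmooth A1 B1 hinj1 k' L hA1
  letI : Algebra D B1 := (φ.codRestrict B1 hDB).toAlgebra
  haveI : IsScalarTower A0 D B1 := .of_algebraMap_eq fun a => Subtype.ext (hφA0 a).symm
  haveI : Algebra.FiniteType A0 B1 := Algebra.FiniteType.trans (S := A1) inferInstance inferInstance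
  haveI : Algebra.FiniteType D B1 := Algebra.FiniteType.of_restrictScalars_finiteType A0 D B1
  haveI : IsNoetherianRing D := Algebra.FiniteType.isNoetherianRing A D
  refine Groth.Agent.S9255.result D B1 (fun a b hab => ?_) hB1
  exact IsFractionRing.injective D K' ((algebraMap K' L).injective (congrArg Subtype.val hab))

end Groth.Agent.CommAlg6
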