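import Groth.Agent.CommAlg6.FlatEquidim
import Groth.Agent.CAlgH.AnalyticallyUnramified
import Groth.Agent.CAlgH.CompleteLocal
import Groth.Agent.CAlgH3.CMPolynomial
import Groth.Agent.CAlgH3.FlatDepth
import Groth.Agent.CAlgH3.RegularHom

/-! Completions and equidimensionality. -/

universe u

open TensorProduct

namespace Groth.Agent.CommAlg6

open IsLocalRing
open LocCoh (hq isPrime_map_mk comap_map_mk)

section equidim

variable {R : Type u} [CommRing R] [IsNoetherianRing R] [IsLocalRing R]

theorem exists_minimal_ringKrullDim_eq {J : Ideal R} (hJ : J ≠ ⊤) :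
    ∃ Q ∈ J.minimalPrimes, ringKrullDim (R ⧸ Q) = ringKrullDim (R ⧸ J) := by
  have hJm : J ≤ maximalIdeal R := le_maximalIdeal hJ
  haveI : Nontrivial (R ⧸ J) := Ideal.Quotient.nontrivial_iff.2 hJ
  haveI : IsLocalRing (R ⧸ J) := .of_surjective' _ Ideal.Quotient.mk_surjective
  obtain ⟨Q, hQ, hQM, hQe⟩ := exists_minimal_hq_eq J (maximalIdeal R) hJm
  haveI := hQ.1.1
  refine ⟨Q, hQ, ?_⟩
  rw [← hq_eq_ringKrullDim_quotient, ← maximalIdeal_height_eq_ringKrullDim,
    ← IsLocalRing.map_maximalIdeal_of_surjective (Ideal.Quotient.mk J)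
      Ideal.Quotient.mk_surjective]
  exact congrArg _ hQe.symm

theorem isEquidim_quotient_iff {J : Ideal R} :
    EGA4.IsEquidim (R ⧸ J) ↔
      ∀ Q ∈ J.minimalPrimes, ringKrullDim (R ⧸ Q) = ringKrullDim (R ⧸ J) := by
  constructor
  · intro h Q hQ
    haveI := hQ.1.1
    haveI := isPrime_map_mk hQ.1.2
    rw [← ringKrullDim_eq_of_ringEquiv (DoubleQuot.quotQuotEquivQuotOfLE hQ.1.2)]
    refine h _ ⟨⟨inferInstance, bot_le⟩, fun P hP hle => ?_⟩
    haveI := hP.1
    have hJ : J ≤ P.comap (Ideal.Quotient.mk J) := fun x hx => by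
      rw [Ideal.mem_comap, Ideal.Quotient.eq_zero_iff_mem.2 hx]; exact P.zero_mem
    rw [Ideal.map_le_iff_le_comap]
    exact hQ.2 ⟨inferInstance, hJ⟩ ((Ideal.comap_mono hle).trans (comap_map_mk hQ.1.2).le)
  · intro h P hP
    haveI := hP.1.1
    let Q := P.comap (Ideal.Quotient.mk J)
    have hQJ : J ≤ Q := fun x hx => by
      rw [Ideal.mem_comap, Ideal.Quotient.eq_zero_iff_mem.2 hx]; exact P.zero_mem
    have hPQ : Q.map (Ideal.Quotient.mk J) = P :=
      Ideal.map_comap_of_surjective _ Ideal.Quotient.mk_surjective P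
    have hQ : Q ∈ J.minimalPrimes := by
      refine ⟨⟨inferInstance, hQJ⟩, fun T hT hle => ?_⟩
      haveI := hT.1
      haveI := isPrime_map_mk hT.2
      have := hP.2 ⟨inferInstance, bot_le⟩ ((Ideal.map_mono hle).trans hPQ.le)
      exact (Ideal.comap_mono this).trans (comap_map_mk hT.2).le
    rw [← hPQ, ringKrullDim_eq_of_ringEquiv (DoubleQuot.quotQuotEquivQuotOfLE hQJ)]
    exact h Q hQ

theorem isEquidim_of_ringEquiv {S T : Type u} [CommRing S] [CommRing T] (e : S ≃+* T)
    (h : EGA4.IsEquidim S) : EGA4.IsEquidim T := by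
  intro P hP
  haveI := hP.1.1
  have hmin : P.comap e.toRingHom ∈ minimalPrimes S := by
    refine ⟨⟨inferInstance, bot_le⟩, fun Q hQ hle => ?_⟩
    haveI := hQ.1
    have h2 := hP.2 (y := Q.comap e.symm.toRingHom) ⟨inferInstance, bot_le⟩ (fun y hy => by
      have h' : e (e.symm y) ∈ P := hle hy
      rwa [e.apply_symm_apply] at h')
    exact fun x hx => by
      have h' : e.symm (e x) ∈ Q := h2 (show e x ∈ P from hx)
      rwa [e.symm_apply_apply] at h'
  rw [← ringKrullDim_eq_of_ringEquiv e, ← h _ hmin]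
  exact (ringKrullDim_eq_of_ringEquiv (Ideal.quotientEquiv (P.comap e.toRingHom) P e
    (Ideal.map_comap_of_surjective e.toRingHom e.surjective P).symm)).symm

end equidim

section flat

variable {A B : Type u} [CommRing A] [CommRing B] [Algebra A B]
variable [IsLocalRing A] [IsLocalRing B] [IsNoetherianRing A] [IsNoetherianRing B]
variable [IsLocalHom (algebraMap A B)] [Module.Flat A B]

omit [IsLocalRing A] [IsLocalRing B] [IsNoetherianRing A] [IsNoetherianRing B]
  [IsLocalHom (algebraMap A B)] in
/-- A prime minimal over `pB` contracts to `p`. -/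
theorem under_eq_of_mem_minimalPrimes (p : Ideal A) [p.IsPrime] {Q : Ideal B}
    (hQ : Q ∈ (p.map (algebraMap A B)).minimalPrimes) : Q.under A = p := by
  haveI := hQ.1.1
  refine le_antisymm ?_ (Ideal.map_le_iff_le_comap.1 hQ.1.2)
  by_contra hne
  have hlt : p < Q.under A := lt_of_le_not_ge (Ideal.map_le_iff_le_comap.1 hQ.1.2) hne
  obtain ⟨Q', hQ', hQ'p, hQ'o⟩ := Ideal.exists_ideal_lt_liesOver_of_lt Q hlt
  exact hQ'.not_ge (hQ.2 ⟨hQ'p, Ideal.map_le_iff_le_comap.2 hQ'o.over.le⟩ hQ'.le)

omit [IsLocalRing A] [IsLocalRing B] [IsNoetherianRing A] [IsNoetherianRing B]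
  [IsLocalHom (algebraMap A B)] in
/-- A prime minimal over `aB` is minimal over `pB` for its contraction `p`, which is minimal
over `a`. -/
theorem under_mem_minimalPrimes (a : Ideal A) {Q : Ideal B}
    (hQ : Q ∈ (a.map (algebraMap A B)).minimalPrimes) :
    Q.under A ∈ a.minimalPrimes ∧ Q ∈ ((Q.under A).map (algebraMap A B)).minimalPrimes := by
  haveI := hQ.1.1
  have ha : a ≤ Q.under A := Ideal.map_le_iff_le_comap.1 hQ.1.2
  refine ⟨⟨⟨inferInstance, ha⟩, fun p hp hle => ?_⟩, ⟨inferInstance, Ideal.map_comap_le⟩,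
    fun P hP hle => hQ.2 ⟨hP.1, (Ideal.map_mono ha).trans hP.2⟩ hle⟩
  haveI := hp.1
  by_contra hne
  obtain ⟨Q', hQ', hQ'p, hQ'o⟩ := Ideal.exists_ideal_lt_liesOver_of_lt Q
    (lt_of_le_not_ge hle hne)
  exact hQ'.not_ge (hQ.2 ⟨hQ'p, (Ideal.map_mono hp.2).trans
    (Ideal.map_le_iff_le_comap.2 hQ'o.over.le)⟩ hQ'.le)

/-- Dimension is preserved when the closed fibre has dimension zero. -/
theorem ringKrullDim_eq_of_fibre_zero (h0 : ringKrullDim (EGA4.FibRing A B) = 0) :
    ringKrullDim B = ringKrullDim A := by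
  haveI : (maximalIdeal B).LiesOver (maximalIdeal A) :=
    ⟨(under_eq_maximalIdeal (A := A) map_maximalIdeal_le).symm⟩
  have hz : ((maximalIdeal B).map
      (Ideal.Quotient.mk ((maximalIdeal A).map (algebraMap A B)))).height = 0 := by
    haveI : Nontrivial (EGA4.FibRing A B) := inferInstance
    haveI : IsLocalRing (EGA4.FibRing A B) := .of_surjective' _ Ideal.Quotient.mk_surjective
    have h := IsLocalRing.maximalIdeal_height_eq_ringKrullDim (R := EGA4.FibRing A B)
    rw [h0, ← WithBot.coe_zero, WithBot.coe_inj, ← IsLocalRing.map_maximalIdeal_of_surjective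
      (Ideal.Quotient.mk (EGA4.mB A B)) Ideal.Quotient.mk_surjective] at h
    exact h
  rw [← maximalIdeal_height_eq_ringKrullDim, ← maximalIdeal_height_eq_ringKrullDim,
    Ideal.height_eq_height_add_of_liesOver_of_hasGoingDown (maximalIdeal A) (maximalIdeal B),
    hz, add_zero]

/-- Dimension of `B/aB` when the closed fibre has dimension zero. -/
theorem ringKrullDim_quotient_map_eq (h0 : ringKrullDim (EGA4.FibRing A B) = 0) {a : Ideal A}
    (ha : a ≠ ⊤) : ringKrullDim (B ⧸ a.map (algebraMap A B)) = ringKrullDim (A ⧸ a) := by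
  have ham : a ≤ maximalIdeal A := le_maximalIdeal ha
  have hJ : a.map (algebraMap A B) ≤ maximalIdeal B :=
    (Ideal.map_mono ham).trans map_maximalIdeal_le
  haveI : Nontrivial (A ⧸ a) := Ideal.Quotient.nontrivial_iff.2 ha
  haveI : Nontrivial (B ⧸ a.map (algebraMap A B)) := Ideal.Quotient.nontrivial_iff.2 fun h =>
    (maximalIdeal.isMaximal B).ne_top (top_le_iff.1 (h ▸ hJ))
  haveI : IsLocalRing (A ⧸ a) := .of_surjective' _ Ideal.Quotient.mk_surjective
  haveI : IsLocalRing (B ⧸ a.map (algebraMap A B)) := .of_surjective' _ Ideal.Quotient.mk_surjective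
  haveI := flat_quotient_map (B := B) a
  haveI : IsLocalHom (algebraMap (A ⧸ a) (B ⧸ a.map (algebraMap A B))) :=
    ((local_hom_TFAE (algebraMap (A ⧸ a) (B ⧸ a.map (algebraMap A B)))).out 0 2 rfl rfl).2 (by
      rw [← map_maximalIdeal_of_surjective (Ideal.Quotient.mk a) Ideal.Quotient.mk_surjective,
        ← map_maximalIdeal_of_surjective (Ideal.Quotient.mk (a.map (algebraMap A B)))
          Ideal.Quotient.mk_surjective, Ideal.map_map,
        show (algebraMap (A ⧸ a) (B ⧸ a.map (algebraMap A B))).comp (Ideal.Quotient.mk a) =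
          (Ideal.Quotient.mk (a.map (algebraMap A B))).comp (algebraMap A B) from rfl,
        ← Ideal.map_map]
      exact Ideal.map_mono map_maximalIdeal_le)
  refine ringKrullDim_eq_of_fibre_zero ?_
  rw [← h0]
  have e : ((maximalIdeal (A ⧸ a)).map (algebraMap (A ⧸ a) (B ⧸ a.map (algebraMap A B)))) =
      ((maximalIdeal A).map (algebraMap A B)).map (Ideal.Quotient.mk (a.map (algebraMap A B))) := by
    rw [← map_maximalIdeal_of_surjective (Ideal.Quotient.mk a) Ideal.Quotient.mk_surjective,
      Ideal.map_map, Ideal.map_map]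
    rfl
  exact ringKrullDim_eq_of_ringEquiv ((Ideal.quotEquivOfEq e).trans
    (DoubleQuot.quotQuotEquivQuotOfLE (Ideal.map_mono ham)))

theorem isEquidim_quotient_map_iff (hcat : CAlg.IsCatenary B) (he : EGA4.IsEquidim B)
    (h0 : ringKrullDim (EGA4.FibRing A B) = 0) (a : Ideal A) :
    EGA4.IsEquidim (B ⧸ a.map (algebraMap A B)) ↔ EGA4.IsEquidim (A ⧸ a) := by
  rcases eq_or_ne a ⊤ with rfl | ha
  · rw [isEquidim_quotient_iff, isEquidim_quotient_iff, Ideal.map_top, Ideal.minimalPrimes_top,
      Ideal.minimalPrimes_top]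
    simp
  rw [isEquidim_quotient_iff, isEquidim_quotient_iff, ringKrullDim_quotient_map_eq h0 ha]
  have hdim := ringKrullDim_eq_of_fibre_zero h0
  have key : ∀ p : Ideal A, p.IsPrime → ∀ Q ∈ (p.map (algebraMap A B)).minimalPrimes,
      ringKrullDim (B ⧸ Q) = ringKrullDim (A ⧸ p) := by
    intro p hp Q hQ
    haveI := hp
    haveI := hQ.1.1
    haveI : Q.LiesOver p := ⟨(under_eq_of_mem_minimalPrimes p hQ).symm⟩
    have h1 := height_add_ringKrullDim_quotient_of_equidim hcat he Q
    rw [Ideal.height_eq_height_add_of_liesOver_of_hasGoingDown p Q, height_map_mk_eq_zero hQ,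
      add_zero, hdim, ← height_add_ringKrullDim_quotient_of_flat hcat he p,
      ← hq_eq_ringKrullDim_quotient, ← hq_eq_ringKrullDim_quotient, ← WithBot.coe_add,
      ← WithBot.coe_add, WithBot.coe_inj] at h1
    rw [← hq_eq_ringKrullDim_quotient, ← hq_eq_ringKrullDim_quotient, WithBot.coe_inj]
    exact WithTop.add_left_cancel (Ideal.height_ne_top hp.ne_top) h1
  constructor
  · intro h p hp
    haveI := hp.1.1
    obtain ⟨Q, hQ, -⟩ := Ideal.exists_minimalPrimes_le
      ((Ideal.map_mono (le_maximalIdeal hp.1.1.ne_top)).trans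
        (map_maximalIdeal_le (A := A) (B := B)))
    haveI := hQ.1.1
    have hQa : Q ∈ (a.map (algebraMap A B)).minimalPrimes := by
      refine ⟨⟨hQ.1.1, (Ideal.map_mono hp.1.2).trans hQ.1.2⟩, fun P hP hle => ?_⟩
      haveI := hP.1
      refine hQ.2 ⟨hP.1, Ideal.map_le_iff_le_comap.2 ?_⟩ hle
      exact hp.2 ⟨inferInstance, Ideal.map_le_iff_le_comap.1 hP.2⟩
        ((Ideal.comap_mono hle).trans (under_eq_of_mem_minimalPrimes p hQ).le)
    rw [← key p hp.1.1 Q hQ, h Q hQa]
  · intro h Q hQ
    obtain ⟨h1, h2⟩ := under_mem_minimalPrimes a hQ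
    rw [key _ h1.1.1 Q h2, h _ h1]

end flat

section completion

variable (A : Type u) [CommRing A] [IsNoetherianRing A] [IsLocalRing A]

instance : IsNoetherianRing (AdicCompletion (maximalIdeal A) A) :=
  Matlis6.isNoetherianRing_adicCompletion _

theorem isLocalHom_completion :
    IsLocalHom (algebraMap A (AdicCompletion (maximalIdeal A) A)) :=
  ((local_hom_TFAE (algebraMap A (AdicCompletion (maximalIdeal A) A))).out 0 2 rfl rfl).2
    AdicCompletion.maximalIdeal_eq_map.ge

theorem ringKrullDim_fibre_completion :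
    ringKrullDim (EGA4.FibRing A (AdicCompletion (maximalIdeal A) A)) = 0 := by
  refine ringKrullDim_eq_zero_of_isField ?_
  refine (Ideal.Quotient.maximal_ideal_iff_isField_quotient _).1 ?_
  change ((maximalIdeal A).map (algebraMap A (AdicCompletion (maximalIdeal A) A))).IsMaximal
  rw [← AdicCompletion.maximalIdeal_eq_map]
  infer_instance

theorem ringKrullDim_completion :
    ringKrullDim (AdicCompletion (maximalIdeal A) A) = ringKrullDim A :=
  haveI := isLocalHom_completion A
  ringKrullDim_eq_of_fibre_zero (ringKrullDim_fibre_completion A)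

/-- A complete Noetherian local ring is universally catenary. -/
theorem isCatenary_of_isAdicComplete (R : Type u) [CommRing R] [IsLocalRing R] [IsNoetherianRing R]
    [IsAdicComplete (maximalIdeal R) R] : CAlg.IsCatenary R := by
  obtain ⟨Λ, _, φ, hreg, hres, -⟩ := CAlgH.exists_coefficient_ring R
  obtain ⟨n, a, ha⟩ := Submodule.fg_iff_exists_fin_generating_family.mp
    (IsNoetherian.noetherian (maximalIdeal R))
  have hI : ∀ i, a i ∈ maximalIdeal R := fun i => ha ▸ Submodule.subset_span ⟨i, rfl⟩
  obtain ⟨f, hfC, hfX⟩ := CAlgH.exists_mvPowerSeries_eval φ (maximalIdeal R) a hI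
  have hf : Function.Surjective f :=
    CAlgH.surjective_mvPowerSeries_hom f (maximalIdeal R) (fun i => (hfX i).symm ▸ hI i) (by
      rw [show (fun i => f (MvPowerSeries.X i)) = a from funext hfX, hfC,
        show Ideal.span (Set.range a) = maximalIdeal R from ha]
      exact hres)
  haveI := (CAlgH.isRegularLocalRing_mvPowerSeries Λ n).1
  haveI := CAlgH3.isRegularRing_of_isRegularLocalRing (R := MvPowerSeries (Fin n) Λ)
  haveI := CAlgH3.isCohenMacaulayRing_of_isRegularRing (R := MvPowerSeries (Fin n) Λ)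
  exact CAlgH.isCatenary_of_embedding
    (OrderEmbedding.ofMapLEIff (PrimeSpectrum.comap f) fun a b =>
      ⟨fun h => (Ideal.comap_le_comap_iff_of_surjective _ hf _ _).mp h, fun h => Ideal.comap_mono h⟩)
    (fun a b x h1 _ => by
      show x ∈ Set.range (PrimeSpectrum.comap f)
      rw [range_comap_of_surjective _ f hf]
      exact fun y hy => h1 (show y ∈ Ideal.comap f a.asIdeal by
        rw [Ideal.mem_comap, RingHom.mem_ker.1 hy]; exact zero_mem _))
    CAlgH3.isCatenary_of_cm

theorem isCatenary_completion : CAlg.IsCatenary (AdicCompletion (maximalIdeal A) A) := by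
  haveI : IsAdicComplete (maximalIdeal (AdicCompletion (maximalIdeal A) A))
      (AdicCompletion (maximalIdeal A) A) := inferInstance
  exact isCatenary_of_isAdicComplete _

/-- `B` formally equidimensional iff `Â/(ker π)Â` is equidimensional, for `π : A ↠ B`. -/
theorem isFormallyEquidim_iff_of_surjective {B : Type u} [CommRing B] [IsLocalRing B]
    [IsNoetherianRing B] (π : A →+* B) (hπ : Function.Surjective π) :
    EGA4.IsFormallyEquidim B ↔ EGA4.IsEquidim (AdicCompletion (maximalIdeal A) A ⧸
      (RingHom.ker π).map (algebraMap A (AdicCompletion (maximalIdeal A) A))) := by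
  obtain ⟨e⟩ := CAlgH.completion_quotient_equiv π hπ
  exact ⟨fun h => isEquidim_of_ringEquiv e.symm h, fun h => isEquidim_of_ringEquiv e h⟩

theorem isFormallyEquidim_quotient_iff (a : Ideal A) [IsLocalRing (A ⧸ a)] :
    EGA4.IsFormallyEquidim (A ⧸ a) ↔ EGA4.IsEquidim (AdicCompletion (maximalIdeal A) A ⧸
      a.map (algebraMap A (AdicCompletion (maximalIdeal A) A))) := by
  have h := isFormallyEquidim_iff_of_surjective A (Ideal.Quotient.mk a) Ideal.Quotient.mk_surjective
  rwa [Ideal.mk_ker] at h

/-- A finite Cohen–Macaulay module with full support makes the ring formally equidimensional. -/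
theorem isFormallyEquidim_of_cm (M : Type u) [AddCommGroup M] [Module A M] [Module.Finite A M]
    (hCM : _root_.LocCoh.IsCohenMacaulayModule A M) (hsupp : Module.support A M = Set.univ) :
    EGA4.IsFormallyEquidim A := by
  classical
  haveI := isLocalHom_completion A
  let Ah := AdicCompletion (maximalIdeal A) A
  haveI : IsLocalHom (algebraMap A Ah) := isLocalHom_completion A
  obtain ⟨n, v, hv⟩ := Module.Finite.exists_fin (R := A) (M := M)
  let φ : A →ₗ[A] (Fin n → M) := LinearMap.pi fun i => LinearMap.toSpanSingleton A M (v i)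
  have hex : Function.Exact (Module.annihilator A M).subtype φ := by
    intro x
    simp only [Submodule.coe_subtype, Subtype.range_coe_subtype, SetLike.setOf_mem_eq, SetLike.mem_coe]
    rw [Module.mem_annihilator]
    constructor
    · intro h m
      have hm : m ∈ Submodule.span A (Set.range v) := hv ▸ Submodule.mem_top
      induction hm using Submodule.span_induction with
      | mem y hy => obtain ⟨i, rfl⟩ := hy; exact congrFun h i
      | zero => simp
      | add y z _ _ hy hz => rw [smul_add, hy, hz, add_zero]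
      | smul c y _ hy => rw [smul_comm, hy, smul_zero]
    · intro h; funext i; exact h (v i)
  have hann : Module.annihilator Ah (Ah ⊗[A] M) ≤
      (Module.annihilator A M).map (algebraMap A Ah) := by
    intro z hz
    rw [Module.mem_annihilator] at hz
    have h0 : φ.lTensor Ah (z ⊗ₜ[A] (1 : A)) = 0 := by
      rw [LinearMap.lTensor_tmul, show z = z • (1 : Ah) by rw [smul_eq_mul, mul_one],
        ← TensorProduct.smul_tmul']
      apply (TensorProduct.piRight A Ah Ah fun _ : Fin n => M).injective
      rw [map_smul, map_zero]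
      funext i
      exact hz _
    obtain ⟨w, hw⟩ := ((Module.Flat.lTensor_exact Ah hex) (z ⊗ₜ[A] (1 : A))).1 h0
    have hz1 : z = TensorProduct.rid A Ah
        ((Module.annihilator A M).subtype.lTensor Ah w) := by rw [hw]; simp
    rw [hz1]
    clear hw hz1 h0
    induction w with
    | zero => simp
    | add a b ha hb => rw [map_add, map_add]; exact add_mem ha hb
    | tmul a b =>
      rw [LinearMap.lTensor_tmul, TensorProduct.rid_tmul, Algebra.smul_def, mul_comm]
      exact Ideal.mul_mem_left _ _ (Ideal.mem_map_of_mem _ b.2)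
  have hnil : Module.annihilator A M ≤ nilradical A := fun x hx => by
    rw [nilradical_eq_sInf, Submodule.mem_sInf]
    intro p hp
    haveI := hp
    have : (⟨p, hp⟩ : PrimeSpectrum A) ∈ Module.support A M := hsupp ▸ Set.mem_univ _
    rw [Module.support_eq_zeroLocus] at this
    exact this hx
  have hMnt : Nontrivial M := CAlgH3.nontrivial_of_cm hCM
  have hsupp' : Module.support Ah (Ah ⊗[A] M) = Set.univ := by
    rw [Module.support_eq_zeroLocus, Set.eq_univ_iff_forall]
    intro P x hx
    have hle : (Module.annihilator A M).map (algebraMap A Ah) ≤ P.asIdeal := by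
      rw [Ideal.map_le_iff_le_comap]
      intro y hy
      obtain ⟨k, hk⟩ := mem_nilradical.1 (hnil hy)
      refine P.2.mem_of_pow_mem k ?_
      rw [← map_pow, hk, map_zero]
      exact zero_mem _
    exact hle (hann hx)
  have hdim : Module.supportDim Ah (Ah ⊗[A] M) = Module.supportDim A M := by
    rw [Module.supportDim, Module.supportDim, hsupp', hsupp]
    have e1 : Order.krullDim (Set.univ : Set (PrimeSpectrum Ah)) = ringKrullDim Ah :=
      Order.krullDim_eq_of_orderIso OrderIso.Set.univ
    have e2 : Order.krullDim (Set.univ : Set (PrimeSpectrum A)) = ringKrullDim A :=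
      Order.krullDim_eq_of_orderIso OrderIso.Set.univ
    rw [e1, e2, ringKrullDim_completion]
  haveI : Nontrivial (Ah ⊗[A] M) := by
    rw [← Module.supportDim_ne_bot_iff_nontrivial Ah, hdim,
      Module.supportDim_ne_bot_iff_nontrivial A]
    exact hMnt
  have hcm : _root_.LocCoh.IsCohenMacaulayModule Ah (Ah ⊗[A] M) := by
    refine le_antisymm ?_ (CAlgH3.depth_le_supportDim (R := Ah) (M := Ah ⊗[A] M))
    rw [hdim, hCM, WithBot.coe_le_coe]
    obtain ⟨d, hd⟩ := CAlgH3.exists_depth_eq_natCast (R := A) (M := M)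
    rw [hd]
    exact le_self_add.trans (CAlgH3.depth_add_depth_fibre_le (B := Ah) d M hd.ge)
  intro Q hQ
  haveI := hQ.1.1
  have hass : Q ∈ associatedPrimes Ah (Ah ⊗[A] M) := by
    apply Module.associatedPrimes.minimalPrimes_annihilator_subset_associatedPrimes Ah
    refine ⟨⟨inferInstance, ?_⟩, fun P hP hle => hQ.2 ⟨hP.1, bot_le⟩ hle⟩
    have : (⟨Q, inferInstance⟩ : PrimeSpectrum Ah) ∈ Module.support Ah (Ah ⊗[A] M) :=
      hsupp' ▸ Set.mem_univ _
    rw [Module.support_eq_zeroLocus] at this
    exact this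
  rw [CAlgH3.ringKrullDim_quotient_eq_of_mem_associatedPrimes hcm hass, Module.supportDim, hsupp']
  exact Order.krullDim_eq_of_orderIso OrderIso.Set.univ

end completion

end Groth.Agent.CommAlg6
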