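import Groth.Agent.FlatCrit.Tor
import Groth.Agent.Matlis6.CompletionNoetherian
import Groth.Prelude.Def_FSch3
import Mathlib.RingTheory.AdicCompletion.AsTensorProduct
import Mathlib.RingTheory.AdicCompletion.Completeness
import Mathlib.RingTheory.AdicCompletion.LocalRing
import Mathlib.RingTheory.RingHom.Flat
import Groth.Agent.FSchLib.Completion
import Groth.Agent.CommAlg6.CompletionEquidim

/-! The map of completions of a local homomorphism. -/

universe u

open TensorProduct IsLocalRing

namespace Groth.Agent.CommAlg6

open FSchLib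

variable {R : Type u} [CommRing R] (I : Ideal R)
variable {T : Type u} [CommRing T] (K : Ideal T) (g : R →+* T)

/-- The completion of a flat map is flat (helper21's proof, for `IT ≤ K`). -/
theorem flat_complMap_of_le [IsNoetherianRing R] [IsNoetherianRing T] (hg : g.Flat) (hK : I.map g ≤ K) :
    (FSch.complMap I K g hK).Flat := by
  let R' := AdicCompletion I R
  let T' := AdicCompletion K T
  have hI : I.FG := IsNoetherian.noetherian I
  have hKfg : K.FG := IsNoetherian.noetherian K
  letI : Algebra R T := g.toAlgebra
  haveI : Module.Flat R T := hg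
  letI : Algebra R' T' := (FSch.complMap I K g hK).toAlgebra
  haveI : IsScalarTower R T T' := .of_algebraMap_eq fun r => by
    rw [AdicCompletion.algebraMap_apply, AdicCompletion.algebraMap_apply]
    rfl
  haveI : IsScalarTower R R' T' := .of_algebraMap_eq fun r => by
    rw [IsScalarTower.algebraMap_apply R T T']
    exact (complMap_algebraMap I K g hK r).symm
  haveI : Module.Flat R T' := Module.Flat.trans R T T'
  haveI : IsNoetherianRing R' := Matlis6.isNoetherianRing_adicCompletion I
  haveI : IsNoetherianRing T' := Matlis6.isNoetherianRing_adicCompletion K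
  refine FlatCrit.flat_of_quotFlat_pow (R := R') (S := T') (M := T') (I.map (algebraMap R R'))
    ?_ fun n => ?_
  · rw [Ideal.map_map, ← IsScalarTower.algebraMap_eq, IsScalarTower.algebraMap_eq R T T',
      ← Ideal.map_map]
    exact (Ideal.map_mono hK).trans (map_le_jacobson K hKfg)
  intro A B _ _ _ _ i hB hi
  letI : Module R A := Module.compHom A (algebraMap R R')
  letI : Module R B := Module.compHom B (algebraMap R R')
  haveI : IsScalarTower R R' A := .of_algebraMap_smul fun _ _ => rfl
  haveI : IsScalarTower R R' B := .of_algebraMap_smul fun _ _ => rfl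
  have hker : ∀ (C : Type u) [AddCommGroup C] [Module R' C] [Module R C] [IsScalarTower R R' C],
      (∀ r ∈ (I.map (algebraMap R R')) ^ n, ∀ c : C, r • c = 0) →
        CompatibleSMul R R' C T' := by
    intro C _ _ _ _ hC
    refine ⟨fun r' c m => ?_⟩
    obtain ⟨r, hr⟩ := Ideal.Quotient.mk_surjective (AdicCompletion.evalₐ I n r')
    set ε := r' - algebraMap R R' r with hε
    have hεmem : ε ∈ (I ^ n).map (algebraMap R R') := by
      rw [Ideal.map_pow, ← ker_evalₐ I hI n, RingHom.mem_ker]
      change AdicCompletion.evalₐ I n ε = 0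
      rw [hε, map_sub, evalₐ_algebraMap, hr, sub_self]
    have hr' : r' = algebraMap R R' r + ε := by rw [hε, add_sub_cancel]
    have hεc : ∀ c : C, ε • c = 0 := hC ε (by rwa [← Ideal.map_pow])
    have hεm : ∀ (c : C) (m : T'), c ⊗ₜ[R] (ε • m) = 0 := by
      intro c m
      refine Submodule.span_induction (p := fun e _ => ∀ m : T', c ⊗ₜ[R] (e • m) = 0) ?_
        (fun m => by simp) (fun _ _ _ _ h1 h2 m => by rw [add_smul, tmul_add, h1, h2, add_zero])
        (fun a e _ h1 m => by rw [smul_eq_mul, mul_comm, mul_smul, h1]) hεmem m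
      rintro _ ⟨x, hx, rfl⟩ m
      rw [algebraMap_smul, ← smul_tmul, ← algebraMap_smul R' x c,
        hC _ (by rw [← Ideal.map_pow]; exact Ideal.mem_map_of_mem _ hx) c, zero_tmul]
    rw [hr', add_smul, add_smul, tmul_add, add_tmul, hεc, zero_tmul, hεm, algebraMap_smul,
      algebraMap_smul, smul_tmul]
  haveI := hker A (fun r hr a => hi (by rw [map_smul, map_zero, hB r hr]))
  haveI := hker B hB
  let eA := TensorProduct.equivOfCompatibleSMul R R' R A T'
  let eB := TensorProduct.equivOfCompatibleSMul R R' R B T'
  have hflat : Function.Injective ((i.restrictScalars R).rTensor T') :=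
    Module.Flat.rTensor_preserves_injective_linearMap _ hi
  have hcomm : ∀ x, eB.symm ((i.restrictScalars R).rTensor T' (eA x)) = i.rTensor T' x := by
    intro x
    induction x using TensorProduct.induction_on with
    | zero => simp
    | tmul a t => rfl
    | add x y hx hy => simp [hx, hy]
  intro x y hxy
  rw [← hcomm, ← hcomm] at hxy
  exact eA.injective (hflat (eB.symm.injective hxy))

/-- A flat local homomorphism induces a faithfully flat map of completions. -/
theorem exists_algebra_completion (A B : Type u) [CommRing A] [CommRing B] [IsNoetherianRing A]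
    [IsNoetherianRing B] [IsLocalRing A] [IsLocalRing B] [Algebra A B]
    [IsLocalHom (algebraMap A B)] [Module.Flat A B] :
    ∃ _ : Algebra (EGA4.Cpl A) (EGA4.Cpl B),
      IsScalarTower A (EGA4.Cpl A) (EGA4.Cpl B) ∧
        Module.FaithfullyFlat (EGA4.Cpl A) (EGA4.Cpl B) := by
  have hle : (maximalIdeal A).map (algebraMap A B) ≤ maximalIdeal B :=
    IsLocalRing.map_maximalIdeal_le (algebraMap A B)
  letI : Algebra (EGA4.Cpl A) (EGA4.Cpl B) :=
    (FSch.complMap (maximalIdeal A) (maximalIdeal B) (algebraMap A B) hle).toAlgebra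
  haveI : Module.Flat (EGA4.Cpl A) (EGA4.Cpl B) :=
    flat_complMap_of_le (maximalIdeal A) (maximalIdeal B) (algebraMap A B)
      (RingHom.flat_algebraMap_iff.2 inferInstance) hle
  haveI hT : IsScalarTower A (EGA4.Cpl A) (EGA4.Cpl B) := .of_algebraMap_eq fun a => by
    rw [IsScalarTower.algebraMap_apply A B (EGA4.Cpl B)]
    exact (complMap_algebraMap (maximalIdeal A) (maximalIdeal B) (algebraMap A B) hle a).symm
  haveI : IsLocalHom (algebraMap (EGA4.Cpl A) (EGA4.Cpl B)) :=
    ((local_hom_TFAE _).out 0 2 rfl rfl).2 (by
      rw [AdicCompletion.maximalIdeal_eq_map, Ideal.map_map, ← IsScalarTower.algebraMap_eq,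
        IsScalarTower.algebraMap_eq A B (EGA4.Cpl B), ← Ideal.map_map,
        AdicCompletion.maximalIdeal_eq_map]
      exact Ideal.map_mono hle)
  exact ⟨inferInstance, hT, Module.FaithfullyFlat.of_flat_of_isLocalHom⟩

end Groth.Agent.CommAlg6
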