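import Groth.Prelude.Def_CAlg
import Mathlib.RingTheory.Ideal.AssociatedPrime.Localization
import Mathlib.RingTheory.Ideal.AssociatedPrime.Finiteness
import Mathlib.RingTheory.Regular.RegularSequence
import Mathlib.RingTheory.Nakayama

/-! Depth at least one and associated primes. -/

universe u v

open RingTheory.Sequence IsLocalRing

namespace Groth.Agent.CommAlg6

variable {R : Type u} [CommRing R] [IsNoetherianRing R]

/-- Depth is at least one iff the maximal ideal is not associated. -/
theorem one_le_depth_iff [IsLocalRing R] (M : Type v) [AddCommGroup M] [Module R M] [Module.Finite R M] :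
    (1 : ℕ∞) ≤ LocCoh.depth R M ↔ maximalIdeal R ∉ associatedPrimes R M := by
  rw [LocCoh.depth, LocCoh.idealDepth]
  by_cases h : maximalIdeal R • (⊤ : Submodule R M) = ⊤
  · rw [if_pos h]
    have hsub : (⊤ : Submodule R M) = ⊥ := Submodule.eq_bot_of_le_smul_of_le_jacobson_bot
      (maximalIdeal R) _ Module.Finite.fg_top h.ge (jacobson_eq_maximalIdeal ⊥ bot_ne_top).ge
    haveI : Subsingleton M := (Submodule.subsingleton_iff R).mp (subsingleton_of_bot_eq_top hsub.symm)
    simp [associatedPrimes.eq_empty_of_subsingleton]
  · rw [if_neg h]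
    constructor
    · intro hd hass
      obtain ⟨-, x, hx⟩ := (isAssociatedPrime_iff (R := R)).mp hass
      have hd' : (0 : ℕ∞) < ⨆ (rs : List R) (_ : IsWeaklyRegular M rs ∧ ∀ r ∈ rs, r ∈ maximalIdeal R),
          (rs.length : ℕ∞) := lt_of_lt_of_le (by simp) hd
      simp only [lt_iSup_iff] at hd'
      obtain ⟨rs, ⟨hw, hm⟩, hlt⟩ := hd'
      cases rs with
      | nil => simp at hlt
      | cons r rs =>
        have hr := ((isWeaklyRegular_cons_iff M r rs).mp hw).1
        have hrm : r ∈ maximalIdeal R := hm r (List.mem_cons_self)
        rw [hx, Submodule.mem_colon_singleton, Submodule.mem_bot] at hrm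
        have hx0 : x = 0 := hr (by simpa using hrm)
        exact (maximalIdeal.isMaximal R).ne_top (hx.trans (eq_top_iff.mpr fun a _ => by
          simp [Submodule.mem_colon_singleton, hx0]))
    · intro hass
      obtain ⟨r, hrm, hr⟩ : ∃ r ∈ maximalIdeal R, IsSMulRegular M r := by
        by_contra hcon
        have hsub : (maximalIdeal R : Set R) ⊆ ⋃ p ∈ associatedPrimes R M, (p : Set R) := by
          rw [biUnion_associatedPrimes_eq_compl_regular R M]
          exact fun r hr hreg => hcon ⟨r, hr, hreg⟩
        rcases (associatedPrimes R M).eq_empty_or_nonempty with he | ⟨p₀, hp₀⟩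
        · simpa [he] using hsub (maximalIdeal R).zero_mem
        · obtain ⟨p, hp, hle⟩ := (Ideal.subset_union_prime_finite (associatedPrimes.finite R M) p₀ p₀
            fun q hq _ _ => IsAssociatedPrime.isPrime hq).1 hsub
          exact hass ((maximalIdeal.isMaximal R).eq_of_le hp.isPrime.ne_top hle ▸ hp)
      refine le_iSup₂_of_le [r] ⟨(isWeaklyRegular_singleton_iff M r).mpr hr, by simpa using hrm⟩ ?_
      simp

/-- Depth at least one at `p` iff `p` is not associated. -/
theorem one_le_depth_localized_iff {M : Type u} [AddCommGroup M] [Module R M] [Module.Finite R M]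
    (p : Ideal R) [p.IsPrime] :
    (1 : ℕ∞) ≤ LocCoh.depth (Localization.AtPrime p) (LocalizedModule p.primeCompl M) ↔
      p ∉ associatedPrimes R M := by
  rw [one_le_depth_iff, ← Module.associatedPrimes.preimage_comap_associatedPrimes_eq_associatedPrimes_of_isLocalizedModule
    p.primeCompl (Localization.AtPrime p) (f := LocalizedModule.mkLinearMap p.primeCompl M), Set.mem_preimage,
    show Ideal.comap (algebraMap R (Localization.AtPrime p)) (maximalIdeal (Localization.AtPrime p)) = p
      from IsLocalization.AtPrime.under_maximalIdeal (Localization.AtPrime p) p]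

end Groth.Agent.CommAlg6
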