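import Mathlib.RingTheory.KrullDimension.Module
import Mathlib.RingTheory.Ideal.Quotient.Operations
import Mathlib.RingTheory.Finiteness.Basic

/-! Support dimension along a surjective ring map. -/

universe u v w

namespace Groth.Agent.CommAlg6

theorem supportDim_of_surjective {R : Type u} {S : Type v} [CommRing R] [CommRing S] [Algebra R S]
    (hf : Function.Surjective (algebraMap R S)) (M : Type w) [AddCommGroup M] [Module R M]
    [Module S M] [IsScalarTower R S M] [Module.Finite S M] :
    Module.supportDim S M = Module.supportDim R M := by
  haveI : Module.Finite R S := Module.Finite.of_surjective (Algebra.linearMap R S) hf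
  haveI : Module.Finite R M := Module.Finite.trans S M
  rw [Module.supportDim_eq_ringKrullDim_quotient_annihilator,
    Module.supportDim_eq_ringKrullDim_quotient_annihilator]
  let g : R →+* S ⧸ Module.annihilator S M :=
    (Ideal.Quotient.mk (Module.annihilator S M)).comp (algebraMap R S)
  have hg : Function.Surjective g := Ideal.Quotient.mk_surjective.comp hf
  have hk : RingHom.ker g = Module.annihilator R M := by
    ext x
    rw [RingHom.mem_ker, RingHom.comp_apply, Ideal.Quotient.eq_zero_iff_mem, Module.mem_annihilator,
      Module.mem_annihilator]
    simp only [algebraMap_smul]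
  exact (ringKrullDim_eq_of_ringEquiv
    ((Ideal.quotEquivOfEq hk.symm).trans (RingHom.quotientKerEquivOfSurjective hg))).symm

end Groth.Agent.CommAlg6
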