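import Groth.Agent.CommAlg6.FlatLocalModule
import Groth.Agent.CommAlg6.SupportDimSurj
import Groth.Agent.CommAlg6.RegularLocus
import Groth.Agent.CAlgH3.Serre
import Groth.Agent.CAlgH3.FibreRegular
import Groth.Agent.CAlgH3.RegularHom
import Mathlib.RingTheory.LocalRing.ResidueField.Fiber
import Mathlib.RingTheory.Flat.Localization

/-! Local rings of fibres of a flat homomorphism: dimension, depth, `(R_k)`, `(S_k)`. -/

universe u

open IsLocalRing TensorProduct

namespace Groth.Agent.CommAlg6

section localFormula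

variable {A B : Type u} [CommRing A] [CommRing B] [IsLocalRing A] [IsLocalRing B]
variable [IsNoetherianRing A] [IsNoetherianRing B] [Algebra A B] [IsLocalHom (algebraMap A B)]
variable [Module.Flat A B]

theorem depth_quotient_map_eq (I : Ideal A) [IsLocalRing (A ⧸ I)]
    [IsLocalRing (B ⧸ I.map (algebraMap A B))]
    [IsLocalRing (B ⧸ (maximalIdeal A).map (algebraMap A B))] :
    _root_.LocCoh.depth (B ⧸ I.map (algebraMap A B)) (B ⧸ I.map (algebraMap A B)) =
      _root_.LocCoh.depth (A ⧸ I) (A ⧸ I) +
        _root_.LocCoh.depth (B ⧸ (maximalIdeal A).map (algebraMap A B))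
          (B ⧸ (maximalIdeal A).map (algebraMap A B)) := by
  obtain ⟨e⟩ := nonempty_tensor_quotient_equiv (B := B) (N := B) I
  have e' := e.trans (Submodule.quotEquivOfEq _ (I.map (algebraMap A B))
    (by rw [smul_eq_mul, Ideal.mul_top]))
  rw [CAlgH3.depth_quotient_ring, CAlgH3.depth_quotient_ring, CAlgH3.depth_quotient_ring,
    ← CAlgH3.depth_congr e', depth_tensor_eq B (A ⧸ I),
    CAlgH3.depth_congr (Submodule.quotEquivOfEq ((maximalIdeal A).map (algebraMap A B) •
      (⊤ : Submodule B B)) ((maximalIdeal A).map (algebraMap A B))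
      (by rw [smul_eq_mul, Ideal.mul_top]))]

theorem ringKrullDim_quotient_map_add_eq (I : Ideal A) [Nontrivial (A ⧸ I)] :
    ringKrullDim (B ⧸ I.map (algebraMap A B)) =
      ringKrullDim (A ⧸ I) + ringKrullDim (B ⧸ (maximalIdeal A).map (algebraMap A B)) := by
  obtain ⟨e⟩ := nonempty_tensor_quotient_equiv (B := B) (N := B) I
  have e' := e.trans (Submodule.quotEquivOfEq _ (I.map (algebraMap A B))
    (by rw [smul_eq_mul, Ideal.mul_top]))
  rw [← Module.supportDim_quotient_eq_ringKrullDim, ← Module.supportDim_quotient_eq_ringKrullDim,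
    ← Module.supportDim_quotient_eq_ringKrullDim, ← Module.supportDim_eq_of_equiv e',
    supportDim_tensor_eq B (A ⧸ I),
    Module.supportDim_eq_of_equiv (Submodule.quotEquivOfEq ((maximalIdeal A).map (algebraMap A B) •
      (⊤ : Submodule B B)) ((maximalIdeal A).map (algebraMap A B))
      (by rw [smul_eq_mul, Ideal.mul_top]))]

theorem depth_eq_add_fibre [IsLocalRing (B ⧸ (maximalIdeal A).map (algebraMap A B))] :
    _root_.LocCoh.depth B B = _root_.LocCoh.depth A A +
      _root_.LocCoh.depth (B ⧸ (maximalIdeal A).map (algebraMap A B))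
        (B ⧸ (maximalIdeal A).map (algebraMap A B)) := by
  rw [CAlgH3.depth_quotient_ring, ← CAlgH3.depth_congr (AlgebraTensorModule.rid A B B),
    depth_tensor_eq B A,
    CAlgH3.depth_congr (Submodule.quotEquivOfEq ((maximalIdeal A).map (algebraMap A B) •
      (⊤ : Submodule B B)) ((maximalIdeal A).map (algebraMap A B))
      (by rw [smul_eq_mul, Ideal.mul_top]))]

theorem ringKrullDim_eq_add_fibre :
    ringKrullDim B = ringKrullDim A + ringKrullDim (B ⧸ (maximalIdeal A).map (algebraMap A B)) := by
  rw [← Module.supportDim_self_eq_ringKrullDim, ← Module.supportDim_self_eq_ringKrullDim,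
    ← Module.supportDim_quotient_eq_ringKrullDim,
    ← Module.supportDim_eq_of_equiv (AlgebraTensorModule.rid A B B), supportDim_tensor_eq B A,
    Module.supportDim_eq_of_equiv (Submodule.quotEquivOfEq ((maximalIdeal A).map (algebraMap A B) •
      (⊤ : Submodule B B)) ((maximalIdeal A).map (algebraMap A B))
      (by rw [smul_eq_mul, Ideal.mul_top]))]

/-- Regular base and regular closed fibre give a regular ring. -/
theorem isRegularLocalRing_of_fibre [IsRegularLocalRing A]
    (h : IsRegularLocalRing (B ⧸ (maximalIdeal A).map (algebraMap A B))) :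
    IsRegularLocalRing B := by
  haveI := h
  apply IsRegularLocalRing.of_spanFinrank_maximalIdeal_le
  rw [CAlgH3.spanFinrank_maximalIdeal_eq_add_fibre
      (maximalIdeal (B ⧸ (maximalIdeal A).map (algebraMap A B))).spanFinrank B h (fun _ => rfl),
    ringKrullDim_eq_add_fibre (A := A) (B := B),
    ← IsRegularLocalRing.spanFinrank_maximalIdeal (R := A),
    ← IsRegularLocalRing.spanFinrank_maximalIdeal (R := B ⧸ (maximalIdeal A).map (algebraMap A B)),
    Nat.cast_add, add_comm]

end localFormula

section fibre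

variable {A B : Type u} [CommRing A] [CommRing B] [Algebra A B]

theorem isLocalRing_fibLocRing (q : Ideal B) [q.IsPrime] : IsLocalRing (EGA4.FibLocRing A B q) := by
  haveI : Nontrivial (EGA4.FibLocRing A B q) := by
    refine Ideal.Quotient.nontrivial_iff.2 fun h => ?_
    refine (maximalIdeal.isMaximal (Localization.AtPrime q)).ne_top (top_le_iff.1 (h ▸ ?_))
    rw [Ideal.map_le_iff_le_comap, IsScalarTower.algebraMap_eq A B (Localization.AtPrime q),
      ← Ideal.comap_comap]
    exact Ideal.comap_mono (IsLocalization.AtPrime.comap_maximalIdeal (Localization.AtPrime q) q).ge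
  exact .of_surjective' _ Ideal.Quotient.mk_surjective

attribute [local instance] isLocalRing_fibLocRing

variable [IsNoetherianRing A] [IsNoetherianRing B] [Module.Flat A B]

/-- Dimension, depth and regularity of `B_q` in terms of `A_p` and the fibre local ring. -/
theorem local_fibre (q : Ideal B) [q.IsPrime] :
    ringKrullDim (Localization.AtPrime q) =
        ringKrullDim (Localization.AtPrime (q.comap (algebraMap A B))) +
          ringKrullDim (EGA4.FibLocRing A B q) ∧
      _root_.LocCoh.depth (Localization.AtPrime q) (Localization.AtPrime q) =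
        _root_.LocCoh.depth (Localization.AtPrime (q.comap (algebraMap A B)))
            (Localization.AtPrime (q.comap (algebraMap A B))) +
          _root_.LocCoh.depth (EGA4.FibLocRing A B q) (EGA4.FibLocRing A B q) ∧
      (IsRegularLocalRing (Localization.AtPrime q) →
        IsRegularLocalRing (Localization.AtPrime (q.comap (algebraMap A B)))) ∧
      (IsRegularLocalRing (Localization.AtPrime (q.comap (algebraMap A B))) →
        IsRegularLocalRing (EGA4.FibLocRing A B q) →
        IsRegularLocalRing (Localization.AtPrime q)) := by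
  let p := q.comap (algebraMap A B)
  haveI : q.LiesOver p := ⟨rfl⟩
  letI := Localization.AtPrime.algebraOfLiesOver p q
  let Ap := Localization.AtPrime p
  let Bq := Localization.AtPrime q
  haveI : IsLocalHom (algebraMap Ap Bq) :=
    Localization.isLocalHom_localRingHom p q (algebraMap A B) Ideal.LiesOver.over
  haveI : Module.Flat Ap Bq := inferInstance
  have hmap : (maximalIdeal Ap).map (algebraMap Ap Bq) =
      p.map (algebraMap A Bq) := by
    rw [← Localization.AtPrime.map_eq_maximalIdeal, Ideal.map_map, ← IsScalarTower.algebraMap_eq]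
  let e : (Bq ⧸ (maximalIdeal Ap).map (algebraMap Ap Bq)) ≃+* EGA4.FibLocRing A B q :=
    Ideal.quotEquivOfEq hmap
  haveI : IsLocalRing (Bq ⧸ (maximalIdeal Ap).map (algebraMap Ap Bq)) := e.symm.isLocalRing
  refine ⟨?_, ?_, fun h => ?_, fun h h' => ?_⟩
  · rw [ringKrullDim_eq_add_fibre (A := Ap) (B := Bq), ringKrullDim_eq_of_ringEquiv e]
  · rw [depth_eq_add_fibre (A := Ap) (B := Bq), CAlgH3.depth_ringEquiv e]
  · haveI := h
    exact CAlgH3.isRegularLocalRing_of_flat Bq
  · haveI := h
    haveI := h'
    exact isRegularLocalRing_of_fibre (A := Ap) (B := Bq) (IsRegularLocalRing.of_ringEquiv e.symm)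

omit [IsNoetherianRing A] [IsNoetherianRing B] [Module.Flat A B] in
/-- The local ring of a fibre at a prime is the fibre local ring. -/
theorem fiber_localization_equiv (p : Ideal A) [p.IsPrime] (Q : Ideal (p.Fiber B)) [Q.IsPrime] :
    (Q.comap (Algebra.TensorProduct.includeRight : B →ₐ[A] p.Fiber B)).comap (algebraMap A B) = p ∧
    Nonempty (Localization.AtPrime Q ≃+* EGA4.FibLocRing A B
      (Q.comap (Algebra.TensorProduct.includeRight : B →ₐ[A] p.Fiber B))) := by
  have hp : (Q.comap (Algebra.TensorProduct.includeRight : B →ₐ[A] p.Fiber B)).comap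
      (algebraMap A B) = p := by
    refine Eq.trans ?_ (Ideal.over_def Q p).symm
    ext a
    simp [Ideal.mem_comap, Ideal.under_def]
  refine ⟨hp, ⟨(Ideal.Fiber.algEquivAux₂ p Q).toRingEquiv.trans (Ideal.quotEquivOfEq ?_)⟩⟩
  rw [hp, Ideal.map_map, ← IsScalarTower.algebraMap_eq]

omit [IsNoetherianRing A] [IsNoetherianRing B] [Module.Flat A B] in
theorem fibLocRing_congr (r q : Ideal B) [r.IsPrime] [q.IsPrime] (h : r = q) :
    Nonempty (EGA4.FibLocRing A B r ≃+* EGA4.FibLocRing A B q) := by
  subst h
  exact ⟨RingEquiv.refl _⟩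

omit [IsNoetherianRing A] [IsNoetherianRing B] [Module.Flat A B] in
theorem exists_fiber_prime (q : Ideal B) [q.IsPrime] :
    ∃ (Q : Ideal ((q.comap (algebraMap A B)).Fiber B)) (_ : Q.IsPrime),
      Nonempty (Localization.AtPrime Q ≃+* EGA4.FibLocRing A B q) := by
  let p : PrimeSpectrum A := ⟨q.comap (algebraMap A B), inferInstance⟩
  let x : PrimeSpectrum.comap (algebraMap A B) ⁻¹' {p} := ⟨⟨q, inferInstance⟩, rfl⟩
  let Q := PrimeSpectrum.preimageEquivFiber A B p x
  have hq : Q.asIdeal.comap (Algebra.TensorProduct.includeRight : B →ₐ[A] p.asIdeal.Fiber B) = q := by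
    have := congrArg (fun y => y.1.asIdeal) ((PrimeSpectrum.preimageEquivFiber A B p).symm_apply_apply x)
    exact this
  obtain ⟨-, ⟨e⟩⟩ := fiber_localization_equiv p.asIdeal Q.asIdeal
  obtain ⟨e'⟩ := fibLocRing_congr (A := A) _ _ hq
  exact ⟨Q.asIdeal, Q.2, ⟨e.trans e'⟩⟩

omit [IsNoetherianRing A] [Module.Flat A B] in
/-- `(S_n)` of all fibres in terms of the fibre local rings. -/
theorem forall_hasSk_fiber_iff (n : ℕ) :
    (∀ (p : Ideal A) [p.IsPrime], _root_.LocCoh.HasSk n (p.Fiber B) (p.Fiber B)) ↔
      ∀ (q : Ideal B) [q.IsPrime], min (n : WithBot ℕ∞) (ringKrullDim (EGA4.FibLocRing A B q)) ≤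
        ((_root_.LocCoh.depth (EGA4.FibLocRing A B q) (EGA4.FibLocRing A B q) : ℕ∞) :
          WithBot ℕ∞) := by
  constructor
  · intro h q _
    obtain ⟨Q, hQ, ⟨e⟩⟩ := exists_fiber_prime (A := A) q
    have := (CAlgH3.hasSk_self_iff n).1 (h (q.comap (algebraMap A B))) Q
    rwa [ringKrullDim_eq_of_ringEquiv e, CAlgH3.depth_ringEquiv e] at this
  · intro h p _
    rw [CAlgH3.hasSk_self_iff]
    intro Q _
    obtain ⟨-, ⟨e⟩⟩ := fiber_localization_equiv p Q
    rw [ringKrullDim_eq_of_ringEquiv e, CAlgH3.depth_ringEquiv e]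
    exact h _

end fibre

end Groth.Agent.CommAlg6
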