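import Groth.Agent.CommAlg6.CompletedKaehler
import Groth.Agent.CAlgH.CompleteLocal
import Groth.Agent.CAlgH.NagataComplete
import Groth.Agent.DimLib.Algebra
import Mathlib.RingTheory.Derivation.MapCoeffs
import Mathlib.RingTheory.Etale.Kaehler
import Mathlib.FieldTheory.IntermediateField.Adjoin.Basic

/-! The number of generators of the completed differentials bounds the dimension. -/

set_option autoImplicit false
set_option linter.style.haveILetI false

universe u

open IsLocalRing TensorProduct Polynomial

namespace Groth.Agent.CommAlg6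

/-- Derivations extend to fraction fields. -/
theorem exists_derivation_fractionRing {k R L W : Type u} [CommRing k] [CommRing R] [IsDomain R] [Algebra k R]
    [Field L] [Algebra R L] [IsFractionRing R L] [Algebra k L] [IsScalarTower k R L] [AddCommGroup W] [Module L W]
    [Module R W] [Module k W] [IsScalarTower R L W] [IsScalarTower k L W] [IsScalarTower k R W]
    (δ : Derivation k R W) : ∃ δ' : Derivation k L W, ∀ r, δ' (algebraMap R L r) = δ r := by
  have hu : ∀ x : nonZeroDivisors R, IsUnit (algebraMap R (Module.End R W) x) := fun x => by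
    rw [Module.End.isUnit_iff]
    have hx : algebraMap R L x ≠ 0 := IsFractionRing.to_map_ne_zero_of_mem_nonZeroDivisors x.2
    have heq : ∀ w : W, algebraMap R (Module.End R W) x w = algebraMap R L x • w := fun w => by
      rw [Module.algebraMap_end_apply, algebraMap_smul]
    refine ⟨fun a b hab => ?_, fun w => ⟨(algebraMap R L x)⁻¹ • w, by rw [heq, smul_inv_smul₀ hx]⟩⟩
    rw [heq, heq] at hab
    exact smul_right_injective W hx hab
  let f := KaehlerDifferential.map k k R L
  let g : KaehlerDifferential k L →ₗ[R] W := IsLocalizedModule.lift (nonZeroDivisors R) f δ.liftKaehlerDifferential hu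
  let g' : KaehlerDifferential k L →ₗ[L] W := g.extendScalarsOfIsLocalization (nonZeroDivisors R) L
  refine ⟨g'.compDer (KaehlerDifferential.D k L), fun r => ?_⟩
  show g (KaehlerDifferential.D k L (algebraMap R L r)) = δ r
  rw [← KaehlerDifferential.map_D k k R L r, IsLocalizedModule.lift_apply, Derivation.liftKaehlerDifferential_comp_D]

/-- One step of extending derivations along a finite field extension. -/
theorem exists_derivation_simple {k K E : Type u} [Field k] [Field K] [Field E] [Algebra k K] [Algebra K E]
    [Algebra k E] [IsScalarTower k K E] [FiniteDimensional K E] (x : E) (hx : Algebra.adjoin K {x} = ⊤)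
    {m : ℕ} (d : Derivation k K (Fin m → K)) (hd : Submodule.span K (Set.range d) = ⊤) :
    ∃ (m' : ℕ) (d' : Derivation k E (Fin m' → E)) (w : Fin m → Fin m' → E), m ≤ m' ∧
      Submodule.span E (Set.range d') = ⊤ ∧ ∀ a, d' (algebraMap K E a) = ∑ j, algebraMap K E (d a j) • w j := by
  classical
  let dj : Fin m → Derivation k K[X] K[X] := fun j =>
    PolynomialModule.equivPolynomialSelf.compDer ((LinearMap.proj j).compDer d).mapCoeffs
  let D : K[X] → (Fin m → E) × E := fun g => (fun j => aeval x (dj j g), aeval x (derivative g))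
  have Dadd : ∀ g h, D (g + h) = D g + D h := fun g h => Prod.ext
    (funext fun j => show aeval x (dj j (g + h)) = aeval x (dj j g) + aeval x (dj j h) by rw [map_add, map_add])
    (show aeval x (derivative (g + h)) = aeval x (derivative g) + aeval x (derivative h) by rw [map_add, map_add])
  have Dsub : ∀ g h, D (g - h) = D g - D h := fun g h =>
    eq_sub_of_add_eq (by rw [← Dadd, sub_add_cancel])
  have Dmul : ∀ g h, D (g * h) = aeval x g • D h + aeval x h • D g := fun g h => Prod.ext
    (funext fun j => show aeval x (dj j (g * h)) = aeval x g * aeval x (dj j h) + aeval x h * aeval x (dj j g) by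
      rw [Derivation.leibniz, map_add, smul_eq_mul, smul_eq_mul, map_mul, map_mul])
    (show aeval x (derivative (g * h)) = aeval x g * aeval x (derivative h) + aeval x h * aeval x (derivative g) by
      rw [derivative_mul, map_add, map_mul, map_mul]; ring)
  have Dalg : ∀ c : k, D (C (algebraMap k K c)) = 0 := fun c => Prod.ext
    (funext fun j => show aeval x (dj j (C (algebraMap k K c))) = 0 by
      rw [show (C (algebraMap k K c) : K[X]) = algebraMap k K[X] c from rfl, Derivation.map_algebraMap, map_zero])
    (show aeval x (derivative (C (algebraMap k K c))) = 0 by rw [derivative_C, map_zero])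
  have hsurj : Function.Surjective (aeval x : K[X] → E) := fun e => by
    have he : e ∈ Algebra.adjoin K {x} := hx ▸ Algebra.mem_top
    rwa [Algebra.adjoin_singleton_eq_range_aeval] at he
  let f := minpoly K x
  let W := ((Fin m → E) × E) ⧸ Submodule.span E {D f}
  let q : ((Fin m → E) × E) →ₗ[E] W := Submodule.mkQ _
  have hwd : ∀ g h, aeval x g = aeval x h → q (D g) = q (D h) := fun g h hgh => by
    obtain ⟨c, hc⟩ : f ∣ g - h := minpoly.dvd K x (by rw [map_sub, hgh, sub_self])
    rw [← sub_eq_zero, ← map_sub, ← Dsub, hc, mul_comm, Dmul, minpoly.aeval, zero_smul, add_zero, map_smul]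
    rw [show q (D f) = 0 from (Submodule.Quotient.mk_eq_zero _).2 (Submodule.mem_span_singleton_self _), smul_zero]
  let m' := Module.finrank E W
  let e : W ≃ₗ[E] Fin m' → E := (Module.finBasis E W).equivFun
  let sec : E → K[X] := Function.surjInv hsurj
  have hsec : ∀ a, aeval x (sec a) = a := Function.surjInv_eq hsurj
  let δ₀ : E → Fin m' → E := fun a => e (q (D (sec a)))
  have hδ₀ : ∀ g, δ₀ (aeval x g) = e (q (D g)) := fun g => congrArg e (hwd _ _ (hsec _))
  have hadd : ∀ a b, δ₀ (a + b) = δ₀ a + δ₀ b := fun a b => by
    have h := hδ₀ (sec a + sec b)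
    rw [map_add, hsec, hsec, Dadd, map_add, map_add] at h
    exact h
  have hmul : ∀ a b, δ₀ (a * b) = a • δ₀ b + b • δ₀ a := fun a b => by
    have h := hδ₀ (sec a * sec b)
    rw [map_mul, hsec, hsec, Dmul, hsec, hsec, map_add, map_add, map_smul, map_smul, map_smul, map_smul] at h
    exact h
  have halg : ∀ c : k, δ₀ (algebraMap k E c) = 0 := fun c => by
    rw [IsScalarTower.algebraMap_apply k K E, ← aeval_C (R := K) (A := E) x, hδ₀, Dalg, map_zero, map_zero]
  let δ : Derivation k E (Fin m' → E) := Derivation.mk'
    { toFun := δ₀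
      map_add' := hadd
      map_smul' := fun c a => by
        rw [RingHom.id_apply, Algebra.smul_def, hmul, halg, smul_zero, add_zero, ← algebraMap_smul E c (δ₀ a)] }
    hmul
  refine ⟨m', δ, fun j => e (q (Pi.single j 1, 0)), ?_, ?_, fun a => ?_⟩
  · have h2 := Submodule.finrank_quotient_add_finrank (Submodule.span E {D f})
    rw [Module.finrank_prod, Module.finrank_fin_fun, Module.finrank_self] at h2
    have h3 : Module.finrank E (Submodule.span E {D f}) ≤ 1 := by
      refine (finrank_span_le_card (R := E) ({D f} : Set _)).trans ?_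
      simp
    show m ≤ Module.finrank E (((Fin m → E) × E) ⧸ Submodule.span E {D f})
    omega
  · let P : Submodule E (Fin m' → E) := Submodule.span E (Set.range δ)
    have hX : ((0 : Fin m → E), (1 : E)) ∈ P.comap (e.toLinearMap ∘ₗ q) := by
      have h : δ x = e (q (D X)) := by
        show δ₀ x = _
        rw [← hδ₀, aeval_X]
      have hDX : D X = ((0 : Fin m → E), (1 : E)) := Prod.ext
        (funext fun j => show aeval x (dj j X) = 0 by
          simp [dj])
        (show aeval x (derivative X) = 1 by rw [derivative_X, map_one])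
      show e (q ((0 : Fin m → E), (1 : E))) ∈ P
      rw [← hDX, ← h]
      exact Submodule.subset_span ⟨x, rfl⟩
    have hC : ∀ a : K, ((fun j => algebraMap K E (d a j)), (0 : E)) ∈ P.comap (e.toLinearMap ∘ₗ q) := fun a => by
      have h : δ (algebraMap K E a) = e (q (D (C a))) := by
        show δ₀ _ = _
        rw [← hδ₀, aeval_C]
      have hDC : D (C a) = ((fun j => algebraMap K E (d a j)), (0 : E)) := Prod.ext
        (funext fun j => show aeval x (dj j (C a)) = algebraMap K E (d a j) by
          simp [dj, PolynomialModule.equivPolynomialSelf])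
        (show aeval x (derivative (C a)) = 0 by rw [derivative_C, map_zero])
      show e (q ((fun j => algebraMap K E (d a j)), (0 : E))) ∈ P
      rw [← hDC, ← h]
      exact Submodule.subset_span ⟨_, rfl⟩
    have hall : ∀ v : Fin m → K, ((fun j => algebraMap K E (v j)), (0 : E)) ∈ P.comap (e.toLinearMap ∘ₗ q) := fun v => by
      have hv : v ∈ Submodule.span K (Set.range d) := hd ▸ Submodule.mem_top
      induction hv using Submodule.span_induction with
      | mem y hy => obtain ⟨a, rfl⟩ := hy; exact hC a
      | zero =>
        rw [show ((fun j => algebraMap K E ((0 : Fin m → K) j)), (0 : E)) = (0 : (Fin m → E) × E) from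
          Prod.ext (funext fun j => map_zero _) rfl]
        exact zero_mem _
      | add y z _ _ hy hz =>
        rw [show ((fun j => algebraMap K E ((y + z) j)), (0 : E)) =
            ((fun j => algebraMap K E (y j)), (0 : E)) + ((fun j => algebraMap K E (z j)), (0 : E)) from
          Prod.ext (funext fun j => map_add _ _ _) (add_zero (0 : E)).symm]
        exact add_mem hy hz
      | smul c y _ hy =>
        rw [show ((fun j => algebraMap K E ((c • y) j)), (0 : E)) =
            algebraMap K E c • ((fun j => algebraMap K E (y j)), (0 : E)) from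
          Prod.ext (funext fun j => map_mul _ _ _) (smul_zero _).symm]
        exact Submodule.smul_mem _ _ hy
    refine eq_top_iff.2 fun y _ => ?_
    obtain ⟨⟨v, t⟩, rfl⟩ := (e.surjective.comp (Submodule.mkQ_surjective _)) y
    have hvt : ((v, t) : (Fin m → E) × E) = ∑ j, v j • ((fun i => algebraMap K E ((Pi.single j 1 : Fin m → K) i)), (0 : E)) +
        t • ((0 : Fin m → E), (1 : E)) := by
      refine Prod.ext (funext fun i => ?_) ?_
      · simp [Finset.sum_apply, Pi.single_apply, apply_ite (algebraMap K E), Prod.fst_sum]
      · simp [Prod.snd_sum]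
    show (v, t) ∈ P.comap (e.toLinearMap ∘ₗ q)
    rw [hvt]
    exact add_mem (Submodule.sum_mem _ fun j _ => Submodule.smul_mem _ _ (hall _)) (Submodule.smul_mem _ _ hX)
  · show δ₀ _ = _
    rw [show algebraMap K E a = aeval x (C a) from (aeval_C x a).symm, hδ₀]
    have hDC : D (C a) = ∑ j, algebraMap K E (d a j) • ((Pi.single j 1 : Fin m → E), (0 : E)) := by
      refine Prod.ext (funext fun i => ?_) ?_
      · show aeval x (dj i (C a)) = _
        simp [dj, PolynomialModule.equivPolynomialSelf, Finset.sum_apply, Pi.single_apply, Prod.fst_sum, Algebra.algebraMap_eq_smul_one]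
      · show aeval x (derivative (C a)) = _
        simp [Prod.snd_sum]
    rw [hDC, map_sum, map_sum]
    refine Finset.sum_congr rfl fun j _ => ?_
    rw [map_smul, map_smul]

/-- Extending a spanning derivation along a finite field extension. -/
theorem exists_derivation_extension {k L F : Type u} [Field k] [Field L] [Field F] [Algebra k L] [Algebra L F]
    [Algebra k F] [IsScalarTower k L F] [FiniteDimensional L F] {n : ℕ} (d : Derivation k L (Fin n → L))
    (hd : Submodule.span L (Set.range d) = ⊤) :
    ∃ (m : ℕ) (d' : Derivation k F (Fin m → F)) (v : Fin n → Fin m → F), n ≤ m ∧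
      Submodule.span F (Set.range d') = ⊤ ∧ ∀ l, d' (algebraMap L F l) = ∑ i, algebraMap L F (d l i) • v i := by
  classical
  let P : IntermediateField L F → Prop := fun K =>
    ∃ (m : ℕ) (d' : Derivation k K (Fin m → K)) (v : Fin n → Fin m → K), n ≤ m ∧
      Submodule.span K (Set.range d') = ⊤ ∧ ∀ l, d' (algebraMap L K l) = ∑ i, algebraMap L K (d l i) • v i
  have transfer : ∀ {K K' : Type u} [Field K] [Field K'] [Algebra L K] [Algebra L K'] [Algebra k K] [Algebra k K']
      [IsScalarTower k L K] [IsScalarTower k L K'] (e : K ≃ₐ[L] K'),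
      (∃ (m : ℕ) (d' : Derivation k K (Fin m → K)) (v : Fin n → Fin m → K), n ≤ m ∧
        Submodule.span K (Set.range d') = ⊤ ∧ ∀ l, d' (algebraMap L K l) = ∑ i, algebraMap L K (d l i) • v i) →
      ∃ (m : ℕ) (d' : Derivation k K' (Fin m → K')) (v : Fin n → Fin m → K'), n ≤ m ∧
        Submodule.span K' (Set.range d') = ⊤ ∧ ∀ l, d' (algebraMap L K' l) = ∑ i, algebraMap L K' (d l i) • v i := by
    intro K K' _ _ _ _ _ _ _ _ e
    rintro ⟨m, d', v, hm, hspan, hv⟩
    let T : (Fin m → K) → (Fin m → K') := fun y j => e (y j)
    have hTadd : ∀ a b, T (a + b) = T a + T b := fun a b => funext fun j => map_add e (a j) (b j)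
    have hTsmul : ∀ (c : K) a, T (c • a) = e c • T a := fun c a => funext fun j => map_mul e c (a j)
    have hek : ∀ c : k, e.symm (algebraMap k K' c) = algebraMap k K c := fun c => by
      rw [IsScalarTower.algebraMap_apply k L K', e.symm.commutes, ← IsScalarTower.algebraMap_apply]
    have hmul : ∀ a b : K', T (d' (e.symm (a * b))) = a • T (d' (e.symm b)) + b • T (d' (e.symm a)) := fun a b => by
      rw [map_mul, Derivation.leibniz, hTadd, hTsmul, hTsmul, e.apply_symm_apply, e.apply_symm_apply]
    let δ : Derivation k K' (Fin m → K') := Derivation.mk'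
      { toFun := fun a => T (d' (e.symm a))
        map_add' := fun a b => by rw [map_add, map_add, hTadd]
        map_smul' := fun c a => by
          rw [Algebra.smul_def, hmul, hek, Derivation.map_algebraMap, show T 0 = 0 from funext fun j => map_zero e,
            smul_zero, add_zero, RingHom.id_apply, ← algebraMap_smul K' c (T (d' (e.symm a)))] }
      hmul
    refine ⟨m, δ, fun i => T (v i), hm, eq_top_iff.2 fun y _ => ?_, fun l => ?_⟩
    · have hy : (fun j => e.symm (y j)) ∈ Submodule.span K (Set.range d') := hspan ▸ Submodule.mem_top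
      have key : ∀ z ∈ Submodule.span K (Set.range d'), T z ∈ Submodule.span K' (Set.range δ) := fun z hz => by
        induction hz using Submodule.span_induction with
        | mem z hz =>
          obtain ⟨a, rfl⟩ := hz
          refine Submodule.subset_span ⟨e a, ?_⟩
          show T (d' (e.symm (e a))) = _
          rw [e.symm_apply_apply]
        | zero => rw [show T 0 = 0 from funext fun j => map_zero e]; exact zero_mem _
        | add a b _ _ ha hb => rw [hTadd]; exact add_mem ha hb
        | smul c a _ ha => rw [hTsmul]; exact Submodule.smul_mem _ _ ha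
      have := key _ hy
      rwa [show T (fun j => e.symm (y j)) = y from funext fun j => e.apply_symm_apply (y j)] at this
    · show T (d' (e.symm (algebraMap L K' l))) = _
      rw [e.symm.commutes, hv]
      refine funext fun j => ?_
      show e ((∑ i, algebraMap L K (d l i) • v i) j) = _
      simp [Finset.sum_apply, T]
  have hbot : P ⊥ := transfer (K := L) (K' := (⊥ : IntermediateField L F)) (IntermediateField.botEquiv L F).symm
    ⟨n, d, fun i => Pi.single i 1, le_rfl, hd, fun l => funext fun j => by
      simp [Finset.sum_apply, Pi.single_apply]⟩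
  have hstep : ∀ (K : IntermediateField L F) (y : F), P K → P ((IntermediateField.adjoin K {y}).restrictScalars L) := by
    rintro K y ⟨m, d', v, hm, hspan, hv⟩
    letI : Algebra k (IntermediateField.adjoin K ({y} : Set F)) :=
      ((algebraMap K (IntermediateField.adjoin K ({y} : Set F))).comp (algebraMap k K)).toAlgebra
    haveI : IsScalarTower k K (IntermediateField.adjoin K ({y} : Set F)) := .of_algebraMap_eq fun _ => rfl
    haveI : IsScalarTower k L (IntermediateField.adjoin K ({y} : Set F)) := .of_algebraMap_eq fun c => by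
      refine Subtype.ext ?_
      show algebraMap K F (algebraMap k K c) = algebraMap L F (algebraMap k L c)
      rw [← IsScalarTower.algebraMap_apply k L F]
      rfl
    refine transfer (K := IntermediateField.adjoin K ({y} : Set F))
      (K' := (IntermediateField.adjoin K ({y} : Set F)).restrictScalars L) AlgEquiv.refl ?_
    let E := IntermediateField.adjoin K ({y} : Set F)
    have hgen : Algebra.adjoin K {(IntermediateField.AdjoinSimple.gen K y : E)} = ⊤ := by
      have hpb := (IntermediateField.adjoin.powerBasis (Algebra.IsIntegral.isIntegral (R := K) y)).adjoin_gen_eq_top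
      rwa [IntermediateField.adjoin.powerBasis_gen] at hpb
    obtain ⟨m', d'', w, hmm, hspan', hw⟩ := exists_derivation_simple (k := k) _ hgen d' hspan
    refine ⟨m', d'', fun i => ∑ j, algebraMap K E (v i j) • w j, hm.trans hmm, hspan', fun l => ?_⟩
    rw [IsScalarTower.algebraMap_apply L K E, hw, hv]
    simp only [Finset.sum_apply, Pi.smul_apply, smul_eq_mul, map_sum, map_mul, Finset.sum_smul, Finset.smul_sum,
      smul_smul, ← IsScalarTower.algebraMap_apply]
    rw [Finset.sum_comm]
  have htop : P ⊤ := IntermediateField.induction_on_adjoin_fg P hbot hstep ⊤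
    (IntermediateField.fg_top_iff.2 inferInstance)
  exact transfer IntermediateField.topEquiv htop

/-- A finite map from a power series ring with the given parameters. -/
theorem exists_mvPowerSeries_algebra (k A : Type u) [Field k] [CommRing A] [IsLocalRing A] [IsNoetherianRing A]
    [Algebra k A] [IsAdicComplete (maximalIdeal A) A] [Module.Finite k (ResidueField A)] {m : ℕ} (t : Fin m → A)
    (ht : ∀ i, t i ∈ maximalIdeal A) (N : ℕ) (hN : maximalIdeal A ^ N ≤ Ideal.span (Set.range t)) :
    ∃ φ : MvPowerSeries (Fin m) k →+* A, φ.comp MvPowerSeries.C = algebraMap k A ∧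
      (∀ i, φ (MvPowerSeries.X i) = t i) ∧ φ.Finite ∧ IsLocalHom φ := by
  obtain ⟨φ, hC, hX⟩ := CAlgH.exists_mvPowerSeries_eval (algebraMap k A) (maximalIdeal A) t ht
  have hrange : Set.range (fun i => φ (MvPowerSeries.X i)) = Set.range t := congrArg Set.range (funext hX)
  refine ⟨φ, hC, hX, ?_, ?_⟩
  · refine CAlgH.finite_mvPowerSeries_hom φ (maximalIdeal A) (fun i => (hX i).symm ▸ ht i) ?_
    rw [hC, hrange]
    haveI := finite_quotient_pow_maximalIdeal (k := k) (A := A) N
    haveI : Module.Finite k (A ⧸ Ideal.span (Set.range t)) :=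
      Module.Finite.of_surjective (Ideal.Quotient.factorₐ k hN).toLinearMap (Ideal.Quotient.factor_surjective hN)
    exact (RingHom.finite_algebraMap (A := k) (B := A ⧸ Ideal.span (Set.range t))).2 this
  · refine ((local_hom_TFAE φ).out 0 2).2 ?_
    rw [CAlgH3.maximalIdeal_mvPowerSeries_eq, Ideal.map_span, ← Set.range_comp, Ideal.span_le]
    rintro _ ⟨i, rfl⟩
    show φ (MvPowerSeries.X i) ∈ _
    rw [hX i]; exact ht i

theorem ringKrullDim_mvPowerSeries_field (k : Type u) [Field k] (n : ℕ) :
    ringKrullDim (MvPowerSeries (Fin n) k) ≤ n := by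
  haveI : IsRegularLocalRing k := inferInstance
  refine (CAlgH.isRegularLocalRing_mvPowerSeries k n).2.trans ?_
  rw [ringKrullDim_eq_zero_of_field, zero_add]

/-- Generators of the completed differentials at a prime bound the dimension of the components through it. -/
theorem ringKrullDim_quotient_le_of_generates (k A : Type u) [Field k] [CommRing A] [IsLocalRing A]
    [IsNoetherianRing A] [Algebra k A] [IsAdicComplete (maximalIdeal A) A] [Module.Finite k (ResidueField A)]
    (p q : Ideal A) [p.IsPrime] [q.IsPrime] (hqp : q ≤ p) {m : ℕ} (g : Fin m → CKaehler k A)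
    (hg : ∀ x, ∃ c ∉ p, c • x ∈ Submodule.span A (Set.range g)) :
    ringKrullDim (A ⧸ q) ≤ m := by
  classical
  let Q := A ⧸ q
  haveI : IsLocalRing Q := IsLocalRing.of_surjective' (Ideal.Quotient.mk q) Ideal.Quotient.mk_surjective
  haveI : IsAdicComplete (maximalIdeal Q) Q := CAlgH.isAdicComplete_quotient q
  haveI : IsLocalHom (algebraMap A Q) :=
    IsLocalHom.of_surjective (Ideal.Quotient.mk q) Ideal.Quotient.mk_surjective
  haveI : Module.Finite k (ResidueField Q) := by
    haveI : Module.Finite (ResidueField A) (ResidueField Q) := inferInstance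
    exact Module.Finite.trans (ResidueField A) _
  obtain ⟨n, t, hn, ht, hart⟩ := CAlgH.exists_sop Q
  obtain ⟨N, hN⟩ : ∃ N, maximalIdeal Q ^ N ≤ Ideal.span (Set.range t) := by
    haveI := hart
    refine Ideal.exists_pow_le_of_le_radical_of_fg ?_ (IsNoetherian.noetherian _)
    rw [Ideal.radical_eq_sInf]
    refine le_sInf fun P ⟨hP, hPp⟩ => ?_
    haveI := hPp
    haveI : (P.map (Ideal.Quotient.mk (Ideal.span (Set.range t)))).IsPrime :=
      Ideal.map_isPrime_of_surjective Ideal.Quotient.mk_surjective (by rw [Ideal.mk_ker]; exact hP)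
    have hmax : (P.map (Ideal.Quotient.mk (Ideal.span (Set.range t)))).IsMaximal := IsArtinianRing.isMaximal_of_isPrime _
    have hc := Ideal.comap_isMaximal_of_surjective (Ideal.Quotient.mk (Ideal.span (Set.range t)))
      Ideal.Quotient.mk_surjective (K := P.map (Ideal.Quotient.mk _))
    rw [Ideal.comap_map_of_surjective _ Ideal.Quotient.mk_surjective, ← RingHom.ker_eq_comap_bot, Ideal.mk_ker,
      sup_eq_left.2 hP] at hc
    exact (eq_maximalIdeal hc).ge
  obtain ⟨φ, hC, hX, hfin, -⟩ := exists_mvPowerSeries_algebra k Q t ht N hN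
  let R := MvPowerSeries (Fin n) k
  haveI : IsRegularLocalRing R := (CAlgH.isRegularLocalRing_mvPowerSeries k n).1
  haveI : IsDomain R := CAlgH3.isDomain_of_isRegularLocalRing R
  have hinj : Function.Injective φ := CAlgH.injective_mvPowerSeries_hom φ hfin
    (by rw [ringKrullDim_eq_zero_of_field, zero_add, hn])
  letI : Algebra R Q := φ.toAlgebra
  haveI : IsScalarTower k R Q := .of_algebraMap_eq fun c => (RingHom.congr_fun hC c).symm
  haveI : Module.Finite R Q := hfin
  haveI : FaithfulSMul R Q := (faithfulSMul_iff_algebraMap_injective R Q).2 hinj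
  let L := FractionRing R
  let K := FractionRing Q
  -- the partial derivatives
  let δR : Derivation k R (Fin n → L) := Derivation.mk'
    { toFun := fun r i => algebraMap R L (MvPowerSeries.pderiv k i r)
      map_add' := fun a b => funext fun i => by simp only [map_add, Pi.add_apply]
      map_smul' := fun c a => funext fun i => by
        simp only [Derivation.map_smul, Pi.smul_apply, RingHom.id_apply]
        rw [Algebra.smul_def, map_mul, ← IsScalarTower.algebraMap_apply, Algebra.smul_def] }
    fun a b => funext fun i => by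
      show algebraMap R L (MvPowerSeries.pderiv k i (a * b)) = _
      rw [Derivation.leibniz, map_add, smul_eq_mul, smul_eq_mul, map_mul, map_mul]
      simp [Algebra.smul_def]
  obtain ⟨dL, hdL⟩ := exists_derivation_fractionRing (L := L) δR
  have hdLspan : Submodule.span L (Set.range dL) = ⊤ := by
    refine eq_top_iff.2 ((Pi.basisFun L (Fin n)).span_eq.ge.trans (Submodule.span_mono ?_))
    rintro _ ⟨j, rfl⟩
    refine ⟨algebraMap R L (MvPowerSeries.X j), ?_⟩
    rw [hdL]
    funext i
    show algebraMap R L (MvPowerSeries.pderiv k i (MvPowerSeries.X j)) = _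
    rw [MvPowerSeries.pderiv_X, Pi.basisFun_apply]
    simp only [Pi.single_apply]
    split_ifs with h1 h2 <;> simp_all
  letI : Algebra L K := FractionRing.liftAlgebra R K
  haveI : IsScalarTower R L K := FractionRing.isScalarTower_liftAlgebra R K
  haveI : IsScalarTower k L K := .of_algebraMap_eq fun c => by
    rw [IsScalarTower.algebraMap_apply k R L, ← IsScalarTower.algebraMap_apply R L K,
      ← IsScalarTower.algebraMap_apply k R K]
  haveI : FiniteDimensional L K := inferInstance
  obtain ⟨M, dK, v, hnM, hdKspan, hv⟩ := exists_derivation_extension (F := K) dL hdLspan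
  obtain ⟨d₀, s, hs⟩ := Module.Finite.exists_fin (R := R) (M := Q)
  have hsmul : ∀ (a : A) (w : Fin M → K), a • w = algebraMap Q K (Ideal.Quotient.mk q a) • w := fun a w => by
    rw [← Ideal.Quotient.algebraMap_eq q, ← IsScalarTower.algebraMap_apply A Q K, algebraMap_smul]
  haveI : IsScalarTower k A (Fin M → K) := .of_algebraMap_smul fun c w => by
    rw [hsmul, Ideal.Quotient.mk_algebraMap, ← IsScalarTower.algebraMap_apply k Q K, algebraMap_smul]
  -- the differential of `A` lands in a finitely generated submodule
  let δ₀ : A → Fin M → K := fun a => dK (algebraMap Q K (Ideal.Quotient.mk q a))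
  let W₀ : Submodule A (Fin M → K) := Submodule.span A (Set.range v ∪ Set.range fun j => dK (algebraMap Q K (s j)))
  have hW₀ : ∀ y : Q, dK (algebraMap Q K y) ∈ W₀ := fun y => by
    have hy : y ∈ Submodule.span R (Set.range s) := hs ▸ Submodule.mem_top
    obtain ⟨c, rfl⟩ := (Submodule.mem_span_range_iff_exists_fun R).1 hy
    rw [map_sum, map_sum]
    refine Submodule.sum_mem _ fun j _ => ?_
    rw [Algebra.smul_def, map_mul, Derivation.leibniz]
    refine add_mem ?_ ?_
    · obtain ⟨a, ha⟩ := Ideal.Quotient.mk_surjective (algebraMap R Q (c j))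
      rw [← ha, ← hsmul]
      exact Submodule.smul_mem _ _ (Submodule.subset_span (Or.inr ⟨j, rfl⟩))
    · obtain ⟨b, hb⟩ := Ideal.Quotient.mk_surjective (s j)
      rw [← hb, ← hsmul]
      refine Submodule.smul_mem _ _ ?_
      rw [← IsScalarTower.algebraMap_apply R Q K, IsScalarTower.algebraMap_apply R L K, hv, hdL]
      refine Submodule.sum_mem _ fun i _ => ?_
      obtain ⟨a, ha⟩ := Ideal.Quotient.mk_surjective (algebraMap R Q (MvPowerSeries.pderiv k i (c j)))
      show algebraMap L K (algebraMap R L (MvPowerSeries.pderiv k i (c j))) • v i ∈ W₀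
      rw [← IsScalarTower.algebraMap_apply R L K, IsScalarTower.algebraMap_apply R Q K, ← ha, ← hsmul]
      exact Submodule.smul_mem _ _ (Submodule.subset_span (Or.inl ⟨i, rfl⟩))
  haveI : Module.Finite A W₀ := Module.Finite.iff_fg.2
    (Submodule.fg_span ((Set.finite_range v).union (Set.finite_range _)))
  let δ : Derivation k A W₀ := Derivation.mk'
    { toFun := fun a => ⟨δ₀ a, hW₀ _⟩
      map_add' := fun a b => Subtype.ext (by simp [δ₀])
      map_smul' := fun c a => Subtype.ext (by
        show dK (algebraMap Q K (Ideal.Quotient.mk q (c • a))) = c • dK (algebraMap Q K (Ideal.Quotient.mk q a))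
        rw [← Derivation.map_smul]
        congr 1
        rw [Algebra.smul_def, Algebra.smul_def, map_mul, map_mul, Ideal.Quotient.mk_algebraMap,
          ← IsScalarTower.algebraMap_apply k Q K]) }
    fun a b => Subtype.ext (by
      show dK (algebraMap Q K (Ideal.Quotient.mk q (a * b))) = a • δ₀ b + b • δ₀ a
      rw [map_mul, map_mul, Derivation.leibniz, hsmul, hsmul])
  obtain ⟨ψ, hψ⟩ := exists_cKaehler_lift k A δ
  -- the images of the generators span
  let S : Submodule K (Fin M → K) := Submodule.span K (Set.range fun i => (ψ (g i) : Fin M → K))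
  have hall : ∀ x, (ψ x : Fin M → K) ∈ S := fun x => by
    obtain ⟨c, hc, hcx⟩ := hg x
    have hc0 : algebraMap Q K (Ideal.Quotient.mk q c) ≠ 0 := fun h0 => hc (hqp
      (Ideal.Quotient.eq_zero_iff_mem.1 (IsFractionRing.injective Q K (h0.trans (map_zero _).symm))))
    obtain ⟨b, hb⟩ := (Submodule.mem_span_range_iff_exists_fun A).1 hcx
    rw [← Submodule.smul_mem_iff S hc0, ← hsmul, ← Submodule.coe_smul, ← map_smul, ← hb, map_sum,
      Submodule.coe_sum]
    refine Submodule.sum_mem _ fun i _ => ?_
    rw [map_smul, Submodule.coe_smul, hsmul]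
    exact Submodule.smul_mem _ _ (Submodule.subset_span ⟨i, rfl⟩)
  have hQ : ∀ y : Q, dK (algebraMap Q K y) ∈ S := fun y => by
    obtain ⟨a, rfl⟩ := Ideal.Quotient.mk_surjective y
    have := hall (cD k A a)
    rwa [hψ] at this
  have htop : S = ⊤ := eq_top_iff.2 (hdKspan.ge.trans (Submodule.span_le.2 (by
    rintro _ ⟨z, rfl⟩
    obtain ⟨a, b, hb, rfl⟩ := IsFractionRing.div_surjective Q z
    have hb0 : algebraMap Q K b ≠ 0 := IsFractionRing.to_map_ne_zero_of_mem_nonZeroDivisors hb
    rw [SetLike.mem_coe, Derivation.leibniz_div]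
    exact Submodule.smul_mem _ _ (sub_mem (Submodule.smul_mem _ _ (hQ a)) (Submodule.smul_mem _ _ (hQ b))))))
  have hle : M ≤ m := by
    have h1 := finrank_span_le_card (R := K) (Set.range fun i => (ψ (g i) : Fin M → K))
    rw [show Submodule.span K (Set.range fun i => (ψ (g i) : Fin M → K)) = ⊤ from htop, finrank_top,
      Module.finrank_fin_fun, Set.toFinset_range] at h1
    exact h1.trans (Finset.card_image_le.trans (by simp))
  rw [hn]
  exact_mod_cast hnM.trans hle

end Groth.Agent.CommAlg6
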