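import Groth.Agent.LocCoh.AdjDepth
import Groth.Prelude.Def_Found
import Groth.Prelude.Def_EGA4b
import Mathlib.RingTheory.Ideal.KrullsHeightTheorem

/-! Additivity of heights in catenary Noetherian rings. -/

universe u

namespace Groth.Agent.CommAlg6

open IsLocalRing
open LocCoh (hq isPrime_map_mk comap_map_mk hq_add_one_le hq_ne_top)

variable {R : Type u} [CommRing R]

theorem index_le_hq {p : Ideal R} (s : LTSeries (PrimeSpectrum R)) :
    ∀ (d i : ℕ) (h : i + d ≤ s.length), p ≤ (s ⟨i, by omega⟩).asIdeal →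
      hq p (s ⟨i, by omega⟩).asIdeal + d ≤ hq p (s ⟨i + d, by omega⟩).asIdeal := by
  intro d
  induction d with
  | zero => intro i h _; simp
  | succ d ih =>
    intro i h hp
    have h1 := ih i (by omega) hp
    have hlt : s ⟨i + d, by omega⟩ < s ⟨i + d + 1, by omega⟩ := s.strictMono (by simp)
    have hle : p ≤ (s ⟨i + d, by omega⟩).asIdeal := hp.trans (s.monotone (by simp))
    calc hq p (s ⟨i, by omega⟩).asIdeal + ((d + 1 : ℕ) : ℕ∞)
        = hq p (s ⟨i, by omega⟩).asIdeal + d + 1 := by push_cast; rw [add_assoc]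
      _ ≤ hq p (s ⟨i + d, by omega⟩).asIdeal + 1 := by gcongr
      _ ≤ hq p (s ⟨i + (d + 1), by omega⟩).asIdeal := hq_add_one_le hle hlt

theorem hq_head_add_length_le {p : Ideal R} (s : LTSeries (PrimeSpectrum R))
    (hp : p ≤ s.head.asIdeal) :
    hq p s.head.asIdeal + s.length ≤ hq p s.last.asIdeal := by
  have := index_le_hq s s.length 0 (by omega) hp
  have e : (⟨0 + s.length, by omega⟩ : Fin (s.length + 1)) = Fin.last _ := Fin.ext (by simp)
  rw [e] at this
  exact this

theorem length_le_hq {p q : PrimeSpectrum R} (s : LTSeries (PrimeSpectrum R))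
    (h1 : s.head = p) (h2 : s.last = q) : (s.length : ℕ∞) ≤ hq p.asIdeal q.asIdeal := by
  subst h1 h2
  exact le_add_self.trans (hq_head_add_length_le s le_rfl)

theorem exists_saturated_series [IsNoetherianRing R] {p q : PrimeSpectrum R} (h : p ≤ q) :
    ∃ s : LTSeries (PrimeSpectrum R), s.head = p ∧ s.last = q ∧
      (∀ i : Fin s.length, s i.castSucc ⋖ s i.succ) ∧
      (s.length : ℕ∞) = hq p.asIdeal q.asIdeal := by
  have h' : p.asIdeal ≤ q.asIdeal := h
  haveI := isPrime_map_mk h'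
  obtain ⟨l, hl, hlen⟩ :=
    Ideal.exists_ltSeries_length_eq_height (q.asIdeal.map (Ideal.Quotient.mk p.asIdeal))
  let f : PrimeSpectrum (R ⧸ p.asIdeal) → PrimeSpectrum R :=
    PrimeSpectrum.comap (Ideal.Quotient.mk p.asIdeal)
  have hf : StrictMono f := fun a b hab => lt_of_le_of_ne (Ideal.comap_mono hab.le) fun e =>
    hab.ne (PrimeSpectrum.comap_injective_of_surjective _ Ideal.Quotient.mk_surjective e)
  let s := l.map f hf
  have hlast : s.last = q := by
    simp only [s, LTSeries.last_map]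
    rw [hl]
    exact PrimeSpectrum.ext (comap_map_mk h')
  have hslen : (s.length : ℕ∞) = hq p.asIdeal q.asIdeal := hlen
  have hp : p.asIdeal ≤ s.head.asIdeal := by
    simp only [s, LTSeries.head_map]
    intro x hx
    change Ideal.Quotient.mk p.asIdeal x ∈ l.head.asIdeal
    rw [Ideal.Quotient.eq_zero_iff_mem.mpr hx]
    exact zero_mem _
  have hhead : s.head = p := by
    by_contra hne
    have hlt : p.asIdeal < s.head.asIdeal :=
      lt_of_le_of_ne hp fun e => hne (PrimeSpectrum.ext e.symm)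
    have h1 := LocCoh.one_le_map_height_of_not_le hlt
    have h2 := hq_head_add_length_le s hp
    rw [hlast, ← hslen] at h2
    have h3 : (1 : ℕ∞) + s.length ≤ s.length := (add_le_add h1 le_rfl).trans h2
    norm_cast at h3
    omega
  refine ⟨s, hhead, hlast, fun i => ⟨s.strictMono Fin.castSucc_lt_succ, fun a ha hb => ?_⟩,
    hslen⟩
  have hi : p.asIdeal ≤ (s i.castSucc).asIdeal := by
    rw [← hhead]; exact s.monotone (Fin.zero_le _)
  have h1 := hq_add_one_le hi (r := (s i.castSucc).asIdeal) (q := a.asIdeal) ha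
  have h2 := hq_add_one_le (hi.trans (le_of_lt ha)) (r := a.asIdeal) (q := (s i.succ).asIdeal) hb
  have h3 := index_le_hq (p := p.asIdeal) s i.1 0 (by omega) hp
  have h4 := index_le_hq (p := p.asIdeal) s (s.length - (i.1 + 1)) (i.1 + 1) (by omega)
    (hp.trans (s.monotone (Fin.zero_le _)))
  have e0 : (⟨0 + i.1, by omega⟩ : Fin (s.length + 1)) = i.castSucc := Fin.ext (by simp)
  have e1 : (⟨i.1 + 1, by omega⟩ : Fin (s.length + 1)) = i.succ := Fin.ext (by simp)
  have e2 : (⟨i.1 + 1 + (s.length - (i.1 + 1)), by omega⟩ : Fin (s.length + 1)) = Fin.last _ :=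
    Fin.ext (by simp only [Fin.val_last]; omega)
  have h3' : (i.1 : ℕ∞) ≤ hq p.asIdeal (s i.castSucc).asIdeal := by
    rw [← e0]; exact le_add_self.trans h3
  rw [e1, e2, show s (Fin.last _) = q from hlast, ← hslen] at h4
  have h5 : ((i.1 + 1 + 1 + (s.length - (i.1 + 1)) : ℕ) : ℕ∞) ≤ s.length := by
    rw [Nat.cast_add]
    refine le_trans (add_le_add ?_ le_rfl) h4
    rw [Nat.cast_add, Nat.cast_add, Nat.cast_one]
    exact (add_le_add ((add_le_add h3' le_rfl).trans h1) le_rfl).trans h2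
  norm_cast at h5
  have := i.2
  omega

/-- In a catenary ring the heights in quotients are additive. -/
theorem hq_add_eq [IsNoetherianRing R] (hcat : CAlg.IsCatenary R) {p s q : Ideal R}
    [hp : p.IsPrime] [hs : s.IsPrime] [hq' : q.IsPrime] (hps : p ≤ s) (hsq : s ≤ q) :
    hq p s + hq s q = hq p q := by
  obtain ⟨a, ha1, ha2, ha3, ha4⟩ :=
    exists_saturated_series (p := ⟨p, hp⟩) (q := ⟨s, hs⟩) hps
  obtain ⟨b, hb1, hb2, hb3, hb4⟩ :=
    exists_saturated_series (p := ⟨s, hs⟩) (q := ⟨q, hq'⟩) hsq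
  obtain ⟨c, hc1, hc2, hc3, hc4⟩ :=
    exists_saturated_series (p := ⟨p, hp⟩) (q := ⟨q, hq'⟩) (hps.trans hsq)
  rw [← ha4, ← hb4, ← hc4, ← Nat.cast_add, Nat.cast_inj]
  have hab : a.last = b.head := ha2.trans hb1.symm
  refine hcat.2 (RelSeries.smash a b hab) c ?_ ?_ ?_ hc3
  · rw [RelSeries.head_smash, ha1, hc1]
  · rw [RelSeries.last_smash, hb2, hc2]
  · intro i
    refine Fin.addCases (m := a.length) (n := b.length) (fun i => ?_) (fun i => ?_) i
    · have e1 := RelSeries.smash_castAdd hab i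
      have e2 := RelSeries.smash_succ_castAdd hab i
      exact (congrArg₂ (· ⋖ ·) e1 e2).mpr (ha3 i)
    · have e1 := RelSeries.smash_natAdd hab i
      have e2 := RelSeries.smash_succ_natAdd hab i
      exact (congrArg₂ (· ⋖ ·) e1 e2).mpr (hb3 i)

theorem hq_le_height [IsNoetherianRing R] {p q : Ideal R} [hp : p.IsPrime] [hq' : q.IsPrime]
    (h : p ≤ q) : hq p q ≤ q.height := by
  obtain ⟨s, -, hs2, -, hs4⟩ := exists_saturated_series (p := ⟨p, hp⟩) (q := ⟨q, hq'⟩) h
  rw [← hs4, show q = (⟨q, hq'⟩ : PrimeSpectrum R).asIdeal from rfl,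
    PrimeSpectrum.height_eq_orderHeight]
  exact Order.length_le_height hs2.le

theorem exists_minimalPrimes_hq_eq_height [IsNoetherianRing R] (q : Ideal R) [hq' : q.IsPrime] :
    ∃ P ∈ minimalPrimes R, P ≤ q ∧ hq P q = q.height := by
  obtain ⟨l, hl, hlen⟩ := Ideal.exists_ltSeries_length_eq_height q
  obtain ⟨P, hP, hPh⟩ :=
    Ideal.exists_minimalPrimes_le (bot_le : (⊥ : Ideal R) ≤ l.head.asIdeal)
  haveI := hP.1.1
  have hPq : P ≤ q := hPh.trans (by
    have h : l.head.asIdeal ≤ l.last.asIdeal := l.head_le_last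
    rw [hl] at h
    exact h)
  refine ⟨P, hP, hPq, le_antisymm (hq_le_height hPq) ?_⟩
  have := hq_head_add_length_le l hPh
  rw [hl] at this
  rw [← hlen]
  exact le_add_self.trans this

theorem hq_eq_ringKrullDim_quotient [IsLocalRing R] (p : Ideal R) [p.IsPrime] :
    ((hq p (maximalIdeal R) : ℕ∞) : WithBot ℕ∞) = ringKrullDim (R ⧸ p) := by
  haveI : IsLocalRing (R ⧸ p) := .of_surjective' _ Ideal.Quotient.mk_surjective
  rw [← maximalIdeal_height_eq_ringKrullDim, ← IsLocalRing.map_maximalIdeal_of_surjective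
    (Ideal.Quotient.mk p) Ideal.Quotient.mk_surjective]

/-- In an equidimensional catenary Noetherian local ring, `ht p + dim R/p = dim R`. -/
theorem height_add_ringKrullDim_quotient_of_equidim [IsNoetherianRing R] [IsLocalRing R]
    (hcat : CAlg.IsCatenary R) (he : EGA4.IsEquidim R) (q : Ideal R) [q.IsPrime] :
    (q.height : WithBot ℕ∞) + ringKrullDim (R ⧸ q) = ringKrullDim R := by
  obtain ⟨P, hP, hPq, hPe⟩ := exists_minimalPrimes_hq_eq_height q
  haveI := hP.1.1
  rw [← hq_eq_ringKrullDim_quotient, ← hPe, ← WithBot.coe_add,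
    hq_add_eq hcat hPq (le_maximalIdeal (Ideal.IsPrime.ne_top ‹q.IsPrime›)),
    hq_eq_ringKrullDim_quotient, he P hP]

/-- In an equidimensional catenary Noetherian local ring, heights are additive. -/
theorem height_add_hq_eq [IsNoetherianRing R] [IsLocalRing R]
    (hcat : CAlg.IsCatenary R) (he : EGA4.IsEquidim R) {p q : Ideal R} [p.IsPrime] [q.IsPrime]
    (hpq : p ≤ q) : p.height + hq p q = q.height := by
  have h1 := height_add_ringKrullDim_quotient_of_equidim hcat he p
  rw [← height_add_ringKrullDim_quotient_of_equidim hcat he q, ← hq_eq_ringKrullDim_quotient,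
    ← hq_eq_ringKrullDim_quotient, ← WithBot.coe_add, ← WithBot.coe_add, WithBot.coe_inj,
    ← hq_add_eq hcat hpq (le_maximalIdeal (Ideal.IsPrime.ne_top ‹q.IsPrime›)), ← add_assoc] at h1
  exact WithTop.add_right_cancel
    (hq_ne_top (le_maximalIdeal (Ideal.IsPrime.ne_top ‹q.IsPrime›))) h1

end Groth.Agent.CommAlg6
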