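import Mathlib
import Groth.Agent.EGA41Lib.HilbertSamuel
import Groth.Agent.LocCoh.Monomial

/-!
# Hilbert–Kunz functions

Elementary theory: only right exactness of `M ↦ M/𝔞^{[q]}M` is used.
-/

universe u

open Filter Topology
open Groth.Agent.EGA41Lib

namespace Groth.Agent.CommAlg6.HK

variable {A : Type u} [CommRing A] {p : ℕ} [Fact p.Prime] [CharP A p]

/-- The Frobenius power `I^{[p^e]}`. -/
noncomputable def fp (p : ℕ) [Fact p.Prime] [CharP A p] (e : ℕ) (I : Ideal A) : Ideal A :=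
  Ideal.map (iterateFrobenius A p e) I

theorem pow_mem_fp {e : ℕ} {I : Ideal A} {x : A} (hx : x ∈ I) : x ^ p ^ e ∈ fp p e I :=
  Ideal.mem_map_of_mem (iterateFrobenius A p e) hx

theorem fp_le {e : ℕ} {I J : Ideal A} (h : ∀ x ∈ I, x ^ p ^ e ∈ J) : fp p e I ≤ J :=
  Ideal.map_le_iff_le_comap.2 fun x hx => by
    rw [Ideal.mem_comap, iterateFrobenius_def]
    exact h x hx

theorem fp_le_pow {e : ℕ} {I : Ideal A} : fp p e I ≤ I ^ p ^ e :=
  fp_le fun x hx => Ideal.pow_mem_pow hx _

theorem fp_add (e n : ℕ) (I : Ideal A) : fp p (e + n) I = fp p n (fp p e I) := by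
  show Ideal.map (iterateFrobenius A p (e + n)) I = Ideal.map (iterateFrobenius A p n) (Ideal.map (iterateFrobenius A p e) I)
  rw [Ideal.map_map]
  congr 1
  ext x
  simp [iterateFrobenius_def, ← pow_mul, ← pow_add]

/-- `F^n_* M`. -/
def Fr (_A : Type u) (_p _n : ℕ) (M : Type u) : Type u := M

namespace Fr

variable {n : ℕ} {M : Type u} [AddCommGroup M] [Module A M]

instance : AddCommGroup (Fr A p n M) := inferInstanceAs (AddCommGroup M)

noncomputable instance : Module A (Fr A p n M) := Module.compHom M (iterateFrobenius A p n)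

/-- The identity map. -/
def mk : M ≃+ Fr A p n M := AddEquiv.refl M

theorem smul_mk (r : A) (m : M) : r • (mk m : Fr A p n M) = mk ((r ^ p ^ n) • m) := by
  change (iterateFrobenius A p n r) • m = _
  rw [iterateFrobenius_def]
  rfl

/-- `F^n_*` of a linear map. -/
def map {N : Type u} [AddCommGroup N] [Module A N] (f : M →ₗ[A] N) : Fr A p n M →ₗ[A] Fr A p n N where
  toFun x := mk (f (mk.symm x))
  map_add' x y := by
    obtain ⟨x, rfl⟩ := mk.surjective x
    obtain ⟨y, rfl⟩ := mk.surjective y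
    simp [← map_add]
  map_smul' r x := by
    obtain ⟨x, rfl⟩ := mk.surjective x
    simp [smul_mk]

theorem finite (hF : (iterateFrobenius A p n).Finite) [Module.Finite A M] : Module.Finite A (Fr A p n M) := by
  classical
  letI : Algebra A A := (iterateFrobenius A p n).toAlgebra
  obtain ⟨S, hS⟩ := hF.fg_top
  obtain ⟨T, hT⟩ := Module.Finite.fg_top (R := A) (M := M)
  refine Module.finite_def.2 ⟨(S ×ˢ T).image fun st => mk (st.1 • st.2), eq_top_iff.2 fun x hx0 => ?_⟩
  clear hx0
  obtain ⟨x, rfl⟩ := mk.surjective x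
  set W := Submodule.span A (↑((S ×ˢ T).image fun st => (mk (st.1 • st.2) : Fr A p n M)) : Set (Fr A p n M))
  have key : ∀ t ∈ T, ∀ a : A, mk (a • t) ∈ W := by
    intro t ht a
    have ha : a ∈ _ := hS.ge trivial
    induction ha using Submodule.span_induction with
    | mem s hs => exact Submodule.subset_span (Finset.mem_coe.2 (Finset.mem_image.2 ⟨(s, t), Finset.mem_product.2 ⟨hs, ht⟩, rfl⟩))
    | zero => rw [zero_smul, map_zero]; exact zero_mem _
    | add y z _ _ hy hz => rw [add_smul, map_add]; exact add_mem hy hz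
    | smul c y _ hy =>
      show mk ((iterateFrobenius A p n c * y) • t) ∈ W
      rw [iterateFrobenius_def, mul_smul, ← smul_mk]
      exact W.smul_mem c hy
  have hx : x ∈ Submodule.span A (T : Set M) := hT ▸ trivial
  suffices ∀ a : A, mk (a • x) ∈ W by simpa using this 1
  induction hx using Submodule.span_induction with
  | mem t ht => exact key t ht
  | zero => intro a; rw [smul_zero, map_zero]; exact zero_mem _
  | add y z _ _ hy hz => intro b; rw [smul_add, map_add]; exact W.add_mem (hy b) (hz b)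
  | smul c y _ hy => intro b; rw [smul_smul]; exact hy (b * c)

end Fr

theorem finite_iterateFrobenius (hF : (frobenius A p).Finite) : ∀ n, (iterateFrobenius A p n).Finite := by
  intro n
  induction n with
  | zero => rw [iterateFrobenius_zero]; exact RingHom.Finite.id A
  | succ n ih =>
    have : iterateFrobenius A p (n + 1) = (iterateFrobenius A p n).comp (frobenius A p) := by
      ext x
      simp [iterateFrobenius_def, frobenius_def, ← pow_mul, pow_succ']
    rw [this]
    exact ih.comp hF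

/-- `ℓ(M/IM)` -/
noncomputable def qlen (I : Ideal A) (M : Type u) [AddCommGroup M] [Module A M] : ℕ :=
  HS.lenN A (M ⧸ I • (⊤ : Submodule A M))

theorem isFiniteLength_quot [IsNoetherianRing A] [IsLocalRing A] {I : Ideal A}
    (hI : ∃ N, IsLocalRing.maximalIdeal A ^ N ≤ I) (M : Type u) [AddCommGroup M] [Module A M]
    [Module.Finite A M] : IsFiniteLength A (M ⧸ I • (⊤ : Submodule A M)) := by
  obtain ⟨N, hN⟩ := hI
  have h1 : IsFiniteLength A (M ⧸ IsLocalRing.maximalIdeal A • (⊤ : Submodule A M)) := by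
    rw [isFiniteLength_iff_supportDim_le_zero]
    haveI : Subsingleton (Module.support A (M ⧸ IsLocalRing.maximalIdeal A • (⊤ : Submodule A M))) := by
      refine ⟨fun P Q => ?_⟩
      have key : ∀ P ∈ Module.support A (M ⧸ IsLocalRing.maximalIdeal A • (⊤ : Submodule A M)),
          P.asIdeal = IsLocalRing.maximalIdeal A := by
        intro P hP
        rw [Module.support_quotient] at hP
        exact le_antisymm (IsLocalRing.le_maximalIdeal P.2.ne_top) hP.2
      exact Subtype.ext (PrimeSpectrum.ext ((key _ P.2).trans (key _ Q.2).symm))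
    exact Order.krullDim_nonpos_of_subsingleton
  exact (HS.isFiniteLength_quotient_pow _ h1 N).of_surjective
    (f := Submodule.factor (Submodule.smul_mono hN le_rfl)) (Submodule.factor_surjective _)

theorem smul_top_eq (I : Ideal A) : I • (⊤ : Submodule A A) = I := by
  rw [smul_eq_mul, Ideal.mul_top]

theorem qlen_self (I : Ideal A) : qlen I A = HS.lenN A (A ⧸ I) :=
  congrArg ENat.toNat (Submodule.quotEquivOfEq _ _ (smul_top_eq I)).length_eq

theorem qlen_congr (I : Ideal A) {M N : Type u} [AddCommGroup M] [Module A M] [AddCommGroup N] [Module A N]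
    (e : M ≃ₗ[A] N) : qlen I M = qlen I N :=
  congrArg ENat.toNat (Submodule.Quotient.equiv _ _ e (by
    rw [Submodule.map_smul'', Submodule.map_top, LinearEquiv.range])).length_eq

section Noeth

variable [IsNoetherianRing A] [IsLocalRing A]

/-- Right exactness. -/
theorem qlen_le_add {I : Ideal A} (hI : ∃ N, IsLocalRing.maximalIdeal A ^ N ≤ I)
    {M N : Type u} [AddCommGroup M] [Module A M] [Module.Finite A M]
    [AddCommGroup N] [Module A N] [Module.Finite A N] (f : M →ₗ[A] N) :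
    qlen I N ≤ qlen I M + qlen I (N ⧸ LinearMap.range f) := by
  let g : (N ⧸ I • (⊤ : Submodule A N)) →ₗ[A]
      (N ⧸ LinearMap.range f) ⧸ I • (⊤ : Submodule A (N ⧸ LinearMap.range f)) :=
    Submodule.mapQ _ _ (LinearMap.range f).mkQ (Submodule.smul_top_le_comap_smul_top I _)
  let f' : (M ⧸ I • (⊤ : Submodule A M)) →ₗ[A] N ⧸ I • (⊤ : Submodule A N) :=
    Submodule.mapQ _ _ f (Submodule.smul_top_le_comap_smul_top I _)
  have hg : Function.Surjective g := fun z => by
    obtain ⟨z, rfl⟩ := Submodule.mkQ_surjective _ z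
    obtain ⟨z, rfl⟩ := Submodule.mkQ_surjective _ z
    exact ⟨Submodule.Quotient.mk z, rfl⟩
  have hker : LinearMap.ker g ≤ LinearMap.range f' := fun z hz => by
    obtain ⟨n, rfl⟩ := Submodule.mkQ_surjective _ z
    have hn : (LinearMap.range f).mkQ n ∈ I • (⊤ : Submodule A (N ⧸ LinearMap.range f)) :=
      (Submodule.Quotient.mk_eq_zero _).1 hz
    rw [← Submodule.range_mkQ (LinearMap.range f), LinearMap.range_eq_map (LinearMap.range f).mkQ, ← Submodule.map_smul''] at hn
    obtain ⟨w, hw, hwn⟩ := hn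
    obtain ⟨m, hm⟩ := (Submodule.Quotient.eq _).1 hwn.symm
    refine ⟨Submodule.Quotient.mk m, ?_⟩
    show Submodule.Quotient.mk (f m) = Submodule.Quotient.mk n
    rw [Submodule.Quotient.eq, hm, sub_sub_cancel_left]
    exact neg_mem hw
  have hfl := isFiniteLength_quot hI N
  have h1 := HS.lenN_add (LinearMap.ker g).subtype g (Submodule.subtype_injective _) hg (by
    rw [LinearMap.exact_iff, Submodule.range_subtype]) hfl
  have h2 : HS.lenN A (LinearMap.ker g) ≤ HS.lenN A (M ⧸ I • (⊤ : Submodule A M)) := by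
    refine ENat.toNat_le_toNat ?_ (Module.length_ne_top_iff.2 (isFiniteLength_quot hI M))
    exact (Module.length_le_of_injective (Submodule.inclusion hker) (Submodule.inclusion_injective hker)).trans
      (Module.length_le_of_surjective f'.rangeRestrict f'.surjective_rangeRestrict)
  unfold qlen
  rw [h1]
  exact add_le_add h2 le_rfl

theorem qlen_le_of_surjective {I : Ideal A} (hI : ∃ N, IsLocalRing.maximalIdeal A ^ N ≤ I)
    {M N : Type u} [AddCommGroup M] [Module A M] [Module.Finite A M]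
    [AddCommGroup N] [Module A N] [Module.Finite A N] (f : M →ₗ[A] N) (hf : Function.Surjective f) :
    qlen I N ≤ qlen I M :=
  ENat.toNat_le_toNat (Module.length_le_of_surjective
    (Submodule.mapQ _ _ f (Submodule.smul_top_le_comap_smul_top I _)) fun z => by
      obtain ⟨z, rfl⟩ := Submodule.mkQ_surjective _ z
      obtain ⟨m, rfl⟩ := hf z
      exact ⟨Submodule.Quotient.mk m, rfl⟩)
    (Module.length_ne_top_iff.2 (isFiniteLength_quot hI M))

theorem qlen_pi {I : Ideal A} (hI : ∃ N, IsLocalRing.maximalIdeal A ^ N ≤ I) {ι : Type u} [Fintype ι]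
    (M : ι → Type u) [∀ i, AddCommGroup (M i)] [∀ i, Module A (M i)] [∀ i, Module.Finite A (M i)] :
    qlen I (∀ i, M i) = ∑ i, qlen I (M i) := by
  classical
  have e := ((TensorProduct.quotTensorEquivQuotSMul (∀ i, M i) I).symm ≪≫ₗ
    TensorProduct.piRight A A (A ⧸ I) M ≪≫ₗ
    LinearEquiv.piCongrRight fun i => TensorProduct.quotTensorEquivQuotSMul (M i) I).length_eq
  unfold qlen HS.lenN
  rw [e, Module.length_pi_of_fintype]
  exact ENat.toNat_sum fun i _ => Module.length_ne_top_iff.2 (isFiniteLength_quot hI (M i))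

theorem length_Fr {n : ℕ} [PerfectField (IsLocalRing.ResidueField A)] {X : Type u} [AddCommGroup X] [Module A X]
    (hX : IsFiniteLength A X) : Module.length A (Fr A p n X) = Module.length A X := by
  induction hX with
  | @of_subsingleton M _ _ _ =>
    haveI : Subsingleton (Fr A p n M) := ‹Subsingleton M›
    rw [Module.length_eq_zero, Module.length_eq_zero]
  | @of_simple_quotient M _ _ N _ _ ih =>
    have hs : IsSimpleModule A (Fr A p n (M ⧸ N)) := by
      obtain ⟨hnt, hsurj⟩ := isSimpleModule_iff_toSpanSingleton_surjective.1 ‹IsSimpleModule A (M ⧸ N)›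
      refine isSimpleModule_iff_toSpanSingleton_surjective.2 ⟨hnt, fun x hx y => ?_⟩
      obtain ⟨x, rfl⟩ := Fr.mk.surjective x
      obtain ⟨y, rfl⟩ := Fr.mk.surjective y
      obtain ⟨b, hb⟩ := hsurj x (fun h => hx (by rw [h, map_zero])) y
      haveI : CharP (IsLocalRing.ResidueField A) p := by
        rw [CharP.charP_iff_prime_eq_zero Fact.out, ← map_natCast (IsLocalRing.residue A), CharP.cast_eq_zero, map_zero]
      haveI : ExpChar (IsLocalRing.ResidueField A) p := ExpChar.prime Fact.out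
      haveI : PerfectRing (IsLocalRing.ResidueField A) p := PerfectField.toPerfectRing p
      obtain ⟨zbar, hz⟩ := (bijective_iterateFrobenius (IsLocalRing.ResidueField A) p n).2 (IsLocalRing.residue A b)
      obtain ⟨z, rfl⟩ := IsLocalRing.residue_surjective zbar
      refine ⟨z, ?_⟩
      rw [LinearMap.toSpanSingleton_apply, Fr.smul_mk]
      congr 1
      rw [← hb, LinearMap.toSpanSingleton_apply]
      have hmax : Module.annihilator A (M ⧸ N) = IsLocalRing.maximalIdeal A :=
        IsLocalRing.eq_maximalIdeal IsSimpleModule.annihilator_isMaximal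
      have hdiff : z ^ p ^ n - b ∈ Module.annihilator A (M ⧸ N) := by
        rw [hmax, ← IsLocalRing.residue_eq_zero_iff, map_sub, map_pow, ← iterateFrobenius_def, hz, sub_self]
      exact sub_eq_zero.1 (by rw [← sub_smul]; exact Module.mem_annihilator.1 hdiff x)
    haveI := hs
    rw [Module.length_eq_add_of_exact (Fr.map (p := p) (n := n) N.subtype) (Fr.map (p := p) (n := n) N.mkQ)
        Subtype.coe_injective (Submodule.mkQ_surjective N) (LinearMap.exact_subtype_mkQ N),
      Module.length_eq_add_of_exact N.subtype N.mkQ (Submodule.subtype_injective N) (Submodule.mkQ_surjective N)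
        (LinearMap.exact_subtype_mkQ N), ih, Module.length_eq_one A (Fr A p n (M ⧸ N)), Module.length_eq_one A (M ⧸ N)]

theorem qlen_Fr {n : ℕ} [PerfectField (IsLocalRing.ResidueField A)] {I : Ideal A}
    (hI : ∃ N, IsLocalRing.maximalIdeal A ^ N ≤ fp p n I)
    (M : Type u) [AddCommGroup M] [Module A M] [Module.Finite A M] :
    qlen I (Fr A p n M) = qlen (fp p n I) M := by
  let W := fp p n I • (⊤ : Submodule A M)
  let π : Fr A p n M →ₗ[A] Fr A p n (M ⧸ W) := Fr.map W.mkQ
  have hπ : Function.Surjective π := Submodule.mkQ_surjective W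
  have hker : LinearMap.ker π = I • (⊤ : Submodule A (Fr A p n M)) := by
    refine le_antisymm (fun x hx => ?_) (Submodule.smul_le.2 fun r hr x _ => ?_)
    · obtain ⟨x, rfl⟩ := Fr.mk.surjective x
      have hx' : x ∈ W := (Submodule.Quotient.mk_eq_zero W).1 hx
      clear hx
      refine Submodule.smul_induction_on hx' (fun r hr m _ => ?_) fun a b ha hb => ?_
      · revert m
        suffices ∀ c : A, c ∈ fp p n I → ∀ m : M, Fr.mk (c • m) ∈ I • (⊤ : Submodule A (Fr A p n M)) from
          fun m _ => this r hr m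
        intro c hc
        induction hc using Submodule.span_induction with
        | mem y hy =>
          obtain ⟨y, hy, rfl⟩ := hy
          intro m
          rw [iterateFrobenius_def, ← Fr.smul_mk]
          exact Submodule.smul_mem_smul hy trivial
        | zero => intro m; rw [zero_smul, map_zero]; exact zero_mem _
        | add y z _ _ hy hz => intro m; rw [add_smul, map_add]; exact add_mem (hy m) (hz m)
        | smul c y _ hy => intro m; rw [smul_eq_mul, mul_comm, mul_smul]; exact hy _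
      · rw [map_add]; exact add_mem ha hb
    · obtain ⟨x, rfl⟩ := Fr.mk.surjective x
      rw [Fr.smul_mk]
      exact (Submodule.Quotient.mk_eq_zero W).2 (Submodule.smul_mem_smul (pow_mem_fp hr) trivial)
  unfold qlen HS.lenN
  rw [(Submodule.quotEquivOfEq _ _ hker.symm ≪≫ₗ π.quotKerEquivOfSurjective hπ).length_eq,
    length_Fr (isFiniteLength_quot hI M)]

end Noeth

section Growth

variable [IsNoetherianRing A] [IsLocalRing A] {a : Ideal A}

theorem exists_pow_le_fp (ha : ∃ N, IsLocalRing.maximalIdeal A ^ N ≤ a) (e : ℕ) :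
    ∃ N, IsLocalRing.maximalIdeal A ^ N ≤ fp p e a := by
  obtain ⟨N, hN⟩ := ha
  refine Ideal.exists_pow_le_of_le_radical_of_fg (fun x hx => ⟨N * p ^ e, ?_⟩) (IsNoetherian.noetherian _)
  rw [pow_mul]
  exact pow_mem_fp (hN (Ideal.pow_mem_pow hx N))

theorem exists_bound_of_small (ha : ∃ N, IsLocalRing.maximalIdeal A ^ N ≤ a)
    (C : Type u) [AddCommGroup C] [Module A C] [Module.Finite A C] {d : ℕ}
    (hC : Module.supportDim A C < d) :
    ∃ K : ℕ, ∀ e, qlen (fp p e a) C * p ^ e ≤ K * p ^ (d * e) := by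
  classical
  rcases subsingleton_or_nontrivial C with hs | hnt
  · refine ⟨0, fun e => ?_⟩
    have : qlen (fp p e a) C = 0 := by
      unfold qlen HS.lenN
      haveI : Subsingleton (C ⧸ fp p e a • (⊤ : Submodule A C)) := (Submodule.mkQ_surjective _).subsingleton
      rw [Module.length_eq_zero]; rfl
    rw [this, zero_mul, zero_mul]
  haveI : Finite (MaximalSpectrum A) := inferInstance
  let I := Module.annihilator A C
  obtain ⟨s, hs⟩ := supportDim_eq_natCast_of_semilocal (A := A) C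
  have hsd : s < d := by rw [hs] at hC; exact_mod_cast hC
  have hs' : Module.supportDim A (A ⧸ I) = s := by
    refine Eq.trans ?_ hs
    rw [Module.supportDim_eq_ringKrullDim_quotient_annihilator A C,
      Module.supportDim_eq_ringKrullDim_quotient_annihilator A (A ⧸ I), Ideal.annihilator_quotient]
  haveI : Nontrivial (A ⧸ I) := Ideal.Quotient.nontrivial_iff.2 fun h =>
    not_subsingleton C (subsingleton_iff.2 fun x y => by
      have h1 : (1 : A) ∈ I := by rw [h]; exact Submodule.mem_top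
      rw [← one_smul A x, ← one_smul A y, Module.mem_annihilator.1 h1 x, Module.mem_annihilator.1 h1 y])
  obtain ⟨ys, hys, hysJ, hys0⟩ := exists_sop s (A ⧸ I) hs'
  have hys1 : IsFiniteLength A (A ⧸ (I ⊔ Ideal.ofList ys)) := by
    refine IsFiniteLength.of_surjective (M := (A ⧸ I) ⧸ Ideal.ofList ys • (⊤ : Submodule A (A ⧸ I)))
      ((isFiniteLength_iff_supportDim_le_zero _).2 hys0)
      (f := (Ideal.ofList ys • (⊤ : Submodule A (A ⧸ I))).liftQ (Submodule.factor le_sup_left) ?_) ?_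
    · refine Submodule.smul_le.2 fun r hr x _ => ?_
      rw [LinearMap.mem_ker, map_smul]
      obtain ⟨z, hz⟩ := Submodule.mkQ_surjective (I ⊔ Ideal.ofList ys) (Submodule.factor le_sup_left x)
      rw [← hz, ← map_smul]
      exact (Submodule.Quotient.mk_eq_zero _).2 (Ideal.mul_mem_right z _ (Submodule.mem_sup_right hr))
    · intro z
      obtain ⟨z, rfl⟩ := Submodule.mkQ_surjective _ z
      exact ⟨Submodule.Quotient.mk (Submodule.Quotient.mk z), rfl⟩
  obtain ⟨N, hN⟩ := ha
  have hN1 : ∃ N₁, 0 < N₁ ∧ IsLocalRing.maximalIdeal A ^ N₁ ≤ a :=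
    ⟨N + 1, Nat.succ_pos N, (Ideal.pow_le_pow_right N.le_succ).trans hN⟩
  obtain ⟨N₁, hN₁pos, hN₁⟩ := hN1
  obtain ⟨g, φ, hφ⟩ := Module.Finite.exists_fin' A C
  refine ⟨g * N₁ ^ s * HS.lenN A (A ⧸ (I ⊔ Ideal.ofList ys)), fun e => ?_⟩
  have hfl := exists_pow_le_fp (p := p) ⟨N, hN⟩ e
  let φ' : (ULift.{u} (Fin g) → A ⧸ I) →ₗ[A] C :=
    ∑ i : ULift.{u} (Fin g), (I.liftQ (LinearMap.toSpanSingleton A C (φ (Pi.single i.down 1)))
      (fun x hx => Module.mem_annihilator.1 hx _)).comp (LinearMap.proj i)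
  have hφ' : Function.Surjective φ' := fun c => by
    obtain ⟨x, rfl⟩ := hφ c
    refine ⟨fun i => Submodule.Quotient.mk (x i.down), ?_⟩
    have : x = ∑ i : ULift.{u} (Fin g), x i.down • Pi.single i.down (1 : A) := by
      rw [← Fintype.sum_equiv Equiv.ulift.symm (fun i => x i • Pi.single i (1 : A)) _ fun i => rfl]
      exact pi_eq_sum_univ' x
    conv_rhs => rw [this, map_sum]
    simp only [φ', LinearMap.sum_apply, LinearMap.comp_apply, LinearMap.proj_apply]
    exact Finset.sum_congr rfl fun i _ => (LinearMap.map_smul φ (x i.down) _).symm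
  have h1 : qlen (fp p e a) C ≤ g * qlen (fp p e a) (A ⧸ I) := by
    refine (qlen_le_of_surjective hfl φ' hφ').trans (le_of_eq ?_)
    rw [qlen_pi hfl, Finset.sum_const, Finset.card_univ, Fintype.card_ulift, Fintype.card_fin, smul_eq_mul]
  have h2 : qlen (fp p e a) (A ⧸ I) ≤ (N₁ * p ^ e) ^ s * HS.lenN A (A ⧸ (I ⊔ Ideal.ofList ys)) := by
    set M₁ := N₁ * p ^ e with hM₁
    have hM₁pos : 1 ≤ M₁ := Nat.one_le_iff_ne_zero.2 (Nat.mul_ne_zero hN₁pos.ne' (pow_ne_zero _ (Fact.out (p := p.Prime)).ne_zero))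
    have hb := LocCoh.length_pow_le M₁ hM₁pos ys I 0 (by rw [zero_mul]; exact zero_mem _)
    rw [Ideal.span_singleton_eq_bot.2 rfl, sup_bot_eq, hys] at hb
    have hb2 : Module.length A ((A ⧸ I) ⧸ fp p e a • (⊤ : Submodule A (A ⧸ I))) ≤
        Module.length A (A ⧸ (I ⊔ Ideal.ofList (ys.map (· ^ M₁)))) := by
      refine Module.length_le_of_surjective ((I ⊔ Ideal.ofList (ys.map (· ^ M₁))).liftQ
        ((Submodule.mkQ _).comp (Submodule.mkQ I)) ?_) fun z => ?_
      · refine sup_le (fun x hx => ?_) (Ideal.span_le.2 ?_)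
        · rw [LinearMap.mem_ker, LinearMap.comp_apply, Submodule.mkQ_apply I, (Submodule.Quotient.mk_eq_zero I).2 hx, map_zero]
        · intro z hz
          obtain ⟨y, hy, rfl⟩ := List.mem_map.1 hz
          refine (Submodule.Quotient.mk_eq_zero _).2 ?_
          rw [show (Submodule.mkQ I) (y ^ M₁) = (y ^ M₁) • Submodule.Quotient.mk 1 by
            rw [← Submodule.Quotient.mk_smul, smul_eq_mul, mul_one]; rfl]
          refine Submodule.smul_mem_smul ?_ trivial
          rw [hM₁, pow_mul]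
          exact pow_mem_fp (hN₁ (Ideal.pow_mem_pow ((IsLocalRing.ringJacobson_eq_maximalIdeal A) ▸ hysJ y hy) _))
      · obtain ⟨z, rfl⟩ := Submodule.mkQ_surjective _ z
        obtain ⟨z, rfl⟩ := Submodule.mkQ_surjective _ z
        exact ⟨Submodule.Quotient.mk z, rfl⟩
    have hb3 := hb2.trans hb
    rw [HS.length_eq_lenN _ hys1, HS.length_eq_lenN _ (isFiniteLength_quot hfl (A ⧸ I)), ← Nat.cast_mul,
      ← Nat.cast_add, Nat.cast_le] at hb3
    refine hb3.trans (le_of_eq ?_)
    rw [← Nat.succ_mul, Nat.succ_eq_add_one, Nat.sub_add_cancel (Nat.one_le_pow _ _ hM₁pos)]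
  calc qlen (fp p e a) C * p ^ e
      ≤ g * ((N₁ * p ^ e) ^ s * HS.lenN A (A ⧸ (I ⊔ Ideal.ofList ys))) * p ^ e :=
        Nat.mul_le_mul_right _ (h1.trans (Nat.mul_le_mul_left _ h2))
    _ = g * N₁ ^ s * HS.lenN A (A ⧸ (I ⊔ Ideal.ofList ys)) * p ^ ((s + 1) * e) := by
        rw [mul_pow, ← pow_mul, add_one_mul, pow_add, mul_comm e s]; ring
    _ ≤ _ := Nat.mul_le_mul_left _ (Nat.pow_le_pow_right (Fact.out (p := p.Prime)).pos (Nat.mul_le_mul_right _ hsd))

/-- `|ℓ(M/a^{[q]}) - ℓ(N/a^{[q]})| = O(q^{d-1})`. -/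
def Close (p : ℕ) [Fact p.Prime] [CharP A p] (a : Ideal A) (d : ℕ) (M N : Type u) [AddCommGroup M] [Module A M]
    [AddCommGroup N] [Module A N] : Prop :=
  ∃ K : ℝ, ∀ e, |(qlen (fp p e a) M : ℝ) - qlen (fp p e a) N| * (p : ℝ) ^ e ≤ K * (p : ℝ) ^ (d * e)

theorem close_of_maps (ha : ∃ N, IsLocalRing.maximalIdeal A ^ N ≤ a) {d : ℕ}
    {M N : Type u} [AddCommGroup M] [Module A M] [Module.Finite A M] [AddCommGroup N] [Module A N] [Module.Finite A N]
    (f : M →ₗ[A] N) (g : N →ₗ[A] M) (hf : Module.supportDim A (N ⧸ LinearMap.range f) < d)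
    (hg : Module.supportDim A (M ⧸ LinearMap.range g) < d) : Close p a d M N := by
  obtain ⟨K, hK⟩ := exists_bound_of_small (p := p) ha _ hf
  obtain ⟨K', hK'⟩ := exists_bound_of_small (p := p) ha _ hg
  refine ⟨(K : ℝ) + K', fun e => ?_⟩
  have h1 : (qlen (fp p e a) N : ℝ) ≤ qlen (fp p e a) M + qlen (fp p e a) (N ⧸ LinearMap.range f) := by
    exact_mod_cast qlen_le_add (exists_pow_le_fp ha e) f
  have h2 : (qlen (fp p e a) M : ℝ) ≤ qlen (fp p e a) N + qlen (fp p e a) (M ⧸ LinearMap.range g) := by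
    exact_mod_cast qlen_le_add (exists_pow_le_fp ha e) g
  have h3 : (qlen (fp p e a) (N ⧸ LinearMap.range f) : ℝ) * (p : ℝ) ^ e ≤ K * (p : ℝ) ^ (d * e) := by
    exact_mod_cast hK e
  have h4 : (qlen (fp p e a) (M ⧸ LinearMap.range g) : ℝ) * (p : ℝ) ^ e ≤ K' * (p : ℝ) ^ (d * e) := by
    exact_mod_cast hK' e
  rcases abs_cases ((qlen (fp p e a) M : ℝ) - qlen (fp p e a) N) with ⟨he, _⟩ | ⟨he, _⟩ <;> rw [he] <;>
    nlinarith [pow_nonneg (Nat.cast_nonneg p : (0 : ℝ) ≤ p) e, pow_nonneg (Nat.cast_nonneg p : (0 : ℝ) ≤ p) (d * e),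
      (Nat.cast_nonneg K : (0 : ℝ) ≤ K), (Nat.cast_nonneg K' : (0 : ℝ) ≤ K')]

theorem supportDim_lt_of_forall {d : ℕ} (hd : ringKrullDim A = d) (C : Type u) [AddCommGroup C] [Module A C]
    [Module.Finite A C]
    (h : ∀ P : Ideal A, P.IsPrime → ringKrullDim (A ⧸ P) = d → ∀ c : C, ∃ u : A, u ∉ P ∧ u • c = 0) :
    Module.supportDim A C < d := by
  rcases subsingleton_or_nontrivial C with hs | hnt
  · rw [(Module.supportDim_eq_bot_iff_subsingleton A C).2 hs]
    exact WithBot.bot_lt_coe _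
  by_contra hlt
  rw [not_lt] at hlt
  obtain ⟨s, hs⟩ := supportDim_eq_natCast_of_semilocal (A := A) C
  obtain ⟨P, hP, hdim⟩ := HS.exists_minimal_prime_dim hs
  haveI := hP.1.1
  have hdimP : ringKrullDim (A ⧸ P) = d :=
    le_antisymm (hd ▸ ringKrullDim_quotient_le P) ((hlt.trans hs.le).trans hdim)
  have hmem : (⟨P, inferInstance⟩ : PrimeSpectrum A) ∈ Module.support A C :=
    Module.mem_support_iff_of_finite.2 hP.1.2
  obtain ⟨c, hc⟩ := Module.mem_support_iff'.1 hmem
  obtain ⟨u, hu, hu0⟩ := h P inferInstance hdimP c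
  exact hc u hu hu0

end Growth

theorem eq_of_le_of_dim_eq {d : ℕ} (hd : ringKrullDim A = d) {P Q : Ideal A} (hP : P.IsPrime) (hle : P ≤ Q)
    (hQd : ringKrullDim (A ⧸ Q) = d) : P = Q := by
  by_contra hne
  rw [ringKrullDim_quotient] at hQd
  obtain ⟨l, hl⟩ := Order.le_krullDim_iff.1 hQd.ge
  let l' : LTSeries (PrimeSpectrum A) := {
    length := l.length
    toFun := fun i => (l i).1
    step := fun i => l.step i }
  have hlt : (⟨P, hP⟩ : PrimeSpectrum A) < l'.head :=
    lt_of_le_of_ne (fun x hx => l.head.2 (hle hx)) fun h => hne (le_antisymm hle fun x hx => by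
      have h1 : x ∈ l.head.1.asIdeal := l.head.2 hx
      rwa [show l.head.1 = ⟨P, hP⟩ from h.symm] at h1)
  have h := Order.LTSeries.length_le_krullDim (l'.cons ⟨P, hP⟩ hlt)
  change _ ≤ ringKrullDim A at h
  rw [hd, RelSeries.cons_length] at h
  have : l.length + 1 ≤ d := by exact_mod_cast h
  omega

/-- A finite module killed by a prime is free over `A/P` up to torsion. -/
theorem exists_generic_free [IsNoetherianRing A] {P : Ideal A} (hP : P.IsPrime) (M : Type u) [AddCommGroup M]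
    [Module A M] [Module.Finite A M] (hPM : ∀ x ∈ P, ∀ m : M, x • m = 0) :
    ∃ (ι : Type u) (_ : Fintype ι) (f : M →ₗ[A] (ι → A ⧸ P)) (g : (ι → A ⧸ P) →ₗ[A] M) (s : A),
      s ∉ P ∧ (∀ y : ι → A ⧸ P, s • y ∈ LinearMap.range f) ∧ (∀ m, s • m ∈ LinearMap.range g) ∧
        ∀ x, g (f x) = s • x := by
  classical
  obtain ⟨k, φ, hφ⟩ := Module.Finite.exists_fin' A M
  let m : Fin k → M := fun i => φ (Pi.single i 1)
  let good : Finset (Fin k) → Prop := fun T =>
    ∀ c : Fin k → A, ∑ i ∈ T, c i • m i = 0 → ∀ i ∈ T, c i ∈ P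
  obtain ⟨T, hT, hmax⟩ := Finset.exists_max_image ((Finset.univ : Finset (Finset (Fin k))).filter good)
    Finset.card ⟨∅, Finset.mem_filter.2 ⟨Finset.mem_univ _, fun _ _ i hi => absurd hi (Finset.notMem_empty i)⟩⟩
  have hTgood : good T := (Finset.mem_filter.1 hT).2
  let S := Submodule.span A (m '' (T : Set (Fin k)))
  have hj : ∀ j, ∃ u : A, u ∉ P ∧ u • m j ∈ S := by
    intro j
    by_cases hjT : j ∈ T
    · exact ⟨1, fun h => hP.ne_top ((Ideal.eq_top_iff_one _).2 h), by
        rw [one_smul]; exact Submodule.subset_span ⟨j, hjT, rfl⟩⟩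
    have hnot : ¬ good (insert j T) := fun h => by
      have := hmax _ (Finset.mem_filter.2 ⟨Finset.mem_univ _, h⟩)
      rw [Finset.card_insert_of_notMem hjT] at this
      omega
    simp only [good, not_forall] at hnot
    obtain ⟨c, hc0, i, hi, hci⟩ := hnot
    rw [Finset.sum_insert hjT] at hc0
    refine ⟨c j, fun hcj => ?_, ?_⟩
    · rw [hPM _ hcj, zero_add] at hc0
      rcases Finset.mem_insert.1 hi with rfl | hiT
      · exact hci hcj
      · exact hci (hTgood c hc0 i hiT)
    · rw [eq_neg_of_add_eq_zero_left hc0]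
      exact neg_mem (sum_mem fun i hi => Submodule.smul_mem _ _ (Submodule.subset_span ⟨i, hi, rfl⟩))
  choose u hu huS using hj
  let s : A := ∏ j, u j
  have hsS : ∀ x : M, s • x ∈ S := by
    intro x
    obtain ⟨c, rfl⟩ := hφ x
    rw [pi_eq_sum_univ' c, map_sum, Finset.smul_sum]
    refine sum_mem fun j _ => ?_
    rw [LinearMap.map_smul, smul_comm]
    refine S.smul_mem _ ?_
    have hs : s = (∏ i ∈ Finset.univ.erase j, u i) * u j := (Finset.prod_erase_mul _ _ (Finset.mem_univ j)).symm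
    rw [hs, mul_smul]
    exact S.smul_mem _ (huS j)
  let ι := ULift.{u} T
  let g : (ι → A ⧸ P) →ₗ[A] M :=
    ∑ i : ι, (P.liftQ (LinearMap.toSpanSingleton A M (m i.down)) fun x hx => hPM x hx _).comp (LinearMap.proj i)
  have hg : ∀ c : ι → A, g (fun i => Submodule.Quotient.mk (c i)) = ∑ i : ι, c i • m i.down := fun c => by
    simp only [g, LinearMap.sum_apply, LinearMap.comp_apply, LinearMap.proj_apply]
    rfl
  have hginj : Function.Injective g := by
    refine (injective_iff_map_eq_zero g).2 fun y hy => ?_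
    choose c hc using fun i => Submodule.mkQ_surjective P (y i)
    obtain rfl : (fun i => Submodule.Quotient.mk (c i)) = y := funext hc
    rw [hg] at hy
    let c' : Fin k → A := fun i => if h : i ∈ T then c ⟨⟨i, h⟩⟩ else 0
    have h0 : ∑ i ∈ T, c' i • m i = 0 := by
      refine Eq.trans ?_ hy
      rw [← Finset.sum_coe_sort, ← Fintype.sum_equiv Equiv.ulift (fun i : ι => c' i.down.1 • m i.down) _ fun i => rfl]
      exact Finset.sum_congr rfl fun i _ => by simp only [c', dif_pos i.down.2]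
    funext i
    refine (Submodule.Quotient.mk_eq_zero P).2 ?_
    have := hTgood c' h0 i.down.1 i.down.2
    simpa only [c', dif_pos i.down.2] using this
  have hgS : S ≤ LinearMap.range g := by
    refine Submodule.span_le.2 ?_
    rintro _ ⟨j, hj, rfl⟩
    refine ⟨fun i => Submodule.Quotient.mk (if i = (⟨⟨j, hj⟩⟩ : ι) then 1 else 0), ?_⟩
    rw [hg]
    simp only [ite_smul, one_smul, zero_smul]
    exact (Finset.sum_ite_eq' Finset.univ (⟨⟨j, hj⟩⟩ : ι) fun x => m x.down.1).trans (if_pos (Finset.mem_univ _))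
  let f : M →ₗ[A] (ι → A ⧸ P) := (LinearEquiv.ofInjective g hginj).symm.toLinearMap.comp
    (LinearMap.codRestrict _ (s • LinearMap.id) fun x => hgS (hsS x))
  refine ⟨ι, inferInstance, f, g, s, fun h => ?_, fun y => ⟨g y, ?_⟩, fun x => hgS (hsS x), fun x => ?_⟩
  · obtain ⟨j, -, hj'⟩ := hP.prod_mem_iff.1 h
    exact hu j hj'
  · apply (LinearEquiv.ofInjective g hginj).injective
    apply Subtype.ext
    simp [f]
  · exact congrArg Subtype.val ((LinearEquiv.ofInjective g hginj).apply_symm_apply ⟨s • x, hgS (hsS x)⟩)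

theorem exists_avoid [IsNoetherianRing A] {P : Ideal A} (hP : P ∈ minimalPrimes A) :
    ∃ t : A, t ∉ P ∧ (∀ Q ∈ minimalPrimes A, Q ≠ P → t ∈ Q) ∧ ∀ x ∈ P, t * x ∈ nilradical A := by
  classical
  haveI := hP.1.1
  have hfin := minimalPrimes.finite_of_isNoetherianRing A
  let U := hfin.toFinset.erase P
  have h : ¬ U.inf id ≤ P := fun h => by
    obtain ⟨Q, hQ, hQP⟩ := (Ideal.IsPrime.inf_le' ‹P.IsPrime›).1 h
    obtain ⟨hne, hQm⟩ := Finset.mem_erase.1 hQ
    exact hne (le_antisymm hQP (hP.2 ((Set.Finite.mem_toFinset hfin).1 hQm).1 hQP))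
  obtain ⟨t, ht, htP⟩ := SetLike.not_le_iff_exists.1 h
  have ht' : ∀ Q ∈ minimalPrimes A, Q ≠ P → t ∈ Q := fun Q hQ hne =>
    (Finset.inf_le (f := id) (Finset.mem_erase.2 ⟨hne, (Set.Finite.mem_toFinset hfin).2 hQ⟩)) ht
  refine ⟨t, htP, ht', fun x hx => ?_⟩
  rw [nilradical, show (0 : Ideal A) = ⊥ from rfl, ← Ideal.sInf_minimalPrimes]
  refine Submodule.mem_sInf.2 fun Q hQ => ?_
  rcases eq_or_ne Q P with rfl | hne
  · exact Ideal.mul_mem_left _ _ hx
  · exact Ideal.mul_mem_right _ _ (ht' Q hQ hne)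

theorem tendsto_of_approx {x : ℕ → ℝ} {ρ K c C r : ℝ} (hc : 0 < c) (hx : ∀ e, c ≤ x e ∧ x e ≤ C) (hr0 : 0 < r)
    (hr1 : r < 1) (h : ∀ e, |x (e + 1) - ρ * x e| ≤ K * r ^ e) : ∃ l, c ≤ l ∧ Tendsto x atTop (𝓝 l) := by
  have hρ : ρ = 1 := by
    by_contra hne
    have hδ : 0 < |ρ - 1| * c := mul_pos (abs_pos.2 (sub_ne_zero.2 hne)) hc
    have ht : Tendsto (fun e => K * r ^ e) atTop (𝓝 0) := by
      simpa using (tendsto_pow_atTop_nhds_zero_of_lt_one hr0.le hr1).const_mul K
    obtain ⟨E, hE⟩ := eventually_atTop.1 (ht.eventually_le_const (half_pos hδ))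
    obtain ⟨n, hn⟩ := exists_nat_gt ((C - c) / (|ρ - 1| * c / 2))
    rw [div_lt_iff₀ (half_pos hδ)] at hn
    rcases lt_or_gt_of_ne hne with hlt | hgt
    · have key : ∀ n : ℕ, x (E + n) ≤ x E - n * (|ρ - 1| * c / 2) := by
        intro n
        induction n with
        | zero => simp
        | succ n ih =>
          have h1 := (abs_le.1 ((h (E + n)).trans (hE (E + n) (Nat.le_add_right _ _)))).2
          have h2 := (hx (E + n)).1
          rw [abs_of_neg (sub_neg.2 hlt)] at h1 ih ⊢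
          push_cast
          rw [show E + (n + 1) = E + n + 1 by omega]
          nlinarith
      linarith [key n, (hx (E + n)).1, (hx E).2]
    · have key : ∀ n : ℕ, x E + n * (|ρ - 1| * c / 2) ≤ x (E + n) := by
        intro n
        induction n with
        | zero => simp
        | succ n ih =>
          have h1 := (abs_le.1 ((h (E + n)).trans (hE (E + n) (Nat.le_add_right _ _)))).1
          have h2 := (hx (E + n)).1
          rw [abs_of_pos (sub_pos.2 hgt)] at h1 ih ⊢
          push_cast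
          rw [show E + (n + 1) = E + n + 1 by omega]
          nlinarith
      linarith [key n, (hx (E + n)).2, (hx E).1]
  obtain ⟨l, hl⟩ := cauchySeq_tendsto_of_complete (cauchySeq_of_le_geometric r K hr1 (f := x) fun e => by
    rw [Real.dist_eq, abs_sub_comm, ← one_mul (x e), ← hρ]
    exact h e)
  exact ⟨l, ge_of_tendsto' hl fun e => (hx e).1, hl⟩

section Limit

variable [IsNoetherianRing A] [IsLocalRing A] {a : Ideal A}

theorem exists_lower_bound (ha : a ≤ IsLocalRing.maximalIdeal A) (ha' : ∃ N, IsLocalRing.maximalIdeal A ^ N ≤ a)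
    {d : ℕ} {P : Ideal A} (hd : (d : WithBot ℕ∞) ≤ ringKrullDim (A ⧸ P)) :
    ∃ C : ℕ, ∀ e, p ^ (d * e) ≤ C * qlen (fp p e a) (A ⧸ P) := by
  rw [ringKrullDim_quotient] at hd
  obtain ⟨l, hl⟩ := Order.le_krullDim_iff.1 hd
  let l' : LTSeries (PrimeSpectrum A) := {
    length := l.length
    toFun := fun i => (l i).1
    step := fun i => l.step i }
  obtain ⟨C, hC⟩ := LocCoh.exists_pow_le_length (I := IsLocalRing.maximalIdeal A) le_rfl d l' hl
  refine ⟨C, fun e => ?_⟩
  have hq : 1 ≤ p ^ e := Nat.one_le_pow _ _ (Fact.out (p := p.Prime)).pos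
  have h1 := hC (p ^ e) hq
  have hPl : P ≤ l'.head.asIdeal := l.head.2
  have h2 : Module.length A (A ⧸ (l'.head.asIdeal ⊔ IsLocalRing.maximalIdeal A ^ p ^ e)) ≤
      Module.length A ((A ⧸ P) ⧸ fp p e a • (⊤ : Submodule A (A ⧸ P))) := by
    refine Module.length_le_of_surjective ((fp p e a • (⊤ : Submodule A (A ⧸ P))).liftQ
      (Submodule.factor (hPl.trans le_sup_left)) ?_) fun z => ?_
    · refine Submodule.smul_le.2 fun r hr x _ => ?_
      rw [LinearMap.mem_ker, map_smul]
      obtain ⟨z, hz⟩ := Submodule.mkQ_surjective _ (Submodule.factor (hPl.trans le_sup_left) x)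
      rw [← hz, ← map_smul]
      exact (Submodule.Quotient.mk_eq_zero _).2 (Ideal.mul_mem_right z _
        (Submodule.mem_sup_right (Ideal.pow_right_mono ha _ (fp_le_pow hr))))
    · obtain ⟨z, rfl⟩ := Submodule.mkQ_surjective _ z
      exact ⟨Submodule.Quotient.mk (Submodule.Quotient.mk z), rfl⟩
  have h3 := h1.trans (mul_le_mul_right h2 _)
  rw [HS.length_eq_lenN _ (isFiniteLength_quot (exists_pow_le_fp ha' e) _), ← Nat.cast_mul, Nat.cast_le,
    ← pow_mul, mul_comm e d] at h3
  exact h3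

theorem exists_limit_prime (hF : (frobenius A p).Finite) [PerfectField (IsLocalRing.ResidueField A)]
    (ha : a ≤ IsLocalRing.maximalIdeal A) (ha' : ∃ N, IsLocalRing.maximalIdeal A ^ N ≤ a)
    {d : ℕ} (hd : ringKrullDim A = d) {P : Ideal A} (hP : P.IsPrime) (hPd : ringKrullDim (A ⧸ P) = d) :
    ∃ c : ℝ, 0 < c ∧ Tendsto (fun e => (qlen (fp p e a) (A ⧸ P) : ℝ) / (p : ℝ) ^ (d * e)) atTop (𝓝 c) := by
  haveI := Fr.finite (M := A ⧸ P) (finite_iterateFrobenius hF 1)
  have hkill : ∀ x ∈ P, ∀ m : Fr A p 1 (A ⧸ P), x • m = 0 := by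
    intro x hx m
    obtain ⟨m, rfl⟩ := Fr.mk.surjective m
    obtain ⟨m, rfl⟩ := Submodule.mkQ_surjective _ m
    rw [Fr.smul_mk, ← map_smul, show (Submodule.mkQ P) ((x ^ p ^ 1) • m) = 0 from
      (Submodule.Quotient.mk_eq_zero P).2 (Ideal.mul_mem_right _ _ (Ideal.pow_mem_of_mem P hx _
        (pow_pos (Fact.out (p := p.Prime)).pos 1))), map_zero]
  obtain ⟨ι, _, f, g, s, hs, hfs, hgs, -⟩ := exists_generic_free hP (Fr A p 1 (A ⧸ P)) hkill
  have hclose : Close p a d (Fr A p 1 (A ⧸ P)) (ι → A ⧸ P) := by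
    refine close_of_maps ha' f g ?_ ?_ <;> refine supportDim_lt_of_forall hd _ fun Q hQ hQd c => ?_ <;>
      obtain ⟨c, rfl⟩ := Submodule.mkQ_surjective _ c <;> rcases eq_or_ne Q P with rfl | hne
    · exact ⟨s, hs, (Submodule.Quotient.mk_eq_zero _).2 (hfs c)⟩
    · have hnle : ¬ P ≤ Q := fun h => hne (eq_of_le_of_dim_eq hd hP h hQd).symm
      obtain ⟨u, hu, huQ⟩ := SetLike.not_le_iff_exists.1 hnle
      refine ⟨u, huQ, ?_⟩
      rw [← map_smul]
      have : u • c = 0 := funext fun i => by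
        obtain ⟨z, hz⟩ := Submodule.mkQ_surjective P (c i)
        rw [Pi.smul_apply, ← hz, ← map_smul]
        exact (Submodule.Quotient.mk_eq_zero P).2 (Ideal.mul_mem_right _ _ hu)
      rw [this, map_zero]
    · exact ⟨s, hs, (Submodule.Quotient.mk_eq_zero _).2 (hgs c)⟩
    · have hnle : ¬ P ≤ Q := fun h => hne (eq_of_le_of_dim_eq hd hP h hQd).symm
      obtain ⟨u, hu, huQ⟩ := SetLike.not_le_iff_exists.1 hnle
      exact ⟨u, huQ, by rw [← map_smul, hkill u hu, map_zero]⟩
  obtain ⟨K, hK⟩ := hclose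
  obtain ⟨C, hC⟩ := exists_lower_bound (p := p) ha ha' hPd.ge
  obtain ⟨U, hU⟩ := exists_bound_of_small (p := p) ha' (A ⧸ P) (d := d + 1) (by
    rw [Module.supportDim_quotient_eq_ringKrullDim, hPd]
    exact_mod_cast d.lt_succ_self)
  set x := fun e => (qlen (fp p e a) (A ⧸ P) : ℝ) / (p : ℝ) ^ (d * e) with hxdef
  have hp0 : (0 : ℝ) < p := Nat.cast_pos.2 (Fact.out (p := p.Prime)).pos
  have hp1 : (1 : ℝ) < p := Nat.one_lt_cast.2 (Fact.out (p := p.Prime)).one_lt
  have hpd : ∀ k, (0 : ℝ) < (p : ℝ) ^ k := pow_pos hp0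
  have hC0 : 0 < C := by
    have := hC 0
    rw [mul_zero, pow_zero] at this
    exact Nat.pos_of_ne_zero fun h => by rw [h, zero_mul] at this; omega
  have hx : ∀ e, 1 / (C : ℝ) ≤ x e ∧ x e ≤ U := fun e => by
    constructor
    · rw [hxdef, div_le_div_iff₀ (Nat.cast_pos.2 hC0) (hpd _), one_mul, mul_comm _ (C : ℝ)]
      exact_mod_cast hC e
    · rw [hxdef, div_le_iff₀ (hpd _)]
      have h := hU e
      rw [add_one_mul, pow_add, ← mul_assoc] at h
      exact_mod_cast Nat.le_of_mul_le_mul_right h (pow_pos (Fact.out (p := p.Prime)).pos e)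
  have happ : ∀ e, |x (e + 1) - (Fintype.card ι : ℝ) / (p : ℝ) ^ d * x e| ≤
      K / (p : ℝ) ^ d * (1 / (p : ℝ)) ^ e := fun e => by
    have h := hK e
    rw [qlen_Fr (by rw [← fp_add]; exact exists_pow_le_fp ha' (e + 1)) (A ⧸ P), ← fp_add,
      qlen_pi (exists_pow_le_fp ha' e), Finset.sum_const, Finset.card_univ, smul_eq_mul, Nat.cast_mul] at h
    have hdiff : x (e + 1) - (Fintype.card ι : ℝ) / (p : ℝ) ^ d * x e =
        ((qlen (fp p (e + 1) a) (A ⧸ P) : ℝ) - (Fintype.card ι : ℝ) * qlen (fp p e a) (A ⧸ P)) /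
          ((p : ℝ) ^ (d * e) * (p : ℝ) ^ d) := by
      simp only [hxdef, mul_add, mul_one, pow_add]
      field_simp
    rw [hdiff, abs_div, abs_of_pos (mul_pos (hpd _) (hpd _)), one_div, inv_pow,
      div_le_iff₀ (mul_pos (hpd _) (hpd _))]
    refine le_trans ((le_div_iff₀ (hpd e)).2 h) (le_of_eq ?_)
    field_simp
  obtain ⟨l, hl, hlt⟩ := tendsto_of_approx (by positivity) hx (by positivity)
    (by rw [div_lt_one hp0]; exact hp1) happ
  exact ⟨l, lt_of_lt_of_le (by positivity) hl, hlt⟩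

theorem exists_limit_of_nilradical (hF : (frobenius A p).Finite) [PerfectField (IsLocalRing.ResidueField A)]
    (ha : a ≤ IsLocalRing.maximalIdeal A) (ha' : ∃ N, IsLocalRing.maximalIdeal A ^ N ≤ a)
    {d : ℕ} (hd : ringKrullDim A = d) (M : Type u) [AddCommGroup M] [Module A M] [Module.Finite A M]
    (hM : ∀ x ∈ nilradical A, ∀ m : M, x • m = 0) :
    ∃ c : ℝ, Tendsto (fun e => (qlen (fp p e a) M : ℝ) / (p : ℝ) ^ (d * e)) atTop (𝓝 c) := by
  classical
  let D : Set (Ideal A) := {P | P.IsPrime ∧ ringKrullDim (A ⧸ P) = d}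
  have hDmin : ∀ P ∈ D, P ∈ minimalPrimes A := fun P hP =>
    ⟨⟨hP.1, bot_le⟩, fun Q hQ hQP => (eq_of_le_of_dim_eq hd hQ.1 hQP hP.2).ge⟩
  haveI : Finite D := ((minimalPrimes.finite_of_isNoetherianRing A).subset hDmin).to_subtype
  letI : Fintype D := Fintype.ofFinite D
  choose t htP htQ htnil using fun P : D => exists_avoid (hDmin P P.2)
  have hq : ∀ P : D, ∀ x ∈ P.1, ∀ m : M ⧸ P.1 • (⊤ : Submodule A M), x • m = 0 := fun P x hx m => by
    obtain ⟨m, rfl⟩ := Submodule.mkQ_surjective _ m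
    rw [← map_smul]
    exact (Submodule.Quotient.mk_eq_zero _).2 (Submodule.smul_mem_smul hx trivial)
  choose ι hι f g s hs hfs hgs hgf using fun P : D => exists_generic_free P.2.1 (M ⧸ P.1 • (⊤ : Submodule A M)) (hq P)
  let lift : ∀ P : D, (M ⧸ P.1 • (⊤ : Submodule A M)) →ₗ[A] M := fun P =>
    (P.1 • (⊤ : Submodule A M)).liftQ (t P • LinearMap.id) (Submodule.smul_le.2 fun r hr m _ => by
      rw [LinearMap.mem_ker, LinearMap.smul_apply, LinearMap.id_apply, smul_smul]
      exact hM _ (htnil P r hr) m)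
  let F : M →ₗ[A] (∀ P : D, ι P → A ⧸ P.1) := LinearMap.pi fun P => (f P).comp (Submodule.mkQ _)
  let G : (∀ P : D, ι P → A ⧸ P.1) →ₗ[A] M := ∑ P : D, ((lift P).comp (g P)).comp (LinearMap.proj P)
  have hkillc : ∀ (P : D) (x : A), x ∈ P.1 → ∀ y : ι P → A ⧸ P.1, x • y = 0 := fun P x hx y => funext fun i => by
    obtain ⟨z, hz⟩ := Submodule.mkQ_surjective P.1 (y i)
    rw [Pi.smul_apply, ← hz, ← map_smul]
    exact (Submodule.Quotient.mk_eq_zero P.1).2 (Ideal.mul_mem_right _ _ hx)
  have hclose : Close p a d M (∀ P : D, ι P → A ⧸ P.1) := by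
    refine close_of_maps ha' F G ?_ ?_ <;> refine supportDim_lt_of_forall hd _ fun Q hQ hQd c => ?_ <;>
      obtain ⟨c, rfl⟩ := Submodule.mkQ_surjective _ c <;> let Q' : D := ⟨Q, hQ, hQd⟩ <;>
      refine ⟨t Q' * s Q', fun h => (hQ.mem_or_mem h).elim (htP Q') (hs Q'), (Submodule.Quotient.mk_eq_zero _).2 ?_⟩
    · obtain ⟨x, hx⟩ := hfs Q' (c Q')
      obtain ⟨m, rfl⟩ := Submodule.mkQ_surjective _ x
      refine ⟨t Q' • m, funext fun P => ?_⟩
      show (f P) (Submodule.mkQ _ (t Q' • m)) = (t Q' * s Q') • c P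
      rw [LinearMap.map_smul, LinearMap.map_smul, mul_smul]
      rcases eq_or_ne P Q' with rfl | hne
      · rw [hx]
      · have : t Q' ∈ P.1 := htQ Q' P.1 (hDmin P P.2) fun h => hne (Subtype.ext h)
        rw [hkillc P _ this, hkillc P _ this]
    · obtain ⟨y, hy⟩ := hgs Q' (Submodule.Quotient.mk c)
      refine ⟨Pi.single Q' y, ?_⟩
      show (∑ P : D, ((lift P).comp (g P)).comp (LinearMap.proj P)) (Pi.single Q' y) = (t Q' * s Q') • c
      rw [LinearMap.sum_apply, Finset.sum_eq_single Q' (fun P _ hne => by simp [hne]) (by simp)]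
      simp only [LinearMap.comp_apply, LinearMap.proj_apply, Pi.single_eq_same, hy, map_smul]
      rw [show lift Q' (Submodule.Quotient.mk c) = t Q' • c from rfl, smul_smul, mul_comm]
  obtain ⟨K, hK⟩ := hclose
  choose cP hcP hlim using fun P : D => exists_limit_prime hF ha ha' hd P.2.1 P.2.2
  refine ⟨∑ P : D, (Fintype.card (ι P) : ℝ) * cP P, ?_⟩
  have hsum : Tendsto (fun e => (qlen (fp p e a) (∀ P : D, ι P → A ⧸ P.1) : ℝ) / (p : ℝ) ^ (d * e)) atTop
      (𝓝 (∑ P : D, (Fintype.card (ι P) : ℝ) * cP P)) := by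
    refine (tendsto_finsetSum Finset.univ fun P _ => (hlim P).const_mul (Fintype.card (ι P) : ℝ)).congr fun e => ?_
    rw [qlen_pi (exists_pow_le_fp ha' e), Nat.cast_sum, Finset.sum_div]
    refine Finset.sum_congr rfl fun P _ => ?_
    rw [qlen_pi (exists_pow_le_fp ha' e), Finset.sum_const, Finset.card_univ, smul_eq_mul, Nat.cast_mul, mul_div_assoc]
  have hp0 : (0 : ℝ) < p := Nat.cast_pos.2 (Fact.out (p := p.Prime)).pos
  have hdiff : Tendsto (fun e => ((qlen (fp p e a) M : ℝ) - qlen (fp p e a) (∀ P : D, ι P → A ⧸ P.1)) / (p : ℝ) ^ (d * e))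
      atTop (𝓝 0) := by
    have ht : Tendsto (fun e => K * (1 / (p : ℝ)) ^ e) atTop (𝓝 0) := by
      simpa using (tendsto_pow_atTop_nhds_zero_of_lt_one (r := 1 / (p : ℝ)) (by positivity)
        (by rw [div_lt_one hp0]; exact Nat.one_lt_cast.2 (Fact.out (p := p.Prime)).one_lt)).const_mul K
    refine squeeze_zero_norm (fun e => ?_) ht
    rw [Real.norm_eq_abs, abs_div, abs_of_pos (pow_pos hp0 (d * e)), one_div, inv_pow, div_le_iff₀ (pow_pos hp0 _),
      mul_right_comm, ← div_eq_mul_inv, le_div_iff₀ (pow_pos hp0 e)]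
    exact hK e
  have := hdiff.add hsum
  rw [zero_add] at this
  exact this.congr fun e => by ring

theorem exists_limit (hF : (frobenius A p).Finite) [PerfectField (IsLocalRing.ResidueField A)]
    (ha : a ≤ IsLocalRing.maximalIdeal A) (ha' : ∃ N, IsLocalRing.maximalIdeal A ^ N ≤ a)
    {d : ℕ} (hd : ringKrullDim A = d) :
    ∃ c : ℝ, 0 < c ∧
      Tendsto (fun e => (HS.lenN A (A ⧸ fp p e a) : ℝ) / (p : ℝ) ^ (d * e)) atTop (𝓝 c) := by
  have hp := (Fact.out (p := p.Prime))
  have hp0 : (0 : ℝ) < p := Nat.cast_pos.2 hp.pos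
  obtain ⟨n, hn⟩ := (IsNoetherianRing.isNilpotent_nilradical A)
  haveI := Fr.finite (M := A) (finite_iterateFrobenius hF n)
  have hkill : ∀ x ∈ nilradical A, ∀ m : Fr A p n A, x • m = 0 := by
    intro x hx m
    obtain ⟨m, rfl⟩ := Fr.mk.surjective m
    have : x ^ p ^ n = 0 := by
      have h1 := Ideal.pow_mem_pow hx n
      rw [hn, show (0 : Ideal A) = ⊥ from rfl, Submodule.mem_bot] at h1
      rw [← Nat.add_sub_cancel' (Nat.lt_pow_self hp.one_lt (n := n)).le, pow_add, h1, zero_mul]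
    rw [Fr.smul_mk, this, zero_smul, map_zero]
  obtain ⟨c, hc⟩ := exists_limit_of_nilradical hF ha ha' hd (Fr A p n A) hkill
  have hlim : Tendsto (fun e => (HS.lenN A (A ⧸ fp p e a) : ℝ) / (p : ℝ) ^ (d * e)) atTop
      (𝓝 (c / (p : ℝ) ^ (d * n))) := by
    rw [← tendsto_add_atTop_iff_nat n]
    refine (hc.div_const _).congr fun e => ?_
    rw [qlen_Fr (by rw [← fp_add]; exact exists_pow_le_fp ha' (e + n)) A, ← fp_add, qlen_self, div_div, ← pow_add,
      ← mul_add]
  refine ⟨_, ?_, hlim⟩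
  obtain ⟨C, hC⟩ := exists_lower_bound (p := p) (P := ⊥) ha ha' (d := d)
    (by rw [ringKrullDim_eq_of_ringEquiv (RingEquiv.quotientBot A), hd])
  have hC0 : 0 < C := by
    have := hC 0
    rw [mul_zero, pow_zero] at this
    exact Nat.pos_of_ne_zero fun h => by rw [h, zero_mul] at this; omega
  refine lt_of_lt_of_le (show (0 : ℝ) < 1 / C by positivity) (ge_of_tendsto' hlim fun e => ?_)
  rw [div_le_div_iff₀ (Nat.cast_pos.2 hC0) (pow_pos hp0 _), one_mul, mul_comm _ (C : ℝ), ← qlen_self,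
    ← qlen_congr _ (Submodule.quotEquivOfEqBot (⊥ : Ideal A) rfl)]
  exact_mod_cast hC e

end Limit

end Groth.Agent.CommAlg6.HK
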