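import Mathlib
import Groth.Prelude.Def_Wider
import Groth.Agent.CommAlg6.HilbertKunz
import Groth.Agent.LocCoh.Depth
import Groth.Agent.CAlgH3.Depth
import Groth.Agent.CAlgH3.RegularCore
import Groth.Agent.CAlgH.CompleteLocal
import Groth.Agent.DimLib.Algebra

/-!
# A uniform annihilator for complexes of free modules with finite length homology

Over a complete Noetherian local domain `R` of dimension `d` there is a nonzero `c` such that `c^(k+1)` kills
`H_j` of every complex of free modules `0 → F_k → … → F_0` which is split exact on the punctured spectrum,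
whenever `1 ≤ j` and `k < d + j`. Homology is taken at positions `≥ 1` (pad for `H_0`).
-/

universe u

open Matrix

namespace Groth.Agent.CommAlg6.NIT

open LocCoh in
theorem smul_H_eq_zero_of_factor {P : Type u} [CommRing P] [IsNoetherianRing P] (I : Ideal P) {M F : Type u}
    [AddCommGroup M] [Module P M] [AddCommGroup F] [Module P F] (f : M →ₗ[P] F) (g : F →ₗ[P] M) (s : P)
    (h : ∀ x, g (f x) = s • x) (t : ℕ) (hF : Subsingleton (_root_.LocCoh.H I t F))
    (z : _root_.LocCoh.H I t M) : s • z = 0 := by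
  have h1 : g.comp f = s • LinearMap.id := LinearMap.ext h
  have h2 := LinearMap.congr_fun (congrArg (Groth.Agent.LocCoh.Hmap I t) h1) z
  rw [Groth.Agent.LocCoh.Hmap_comp, Groth.Agent.LocCoh.Hmap_smul, Groth.Agent.LocCoh.Hmap_id] at h2
  rw [show s • z = Groth.Agent.LocCoh.Hmap I t g (Groth.Agent.LocCoh.Hmap I t f z) from h2.symm,
    Subsingleton.elim (Groth.Agent.LocCoh.Hmap I t f z) 0, map_zero]

/-- A complex which is split exact on the punctured spectrum. -/
def PSplit {A : Type u} [CommRing A] [IsLocalRing A] (n : ℕ → ℕ)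
    (D : ∀ j, Matrix (Fin (n j)) (Fin (n (j + 1))) A) : Prop :=
  ∀ (j : ℕ) (Q : Ideal A), Q.IsPrime → Q ≠ IsLocalRing.maximalIdeal A →
    ∃ s : A, s ∉ Q ∧ ∃ (a : Matrix (Fin (n (j + 1))) (Fin (n j)) A)
      (b : Matrix (Fin (n (j + 1 + 1))) (Fin (n (j + 1))) A), a * D j + D (j + 1) * b = s • 1

theorem PSplit.map {A B : Type u} [CommRing A] [IsLocalRing A] [CommRing B] [IsLocalRing B] {n : ℕ → ℕ}
    {D : ∀ j, Matrix (Fin (n j)) (Fin (n (j + 1))) A} (h : PSplit n D) (φ : A →+* B)
    (hφ : ∀ Q : Ideal B, Q.IsPrime → Q ≠ IsLocalRing.maximalIdeal B → Q.comap φ ≠ IsLocalRing.maximalIdeal A) :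
    PSplit n fun j => (D j).map φ := by
  intro j Q hQ hne
  haveI := hQ
  obtain ⟨s, hs, a, b, hab⟩ := h j (Q.comap φ) inferInstance (hφ Q hQ hne)
  refine ⟨φ s, hs, a.map φ, b.map φ, ?_⟩
  show a.map φ * (D j).map φ + (D (j + 1)).map φ * b.map φ = φ s • 1
  rw [← Matrix.map_mul, ← Matrix.map_mul, ← Matrix.map_add φ (map_add φ), hab]
  ext x y
  rw [Matrix.map_apply, Matrix.smul_apply, Matrix.smul_apply, Matrix.one_apply, Matrix.one_apply]
  split <;> simp

theorem PSplit.torsion {A : Type u} [CommRing A] [IsNoetherianRing A] [IsLocalRing A] {n : ℕ → ℕ}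
    {D : ∀ j, Matrix (Fin (n j)) (Fin (n (j + 1))) A} (h : PSplit n D) (j : ℕ) (y : Fin (n (j + 1)) → A)
    (hy : D j *ᵥ y = 0) :
    ∃ N, ∀ a ∈ IsLocalRing.maximalIdeal A ^ N, a • y ∈ LinearMap.range (D (j + 1)).mulVecLin := by
  let J : Ideal A := (LinearMap.range (D (j + 1)).mulVecLin).comap (LinearMap.toSpanSingleton A _ y)
  have hJ : IsLocalRing.maximalIdeal A ≤ J.radical := by
    rw [Ideal.radical_eq_sInf]
    refine le_sInf fun Q ⟨hJQ, hQ⟩ => ?_
    by_contra hle
    have hne : Q ≠ IsLocalRing.maximalIdeal A := fun h => hle (h ▸ le_rfl)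
    obtain ⟨s, hs, a, b, hab⟩ := h j Q hQ hne
    refine hs (hJQ ?_)
    show s • y ∈ LinearMap.range (D (j + 1)).mulVecLin
    refine ⟨b *ᵥ y, ?_⟩
    have h1 := congrArg (fun M => M *ᵥ y) hab
    simp only [Matrix.add_mulVec, ← Matrix.mulVec_mulVec, hy, Matrix.mulVec_zero, zero_add, Matrix.smul_mulVec,
      Matrix.one_mulVec] at h1
    exact h1
  obtain ⟨N, hN⟩ := Ideal.exists_pow_le_of_le_radical_of_fg hJ (IsNoetherian.noetherian _)
  exact ⟨N, fun a ha => hN ha⟩

open LocCoh in
theorem exists_killer (R : Type u) [CommRing R] [IsDomain R] [IsLocalRing R] [IsNoetherianRing R]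
    [IsAdicComplete (IsLocalRing.maximalIdeal R) R] {d : ℕ} (hd : ringKrullDim R = d) :
    ∃ c : R, c ≠ 0 ∧ ∀ (k : ℕ) (n : ℕ → ℕ) (D : ∀ j, Matrix (Fin (n j)) (Fin (n (j + 1))) R),
      (∀ j, k < j → n j = 0) → (∀ j, D j * D (j + 1) = 0) → PSplit n D →
      ∀ j, k < d + (j + 1) → ∀ y : Fin (n (j + 1)) → R, D j *ᵥ y = 0 →
        c ^ (k + 1) • y ∈ LinearMap.range (D (j + 1)).mulVecLin := by
  classical
  obtain ⟨Λ, _, m, f, hΛ, -, hfinj, hffin, -⟩ :=
    Groth.Agent.CAlgH.exists_finite_injective_mvPowerSeries R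
  let P := MvPowerSeries (Fin m) Λ
  haveI : IsRegularLocalRing P := (Groth.Agent.CAlgH.isRegularLocalRing_mvPowerSeries Λ m).1
  haveI : IsDomain P := hfinj.isDomain f
  letI : Algebra P R := f.toAlgebra
  haveI : Module.Finite P R := hffin
  haveI : FaithfulSMul P R := (faithfulSMul_iff_algebraMap_injective P R).2 hfinj
  haveI : Algebra.IsIntegral P R := Algebra.IsIntegral.of_finite P R
  haveI : IsLocalHom (algebraMap P R) := RingHom.IsIntegral.isLocalHom
    (algebraMap_isIntegral_iff.2 inferInstance) hfinj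
  have hdP : ringKrullDim P = d := by
    rw [← hd]
    exact Groth.Agent.DimLib.ringKrullDim_eq_of_isIntegral hfinj
  let I := IsLocalRing.maximalIdeal P
  obtain ⟨ι, _, φ, ψ, s, hs, -, -, hψφ⟩ := HK.exists_generic_free (Ideal.isPrime_bot (α := P)) R
    (fun x hx z => by rw [(Submodule.mem_bot P).1 hx, zero_smul])
  let e : (ι → P ⧸ (⊥ : Ideal P)) ≃ₗ[P] (ι → P) := LinearEquiv.piCongrRight fun _ => Submodule.quotEquivOfEqBot ⊥ rfl
  let c := algebraMap P R s
  have hc : c ≠ 0 := fun h => hs ((Submodule.mem_bot P).2 ((map_eq_zero_iff _ hfinj).1 h))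
  refine ⟨c, hc, fun k n D hn hDD hsplit => ?_⟩
  -- the base of the devissage
  have hfreeH : ∀ (r : ℕ) (t : ℕ), t < d → Subsingleton (_root_.LocCoh.H I t (Fin r → ι → P)) := fun r t ht => by
    rcases subsingleton_or_nontrivial (Fin r → ι → P) with h | h
    · exact Groth.Agent.LocCoh.subsingleton_H_of_subsingleton t
    · refine (Groth.Agent.LocCoh.natCast_le_idealDepth_iff_H I (Fin r → ι → P) d).1 (le_of_eq ?_) t ht
      have h1 := Groth.Agent.CAlgH3.depth_free (R := P) (M := Fin r → ι → P)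
      have h2 := Groth.Agent.CAlgH3.depth_eq_ringKrullDim (R := P)
      rw [hdP, ← h1] at h2
      exact (WithBot.coe_inj.1 h2).symm
  have hX : ∀ (r : ℕ) (t : ℕ), t < d → ∀ z : _root_.LocCoh.H I t (Fin r → R), s • z = 0 := fun r t ht z =>
    smul_H_eq_zero_of_factor I (LinearMap.pi fun i => (e.toLinearMap.comp φ).comp (LinearMap.proj i))
      (LinearMap.pi fun i => (ψ.comp e.symm.toLinearMap).comp (LinearMap.proj i)) s
      (fun x => funext fun i => by simp [hψφ]) t (hfreeH r t ht) z
  -- the maps over `P`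
  let L : ∀ j, (Fin (n (j + 1)) → R) →ₗ[P] (Fin (n j) → R) := fun j => (D j).mulVecLin.restrictScalars P
  have hLL : ∀ j x, L j (L (j + 1) x) = 0 := fun j x => by
    show D j *ᵥ (D (j + 1) *ᵥ x) = 0
    rw [Matrix.mulVec_mulVec, hDD, Matrix.zero_mulVec]
  let E : ℕ → Type u := fun j => (Fin (n (j + 1)) → R) ⧸ LinearMap.range (L (j + 1))
  let B : ∀ j, E j →ₗ[P] LinearMap.range (L j) := fun j =>
    (LinearMap.range (L (j + 1))).liftQ (L j).rangeRestrict (by
      rintro _ ⟨x, rfl⟩
      exact Subtype.ext (hLL j x))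
  have hBsurj : ∀ j, Function.Surjective (B j) := fun j z => by
    obtain ⟨x, hx⟩ := (L j).surjective_rangeRestrict z
    exact ⟨Submodule.Quotient.mk x, hx⟩
  have htors : ∀ j, _root_.LocCoh.IsPowerTorsion I (LinearMap.ker (B j)) := by
    rintro j ⟨z, hz⟩
    obtain ⟨x, rfl⟩ := Submodule.mkQ_surjective _ z
    have hx : D j *ᵥ x = 0 := congrArg Subtype.val (LinearMap.mem_ker.1 hz)
    obtain ⟨N, hN⟩ := hsplit.torsion j x hx
    refine ⟨N, fun a ha => Subtype.ext ?_⟩
    show a • (LinearMap.range (L (j + 1))).mkQ x = 0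
    rw [← map_smul]
    refine (Submodule.Quotient.mk_eq_zero _).2 ?_
    have ha' : algebraMap P R a ∈ IsLocalRing.maximalIdeal R ^ N := by
      have h := Ideal.mem_map_of_mem (algebraMap P R) ha
      rw [Ideal.map_pow] at h
      exact Ideal.pow_right_mono (IsLocalRing.map_maximalIdeal_le (algebraMap P R)) N h
    obtain ⟨w, hw⟩ := hN _ ha'
    exact ⟨w, hw.trans (algebraMap_smul R a x)⟩
  have key : ∀ i j, k ≤ j + 1 + i → ∀ t, t + k < d + (j + 1) →
      ∀ z : _root_.LocCoh.H I t (E j), s ^ (i + 1) • z = 0 := by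
    intro i
    induction i with
    | zero =>
      intro j hj t ht z
      rcases lt_or_ge k (j + 1) with hlt | hge
      · haveI : IsEmpty (Fin (n (j + 1))) := by rw [hn _ hlt]; infer_instance
        haveI : Subsingleton (E j) := (Submodule.mkQ_surjective _).subsingleton
        haveI := Groth.Agent.LocCoh.subsingleton_H_of_subsingleton (I := I) (M := E j) t
        exact Subsingleton.elim _ _
      · have hbot : LinearMap.range (L (j + 1)) = ⊥ := by
          haveI : IsEmpty (Fin (n (j + 1 + 1))) := by rw [hn _ (by omega)]; infer_instance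
          rw [LinearMap.range_eq_bot]
          exact Subsingleton.elim _ _
        apply (Groth.Agent.LocCoh.Hequiv I t (Submodule.quotEquivOfEqBot _ hbot)).injective
        rw [map_smul, map_zero, zero_add, pow_one]
        exact hX _ t (by omega) _
    | succ i ih =>
      intro j hj t ht z
      rcases lt_or_ge k (j + 1) with hlt | hge
      · haveI : IsEmpty (Fin (n (j + 1))) := by rw [hn _ hlt]; infer_instance
        haveI : Subsingleton (E j) := (Submodule.mkQ_surjective _).subsingleton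
        haveI := Groth.Agent.LocCoh.subsingleton_H_of_subsingleton (I := I) (M := E j) t
        exact Subsingleton.elim _ _
      have hf : Function.Injective (LinearMap.range (L (j + 1))).subtype := Submodule.subtype_injective _
      have hg : Function.Surjective (LinearMap.range (L (j + 1))).mkQ := Submodule.mkQ_surjective _
      have hfg := LinearMap.exact_subtype_mkQ (LinearMap.range (L (j + 1)))
      have hB2 : Function.Exact (LinearMap.ker (B (j + 1))).subtype (B (j + 1)) := by
        rw [LinearMap.exact_iff, Submodule.range_subtype]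
      haveI := Groth.Agent.LocCoh.subsingleton_H_of_powerTorsion (I := I) (t + 2) _ (htors (j + 1)) (by omega)
      set w := Groth.Agent.LocCoh.connecting I hf hg hfg t z
      have hex := Groth.Agent.LocCoh.Hmap_connecting_exact (I := I) (Submodule.subtype_injective _) (hBsurj (j + 1)) hB2 (t + 1)
      obtain ⟨v, hv⟩ := (hex w).1 (Subsingleton.elim _ _)
      have h1 : s ^ (i + 1) • w = 0 := by
        rw [← hv, ← map_smul, ih (j + 1) (by omega) (t + 1) (by omega) v, map_zero]
      obtain ⟨u, hu⟩ := (Groth.Agent.LocCoh.Hmap_connecting_exact (I := I) hf hg hfg t (s ^ (i + 1) • z)).1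
        (by rw [map_smul]; exact h1)
      rw [pow_succ', mul_smul, ← hu]
      rw [← map_smul, hX _ t (by omega) u, map_zero]
  intro j hj y hy
  have hmem : (LinearMap.range (L (j + 1))).mkQ y ∈ Groth.Agent.LocCoh.powTorsion I (E j) := by
    obtain ⟨N, hN⟩ := htors j ⟨(LinearMap.range (L (j + 1))).mkQ y, LinearMap.mem_ker.2 (Subtype.ext hy)⟩
    exact ⟨N, fun a ha => congrArg Subtype.val (hN a ha)⟩
  have h0 := key k j (by omega) 0 (by omega) ((Groth.Agent.LocCoh.H0Equiv I (E j)).symm ⟨_, hmem⟩)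
  rw [← map_smul, LinearEquiv.map_eq_zero_iff] at h0
  obtain ⟨w, hw⟩ := (Submodule.Quotient.mk_eq_zero (LinearMap.range (L (j + 1)))).1
    (show Submodule.Quotient.mk (s ^ (k + 1) • y) = 0 by
      rw [Submodule.Quotient.mk_smul]; exact congrArg Subtype.val h0)
  refine ⟨w, hw.trans ?_⟩
  rw [← map_pow, algebraMap_smul]

end Groth.Agent.CommAlg6.NIT
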