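import Mathlib
import Groth.Agent.CommAlg6.NITCore
import Groth.Agent.LocCoh.NonVanishing
import Groth.Agent.CAlgH.NagataComplete

/-!
# New intersection theorem and canonical elements in prime characteristic, matrix form
-/

universe u

open Matrix IsLocalRing

namespace Groth.Agent.CommAlg6.NIT

variable {A : Type u} [CommRing A] [IsNoetherianRing A] [IsLocalRing A]

/-- Passage to a complete local domain of the same dimension. -/
theorem exists_complete_domain (A : Type u) [CommRing A] [IsNoetherianRing A] [IsLocalRing A] {d : ℕ}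
    (hd : ringKrullDim A = d) :
    ∃ (R : Type u) (_ : CommRing R) (_ : IsDomain R) (_ : IsLocalRing R) (_ : IsNoetherianRing R)
      (_ : IsAdicComplete (maximalIdeal R) R) (φ : A →+* R),
        ringKrullDim R = d ∧ (maximalIdeal A).map φ = maximalIdeal R := by
  haveI := Groth.Agent.Matlis6.isNoetherianRing_adicCompletion (maximalIdeal A)
  let B := AdicCompletion (maximalIdeal A) A
  have hB : ringKrullDim B = d := (Groth.Agent.LocCoh.ringKrullDim_adicCompletion A).trans hd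
  obtain ⟨P, hP, hPd⟩ := EGA41Lib.HS.exists_minimal_prime_dim (A := B) (M := B) (d := d)
    (by rw [Module.supportDim_self_eq_ringKrullDim]; exact hB)
  haveI := hP.1.1
  haveI : IsLocalRing (B ⧸ P) := IsLocalRing.of_surjective' (Ideal.Quotient.mk P) Ideal.Quotient.mk_surjective
  refine ⟨B ⧸ P, inferInstance, inferInstance, inferInstance, inferInstance,
    Groth.Agent.CAlgH.isAdicComplete_quotient P, (Ideal.Quotient.mk P).comp (algebraMap A B),
    le_antisymm ((ringKrullDim_quotient_le P).trans hB.le) hPd, ?_⟩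
  rw [← Ideal.map_map, ← AdicCompletion.maximalIdeal_eq_map]
  exact IsLocalRing.map_maximalIdeal_of_surjective _ Ideal.Quotient.mk_surjective

theorem comap_ne_maximal {R : Type u} [CommRing R] [IsLocalRing R] {φ : A →+* R}
    (hφ : (maximalIdeal A).map φ = maximalIdeal R) (Q : Ideal R) (hQ : Q.IsPrime) (hne : Q ≠ maximalIdeal R) :
    Q.comap φ ≠ maximalIdeal A := fun h => by
  refine hne (le_antisymm (le_maximalIdeal hQ.ne_top) ?_)
  rw [← hφ, Ideal.map_le_iff_le_comap, h]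

theorem frob_comap_ne_maximal {p : ℕ} [Fact p.Prime] {R : Type u} [CommRing R] [IsLocalRing R] [CharP R p] (e : ℕ) (Q : Ideal R)
    (hQ : Q.IsPrime) (hne : Q ≠ maximalIdeal R) : Q.comap (iterateFrobenius R p e) ≠ maximalIdeal R := fun h => by
  refine hne (le_antisymm (le_maximalIdeal hQ.ne_top) fun x hx => hQ.mem_of_pow_mem (p ^ e) ?_)
  rw [← h, Ideal.mem_comap, iterateFrobenius_def] at hx
  exact hx

/-- New intersection theorem in prime characteristic. -/
theorem dim_add_le_of_data (p : ℕ) [Fact p.Prime] [CharP A p] {d : ℕ} (hd : ringKrullDim A = d) {k : ℕ} {n : ℕ → ℕ}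
    {D : ∀ j, Matrix (Fin (n j)) (Fin (n (j + 1))) A} (hn : ∀ j, k < j → n j = 0) (hDD : ∀ j, D j * D (j + 1) = 0)
    (hD : PSplit n D) (j : ℕ) (y : Fin (n (j + 1)) → A) (hy : D j *ᵥ y = 0) (ℓ : Fin (n (j + 1)) → A)
    (hℓ : ∀ i, (ℓ ᵥ* D (j + 1)) i ∈ maximalIdeal A) (hu : IsUnit (ℓ ⬝ᵥ y)) : d + (j + 1) ≤ k := by
  by_contra hlt
  rw [not_le] at hlt
  obtain ⟨R, _, _, _, _, _, φ, hdR, hφ⟩ := exists_complete_domain A hd
  haveI : CharP R p := by
    rw [CharP.charP_iff_prime_eq_zero Fact.out, ← map_natCast φ, CharP.cast_eq_zero, map_zero]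
  obtain ⟨c, hc0, hc⟩ := exists_killer R hdR
  have key : ∀ e, c ^ (k + 1) ∈ maximalIdeal R ^ p ^ e := fun e => by
    let ψ : A →+* R := (iterateFrobenius R p e).comp φ
    have hψ : ∀ x ∈ maximalIdeal A, ψ x ∈ maximalIdeal R ^ p ^ e := fun x hx => by
      show iterateFrobenius R p e (φ x) ∈ _
      rw [iterateFrobenius_def]
      exact Ideal.pow_mem_pow (hφ ▸ Ideal.mem_map_of_mem φ hx) _
    obtain ⟨z, hz⟩ := hc k n (fun j => (D j).map ψ) hn (fun i => by
        show (D i).map ψ * (D (i + 1)).map ψ = 0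
        rw [← Matrix.map_mul, hDD, Matrix.map_zero ψ (map_zero ψ)])
      (hD.map ψ fun Q hQ hne => by
        show Q.comap ((iterateFrobenius R p e).comp φ) ≠ _
        rw [← Ideal.comap_comap]
        exact comap_ne_maximal hφ _ inferInstance (frob_comap_ne_maximal e Q hQ hne))
      j hlt (ψ ∘ y) (by
        funext i
        exact ((RingHom.map_mulVec ψ (D j) y i).symm).trans (by rw [hy, Pi.zero_apply, map_zero, Pi.zero_apply]))
    have h1 : c ^ (k + 1) * ψ (ℓ ⬝ᵥ y) = ∑ i, ψ ((ℓ ᵥ* D (j + 1)) i) * z i := by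
      rw [RingHom.map_dotProduct, ← smul_eq_mul, ← dotProduct_smul, ← hz]
      show (ψ ∘ ℓ) ⬝ᵥ ((D (j + 1)).map ψ *ᵥ z) = _
      rw [dotProduct_mulVec]
      refine Finset.sum_congr rfl fun i _ => ?_
      rw [RingHom.map_vecMul]
    refine (Ideal.mul_unit_mem_iff_mem _ (hu.map ψ)).1 ?_
    rw [h1]
    exact sum_mem fun i _ => Ideal.mul_mem_right _ _ (hψ _ (hℓ i))
  have h0 : c ^ (k + 1) ∈ (⊥ : Ideal R) := by
    rw [← Ideal.iInf_pow_eq_bot_of_isLocalRing (maximalIdeal R) (IsLocalRing.maximalIdeal.isMaximal R).ne_top,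
      Ideal.mem_iInf]
    intro i
    exact Ideal.pow_le_pow_right (Nat.lt_pow_self (Fact.out (p := p.Prime)).one_lt).le (key i)
  exact pow_ne_zero _ hc0 ((Submodule.mem_bot R).1 h0)

theorem exists_lift {R : Type u} [CommRing R] {a b l : ℕ} {c : R} (D : Matrix (Fin a) (Fin b) R)
    {D' : Matrix (Fin b) (Fin l) R} (h : ∀ y : Fin b → R, D *ᵥ y = 0 → c • y ∈ LinearMap.range D'.mulVecLin)
    {m : ℕ} (W : Matrix (Fin b) (Fin m) R) (hW : D * W = 0) : ∃ Z : Matrix (Fin l) (Fin m) R, c • W = D' * Z := by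
  have : ∀ i, ∃ z : Fin l → R, D' *ᵥ z = c • fun r => W r i := fun i => h _ (funext fun r => congrFun (congrFun hW r) i)
  choose z hz using this
  exact ⟨Matrix.of fun r i => z i r, Matrix.ext fun r i => (congrFun (hz i) r).symm⟩

theorem mul_mem {R : Type u} [CommRing R] {a b l : ℕ} {J : Ideal R} {M : Matrix (Fin b) (Fin l) R}
    (hM : ∀ x y, M x y ∈ J) (S : Matrix (Fin a) (Fin b) R) (x : Fin a) (y : Fin l) : (S * M) x y ∈ J :=
  by rw [Matrix.mul_apply]; exact sum_mem fun z _ => Ideal.mul_mem_left _ _ (hM z y)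

/-- Canonical element property in prime characteristic: `D` is the Koszul-like complex, `G` the resolution,
`f` the comparison. -/
theorem exists_notMem_maximal (p : ℕ) [Fact p.Prime] [CharP A p] {d : ℕ} (hd : ringKrullDim A = d) {n mm : ℕ → ℕ}
    {D : ∀ j, Matrix (Fin (n j)) (Fin (n (j + 1))) A} {G : ∀ j, Matrix (Fin (mm j)) (Fin (mm (j + 1))) A}
    (hn : ∀ j, d < j → n j = 0) (hnd : n d ≠ 0) (hDD : ∀ j, D j * D (j + 1) = 0) (hGG : ∀ j, G j * G (j + 1) = 0)
    (hD : PSplit n D) (hDm : ∀ j x y, D j x y ∈ maximalIdeal A)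
    (f : ∀ j, Matrix (Fin (mm j)) (Fin (n j)) A) (hf : ∀ j, G j * f (j + 1) = f j * D j)
    (h₀ : Matrix (Fin (n 0)) (Fin (mm 0)) A) (T : Matrix (Fin (n 1)) (Fin (mm 1)) A) (hT : h₀ * G 0 = D 0 * T)
    (S : Matrix (Fin (n 1)) (Fin (n 0)) A) (hS : h₀ * f 0 - 1 = D 0 * S) :
    ∃ x y, f d x y ∉ maximalIdeal A := by
  by_contra hfd
  simp only [not_exists, not_not] at hfd
  obtain ⟨R, _, _, _, _, _, φ, hdR, hφ⟩ := exists_complete_domain A hd
  haveI : CharP R p := by
    rw [CharP.charP_iff_prime_eq_zero Fact.out, ← map_natCast φ, CharP.cast_eq_zero, map_zero]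
  obtain ⟨c, hc0, hc⟩ := exists_killer R hdR
  have key : ∀ e, c ^ ((d + 1) * d) ∈ maximalIdeal R ^ p ^ e := fun e => by
    let ψ : A →+* R := (iterateFrobenius R p e).comp φ
    let J : Ideal R := maximalIdeal R ^ p ^ e
    have hψ : ∀ x ∈ maximalIdeal A, ψ x ∈ J := fun x hx => by
      show iterateFrobenius R p e (φ x) ∈ _
      rw [iterateFrobenius_def]
      exact Ideal.pow_mem_pow (hφ ▸ Ideal.mem_map_of_mem φ hx) _
    let D' := fun j => (D j).map ψ
    let G' := fun j => (G j).map ψ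
    let f' := fun j => (f j).map ψ
    have hDD' : ∀ j, D' j * D' (j + 1) = 0 := fun j => by
      show (D j).map ψ * (D (j + 1)).map ψ = 0
      rw [← Matrix.map_mul, hDD, Matrix.map_zero ψ (map_zero ψ)]
    have hGG' : ∀ j, G' j * G' (j + 1) = 0 := fun j => by
      show (G j).map ψ * (G (j + 1)).map ψ = 0
      rw [← Matrix.map_mul, hGG, Matrix.map_zero ψ (map_zero ψ)]
    have hf' : ∀ j, G' j * f' (j + 1) = f' j * D' j := fun j => by
      show (G j).map ψ * (f (j + 1)).map ψ = (f j).map ψ * (D j).map ψ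
      rw [← Matrix.map_mul, hf, Matrix.map_mul]
    have hkill : ∀ j, ∀ y : Fin (n (j + 1)) → R, D' j *ᵥ y = 0 →
        c ^ (d + 1) • y ∈ LinearMap.range (D' (j + 1)).mulVecLin := fun j y hy =>
      hc d n D' hn hDD' (hD.map ψ fun Q hQ hne => by
        show Q.comap ((iterateFrobenius R p e).comp φ) ≠ _
        rw [← Ideal.comap_comap]
        exact comap_ne_maximal hφ _ inferInstance (frob_comap_ne_maximal e Q hQ hne)) j (by omega) y hy
    have claim : ∀ j, ∃ (hh : Matrix (Fin (n j)) (Fin (mm j)) R) (hh' : Matrix (Fin (n (j + 1))) (Fin (mm (j + 1))) R)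
        (S' : Matrix (Fin (n (j + 1))) (Fin (n j)) R) (V : Matrix (Fin (n j)) (Fin (n j)) R),
        hh * G' j = D' j * hh' ∧ hh * f' j - c ^ ((d + 1) * j) • 1 = D' j * S' + V ∧ V * D' j = 0 ∧
          ∀ x y, V x y ∈ J := by
      intro j
      induction j with
      | zero =>
        refine ⟨h₀.map ψ, T.map ψ, S.map ψ, 0, ?_, ?_, Matrix.zero_mul _, fun _ _ => zero_mem _⟩
        · show h₀.map ψ * (G 0).map ψ = (D 0).map ψ * T.map ψ
          rw [← Matrix.map_mul, hT, Matrix.map_mul]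
        · show h₀.map ψ * (f 0).map ψ - _ = (D 0).map ψ * S.map ψ + 0
          rw [mul_zero, pow_zero, one_smul, add_zero, ← Matrix.map_mul, ← Matrix.map_mul, ← hS,
            Matrix.map_sub ψ (map_sub ψ), Matrix.map_one ψ (map_zero ψ) (map_one ψ)]
      | succ j ih =>
        obtain ⟨hh, hh', S', V, h1, h2, h3, -⟩ := ih
        obtain ⟨Z, hZ⟩ := exists_lift (D' j) (hkill j) (hh' * G' (j + 1))
          (by rw [← Matrix.mul_assoc, ← h1, Matrix.mul_assoc, hGG', Matrix.mul_zero])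
        obtain ⟨S'', hS''⟩ := exists_lift (D' j) (hkill j)
          (hh' * f' (j + 1) - c ^ ((d + 1) * j) • 1 - S' * D' j) (by
            rw [Matrix.mul_sub, Matrix.mul_sub, ← Matrix.mul_assoc, ← h1, Matrix.mul_assoc, hf', ← Matrix.mul_assoc,
              Matrix.mul_smul, Matrix.mul_one, ← Matrix.mul_assoc,
              show c ^ ((d + 1) * j) • D' j = (c ^ ((d + 1) * j) • (1 : Matrix (Fin (n j)) (Fin (n j)) R)) * D' j by
                rw [Matrix.smul_mul, Matrix.one_mul],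
              ← Matrix.sub_mul, ← Matrix.sub_mul, h2, add_sub_cancel_left, h3])
        refine ⟨c ^ (d + 1) • hh', Z, S'', c ^ (d + 1) • (S' * D' j), ?_, ?_, ?_, ?_⟩
        · rw [Matrix.smul_mul, hZ]
        · rw [mul_add (d + 1) j 1, mul_one, pow_add c ((d + 1) * j) (d + 1), mul_comm (c ^ ((d + 1) * j)), mul_smul, Matrix.smul_mul, ← smul_sub,
            ← hS'', ← smul_add, sub_add_cancel]
        · rw [Matrix.smul_mul, Matrix.mul_assoc, hDD', Matrix.mul_zero, smul_zero]
        · intro x y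
          rw [Matrix.smul_apply, smul_eq_mul]
          exact Ideal.mul_mem_left _ _ (mul_mem (fun a b => hψ _ (hDm j a b)) S' x y)
    obtain ⟨hh, hh', S', V, -, h2, -, hV⟩ := claim d
    haveI : IsEmpty (Fin (n (d + 1))) := by rw [hn _ (Nat.lt_succ_self d)]; infer_instance
    have h := congrFun (congrFun h2 ⟨0, Nat.pos_of_ne_zero hnd⟩) ⟨0, Nat.pos_of_ne_zero hnd⟩
    rw [Matrix.sub_apply, Matrix.add_apply, Matrix.smul_apply, Matrix.one_apply_eq, smul_eq_mul, mul_one,
      show (D' d * S') ⟨0, Nat.pos_of_ne_zero hnd⟩ ⟨0, Nat.pos_of_ne_zero hnd⟩ = 0 from (Matrix.mul_apply).trans (Finset.sum_of_isEmpty _),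
      zero_add, sub_eq_iff_eq_add'] at h
    have h4 : (hh * f' d) ⟨0, Nat.pos_of_ne_zero hnd⟩ ⟨0, Nat.pos_of_ne_zero hnd⟩ ∈ J :=
      mul_mem (fun a b => hψ _ (hfd a b)) hh _ _
    rw [h] at h4
    exact (add_mem_cancel_right (hV _ _)).1 h4
  have h0 : c ^ ((d + 1) * d) ∈ (⊥ : Ideal R) := by
    rw [← Ideal.iInf_pow_eq_bot_of_isLocalRing (maximalIdeal R) (IsLocalRing.maximalIdeal.isMaximal R).ne_top,
      Ideal.mem_iInf]
    intro i
    exact Ideal.pow_le_pow_right (Nat.lt_pow_self (Fact.out (p := p.Prime)).one_lt).le (key i)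
  exact pow_ne_zero _ hc0 ((Submodule.mem_bot R).1 h0)

end Groth.Agent.CommAlg6.NIT
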