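import Mathlib
import Groth.Agent.CommAlg6.NITApp

/-!
# Complexes of finite free modules as matrices
-/

universe u

open Matrix IsLocalRing

namespace Groth.Agent.CommAlg6.NIT

variable {A : Type u} [CommRing A]

/-- Homotopies from exactness, relative to a multiplicative set of denominators. -/
theorem exists_homotopy [IsNoetherianRing A] (S : Submonoid A) {n : ℕ → ℕ}
    {D : ∀ j, Matrix (Fin (n j)) (Fin (n (j + 1))) A} (hDD : ∀ j, D j * D (j + 1) = 0)
    (h₀ : ∀ x : Fin (n 0) → A, ∃ s ∈ S, s • x ∈ LinearMap.range (D 0).mulVecLin) (J : ℕ)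
    (h : ∀ i < J, ∀ y : Fin (n (i + 1)) → A, D i *ᵥ y = 0 → ∃ s ∈ S, s • y ∈ LinearMap.range (D (i + 1)).mulVecLin) :
    ∀ j ≤ J, ∃ s ∈ S, ∃ a : Matrix (Fin (n (j + 1))) (Fin (n j)) A, D j * a * D j = s • D j := by
  classical
  have common : ∀ (m l : ℕ) (M : Matrix (Fin m) (Fin l) A) (r : ℕ) (W : Fin r → Fin m → A),
      (∀ i, ∃ s ∈ S, s • W i ∈ LinearMap.range M.mulVecLin) →
      ∃ s ∈ S, ∃ Z : Matrix (Fin l) (Fin r) A, M * Z = s • (Matrix.of W)ᵀ := by
    intro m l M r W hW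
    choose t ht z hz using hW
    refine ⟨∏ i, t i, prod_mem fun i _ => ht i, Matrix.of fun x i => (∏ k ∈ Finset.univ.erase i, t k) * z i x, ?_⟩
    ext x i
    have h1 : (M *ᵥ z i) x = t i * W i x := congrFun (hz i) x
    rw [Matrix.mul_apply, Matrix.smul_apply, Matrix.transpose_apply, Matrix.of_apply, smul_eq_mul,
      ← Finset.prod_erase_mul _ _ (Finset.mem_univ i), mul_assoc, ← h1, Matrix.mulVec, dotProduct, Finset.mul_sum]
    exact Finset.sum_congr rfl fun y _ => by rw [Matrix.of_apply]; ring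
  intro j
  induction j with
  | zero =>
    intro _
    obtain ⟨s, hs, Z, hZ⟩ := common _ _ (D 0) (n 0) (fun i => Pi.single i 1) fun i => h₀ _
    refine ⟨s, hs, Z, ?_⟩
    rw [hZ, show (Matrix.of fun i : Fin (n 0) => (Pi.single i 1 : Fin (n 0) → A))ᵀ = 1 from
      Matrix.ext fun x i => by rw [Matrix.transpose_apply, Matrix.of_apply, Matrix.one_apply, Pi.single_apply],
      Matrix.smul_mul, Matrix.one_mul]
  | succ j ih =>
    intro hj
    obtain ⟨s, hs, a, ha⟩ := ih (by omega)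
    let W := fun i : Fin (n (j + 1)) => fun x => (s • (1 : Matrix (Fin (n (j + 1))) (Fin (n (j + 1))) A) - a * D j) x i
    have hW : ∀ i, D j *ᵥ W i = 0 := fun i => by
      funext x
      have h0 : D j * (s • 1 - a * D j) = 0 := by
        rw [Matrix.mul_sub, Matrix.mul_smul, Matrix.mul_one, ← Matrix.mul_assoc, ha, sub_self]
      exact congrFun (congrFun h0 x) i
    obtain ⟨t, ht, Z, hZ⟩ := common _ _ (D (j + 1)) _ W fun i => h j (by omega) _ (hW i)
    refine ⟨t * s, S.mul_mem ht hs, Z, ?_⟩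
    rw [hZ, show (Matrix.of W)ᵀ = s • 1 - a * D j from Matrix.ext fun _ _ => rfl, Matrix.smul_mul, Matrix.sub_mul,
      Matrix.smul_mul, Matrix.one_mul, Matrix.mul_assoc, hDD, Matrix.mul_zero, sub_zero, smul_smul]

theorem exists_split_at [IsNoetherianRing A] (S : Submonoid A) {n : ℕ → ℕ}
    {D : ∀ j, Matrix (Fin (n j)) (Fin (n (j + 1))) A} (hDD : ∀ j, D j * D (j + 1) = 0)
    (h₀ : ∀ x : Fin (n 0) → A, ∃ s ∈ S, s • x ∈ LinearMap.range (D 0).mulVecLin)
    (h : ∀ i, ∀ y : Fin (n (i + 1)) → A, D i *ᵥ y = 0 → ∃ s ∈ S, s • y ∈ LinearMap.range (D (i + 1)).mulVecLin)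
    (j : ℕ) : ∃ s ∈ S, ∃ (a : Matrix (Fin (n (j + 1))) (Fin (n j)) A)
      (b : Matrix (Fin (n (j + 1 + 1))) (Fin (n (j + 1))) A), a * D j + D (j + 1) * b = s • 1 := by
  classical
  obtain ⟨s, hs, a, ha⟩ := exists_homotopy S hDD h₀ j (fun i _ => h i) j le_rfl
  let W : Matrix (Fin (n (j + 1))) (Fin (n (j + 1))) A := s • 1 - a * D j
  have h0 : D j * W = 0 := by
    rw [Matrix.mul_sub, Matrix.mul_smul, Matrix.mul_one, ← Matrix.mul_assoc, ha, sub_self]
  have hW : ∀ i, D j *ᵥ (fun x => W x i) = 0 := fun i => funext fun x => congrFun (congrFun h0 x) i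
  choose t ht z hz using fun i => h j _ (hW i)
  refine ⟨(∏ i, t i) * s, S.mul_mem (prod_mem fun i _ => ht i) hs, (∏ i, t i) • a,
    Matrix.of fun x i => (∏ k ∈ Finset.univ.erase i, t k) * z i x, ?_⟩
  have h2 : D (j + 1) * (Matrix.of fun x i => (∏ k ∈ Finset.univ.erase i, t k) * z i x) = (∏ i, t i) • W := by
    ext x i
    have h1 : (D (j + 1) *ᵥ z i) x = t i * W x i := congrFun (hz i) x
    rw [Matrix.mul_apply, Matrix.smul_apply, smul_eq_mul,
      ← Finset.prod_erase_mul _ _ (Finset.mem_univ i), mul_assoc, ← h1, Matrix.mulVec, dotProduct, Finset.mul_sum]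
    exact Finset.sum_congr rfl fun y _ => by rw [Matrix.of_apply]; ring
  rw [h2, Matrix.smul_mul, ← smul_add, add_sub_cancel, smul_smul]

theorem psplit_of_killed [IsNoetherianRing A] [IsLocalRing A] {n : ℕ → ℕ}
    {D : ∀ j, Matrix (Fin (n j)) (Fin (n (j + 1))) A} (hDD : ∀ j, D j * D (j + 1) = 0)
    (h₀ : ∀ Q : Ideal A, Q.IsPrime → Q ≠ maximalIdeal A → ∀ x : Fin (n 0) → A,
      ∃ s, s ∉ Q ∧ s • x ∈ LinearMap.range (D 0).mulVecLin)
    (h : ∀ Q : Ideal A, Q.IsPrime → Q ≠ maximalIdeal A → ∀ i, ∀ y : Fin (n (i + 1)) → A, D i *ᵥ y = 0 →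
      ∃ s, s ∉ Q ∧ s • y ∈ LinearMap.range (D (i + 1)).mulVecLin) : PSplit n D := fun j Q hQ hne =>
  haveI := hQ
  exists_split_at Q.primeCompl hDD (h₀ Q hQ hne) (h Q hQ hne) j

/-- Matrix form of the new intersection theorem for `0 → F_k → … → F_0 → 0`. -/
theorem dim_le_of_killed [IsNoetherianRing A] [IsLocalRing A] (p : ℕ) [Fact p.Prime] [CharP A p]
    {d : ℕ} (hd : ringKrullDim A = d) {k : ℕ} {n : ℕ → ℕ} {D : ∀ j, Matrix (Fin (n j)) (Fin (n (j + 1))) A}
    (hn : ∀ j, k < j → n j = 0) (hDD : ∀ j, D j * D (j + 1) = 0)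
    (h₀ : ∀ Q : Ideal A, Q.IsPrime → Q ≠ maximalIdeal A → ∀ x : Fin (n 0) → A,
      ∃ s, s ∉ Q ∧ s • x ∈ LinearMap.range (D 0).mulVecLin)
    (h : ∀ Q : Ideal A, Q.IsPrime → Q ≠ maximalIdeal A → ∀ i, ∀ y : Fin (n (i + 1)) → A, D i *ᵥ y = 0 →
      ∃ s, s ∉ Q ∧ s • y ∈ LinearMap.range (D (i + 1)).mulVecLin)
    (hne : (∃ x : Fin (n 0) → A, x ∉ LinearMap.range (D 0).mulVecLin) ∨
      ∃ i, ∃ y : Fin (n (i + 1)) → A, D i *ᵥ y = 0 ∧ y ∉ LinearMap.range (D (i + 1)).mulVecLin) :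
    d ≤ k := by
  classical
  -- pad by a zero module in position 0
  let n' : ℕ → ℕ
    | 0 => 0
    | i + 1 => n i
  let D' : ∀ j, Matrix (Fin (n' j)) (Fin (n' (j + 1))) A
    | 0 => 0
    | i + 1 => D i
  have hDD' : ∀ j, D' j * D' (j + 1) = 0
    | 0 => Matrix.zero_mul _
    | i + 1 => hDD i
  have hn' : ∀ j, k + 1 < j → n' j = 0
    | 0, h => absurd h (Nat.not_lt_zero _)
    | i + 1, h => hn i (by omega)
  have h0' : ∀ (P : A → Prop), P 1 → ∀ x : Fin (n' 0) → A, ∃ s, P s ∧ s • x ∈ LinearMap.range (D' 0).mulVecLin :=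
    fun P hP x => ⟨1, hP, 0, funext fun i => i.elim0⟩
  have h' : ∀ Q : Ideal A, Q.IsPrime → Q ≠ maximalIdeal A → ∀ i, ∀ y : Fin (n' (i + 1)) → A, D' i *ᵥ y = 0 →
      ∃ s, s ∉ Q ∧ s • y ∈ LinearMap.range (D' (i + 1)).mulVecLin := fun Q hQ hne i =>
    match i with
    | 0 => fun y _ => h₀ Q hQ hne y
    | i + 1 => h Q hQ hne i
  have hne' : ∃ i, ∃ y : Fin (n' (i + 1)) → A, D' i *ᵥ y = 0 ∧ y ∉ LinearMap.range (D' (i + 1)).mulVecLin := by
    rcases hne with ⟨x, hx⟩ | ⟨i, hi⟩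
    · exact ⟨0, x, Matrix.zero_mulVec x, hx⟩
    · exact ⟨i + 1, hi⟩
  have hps : PSplit n' D' := psplit_of_killed hDD'
    (fun Q hQ hne => h0' (· ∉ Q) (fun h => hQ.ne_top ((Ideal.eq_top_iff_one Q).2 h))) h'
  obtain ⟨y₀, hy₀, hy₀'⟩ := Nat.find_spec hne'
  set j := Nat.find hne'
  obtain ⟨s, hs, a, ha⟩ := exists_homotopy (⊥ : Submonoid A) hDD'
    (fun x => let ⟨s, hs, hx⟩ := h0' (· ∈ (⊥ : Submonoid A)) (one_mem _) x; ⟨s, hs, hx⟩) j
    (fun i hi y hy => ⟨1, one_mem _, by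
      rw [one_smul]
      by_contra hc
      exact Nat.find_min hne' hi ⟨y, hy, hc⟩⟩) j le_rfl
  rw [Submonoid.mem_bot.1 hs, one_smul] at ha
  let F := Fin (n' (j + 1)) → A
  let Z : Submodule A F := LinearMap.ker (D' j).mulVecLin
  let W : Submodule A F := LinearMap.range (D' (j + 1)).mulVecLin
  let π : F →ₗ[A] F := LinearMap.id - (a * D' j).mulVecLin
  have hπ : ∀ z ∈ Z, π z = z := fun z hz => by
    show z - (a * D' j) *ᵥ z = z
    rw [← Matrix.mulVec_mulVec, show D' j *ᵥ z = 0 from hz, Matrix.mulVec_zero, sub_zero]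
  have hπZ : ∀ z, π z ∈ Z := fun z => by
    show D' j *ᵥ (z - (a * D' j) *ᵥ z) = 0
    rw [Matrix.mulVec_sub, Matrix.mulVec_mulVec, ← Matrix.mul_assoc, ha, sub_self]
  obtain ⟨y, hy, hyW⟩ : ∃ y ∈ Z, y ∉ W ⊔ maximalIdeal A • (⊤ : Submodule A F) := by
    by_contra hcon
    simp only [not_exists, not_and, not_not] at hcon
    have hle : Z ≤ W ⊔ maximalIdeal A • Z := fun z hz => by
      obtain ⟨w, hw, v, hv, hwv⟩ := Submodule.mem_sup.1 (hcon z hz)
      have hWZ : W ≤ Z := by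
        rintro _ ⟨x, rfl⟩
        show D' j *ᵥ (D' (j + 1) *ᵥ x) = 0
        rw [Matrix.mulVec_mulVec, hDD', Matrix.zero_mulVec]
      rw [← hπ z hz, ← hwv, map_add, hπ w (hWZ hw)]
      refine Submodule.add_mem_sup hw ?_
      have hv' := Submodule.mem_map_of_mem (f := π) hv
      rw [Submodule.map_smul''] at hv'
      exact Submodule.smul_mono le_rfl (fun x hx => by obtain ⟨x', -, rfl⟩ := hx; exact hπZ x') hv'
    exact hy₀' (Submodule.le_of_le_smul_of_le_jacobson_bot (IsNoetherian.noetherian Z)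
      (maximalIdeal_le_jacobson _) hle hy₀)
  -- a functional
  let q : F →ₗ[A] (Fin (n' (j + 1)) → ResidueField A) :=
    LinearMap.pi fun i => (Algebra.linearMap A (ResidueField A)).comp (LinearMap.proj i)
  let W' : Submodule (ResidueField A) (Fin (n' (j + 1)) → ResidueField A) := Submodule.span _ (q '' (W : Set F))
  have hyW' : q y ∉ W' := fun h' => by
    have hsurj : Function.Surjective (algebraMap A (ResidueField A)) := IsLocalRing.residue_surjective
    have h'' : q y ∈ Submodule.span A (q '' (W : Set F)) := by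
      rw [← Submodule.restrictScalars_span A (ResidueField A) hsurj]
      exact h'
    rw [← Submodule.map_span, Submodule.span_eq] at h''
    obtain ⟨w, hw, hwy⟩ := h''
    refine hyW ?_
    rw [← add_sub_cancel w y]
    refine Submodule.add_mem_sup hw ?_
    rw [pi_eq_sum_univ' (y - w)]
    refine sum_mem fun i _ => Submodule.smul_mem_smul ?_ trivial
    rw [← residue_eq_zero_iff, Pi.sub_apply, map_sub, sub_eq_zero]
    exact (congrFun hwy i).symm
  obtain ⟨φ, hφy, hφW⟩ := Submodule.exists_dual_map_eq_bot_of_notMem hyW' inferInstance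
  choose ℓ hℓ using fun i => IsLocalRing.residue_surjective (R := A) (φ (Pi.single i 1))
  have hval : ∀ v : F, residue A (ℓ ⬝ᵥ v) = φ (q v) := fun v => by
    rw [pi_eq_sum_univ' (q v), map_sum, dotProduct, map_sum]
    refine Finset.sum_congr rfl fun i _ => ?_
    rw [map_mul, hℓ, φ.map_smul, smul_eq_mul, mul_comm]
    rfl
  have hu : IsUnit (ℓ ⬝ᵥ y) := by
    rw [← IsLocalRing.notMem_maximalIdeal, ← residue_eq_zero_iff, hval]
    exact hφy
  have hℓD : ∀ i, (ℓ ᵥ* D' (j + 1)) i ∈ maximalIdeal A := fun i => by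
    have h1 : (ℓ ᵥ* D' (j + 1)) i = ℓ ⬝ᵥ (D' (j + 1) *ᵥ Pi.single i 1) := by
      rw [dotProduct_mulVec, dotProduct_single, mul_one]
    rw [← residue_eq_zero_iff, h1, hval]
    exact (Submodule.mem_bot (ResidueField A)).1
      (hφW ▸ Submodule.mem_map_of_mem (Submodule.subset_span ⟨_, ⟨_, rfl⟩, rfl⟩))
  have := dim_add_le_of_data p hd hn' hDD' hps j y hy ℓ hℓD hu
  omega

end Groth.Agent.CommAlg6.NIT
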