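import Mathlib
import Groth.Agent.CAlgH3.BEAux
import Groth.Agent.CAlgH3.Depth
import Groth.Agent.CAlgH3.RegularCore
import Groth.Agent.LocCoh.Depth
import Groth.Agent.CommAlg6.NITBridge

/-!
# Depth and exactness of complexes of finite free modules (matrix form)
-/

universe u

open Matrix IsLocalRing

namespace Groth.Agent.CommAlg6.DepthAcyclic

variable {A : Type u} [CommRing A]

theorem pow_mem_of_killed [IsNoetherianRing A] [IsLocalRing A] {M : Type u} [AddCommGroup M] [Module A M]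
    (W : Submodule A M) (z : M) (h : ∀ Q : Ideal A, Q.IsPrime → Q ≠ maximalIdeal A → ∃ s, s ∉ Q ∧ s • z ∈ W) :
    ∃ N, ∀ a ∈ maximalIdeal A ^ N, a • z ∈ W := by
  let J : Ideal A := W.comap (LinearMap.toSpanSingleton A _ z)
  have hJ : maximalIdeal A ≤ J.radical := by
    rw [Ideal.radical_eq_sInf]
    refine le_sInf fun Q ⟨hJQ, hQ⟩ => ?_
    by_contra hle
    obtain ⟨s, hs, hsz⟩ := h Q hQ fun h => hle (h ▸ le_rfl)
    exact hs (hJQ hsz)
  obtain ⟨N, hN⟩ := Ideal.exists_pow_le_of_le_radical_of_fg hJ (IsNoetherian.noetherian _)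
  exact ⟨N, fun a ha => hN ha⟩

/-- The acyclicity lemma: a complex `0 → F_e → … → F_0` of free modules with `e ≤ depth A` whose homology in
degrees `≥ 1` vanishes on the punctured spectrum is exact in degrees `≥ 1`. -/
theorem exact_of_killed [IsNoetherianRing A] [IsLocalRing A] {e : ℕ} (he : (e : ℕ∞) ≤ _root_.LocCoh.depth A A)
    {n : ℕ → ℕ} {D : ∀ j, Matrix (Fin (n j)) (Fin (n (j + 1))) A} (hn : ∀ j, e < j → n j = 0)
    (hDD : ∀ j, D j * D (j + 1) = 0)
    (h : ∀ Q : Ideal A, Q.IsPrime → Q ≠ maximalIdeal A → ∀ i, ∀ y : Fin (n (i + 1)) → A, D i *ᵥ y = 0 →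
      ∃ s, s ∉ Q ∧ s • y ∈ LinearMap.range (D (i + 1)).mulVecLin)
    (i : ℕ) (y : Fin (n (i + 1)) → A) (hy : D i *ᵥ y = 0) : y ∈ LinearMap.range (D (i + 1)).mulVecLin := by
  rcases lt_or_ge i e with hi | hi
  swap
  · refine ⟨0, funext fun x => ?_⟩
    have h1 := x.2; have h2 := hn (i + 1) (by omega); omega
  obtain ⟨xs, hlen, hxs, hreg⟩ := (Groth.Agent.LocCoh.natCast_le_idealDepth_iff_exists (maximalIdeal A) A
    (Groth.Agent.CAlgH3.maximal_smul_top_ne_top (R := A) (M := A)) e).1 he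
  have hR : ∀ j, CAlgH3.BEAux.Reg xs (⊥ : Submodule A (Fin (n j) → A)) := fun j =>
    CAlgH3.BEAux.reg_fun xs ((CAlgH3.BEAux.reg_bot_iff xs).2 hreg.toIsWeaklyRegular)
  have key := CAlgH3.BEAux.acyclic (R := A) xs (fun j => Fin (n j) → A) (fun j => (D j).mulVecLin) (fun _ => ⊥) e hlen
    (fun i _ => by rw [Submodule.map_bot]) (fun i _ z => by
      rw [Submodule.mem_bot]
      show D i *ᵥ (D (i + 1) *ᵥ z) = 0
      rw [Matrix.mulVec_mulVec, hDD, Matrix.zero_mulVec]) (fun j _ => hR j) ?_ i hi y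
      ((Submodule.mem_bot A).2 hy)
  · rw [CAlgH3.BEAux.Bd, sup_bot_eq] at key
    split_ifs at key
    · exact key
    · exact ⟨0, by rw [map_zero, (Submodule.mem_bot A).1 key]⟩
  · intro x hx i hi z hz
    obtain ⟨N, hN⟩ := pow_mem_of_killed (LinearMap.range (D (i + 1)).mulVecLin) z fun Q hQ hne =>
      h Q hQ hne i z ((Submodule.mem_bot A).1 hz)
    refine ⟨N, ?_⟩
    obtain ⟨w, hw⟩ := hN (x ^ N) (Ideal.pow_mem_pow (hxs x hx) N)
    rw [CAlgH3.BEAux.Bd, sup_bot_eq]
    split_ifs with h2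
    · exact ⟨w, hw⟩
    · rw [Submodule.mem_bot, ← hw]
      haveI : IsEmpty (Fin (n (i + 1 + 1))) := by rw [hn _ (by omega)]; infer_instance
      rw [Subsingleton.elim w 0, map_zero]

/-- If `0 → F_{d+1} → … → F_0` is exact in degrees `≥ 1`, `d = depth A`, and the top map has entries in `m`,
then `F_{d+1} = 0`. -/
theorem top_eq_zero : ∀ (d : ℕ) (A : Type u) [CommRing A] [IsNoetherianRing A] [IsLocalRing A],
    _root_.LocCoh.depth A A = d → ∀ (n : ℕ → ℕ) (D : ∀ j, Matrix (Fin (n j)) (Fin (n (j + 1))) A),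
      (∀ j, D j * D (j + 1) = 0) → n (d + 2) = 0 →
      (∀ i ≤ d, ∀ y : Fin (n (i + 1)) → A, D i *ᵥ y = 0 → y ∈ LinearMap.range (D (i + 1)).mulVecLin) →
      (∀ r c, D d r c ∈ maximalIdeal A) → n (d + 1) = 0 := by
  intro d
  induction d with
  | zero =>
    intro A _ _ _ hd n D _ hn hex hm
    by_contra hne
    have hass := CAlgH3.depth_eq_zero_iff.1 (by rw [hd, Nat.cast_zero])
    obtain ⟨-, s, hs⟩ := isAssociatedPrime_iff.1 hass
    have hs0 : s ≠ 0 := fun h0 => by
      apply (maximalIdeal.isMaximal A).ne_top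
      rw [hs, Ideal.eq_top_iff_one]
      simp [h0, Submodule.mem_colon_singleton]
    let y : Fin (n (0 + 1)) → A := Pi.single ⟨0, Nat.pos_of_ne_zero hne⟩ s
    have hy : D 0 *ᵥ y = 0 := funext fun r => by
      rw [Matrix.mulVec_single, Pi.smul_apply, Pi.zero_apply]
      have h1 : D 0 r ⟨0, Nat.pos_of_ne_zero hne⟩ ∈ maximalIdeal A := hm r _
      rw [hs, Submodule.mem_colon_singleton, Submodule.mem_bot] at h1
      show D 0 r ⟨0, _⟩ * s = 0
      exact h1
    obtain ⟨w, hw⟩ := hex 0 le_rfl y hy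
    haveI : IsEmpty (Fin (n (0 + 1 + 1))) := by rw [hn]; infer_instance
    rw [Subsingleton.elim w 0, map_zero] at hw
    exact hs0 (by simpa [y] using congrFun hw.symm ⟨0, Nat.pos_of_ne_zero hne⟩)
  | succ d ih =>
    intro A _ _ _ hd n D hDD hn hex hm
    obtain ⟨x, hx, hreg⟩ := CAlgH3.exists_regular_of_one_le_depth (R := A) (M := A)
      (by rw [hd]; exact_mod_cast (show 1 ≤ d + 1 by omega))
    let I : Ideal A := Ideal.span {x}
    haveI : IsLocalRing (A ⧸ I) := by
      haveI : Nontrivial (A ⧸ I) := Ideal.Quotient.nontrivial_iff.2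
        (ne_top_of_le_ne_top (maximalIdeal.isMaximal A).ne_top ((Ideal.span_singleton_le_iff_mem _).2 hx))
      exact IsLocalRing.of_surjective' (Ideal.Quotient.mk I) Ideal.Quotient.mk_surjective
    let φ : A →+* A ⧸ I := Ideal.Quotient.mk I
    have hd' : _root_.LocCoh.depth (A ⧸ I) (A ⧸ I) = d := by
      rw [CAlgH3.depth_quotient_ring I]
      have h1 := CAlgH3.depth_quotSMulTop_add_one (R := A) (M := A) hx hreg
      rw [hd, CAlgH3.depth_congr (R := A) (CAlgH3.quotSMulTopSelf x)] at h1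
      rw [Nat.cast_add, Nat.cast_one] at h1
      exact WithTop.add_right_cancel ENat.one_ne_top h1
    refine ih (A ⧸ I) hd' (fun j => n (j + 1)) (fun j => (D (j + 1)).map φ) (fun j => ?_) hn (fun i hi y hy => ?_)
      (fun r c => ?_)
    · rw [← Matrix.map_mul, hDD, Matrix.map_zero φ (map_zero φ)]
    · -- lift a cycle
      obtain ⟨z, rfl⟩ : ∃ z : Fin (n (i + 1 + 1)) → A, φ ∘ z = y :=
        ⟨fun r => (Ideal.Quotient.mk_surjective (y r)).choose, funext fun r => (Ideal.Quotient.mk_surjective (y r)).choose_spec⟩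
      have hz : ∀ r, (D (i + 1) *ᵥ z) r ∈ I := fun r => by
        rw [← Ideal.Quotient.eq_zero_iff_mem]
        exact (RingHom.map_mulVec φ (D (i + 1)) z r).trans (congrFun hy r)
      choose w hw using fun r => Ideal.mem_span_singleton'.1 (hz r)
      have hxw : D (i + 1) *ᵥ z = x • w := funext fun r => by rw [← hw r, Pi.smul_apply, smul_eq_mul, mul_comm]
      have hdw : D i *ᵥ w = 0 := funext fun r => by
        refine hreg.right_eq_zero_of_smul ?_
        rw [← Pi.smul_apply, ← Matrix.mulVec_smul, ← hxw, Matrix.mulVec_mulVec, hDD, Matrix.zero_mulVec, Pi.zero_apply]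
      obtain ⟨v, hv⟩ := hex i (by omega) w hdw
      obtain ⟨u, hu⟩ := hex (i + 1) (by omega) (z - x • v) (by
        rw [Matrix.mulVec_sub, Matrix.mulVec_smul, hxw, show D (i + 1) *ᵥ v = w from hv, sub_self])
      refine ⟨φ ∘ u, funext fun r => ?_⟩
      show ((D (i + 1 + 1)).map φ *ᵥ (φ ∘ u)) r = φ (z r)
      rw [← RingHom.map_mulVec φ (D (i + 1 + 1)) u r, show D (i + 1 + 1) *ᵥ u = z - x • v from hu, Pi.sub_apply, map_sub,
        Pi.smul_apply, smul_eq_mul, map_mul,
        show φ x = 0 from Ideal.Quotient.eq_zero_iff_mem.2 (Ideal.mem_span_singleton_self x), zero_mul, sub_zero]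
    · rw [← IsLocalRing.map_maximalIdeal_of_surjective φ Ideal.Quotient.mk_surjective]
      exact Ideal.mem_map_of_mem φ (hm r c)

/-- A minimal complex of length `k` with nonzero top term is not exact in all of the degrees `k - d, …, k`. -/
theorem not_exact [IsNoetherianRing A] [IsLocalRing A] {d k : ℕ} (hd : _root_.LocCoh.depth A A = d) {n : ℕ → ℕ}
    {D : ∀ j, Matrix (Fin (n j)) (Fin (n (j + 1))) A} (hn : ∀ j, k < j → n j = 0) (htop : n k ≠ 0)
    (hDD : ∀ j, D j * D (j + 1) = 0) (hm : ∀ j r c, D j r c ∈ maximalIdeal A) :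
    (k ≤ d ∧ ∃ x : Fin (n 0) → A, x ∉ LinearMap.range (D 0).mulVecLin) ∨
      ∃ i, k ≤ i + 1 + d ∧ i < k ∧ ∃ y : Fin (n (i + 1)) → A, D i *ᵥ y = 0 ∧ y ∉ LinearMap.range (D (i + 1)).mulVecLin := by
  by_contra hcon
  simp only [not_or, not_exists, not_and, not_not] at hcon
  obtain ⟨h0, hi⟩ := hcon
  rcases lt_or_ge d k with hdk | hkd
  · obtain ⟨a, rfl⟩ : ∃ a, k = a + (d + 1) := ⟨k - (d + 1), by omega⟩
    refine htop (top_eq_zero d A hd (fun j => n (a + j)) (fun j => D (a + j)) (fun j => hDD (a + j))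
      (hn _ (by omega)) (fun i h y hy => hi (a + i) (by omega) (by omega) y hy) (hm (a + d)))
  · -- everything is exact: all terms vanish
    have key : ∀ j, n j = 0 := by
      have hstep : ∀ j, (∀ y : Fin (n j) → A, y ∈ LinearMap.range (D j).mulVecLin) → n j = 0 := fun j hj => by
        by_contra hne
        obtain ⟨w, hw⟩ := hj (Pi.single ⟨0, Nat.pos_of_ne_zero hne⟩ 1)
        have h1 : (D j *ᵥ w) ⟨0, Nat.pos_of_ne_zero hne⟩ ∈ maximalIdeal A := by
          rw [Matrix.mulVec, dotProduct]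
          exact sum_mem fun c _ => Ideal.mul_mem_right _ _ (hm j _ c)
        rw [show D j *ᵥ w = _ from hw, Pi.single_eq_same] at h1
        exact (maximalIdeal.isMaximal A).ne_top ((Ideal.eq_top_iff_one _).2 h1)
      intro j
      induction j with
      | zero => exact hstep 0 (h0 hkd)
      | succ j ih =>
        rcases lt_or_ge j k with hj | hj
        · haveI : IsEmpty (Fin (n j)) := by rw [ih]; infer_instance
          exact hstep (j + 1) fun y => hi j (by omega) hj y (Subsingleton.elim _ _)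
        · exact hn _ (by omega)
    exact htop (key k)

end Groth.Agent.CommAlg6.DepthAcyclic
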