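import Groth.Agent.CommAlg6.GeomNormalBase

/-! Tensor products over a field: Serre conditions, codepth, fields. -/

universe u

open IsLocalRing TensorProduct

namespace Groth.Agent.CommAlg6

attribute [local instance] isLocalRing_fibLocRing

section le

variable {A B : Type u} [CommRing A] [CommRing B] [IsNoetherianRing A] [IsNoetherianRing B] [Algebra A B]

/-- Over every prime of the base there is a prime of zero-dimensional, depth-zero fibre. -/
theorem exists_minimal_over_le (p : Ideal A) [hp : p.IsPrime] [Module.Flat A B] (q' : Ideal B) [q'.IsPrime]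
    (hpq : p ≤ q'.comap (algebraMap A B)) :
    ∃ (q : Ideal B) (_ : q.IsPrime), q ≤ q' ∧ q.comap (algebraMap A B) = p ∧
      ringKrullDim (EGA4.FibLocRing A B q) = 0 ∧
      _root_.LocCoh.depth (EGA4.FibLocRing A B q) (EGA4.FibLocRing A B q) = 0 := by
  obtain ⟨q, hq, hqle⟩ := Ideal.exists_minimalPrimes_le (J := q')
    (I := p.map (algebraMap A B)) (Ideal.map_le_iff_le_comap.2 hpq)
  haveI := hq.1.1
  have hqp : q.comap (algebraMap A B) = p := by
    refine le_antisymm ?_ (Ideal.map_le_iff_le_comap.1 hq.1.2)
    by_contra hne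
    obtain ⟨Q', hQ', hQ'p, hQ'o⟩ := Ideal.exists_ideal_lt_liesOver_of_lt q
      (show p < q.under A from lt_of_le_not_ge (Ideal.map_le_iff_le_comap.1 hq.1.2) hne)
    exact hQ'.not_ge (hq.2 ⟨hQ'p, Ideal.map_le_iff_le_comap.2 hQ'o.over.le⟩ hQ'.le)
  refine ⟨q, hq.1.1, hqle, hqp, ?_⟩
  have hdim : ringKrullDim (EGA4.FibLocRing A B q) = 0 := by
    let J := (q.comap (algebraMap A B)).map (algebraMap A (Localization.AtPrime q))
    have hle : J ≤ maximalIdeal (Localization.AtPrime q) := by
      refine le_maximalIdeal fun h => ?_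
      exact (Ideal.Quotient.nontrivial_iff.1
        (inferInstance : Nontrivial (EGA4.FibLocRing A B q))) h
    have hmin : maximalIdeal (Localization.AtPrime q) ∈ J.minimalPrimes := by
      refine ⟨⟨inferInstance, hle⟩, fun P hP hPle => ?_⟩
      haveI := hP.1
      have h1 : q ≤ P.comap (algebraMap B (Localization.AtPrime q)) := by
        refine hq.2 ⟨inferInstance, ?_⟩ ?_
        · rw [Ideal.map_le_iff_le_comap, Ideal.comap_comap, ← IsScalarTower.algebraMap_eq,
            ← Ideal.map_le_iff_le_comap]
          exact le_of_eq_of_le (by rw [← hqp]) hP.2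
        · exact (Ideal.comap_mono hPle).trans
            (IsLocalization.AtPrime.comap_maximalIdeal (Localization.AtPrime q) q).le
      rw [← Localization.AtPrime.map_eq_maximalIdeal, Ideal.map_le_iff_le_comap]
      exact h1
    rw [← maximalIdeal_height_eq_ringKrullDim, ← IsLocalRing.map_maximalIdeal_of_surjective
      (Ideal.Quotient.mk J) Ideal.Quotient.mk_surjective, height_map_mk_eq_zero hmin]
    rfl
  refine ⟨hdim, ?_⟩
  have h := CAlgH3.depth_le_supportDim (R := EGA4.FibLocRing A B q) (M := EGA4.FibLocRing A B q)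
  rw [Module.supportDim_self_eq_ringKrullDim, hdim, ← WithBot.coe_zero, WithBot.coe_le_coe] at h
  exact nonpos_iff_eq_zero.1 h

/-- `(S_n)` at a prime along a flat map with Cohen–Macaulay fibres. -/
theorem hasSkAt_iff_of_cm_fibres [Module.Flat A B]
    (h : ∀ (p : Ideal A) [p.IsPrime], _root_.LocCoh.IsCohenMacaulayRing (p.Fiber B)) (n : ℕ)
    (q : Ideal B) [q.IsPrime] :
    _root_.LocCoh.HasSk n (Localization.AtPrime (q.comap (algebraMap A B)))
        (Localization.AtPrime (q.comap (algebraMap A B))) ↔
      _root_.LocCoh.HasSk n (Localization.AtPrime q) (Localization.AtPrime q) := by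
  rw [hasSk_atPrime_iff, hasSk_atPrime_iff]
  have hcm := forall_isCMRing_fiber_iff.1 h
  constructor
  · intro hA r _ hr
    obtain ⟨h1, h2, -, -⟩ := local_fibre (A := A) r
    obtain ⟨a, ha⟩ := exists_dim_eq (Localization.AtPrime (r.comap (algebraMap A B)))
    obtain ⟨b, hb⟩ := exists_dim_eq (EGA4.FibLocRing A B r)
    rw [h2]
    exact sk_add ha hb h1 (hA _ (Ideal.comap_mono hr))
      ((min_le_right _ _).trans (hcm r).le)
  · intro hB p _ hp
    obtain ⟨r, hr, hrq, hrp, h0, hd0⟩ := exists_minimal_over_le (B := B) p q hp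
    obtain ⟨h1, h2, -, -⟩ := local_fibre (A := A) r
    have h := hB r hrq
    rw [h1, h2, h0, hd0, add_zero, add_zero] at h
    subst hrp
    exact h

/-- Codepth is preserved along a flat map with Cohen–Macaulay fibres. -/
theorem codepth_eq_of_cm_fibres [Module.Flat A B]
    (h : ∀ (p : Ideal A) [p.IsPrime], _root_.LocCoh.IsCohenMacaulayRing (p.Fiber B))
    (q : Ideal B) [q.IsPrime] :
    ringKrullDim (Localization.AtPrime (q.comap (algebraMap A B))) +
        ((_root_.LocCoh.depth (Localization.AtPrime q) (Localization.AtPrime q) : ℕ∞) : WithBot ℕ∞) =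
      ringKrullDim (Localization.AtPrime q) +
        ((_root_.LocCoh.depth (Localization.AtPrime (q.comap (algebraMap A B)))
          (Localization.AtPrime (q.comap (algebraMap A B))) : ℕ∞) : WithBot ℕ∞) := by
  obtain ⟨h1, h2, -, -⟩ := local_fibre (A := A) q
  have h3 := forall_isCMRing_fiber_iff.1 h q
  rw [h1, h2, WithBot.coe_add, h3]
  abel

end le

theorem hasSkAt_self_iff {R : Type u} [CommRing R] (n : ℕ) (q : Ideal R) [q.IsPrime] :
    EGA4.HasSkAt n R R q ↔
      _root_.LocCoh.HasSk n (Localization.AtPrime q) (Localization.AtPrime q) := by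
  have e := CAlgH3.localizedModuleSelf q
  show _root_.LocCoh.HasSk n (Localization.AtPrime q) (LocalizedModule q.primeCompl R) ↔ _
  constructor <;> intro h P _
  · let eP : LocalizedModule P.primeCompl (LocalizedModule q.primeCompl R) ≃ₗ[Localization.AtPrime P]
        LocalizedModule P.primeCompl (Localization.AtPrime q) :=
      LinearEquiv.ofLinear (LocalizedModule.map P.primeCompl e.toLinearMap)
        (LocalizedModule.map P.primeCompl e.symm.toLinearMap)
        (LinearMap.ext fun x => by induction x using LocalizedModule.induction_on with | _ m s => simp [LocalizedModule.map_mk])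
        (LinearMap.ext fun x => by induction x using LocalizedModule.induction_on with | _ m s => simp [LocalizedModule.map_mk])
    have := h P
    rwa [Module.supportDim_eq_of_equiv eP, CAlgH3.depth_congr eP] at this
  · let eP : LocalizedModule P.primeCompl (Localization.AtPrime q) ≃ₗ[Localization.AtPrime P]
        LocalizedModule P.primeCompl (LocalizedModule q.primeCompl R) :=
      LinearEquiv.ofLinear (LocalizedModule.map P.primeCompl e.symm.toLinearMap)
        (LocalizedModule.map P.primeCompl e.toLinearMap)
        (LinearMap.ext fun x => by induction x using LocalizedModule.induction_on with | _ m s => simp [LocalizedModule.map_mk])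
        (LinearMap.ext fun x => by induction x using LocalizedModule.induction_on with | _ m s => simp [LocalizedModule.map_mk])
    have := h P
    rwa [Module.supportDim_eq_of_equiv eP, CAlgH3.depth_congr eP] at this

/-- An Artinian ring satisfies every `(S_n)`. -/
theorem hasSk_of_isArtinianRing {R : Type u} [CommRing R] [IsArtinianRing R] (n : ℕ) :
    _root_.LocCoh.HasSk n R R := by
  rw [CAlgH3.hasSk_self_iff]
  intro p _
  haveI : IsArtinianRing (Localization.AtPrime p) := IsArtinianRing.localization_artinian p.primeCompl _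
  rw [(ringKrullDimZero_iff_ringKrullDim_eq_zero).1 inferInstance]
  exact (min_le_right _ _).trans (WithBot.coe_le_coe.2 zero_le')

/-- `K ⊗_k L` is Cohen–Macaulay for fields, one of them finitely generated. -/
theorem isCohenMacaulayRing_tensor_fields (k K L : Type u) [Field k] [Field K] [Field L]
    [Algebra k K] [Algebra k L] [IsNoetherianRing (K ⊗[k] L)] :
    _root_.LocCoh.IsCohenMacaulayRing (K ⊗[k] L) :=
  isCMRing_iff_forall_hasSk.2 fun n => hasSk_tensor_field k K L n fun k' _ _ hf _ => by
    haveI : IsArtinianRing (L ⊗[k] k') := IsArtinianRing.of_finite L _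
    haveI : IsArtinianRing (k' ⊗[k] L) :=
      (Algebra.TensorProduct.comm k L k').toRingEquiv.isArtinianRing
    exact hasSk_of_isArtinianRing n

/-- Fibres of `S → S ⊗_k K` are Cohen–Macaulay. -/
theorem isCM_fiber_tensor_field (k S K : Type u) [Field k] [CommRing S] [Algebra k S]
    [IsNoetherianRing S] [Field K] [Algebra k K] [IsNoetherianRing (S ⊗[k] K)]
    (p : Ideal S) [p.IsPrime] : _root_.LocCoh.IsCohenMacaulayRing (p.Fiber (S ⊗[k] K)) := by
  haveI : IsNoetherianRing (p.Fiber (S ⊗[k] K)) := isNoetherianRing_fiber p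
  let e := (Algebra.TensorProduct.cancelBaseChange k S p.ResidueField p.ResidueField K).toRingEquiv
  haveI : IsNoetherianRing (p.ResidueField ⊗[k] K) := isNoetherianRing_of_ringEquiv _ e
  haveI := isCohenMacaulayRing_tensor_fields k p.ResidueField K
  exact CAlgH3.isCohenMacaulayRing_of_ringEquiv e.symm

/-- `(S_n)` is preserved by base change to a field extension with Noetherian result. -/
theorem hasSk_field_of_hasSk (k K T : Type u) [Field k] [Field K] [Algebra k K] [CommRing T]
    [Algebra k T] [IsNoetherianRing T] [IsNoetherianRing (K ⊗[k] T)] (n : ℕ)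
    (hT : _root_.LocCoh.HasSk n T T) : _root_.LocCoh.HasSk n (K ⊗[k] T) (K ⊗[k] T) := by
  haveI : IsNoetherianRing (T ⊗[k] K) :=
    isNoetherianRing_of_ringEquiv _ (Algebra.TensorProduct.comm k K T).toRingEquiv
  refine hasSk_of_ringEquiv (R := T ⊗[k] K) (Algebra.TensorProduct.comm k T K).toRingEquiv ?_
  refine hasSk_of_base_and_fibres (A := T) n hT ((forall_hasSk_fiber_iff n).1 fun p _ => ?_)
  haveI : IsNoetherianRing (p.Fiber (T ⊗[k] K)) := isNoetherianRing_fiber p
  exact isCMRing_iff_forall_hasSk.1 (isCM_fiber_tensor_field k T K p) n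

end Groth.Agent.CommAlg6
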