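import Groth.Agent.CAlgH.RegularFieldExt
import Mathlib.RingTheory.Smooth.Field

/-! Finitely generated field extensions and separable generation. -/

universe u

open IsLocalRing TensorProduct

namespace Groth.Agent.CommAlg6

open CAlgH

open IntermediateField in
set_option maxHeartbeats 800000 in
set_option synthInstance.maxHeartbeats 100000 in
/-- A finitely generated extension becomes separably generated after a finite purely inseparable
extension of the ground field (helper2's construction from `isRegularRing_fg_ext_of_purelyInseparable`). -/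
theorem exists_purelyInseparable_separatingBasis (k K : Type u) [Field k] [Field K] [Algebra k K]
    [Algebra.EssFiniteType k K] :
    ∃ (k' L : Type u) (_ : Field k') (_ : Field L) (_ : Algebra k k') (_ : Algebra k' L) (_ : Algebra K L)
      (_ : Algebra k L), IsScalarTower k k' L ∧ IsScalarTower k K L ∧ Module.Finite k k' ∧
      IsPurelyInseparable k k' ∧ Algebra.EssFiniteType k' L ∧ Algebra.FormallySmooth k' L ∧
      IntermediateField.adjoin k' (Set.range (algebraMap K L)) = ⊤ ∧
      (∀ (F : Type u) [Field F] [Algebra k' F], IsRegularRing (L ⊗[k'] F)) ∧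
      ∃ (n : ℕ) (x : Fin n → L), AlgebraicIndependent k' x ∧
        FiniteDimensional (IntermediateField.adjoin k' (Set.range x)) L ∧
        Algebra.IsSeparable (IntermediateField.adjoin k' (Set.range x)) L := by
  classical
  obtain ⟨gK, hgK⟩ := IntermediateField.fg_top k K
  let Ω := AlgebraicClosure K
  let kp := perfectClosure k Ω
  let gen : Finset Ω := gK.image (algebraMap K Ω)
  let E := adjoin kp (gen : Set Ω)
  haveI : Algebra.EssFiniteType kp E := IntermediateField.essFiniteType_iff.mpr (IntermediateField.fg_adjoin_finset gen)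
  obtain ⟨s, hsB, hsep⟩ := exists_isTranscendenceBasis_and_isSeparable_of_perfectField kp E
  let sΩ : Finset Ω := s.image Subtype.val
  -- the finitely many purely inseparable constants
  have hsfin : ∀ t ∈ sΩ, ∃ c : Finset Ω, (c : Set Ω) ⊆ kp ∧ t ∈ adjoin k ((c : Set Ω) ∪ gen) := fun t ht => by
    obtain ⟨e, -, rfl⟩ := Finset.mem_image.mp ht
    exact exists_finite_sub_of_mem_adjoin kp _ e.2
  have hgE : ∀ g ∈ gen, g ∈ E := fun g hg => subset_adjoin _ _ hg
  have hcoef : ∀ g ∈ gen, ∃ P : Polynomial Ω, P.Monic ∧ P.Separable ∧ P.eval g = 0 ∧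
      ∀ i, ∃ c : Finset Ω, (c : Set Ω) ⊆ kp ∧ P.coeff i ∈ adjoin k ((c : Set Ω) ∪ sΩ) := fun g hg => by
    let M0 := adjoin kp (s : Set E)
    have hsg := Algebra.IsSeparable.isSeparable M0 (⟨g, hgE g hg⟩ : E)
    let φ : M0 →+* Ω := (E.val.toRingHom).comp (M0.val.toRingHom)
    refine ⟨(minpoly M0 (⟨g, hgE g hg⟩ : E)).map φ,
      (minpoly.monic hsg.isIntegral).map φ,
      Polynomial.Separable.map (hsg : (minpoly M0 (⟨g, hgE g hg⟩ : E)).Separable), ?_, fun i => ?_⟩
    · rw [Polynomial.eval_map]
      have h := congrArg E.val (minpoly.aeval M0 (⟨g, hgE g hg⟩ : E))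
      rw [map_zero, Polynomial.aeval_def] at h
      rw [← h]
      exact (Polynomial.hom_eval₂ (minpoly M0 (⟨g, hgE g hg⟩ : E)) (algebraMap M0 E) E.val.toRingHom (⟨g, hgE g hg⟩ : E)).symm
    · rw [Polynomial.coeff_map]
      refine exists_finite_sub_of_mem_adjoin kp _ ?_
      have hm : φ ((minpoly M0 (⟨g, hgE g hg⟩ : E)).coeff i) ∈ M0.map E.val :=
        ⟨_, ((minpoly M0 (⟨g, hgE g hg⟩ : E)).coeff i).2, rfl⟩
      rw [IntermediateField.adjoin_map] at hm
      simpa [sΩ] using hm
  choose! cs hcs1 hcs2 using hsfin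
  choose! P hPm hPs hPe cP hcP1 hcP2 using hcoef
  let c : Finset Ω := sΩ.biUnion cs ∪ gen.biUnion fun g => (Finset.range ((P g).natDegree + 1)).biUnion (cP g)
  have hckp : (c : Set Ω) ⊆ kp := by
    intro x hx
    simp only [c, Finset.coe_union, Finset.coe_biUnion, Set.mem_union, Set.mem_iUnion] at hx
    rcases hx with ⟨t, ht, hx⟩ | ⟨g, hg, i, -, hx⟩
    · exact hcs1 t ht hx
    · exact hcP1 g hg i hx
  let k' := adjoin k (c : Set Ω)
  haveI : FiniteDimensional k k' := IntermediateField.finiteDimensional_adjoin fun x hx => by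
    obtain ⟨n, y, hy⟩ := (mem_perfectClosure_iff_pow_mem (ringExpChar k) (F := k)).mp (hckp hx)
    exact IsIntegral.of_pow (pow_pos (expChar_pos k (ringExpChar k)) n) (hy ▸ isIntegral_algebraMap)
  have hk'le : k' ≤ kp := adjoin_le_iff.mpr hckp
  let L := adjoin k' (gen : Set Ω)
  have hmono : ∀ (T : Finset Ω) (d : Finset Ω), d ⊆ c → ∀ x ∈ adjoin k ((d : Set Ω) ∪ T), x ∈ adjoin k' (T : Set Ω) := by
    intro T d hd x hx
    have h1 : adjoin k ((d : Set Ω) ∪ T) ≤ (adjoin k' (T : Set Ω)).restrictScalars k := adjoin_le_iff.mpr fun y hy => by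
      rcases hy with hy | hy
      · exact (adjoin k' (T : Set Ω)).algebraMap_mem ⟨y, subset_adjoin _ _ (hd hy)⟩
      · exact subset_adjoin k' _ hy
    exact h1 hx
  have hsL : ∀ t ∈ sΩ, t ∈ L := fun t ht =>
    hmono gen (cs t) (fun y hy => Finset.mem_union_left _ (Finset.mem_biUnion.mpr ⟨t, ht, hy⟩)) t (hcs2 t ht)
  let sL : Finset L := sΩ.attach.image fun t => ⟨t.1, hsL t.1 t.2⟩
  have hind : AlgebraicIndependent k' ((↑) : sL → L) := by
    letI : Algebra k' kp := (IntermediateField.inclusion hk'le).toRingHom.toAlgebra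
    haveI : IsScalarTower k' kp Ω := IsScalarTower.of_algebraMap_eq fun _ => rfl
    have h1 : AlgebraicIndependent kp (fun t : s => ((t : E) : Ω)) := hsB.1.map' (f := E.val) Subtype.val_injective
    have h2 := h1.restrictScalars (R := k') (IntermediateField.inclusion hk'le).injective
    have hmem : ∀ t : sL, ∃ e : s, ((e : E) : Ω) = ((t : L) : Ω) := by
      rintro ⟨t, ht⟩
      obtain ⟨⟨t', ht'⟩, -, rfl⟩ := Finset.mem_image.mp ht
      obtain ⟨e, he, rfl⟩ := Finset.mem_image.mp ht'
      exact ⟨⟨e, he⟩, rfl⟩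
    choose e he using hmem
    have hei : Function.Injective e := fun a b hab =>
      Subtype.ext (Subtype.ext (by rw [← he a, ← he b, hab]))
    refine AlgebraicIndependent.of_comp (f := L.val) ?_
    convert h2.comp e hei using 1
    funext t
    exact (he t).symm
  let Mf := adjoin k' (Set.range ((↑) : sL → L))
  have hsep' : ∀ g ∈ gen, ∀ hgL : g ∈ L, IsSeparable Mf (⟨g, hgL⟩ : L) := by
    intro g hg hgL
    let ψ : Mf →+* Ω := L.val.toRingHom.comp Mf.val.toRingHom
    have hlift : P g ∈ Polynomial.lifts ψ := by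
      rw [Polynomial.lifts_iff_coeff_lifts]
      intro i
      rcases lt_or_ge i ((P g).natDegree + 1) with hi | hi
      · have h := hmono sΩ (cP g i) (fun y hy => Finset.mem_union_right _ (Finset.mem_biUnion.mpr
          ⟨g, hg, Finset.mem_biUnion.mpr ⟨i, Finset.mem_range.mpr hi, hy⟩⟩)) _ (hcP2 g hg i)
        have hle : adjoin k' (sΩ : Set Ω) ≤ Mf.map L.val := by
          rw [IntermediateField.adjoin_map]
          refine adjoin.mono _ _ _ fun t ht => ⟨⟨t, hsL t ht⟩, ⟨⟨_, ?_⟩, rfl⟩, rfl⟩
          exact Finset.mem_image.mpr ⟨⟨t, ht⟩, Finset.mem_attach _ _, rfl⟩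
        obtain ⟨y, hy, hye⟩ := hle h
        exact ⟨⟨y, hy⟩, hye⟩
      · exact ⟨0, by rw [map_zero, Polynomial.coeff_eq_zero_of_natDegree_lt (by omega)]⟩
    obtain ⟨Q, hQ, -, hQm⟩ := Polynomial.lifts_and_degree_eq_and_monic hlift (hPm g hg)
    have hQs : Q.Separable := Polynomial.separable_map ψ |>.mp (hQ ▸ hPs g hg)
    refine hQs.of_dvd (minpoly.dvd _ _ (Subtype.val_injective ?_))
    show L.val (Polynomial.aeval (⟨g, hgL⟩ : L) Q) = L.val 0
    rw [map_zero, Polynomial.aeval_def]
    refine (Polynomial.hom_eval₂ _ _ L.val.toRingHom _).trans ?_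
    rw [← Polynomial.eval_map]
    show (Q.map ψ).eval g = 0
    rw [hQ]; exact hPe g hg
  let genL : Finset L := gen.attach.image fun g => ⟨g.1, subset_adjoin _ _ g.2⟩
  have htop : adjoin Mf (genL : Set L) = ⊤ := by
    rw [eq_top_iff]
    intro x _
    have h1 : adjoin k' (gen : Set Ω) ≤ ((adjoin Mf (genL : Set L)).restrictScalars k').map L.val := by
      refine adjoin_le_iff.mpr fun g hg => ⟨⟨g, subset_adjoin _ _ hg⟩, ?_, rfl⟩
      exact subset_adjoin Mf _ (Finset.mem_image.mpr ⟨⟨g, hg⟩, Finset.mem_attach _ _, rfl⟩)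
    obtain ⟨y, hy, hye⟩ := h1 x.2
    obtain rfl : y = x := Subtype.ext hye
    exact hy
  haveI hS : Algebra.IsSeparable Mf (adjoin Mf (genL : Set L)) :=
    (IntermediateField.isSeparable_adjoin_iff_isSeparable Mf L).mpr fun x hx => by
      obtain ⟨⟨g, hg⟩, -, rfl⟩ := Finset.mem_image.mp hx
      exact hsep' g hg _
  haveI : FiniteDimensional Mf (adjoin Mf (genL : Set L)) := IntermediateField.finiteDimensional_adjoin fun x hx => by
    obtain ⟨⟨g, hg⟩, -, rfl⟩ := Finset.mem_image.mp hx
    exact (hsep' g hg _).isIntegral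
  haveI : Algebra.IsSeparable Mf L :=
    Algebra.IsSeparable.of_algHom Mf (adjoin Mf (genL : Set L))
      ((IntermediateField.equivOfEq htop).trans IntermediateField.topEquiv).symm.toAlgHom
  haveI : FiniteDimensional Mf L :=
    Module.Finite.equiv ((IntermediateField.equivOfEq htop).trans IntermediateField.topEquiv).toLinearEquiv
  have hKL : ∀ x : K, algebraMap K Ω x ∈ L := by
    intro x
    have hx : x ∈ adjoin k (gK : Set K) := hgK ▸ IntermediateField.mem_top
    have hle : adjoin k (gK : Set K) ≤ (L.restrictScalars k).comap (IsScalarTower.toAlgHom k K Ω) :=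
      adjoin_le_iff.mpr fun y hy => subset_adjoin k' _ (Finset.mem_image_of_mem _ hy)
    exact hle hx
  letI : Algebra K L := ((algebraMap K Ω).codRestrict L hKL).toAlgebra
  haveI : IsScalarTower k K L := IsScalarTower.of_algebraMap_eq fun x => Subtype.ext (by
    show algebraMap k' Ω (algebraMap k k' x) = algebraMap K Ω (algebraMap k K x)
    rw [← IsScalarTower.algebraMap_apply k k' Ω, ← IsScalarTower.algebraMap_apply k K Ω])
  haveI : IsScalarTower k k' L := IsScalarTower.of_algebraMap_eq fun x => Subtype.ext (by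
    show algebraMap k Ω x = algebraMap k' Ω (algebraMap k k' x)
    rw [← IsScalarTower.algebraMap_apply k k' Ω])
  haveI : Algebra.EssFiniteType k' L :=
    IntermediateField.essFiniteType_iff.mpr (IntermediateField.fg_adjoin_finset gen)
  refine ⟨k', L, inferInstance, inferInstance, inferInstance, inferInstance, inferInstance,
    inferInstance, inferInstance, inferInstance, inferInstance,
    (le_perfectClosure_iff k Ω k').mp hk'le, inferInstance,
    Algebra.FormallySmooth.of_algebraicIndependent_of_isSeparable hind, ?_, fun F _ _ => ?_,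
    sL.card, fun i => ((sL.equivFin.symm i : sL) : L), hind.comp _ sL.equivFin.symm.injective, ?_, ?_⟩
  · rw [eq_top_iff]
    intro x _
    have h1 : adjoin k' (gen : Set Ω) ≤ (adjoin k' (Set.range (algebraMap K L))).map L.val := by
      refine adjoin_le_iff.mpr fun g hg => ?_
      obtain ⟨y, hy, rfl⟩ := Finset.mem_image.mp hg
      exact ⟨algebraMap K L y, subset_adjoin _ _ ⟨y, rfl⟩, rfl⟩
    obtain ⟨y, hy, hye⟩ := h1 x.2
    obtain rfl : y = x := Subtype.ext hye
    exact hy
  · haveI : IsRegularRing (k' ⊗[k'] F) :=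
      IsRegularRing.of_ringEquiv (R := F) (Algebra.TensorProduct.lid k' F).toRingEquiv.symm
    exact isRegularRing_tower_tensor k' k' L sL hind F
  all_goals
    rw [show Set.range (fun i => ((sL.equivFin.symm i : sL) : L)) = Set.range ((↑) : sL → L) from
      sL.equivFin.symm.surjective.range_comp ((↑) : sL → L)]
    infer_instance

/-- A finitely generated extension becomes separably generated after a finite purely inseparable
extension of the ground field. -/
theorem exists_purelyInseparable_separablyGenerated (k K : Type u) [Field k] [Field K] [Algebra k K]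
    [Algebra.EssFiniteType k K] :
    ∃ (k' L : Type u) (_ : Field k') (_ : Field L) (_ : Algebra k k') (_ : Algebra k' L) (_ : Algebra K L)
      (_ : Algebra k L), IsScalarTower k k' L ∧ IsScalarTower k K L ∧ Module.Finite k k' ∧
      IsPurelyInseparable k k' ∧ Algebra.EssFiniteType k' L ∧ Algebra.FormallySmooth k' L ∧
      IntermediateField.adjoin k' (Set.range (algebraMap K L)) = ⊤ ∧
      ∀ (F : Type u) [Field F] [Algebra k' F], IsRegularRing (L ⊗[k'] F) := by
  obtain ⟨k', L, i1, i2, i3, i4, i5, i6, h1, h2, h3, h4, h5, h6, h7, h8, -⟩ :=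
    exists_purelyInseparable_separatingBasis k K
  exact ⟨k', L, i1, i2, i3, i4, i5, i6, h1, h2, h3, h4, h5, h6, h7, h8⟩

/-- After a finite purely inseparable extension of the ground field, the tensor products with fields
are regular. -/
theorem exists_purelyInseparable_regular_tensor (k K : Type u) [Field k] [Field K] [Algebra k K]
    [Algebra.EssFiniteType k K] :
    ∃ (k' L : Type u) (_ : Field k') (_ : Field L) (_ : Algebra k k') (_ : Algebra k' L) (_ : Algebra K L)
      (_ : Algebra k L), IsScalarTower k k' L ∧ IsScalarTower k K L ∧ Module.Finite k k' ∧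
      IsPurelyInseparable k k' ∧ Algebra.EssFiniteType k' L ∧
      ∀ (F : Type u) [Field F] [Algebra k' F], IsRegularRing (L ⊗[k'] F) := by
  obtain ⟨k', L, i1, i2, i3, i4, i5, i6, h1, h2, h3, h4, h5, -, -, h7⟩ :=
    exists_purelyInseparable_separablyGenerated k K
  exact ⟨k', L, i1, i2, i3, i4, i5, i6, h1, h2, h3, h4, h5, h7⟩

end Groth.Agent.CommAlg6
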