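import Groth.Agent.CommAlg6.NormalTensor
import Groth.Agent.CommAlg6.FieldExtGen
import Groth.Agent.FlatMorGeom.ClosedPointsFibre
import Mathlib.RingTheory.Trace.Basic
import Mathlib.RingTheory.Spectrum.Prime.Homeomorph
import Mathlib.RingTheory.TensorProduct.MvPolynomial

/-! Geometrically normal local algebras stay normal after finitely generated field extensions. -/

set_option autoImplicit false
set_option linter.style.haveILetI false

universe u

open TensorProduct IsLocalRing

namespace Groth.Agent.CommAlg6.NormalTensor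

/-- Integral closedness survives finite separable field extensions of the constants. -/
theorem mem_range_of_separable (M K : Type u) [Field M] [Field K] [Algebra M K] [FiniteDimensional M K]
    [Algebra.IsSeparable M K] (R F : Type u) [CommRing R] [IsDomain R] [IsIntegrallyClosed R] [Field F]
    [Algebra R F] [IsFractionRing R F] [Algebra M R] [Algebra M F] [IsScalarTower M R F] (z : K ⊗[M] F)
    (hz : (Algebra.TensorProduct.map (AlgHom.id M K) (IsScalarTower.toAlgHom M R F)).toRingHom.IsIntegralElem z) :
    z ∈ Set.range (Algebra.TensorProduct.map (AlgHom.id M K) (IsScalarTower.toAlgHom M R F)) := by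
  classical
  let b := Module.finBasis M K
  let B := Algebra.traceForm M K
  have hB : B.Nondegenerate := traceForm_nondegenerate M K
  let f := B.dualBasis hB b
  let c := Algebra.TensorProduct.basis F b
  let e : K ⊗[M] F ≃ₗ[M] F ⊗[M] K := TensorProduct.comm M K F
  let a : Fin (Module.finrank M K) → F := fun i => c.repr (e z) i
  have hz' : z = ∑ i, b i ⊗ₜ[M] a i := by
    apply e.injective
    rw [map_sum]
    conv_lhs => rw [← c.sum_repr (e z)]
    refine Finset.sum_congr rfl fun i _ => ?_
    show c.repr (e z) i • c i = a i ⊗ₜ b i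
    rw [Algebra.TensorProduct.basis_apply, TensorProduct.smul_tmul', smul_eq_mul, mul_one]
  let Ω := AlgebraicClosure F
  haveI : IsScalarTower M F Ω := inferInstance
  let g := Algebra.TensorProduct.map (AlgHom.id M K) (IsScalarTower.toAlgHom M R F)
  let φ : (K →ₐ[M] Ω) → (K ⊗[M] F →ₐ[M] Ω) := fun σ =>
    Algebra.TensorProduct.lift σ (IsScalarTower.toAlgHom M F Ω) (fun _ _ => Commute.all _ _)
  -- images of integral elements are integral over `R`
  haveI : IsScalarTower R F Ω := inferInstance
  haveI : IsScalarTower M R Ω := inferInstance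
  have hint : ∀ (σ : K →ₐ[M] Ω) (w : K ⊗[M] F), g.toRingHom.IsIntegralElem w → IsIntegral R (φ σ w) := by
    intro σ w hw
    let A0 := integralClosure R Ω
    have hσ : ∀ v : K ⊗[M] R, φ σ (g v) ∈ A0 := fun v => by
      induction v using TensorProduct.induction_on with
      | zero => rw [map_zero, map_zero]; exact zero_mem _
      | tmul x r =>
        show IsIntegral R (σ x * algebraMap F Ω (algebraMap R F r))
        refine IsIntegral.mul ?_ isIntegral_algebraMap
        exact ((Algebra.IsIntegral.isIntegral (R := M) x).map σ).tower_top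
      | add v v' hv hv' => rw [map_add, map_add]; exact add_mem hv hv'
    obtain ⟨p, hp, hpw⟩ := hw
    have h1 : IsIntegral A0 (φ σ w) := by
      refine ⟨p.map ((((φ σ).comp g).toRingHom).codRestrict A0 hσ), hp.map _, ?_⟩
      rw [Polynomial.eval₂_map]
      have h2 := congrArg (φ σ).toRingHom hpw
      rw [map_zero, Polynomial.hom_eval₂] at h2
      exact h2
    exact isIntegral_trans (A := A0) _ h1
  have ha : ∀ j, ∃ r : R, algebraMap R F r = a j := fun j => by
    refine IsIntegrallyClosed.isIntegral_iff.1 ((isIntegral_algebraMap_iff (algebraMap F Ω).injective).1 ?_)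
    have hsum : algebraMap F Ω (a j) = ∑ σ : K →ₐ[M] Ω, φ σ (z * (f j ⊗ₜ 1)) := by
      have h1 : ∀ σ : K →ₐ[M] Ω, φ σ (z * (f j ⊗ₜ 1)) = ∑ i, σ (b i * f j) * algebraMap F Ω (a i) := fun σ => by
        rw [hz', Finset.sum_mul, map_sum]
        refine Finset.sum_congr rfl fun i _ => ?_
        rw [Algebra.TensorProduct.tmul_mul_tmul, mul_one]
        rfl
      simp only [h1]
      rw [Finset.sum_comm]
      simp only [← Finset.sum_mul, ← trace_eq_sum_embeddings]
      rw [Finset.sum_eq_single j]
      · have : Algebra.trace M K (b j * f j) = 1 := by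
          rw [mul_comm, ← Algebra.traceForm_apply]
          show B (f j) (b j) = 1
          rw [LinearMap.BilinForm.apply_dualBasis_left, if_pos rfl]
        rw [this, map_one, one_mul]
      · intro i _ hi
        have : Algebra.trace M K (b i * f j) = 0 := by
          rw [mul_comm, ← Algebra.traceForm_apply]
          show B (f j) (b i) = 0
          rw [LinearMap.BilinForm.apply_dualBasis_left, if_neg hi]
        rw [this, map_zero, zero_mul]
      · simp
    rw [hsum]
    refine IsIntegral.sum _ fun σ _ => hint σ _ ?_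
    have h2 : g.toRingHom.IsIntegralElem (f j ⊗ₜ[M] (1 : F)) := by
      have := g.toRingHom.isIntegralElem_map (x := f j ⊗ₜ[M] (1 : R))
      simpa [g] using this
    exact hz.mul _ h2
  choose r hr using ha
  refine ⟨∑ i, b i ⊗ₜ r i, ?_⟩
  rw [map_sum, hz']
  exact Finset.sum_congr rfl fun i _ => by rw [Algebra.TensorProduct.map_tmul, AlgHom.id_apply, IsScalarTower.coe_toAlgHom', hr]

theorem isFractionRing_adjoin {k' K' : Type u} [Field k'] [Field K'] [Algebra k' K'] {n : ℕ} {x : Fin n → K'}
    (hx : AlgebraicIndependent k' x) :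
    letI : Algebra (MvPolynomial (Fin n) k') (IntermediateField.adjoin k' (Set.range x)) :=
      (MvPolynomial.aeval (fun i => (⟨x i, IntermediateField.subset_adjoin k' _ ⟨i, rfl⟩⟩ :
        IntermediateField.adjoin k' (Set.range x)))).toRingHom.toAlgebra
    IsFractionRing (MvPolynomial (Fin n) k') (IntermediateField.adjoin k' (Set.range x)) := by
  let M := IntermediateField.adjoin k' (Set.range x)
  letI : Algebra (MvPolynomial (Fin n) k') M :=
    (MvPolynomial.aeval (fun i => (⟨x i, IntermediateField.subset_adjoin k' _ ⟨i, rfl⟩⟩ : M))).toRingHom.toAlgebra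
  have hval : ∀ p, ((algebraMap (MvPolynomial (Fin n) k') M p : M) : K') = MvPolynomial.aeval x p := fun p => by
    show M.val (MvPolynomial.aeval _ p) = _
    rw [MvPolynomial.comp_aeval_apply]
    rfl
  haveI : FaithfulSMul (MvPolynomial (Fin n) k') M := (faithfulSMul_iff_algebraMap_injective _ _).2 fun p q h =>
    hx (by rw [← hval, ← hval, h])
  refine IsFractionRing.of_field _ _ fun z => ?_
  obtain ⟨r, s, hz⟩ := (IntermediateField.mem_adjoin_range_iff k' x (z : K')).1 z.2
  refine ⟨r, s, Subtype.ext ?_⟩
  rw [IntermediateField.coe_div, hval, hval, ← hz]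

/-- Adjoining a purely transcendental field of constants to an integrally closed domain. -/
theorem isIntegrallyClosed_purelyTranscendental (k T M : Type u) [Field k] [CommRing T] [IsDomain T]
    [IsIntegrallyClosed T] [Algebra k T] [Field M] [Algebra k M] (n : ℕ) [Algebra (MvPolynomial (Fin n) k) M]
    [IsScalarTower k (MvPolynomial (Fin n) k) M] [IsFractionRing (MvPolynomial (Fin n) k) M] :
    IsDomain (M ⊗[k] T) ∧ IsIntegrallyClosed (M ⊗[k] T) := by
  let P := MvPolynomial (Fin n) k
  haveI := FlatMorGeom.isIntegrallyClosed_mvPolynomial_fin T n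
  let e : T ⊗[k] P ≃ₐ[T] MvPolynomial (Fin n) T := MvPolynomial.algebraTensorAlgEquiv k T
  haveI : IsDomain (T ⊗[k] P) := e.toRingEquiv.toMulEquiv.isDomain
  haveI : IsIntegrallyClosed (T ⊗[k] P) := IsIntegrallyClosed.of_equiv e.symm.toRingEquiv
  letI : Algebra (T ⊗[k] P) (T ⊗[k] M) :=
    (Algebra.TensorProduct.map (AlgHom.id k T) (IsScalarTower.toAlgHom k P M)).toAlgebra
  haveI : IsScalarTower T (T ⊗[k] P) (T ⊗[k] M) :=
    @IsScalarTower.of_algebraMap_eq T (T ⊗[k] P) (T ⊗[k] M) _ _ _ _ _ _ fun x => by
      show x ⊗ₜ[k] (1 : M) = Algebra.TensorProduct.map (AlgHom.id k T) (IsScalarTower.toAlgHom k P M) (x ⊗ₜ[k] (1 : P))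
      simp
  let W := (nonZeroDivisors P).map (Algebra.TensorProduct.includeRight (R := k) (A := T) (B := P))
  haveI : IsLocalization W (T ⊗[k] M) := IsLocalization.tensorProduct_tensorProduct_right k T (nonZeroDivisors P) M
    (RingHom.ext fun x => by simp [RingHom.algebraMap_toAlgebra]; try rfl)
  have hW : W ≤ nonZeroDivisors (T ⊗[k] P) := by
    rintro _ ⟨p, hp, rfl⟩
    refine mem_nonZeroDivisors_of_ne_zero fun h0 => nonZeroDivisors.ne_zero hp ?_
    exact Algebra.TensorProduct.includeRight_injective (algebraMap k T).injective (h0.trans (map_zero _).symm)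
  haveI : IsDomain (T ⊗[k] M) := IsLocalization.isDomain_of_le_nonZeroDivisors _ hW
  haveI : IsIntegrallyClosed (T ⊗[k] M) := isIntegrallyClosed_of_isLocalization _ W hW
  exact ⟨(Algebra.TensorProduct.comm k M T).toRingEquiv.toMulEquiv.isDomain,
    IsIntegrallyClosed.of_equiv (Algebra.TensorProduct.comm k T M).toRingEquiv⟩

/-- A purely inseparable extension of the constants keeps a local ring local. -/
theorem isLocalRing_tensor_purelyInseparable (k k' T : Type u) [Field k] [Field k'] [Algebra k k']
    [IsPurelyInseparable k k'] [CommRing T] [IsLocalRing T] [Algebra k T] : IsLocalRing (T ⊗[k] k') := by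
  have h := PrimeSpectrum.isHomeomorph_comap_of_isPurelyInseparable k k' T
  haveI : Nontrivial (T ⊗[k] k') := (Algebra.TensorProduct.includeLeft_injective (S := T)
    (algebraMap k k').injective : Function.Injective (algebraMap T (T ⊗[k] k'))).nontrivial
  obtain ⟨m, hm⟩ := Ideal.exists_maximal (T ⊗[k] k')
  refine IsLocalRing.of_unique_max_ideal ⟨m, hm, fun M hM => ?_⟩
  have key : ∀ (J : Ideal (T ⊗[k] k')) [J.IsMaximal],
      J.comap (algebraMap T (T ⊗[k] k')) = maximalIdeal T := fun J _ => by
    have hcl : IsClosed ({⟨J.comap (algebraMap T (T ⊗[k] k')), inferInstance⟩} : Set (PrimeSpectrum T)) := by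
      have := h.isClosedMap _ ((PrimeSpectrum.isClosed_singleton_iff_isMaximal ⟨J, inferInstance⟩).2 ‹_›)
      rwa [Set.image_singleton] at this
    exact IsLocalRing.eq_maximalIdeal ((PrimeSpectrum.isClosed_singleton_iff_isMaximal _).1 hcl)
  have := h.injective (a₁ := ⟨M, hM.isPrime⟩) (a₂ := ⟨m, hm.isPrime⟩) (PrimeSpectrum.ext ((key M).trans (key m).symm))
  exact congrArg PrimeSpectrum.asIdeal this

/-- Descent along an extension of the constants. -/
theorem mem_range_of_field_ext (k K K' T L : Type u) [Field k] [Field K] [Field K'] [Algebra k K] [Algebra k K']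
    (ι : K →ₐ[k] K') [CommRing T] [CommRing L] [Algebra k T] [Algebra k L] (g : T →ₐ[k] L)
    (z : L ⊗[k] K)
    (hz : Algebra.TensorProduct.map (AlgHom.id k L) ι z ∈
      Set.range (Algebra.TensorProduct.map g (AlgHom.id k K'))) :
    z ∈ Set.range (Algebra.TensorProduct.map g (AlgHom.id k K)) := by
  obtain ⟨w, hw⟩ := hz
  let π := (LinearMap.range g.toLinearMap).mkQ
  have hex : Function.Exact g.toLinearMap π := LinearMap.exact_map_mkQ_range _
  refine (rTensor_exact K hex (Submodule.mkQ_surjective _) z).1 ?_
  have hinj : Function.Injective (ι.toLinearMap.lTensor (L ⧸ LinearMap.range g.toLinearMap)) :=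
    Module.Flat.lTensor_preserves_injective_linearMap _ ι.toRingHom.injective
  apply hinj
  rw [map_zero, ← LinearMap.comp_apply, LinearMap.lTensor_comp_rTensor, ← LinearMap.rTensor_comp_lTensor,
    LinearMap.comp_apply]
  show π.rTensor K' (Algebra.TensorProduct.map (AlgHom.id k L) ι z) = 0
  rw [← hw]
  exact (rTensor_exact K' hex (Submodule.mkQ_surjective _) _).2 ⟨w, rfl⟩

theorem mem_range_of_model (k T L K' M R F : Type u) [Field k] [CommRing T] [IsDomain T] [Algebra k T] [Field L]
    [Algebra T L] [IsFractionRing T L] [Algebra k L] [IsScalarTower k T L] [Field K'] [Algebra k K'] [Field M]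
    [Algebra k M] [Algebra M K'] [IsScalarTower k M K'] [FiniteDimensional M K'] [Algebra.IsSeparable M K']
    [CommRing R] [IsDomain R] [IsIntegrallyClosed R] [Algebra M R] [Field F] [Algebra R F] [IsFractionRing R F]
    [Algebra M F] [IsScalarTower M R F]
    (incR : T →+* R) (hincR : Function.Injective incR)
    (hincRk : ∀ c : k, incR (algebraMap k T c) = algebraMap M R (algebraMap k M c))
    (θ : T ⊗[k] K' ≃+* K' ⊗[M] R) (hθ : ∀ t a, θ (t ⊗ₜ a) = a ⊗ₜ incR t) (z : L ⊗[k] K')
    (hz : (Algebra.TensorProduct.map (IsScalarTower.toAlgHom k T L) (AlgHom.id k K')).toRingHom.IsIntegralElem z) :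
    z ∈ Set.range (Algebra.TensorProduct.map (IsScalarTower.toAlgHom k T L) (AlgHom.id k K')) := by
  have hcmp : Function.Injective ((algebraMap R F).comp incR) := fun u v huv =>
    hincR (IsFractionRing.injective R F huv)
  let ψ0 : L →+* F := IsFractionRing.lift (g := (algebraMap R F).comp incR) hcmp
  have hψ : ∀ t : T, ψ0 (algebraMap T L t) = algebraMap R F (incR t) := fun t => IsFractionRing.lift_algebraMap (g := (algebraMap R F).comp incR) hcmp t
  let gM := Algebra.TensorProduct.map (AlgHom.id M K') (IsScalarTower.toAlgHom M R F)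
  let g := Algebra.TensorProduct.map (IsScalarTower.toAlgHom k T L) (AlgHom.id k K')
  let right : F →+* K' ⊗[M] F := (Algebra.TensorProduct.includeRight : F →ₐ[M] K' ⊗[M] F).toRingHom
  let ΦL : L →ₐ[k] K' ⊗[M] F :=
    { toRingHom := right.comp ψ0
      commutes' := fun c => by
        show (1 : K') ⊗ₜ[M] ψ0 (algebraMap k L c) = algebraMap k K' c ⊗ₜ (1 : F)
        rw [IsScalarTower.algebraMap_apply k T L, hψ]
        rw [hincRk, ← IsScalarTower.algebraMap_apply M R F, IsScalarTower.algebraMap_apply k M K']
        rw [Algebra.algebraMap_eq_smul_one (R := M) (A := F), ← smul_tmul, ← Algebra.algebraMap_eq_smul_one] }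
  let Φ : L ⊗[k] K' →ₐ[k] K' ⊗[M] F := Algebra.TensorProduct.lift ΦL
    ((Algebra.TensorProduct.includeLeft : K' →ₐ[M] K' ⊗[M] F).restrictScalars k) (fun _ _ => Commute.all _ _)
  have hcomm : ∀ v : T ⊗[k] K', Φ (g v) = gM (θ v) := fun v => by
    induction v using TensorProduct.induction_on with
    | zero => simp
    | tmul t a =>
      rw [hθ]
      show ((1 : K') ⊗ₜ[M] ψ0 (algebraMap T L t)) * (a ⊗ₜ (1 : F)) = a ⊗ₜ algebraMap R F (incR t)
      rw [Algebra.TensorProduct.tmul_mul_tmul, one_mul, mul_one, hψ]
    | add u v hu hv => simp only [map_add, hu, hv]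
  have hgM : Function.Injective gM := Module.Flat.lTensor_preserves_injective_linearMap (M := K')
    (IsScalarTower.toAlgHom M R F).toLinearMap (IsFractionRing.injective R F)
  have hden : ∀ y : L ⊗[k] K', ∃ t : T, t ≠ 0 ∧ (algebraMap T L t ⊗ₜ (1 : K')) * y ∈ Set.range g := fun y => by
    induction y using TensorProduct.induction_on with
    | zero => exact ⟨1, one_ne_zero, 0, by simp⟩
    | tmul l a =>
      obtain ⟨⟨r, s⟩, hrs⟩ := IsLocalization.surj (nonZeroDivisors T) l
      refine ⟨s, nonZeroDivisors.ne_zero s.2, r ⊗ₜ a, ?_⟩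
      show algebraMap T L r ⊗ₜ a = _
      rw [Algebra.TensorProduct.tmul_mul_tmul, one_mul, ← hrs, mul_comm]
    | add u v hu hv =>
      obtain ⟨s, hs, u', hu'⟩ := hu
      obtain ⟨t, ht, v', hv'⟩ := hv
      refine ⟨s * t, mul_ne_zero hs ht, (t ⊗ₜ 1) * u' + (s ⊗ₜ 1) * v', ?_⟩
      rw [map_add, map_mul, map_mul, hu', hv']
      have h1 : ∀ q : T, g (q ⊗ₜ (1 : K')) = algebraMap T L q ⊗ₜ (1 : K') := fun q => rfl
      have h2 : algebraMap T L (s * t) ⊗ₜ[k] (1 : K') =
          (algebraMap T L s ⊗ₜ[k] (1 : K')) * (algebraMap T L t ⊗ₜ[k] (1 : K')) := by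
        rw [Algebra.TensorProduct.tmul_mul_tmul, one_mul, map_mul]
      rw [h1, h1, h2]
      ring
  have hΦ : Function.Injective Φ := (injective_iff_map_eq_zero Φ).2 fun y hy => by
    obtain ⟨t, ht, w, hw⟩ := hden y
    have h1 : gM (θ w) = 0 := by rw [← hcomm, hw, map_mul, hy, mul_zero]
    rw [hgM.eq_iff' (map_zero _), θ.map_eq_zero_iff] at h1
    rw [h1, map_zero] at hw
    have hu : IsUnit (algebraMap T L t ⊗ₜ[k] (1 : K')) :=
      (IsUnit.mk0 _ ((map_ne_zero_iff _ (IsFractionRing.injective T L)).2 ht)).map
        (Algebra.TensorProduct.includeLeft : L →ₐ[k] L ⊗[k] K')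
    exact hu.mul_right_eq_zero.1 hw.symm
  have hint : gM.toRingHom.IsIntegralElem (Φ z) := by
    obtain ⟨p, hp, hpz⟩ := hz
    refine ⟨p.map θ.toRingHom, hp.map _, ?_⟩
    have h1 := congrArg Φ.toRingHom hpz
    rw [map_zero, Polynomial.hom_eval₂] at h1
    rw [Polynomial.eval₂_map]
    refine (congrArg (fun f => Polynomial.eval₂ f (Φ z) p) ?_).trans h1
    exact RingHom.ext fun v => (hcomm v).symm
  obtain ⟨w, hw⟩ := mem_range_of_separable M K' R F (Φ z) hint
  refine ⟨θ.symm w, hΦ ?_⟩
  rw [hcomm, θ.apply_symm_apply, hw]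


set_option maxHeartbeats 400000 in
set_option synthInstance.maxHeartbeats 100000 in
/-- Intermediate step: constants with a separating basis. -/
theorem mem_range_of_separating (k k' T L K' : Type u) [Field k] [Field k'] [Field K'] [Algebra k k']
    [IsPurelyInseparable k k'] [Module.Finite k k'] [Algebra k K'] [Algebra k' K'] [IsScalarTower k k' K']
    [CommRing T] [IsDomain T] [IsLocalRing T] [Algebra k T] [Field L] [Algebra T L] [IsFractionRing T L]
    [Algebra k L] [IsScalarTower k T L] (hT : EGA4.IsGeomNormal k T)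
    (n : ℕ) (x : Fin n → K') (hx : AlgebraicIndependent k' x)
    [FiniteDimensional (IntermediateField.adjoin k' (Set.range x)) K']
    [Algebra.IsSeparable (IntermediateField.adjoin k' (Set.range x)) K'] (z : L ⊗[k] K')
    (hz : (Algebra.TensorProduct.map (IsScalarTower.toAlgHom k T L) (AlgHom.id k K')).toRingHom.IsIntegralElem z) :
    z ∈ Set.range (Algebra.TensorProduct.map (IsScalarTower.toAlgHom k T L) (AlgHom.id k K')) := by
  let T' := k' ⊗[k] T
  haveI : IsLocalRing (T ⊗[k] k') := isLocalRing_tensor_purelyInseparable k k' T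
  haveI : IsLocalRing T' := (Algebra.TensorProduct.comm k T k').toRingEquiv.isLocalRing
  obtain ⟨_, _⟩ := isDomain_of_local (hT k' inferInstance)
  let M := IntermediateField.adjoin k' (Set.range x)
  letI : Algebra (MvPolynomial (Fin n) k') M :=
    (MvPolynomial.aeval (fun i => (⟨x i, IntermediateField.subset_adjoin k' _ ⟨i, rfl⟩⟩ : M))).toRingHom.toAlgebra
  haveI : IsScalarTower k' (MvPolynomial (Fin n) k') M := .of_algebraMap_eq fun c =>
    ((MvPolynomial.aeval _).commutes c).symm
  haveI : IsFractionRing (MvPolynomial (Fin n) k') M := isFractionRing_adjoin hx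
  obtain ⟨_, _⟩ := isIntegrallyClosed_purelyTranscendental k' T' M n
  let θ : T ⊗[k] K' ≃+* K' ⊗[M] (M ⊗[k'] T') :=
    ((Algebra.TensorProduct.comm k T K').toRingEquiv.trans
      (Algebra.TensorProduct.cancelBaseChange k k' K' K' T).symm.toRingEquiv).trans
      (Algebra.TensorProduct.cancelBaseChange k' M K' K' T').symm.toRingEquiv
  let incR : T →+* M ⊗[k'] T' := ((Algebra.TensorProduct.includeRight : T' →ₐ[k'] M ⊗[k'] T').toRingHom).comp
    (Algebra.TensorProduct.includeRight : T →ₐ[k] T').toRingHom
  have hθ : ∀ (t : T) (a : K'), θ (t ⊗ₜ a) = a ⊗ₜ incR t := fun t a => by simp [θ, incR]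
  have hincR : Function.Injective incR := fun u v huv =>
    Algebra.TensorProduct.includeRight_injective (algebraMap k k').injective
      (Algebra.TensorProduct.includeRight_injective (algebraMap k' M).injective huv)
  have hincRk : ∀ c : k, incR (algebraMap k T c) = algebraMap M (M ⊗[k'] T') (algebraMap k M c) := fun c => by
    rw [Algebra.TensorProduct.algebraMap_apply]
    show (1 : M) ⊗ₜ[k'] ((1 : k') ⊗ₜ[k] algebraMap k T c) = algebraMap k M c ⊗ₜ[k'] (1 : T')
    rw [Algebra.algebraMap_eq_smul_one c, ← smul_tmul, ← Algebra.algebraMap_eq_smul_one,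
      IsScalarTower.algebraMap_apply k k' M, Algebra.algebraMap_eq_smul_one (R := k') (A := M),
      smul_tmul, Algebra.TensorProduct.one_def, TensorProduct.smul_tmul', smul_eq_mul, mul_one]
  haveI : IsScalarTower k M K' := .of_algebraMap_eq fun c => by
    rw [IsScalarTower.algebraMap_apply k k' K', IsScalarTower.algebraMap_apply k k' M,
      ← IsScalarTower.algebraMap_apply k' M K']
  exact mem_range_of_model k T L K' M (M ⊗[k'] T') (FractionRing (M ⊗[k'] T')) incR hincR hincRk θ hθ z hz

theorem isGeomNormal_localization (k A : Type u) [Field k] [CommRing A] [Algebra k A] (h : EGA4.IsGeomNormal k A)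
    (W : Submonoid A) (S : Type u) [CommRing S] [Algebra A S] [IsLocalization W S] [Algebra k S] [IsScalarTower k A S] :
    EGA4.IsGeomNormal k S := by
  intro K _ _ hK
  letI : Algebra (K ⊗[k] A) (K ⊗[k] S) :=
    (Algebra.TensorProduct.map (AlgHom.id k K) (IsScalarTower.toAlgHom k A S)).toAlgebra
  haveI : IsScalarTower K (K ⊗[k] A) (K ⊗[k] S) :=
    @IsScalarTower.of_algebraMap_eq K (K ⊗[k] A) (K ⊗[k] S) _ _ _ _ _ _ fun x => by
      show x ⊗ₜ[k] (1 : S) = Algebra.TensorProduct.map (AlgHom.id k K) (IsScalarTower.toAlgHom k A S) (x ⊗ₜ[k] (1 : A))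
      simp
  haveI := IsLocalization.tensorProduct_tensorProduct_right k K W S
    (RingHom.ext fun x => by simp [RingHom.algebraMap_toAlgebra]; try rfl)
  exact isNormalRing_localization (W.map (Algebra.TensorProduct.includeRight (R := k) (A := K))) (h K hK)

/-- Geometrically normal local rings have normal envelopes over every finitely generated field. -/
theorem hasNormalEnvelope_of_isGeomNormal (k T K : Type u) [Field k] [CommRing T] [IsDomain T] [IsLocalRing T]
    [Algebra k T] (hT : EGA4.IsGeomNormal k T) [Field K] [Algebra k K] [Algebra.EssFiniteType k K] :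
    HasNormalEnvelope (T ⊗[k] K) := by
  let g := Algebra.TensorProduct.map (IsScalarTower.toAlgHom k T (FractionRing T)) (AlgHom.id k K)
  have hL : EGA4.IsGeomNormal k (FractionRing T) :=
    isGeomNormal_localization k T hT (nonZeroDivisors T) (FractionRing T)
  haveI : IsNoetherianRing (FractionRing T ⊗[k] K) := Algebra.EssFiniteType.isNoetherianRing (FractionRing T) _
  haveI : IsNoetherianRing (K ⊗[k] FractionRing T) :=
    isNoetherianRing_of_ringEquiv _ (Algebra.TensorProduct.comm k (FractionRing T) K).toRingEquiv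
  refine ⟨FractionRing T ⊗[k] K, inferInstance, g.toRingHom, inferInstance, ?_,
    isNormalRing_of_ringEquiv (Algebra.TensorProduct.comm k K (FractionRing T)).toRingEquiv
      (isNormalRing_geomNormal_field k K (FractionRing T) hL), fun z hz => ?_⟩
  · exact Module.Flat.rTensor_preserves_injective_linearMap (M := K)
      (IsScalarTower.toAlgHom k T (FractionRing T)).toLinearMap (IsFractionRing.injective T (FractionRing T))
  obtain ⟨k', K', _, _, _, _, _, _, _, _, hfin, hpi, -, -, -, -, n, x, hx, hfd, hsep⟩ :=
    exists_purelyInseparable_separatingBasis k K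
  haveI := hfin
  haveI := hpi
  haveI := hfd
  haveI := hsep
  refine mem_range_of_field_ext k K K' T (FractionRing T) (IsScalarTower.toAlgHom k K K')
    (IsScalarTower.toAlgHom k T (FractionRing T)) z (mem_range_of_separating k k' T (FractionRing T) K' hT n x hx _ ?_)
  obtain ⟨p, hp, hpz⟩ := hz
  refine ⟨p.map (Algebra.TensorProduct.map (AlgHom.id k T) (IsScalarTower.toAlgHom k K K')).toRingHom, hp.map _, ?_⟩
  have h1 := congrArg (Algebra.TensorProduct.map (AlgHom.id k (FractionRing T)) (IsScalarTower.toAlgHom k K K')).toRingHom hpz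
  rw [map_zero, Polynomial.hom_eval₂] at h1
  rw [Polynomial.eval₂_map]
  refine (congrArg (fun f => Polynomial.eval₂ f _ p) ?_).trans h1
  refine RingHom.ext fun v => ?_
  induction v using TensorProduct.induction_on with
  | zero => simp
  | tmul a b => simp [g]
  | add a b ha hb => rw [map_add, map_add, ha, hb]

/-- Tensor product of a geometrically normal algebra with a normal algebra. -/
theorem isNormalRing_tensor_of_isGeomNormal (k A B : Type u) [Field k] [CommRing A] [Algebra k A] [CommRing B]
    [Algebra k B] (hA : EGA4.IsGeomNormal k A) (hB : EGA4.IsNormalRing B) : EGA4.IsNormalRing (A ⊗[k] B) := by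
  refine isNormalRing_tensor_of_localizations B fun q _ => ?_
  haveI := (hB q).1
  haveI := (hB q).2
  refine isNormalRing_of_ringEquiv (Algebra.TensorProduct.comm k (Localization.AtPrime q) A).toRingEquiv ?_
  refine isNormalRing_tensor_of_localizations A fun p _ => ?_
  refine isNormalRing_of_ringEquiv (Algebra.TensorProduct.comm k (Localization.AtPrime p) (Localization.AtPrime q)).toRingEquiv ?_
  have hn : EGA4.IsNormalRing A :=
    isNormalRing_of_ringEquiv (Algebra.TensorProduct.lid k A).toRingEquiv (hA k inferInstance)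
  haveI := (hn p).1
  exact isNormalRing_tensor_local (fun K _ _ _ => hasNormalEnvelope_of_isGeomNormal k (Localization.AtPrime p) K
    (isGeomNormal_localization k A hA p.primeCompl (Localization.AtPrime p))) (Localization.AtPrime q)

end Groth.Agent.CommAlg6.NormalTensor
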