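import Groth.Prelude.Def_EGA4b
import Groth.Agent.CommAlg6.AtPrime
import Groth.Agent.CommAlg6.DepthOne

/-! Serre's condition `(S_1)` means no embedded associated prime. -/

universe u

open IsLocalRing

namespace Groth.Agent.CommAlg6

variable {R : Type u} [CommRing R] [IsNoetherianRing R] {M : Type u} [AddCommGroup M] [Module R M]
  [Module.Finite R M]

omit [IsNoetherianRing R] [Module.Finite R M] in
theorem under_eq_iff_eq (q : Ideal R) [q.IsPrime] (P P' : Ideal (Localization.AtPrime q)) :
    P.under R = P'.under R ↔ P = P' := by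
  refine ⟨fun h => ?_, fun h => by rw [h]⟩
  rw [← IsLocalization.map_under q.primeCompl (Localization.AtPrime q) P, h,
    IsLocalization.map_under q.primeCompl (Localization.AtPrime q) P']

omit [IsNoetherianRing R] in
theorem supportDim_localized_le_zero_iff (p : Ideal R) [p.IsPrime] :
    Module.supportDim (Localization.AtPrime p) (LocalizedModule p.primeCompl M) ≤ 0 ↔
      ∀ r : PrimeSpectrum R, r ∈ Module.support R M → r.asIdeal ≤ p → r.asIdeal = p := by
  rw [Module.supportDim, Order.krullDim_nonpos_iff_forall_isMax]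
  have hmax : (maximalIdeal (Localization.AtPrime p)).under R = p :=
    IsLocalization.AtPrime.under_maximalIdeal (Localization.AtPrime p) p
  constructor
  · intro h r hr hle
    obtain ⟨P, hP, hPr⟩ := exists_under_eq p r.asIdeal hle
    have hPs : (⟨P, hP⟩ : PrimeSpectrum (Localization.AtPrime p)) ∈
        Module.support (Localization.AtPrime p) (LocalizedModule p.primeCompl M) := by
      rw [mem_support_localizedModule]
      convert hr
      exact PrimeSpectrum.ext hPr
    haveI : Nontrivial (LocalizedModule p.primeCompl M) :=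
      Module.nonempty_support_iff.mp ⟨_, hPs⟩
    have hle' := h ⟨_, hPs⟩ (b := ⟨closedPoint (Localization.AtPrime p), closedPoint_mem_support _ _⟩)
      (le_maximalIdeal hP.ne_top)
    have : P = maximalIdeal (Localization.AtPrime p) := le_antisymm (le_maximalIdeal hP.ne_top) hle'
    rw [← hPr, this, hmax]
  · intro h x y hxy
    have hy := (mem_support_localizedModule p y.1).mp y.2
    have hx := (mem_support_localizedModule p x.1).mp x.2
    have e1 := h _ hy (under_le p y.1.asIdeal)
    have e2 := h _ hx (under_le p x.1.asIdeal)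
    exact ((under_eq_iff_eq p _ _).mp (e1.trans e2.symm)).le

/-- `(S_1)` iff every associated prime is minimal in the support. -/
theorem hasSk_one_iff :
    LocCoh.HasSk 1 R M ↔ ∀ p : PrimeSpectrum R, p.asIdeal ∈ associatedPrimes R M →
      ∀ r : PrimeSpectrum R, r ∈ Module.support R M → r.asIdeal ≤ p.asIdeal → r.asIdeal = p.asIdeal := by
  constructor
  · intro h p hp
    rw [← supportDim_localized_le_zero_iff]
    by_contra hdim
    rw [not_le] at hdim
    have hd : ¬ (1 : ℕ∞) ≤ LocCoh.depth (Localization.AtPrime p.asIdeal)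
        (LocalizedModule p.asIdeal.primeCompl M) := by
      rw [one_le_depth_localized_iff]; exact not_not.mpr hp
    apply hd
    have h1 : (1 : WithBot ℕ∞) ≤ Module.supportDim (Localization.AtPrime p.asIdeal)
        (LocalizedModule p.asIdeal.primeCompl M) := by
      revert hdim
      generalize Module.supportDim (Localization.AtPrime p.asIdeal)
        (LocalizedModule p.asIdeal.primeCompl M) = d
      intro hdim
      induction d with
      | bot => simp at hdim
      | coe d =>
        have hdim' : (0 : ℕ∞) < d := WithBot.coe_lt_coe.mp hdim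
        exact WithBot.coe_le_coe.mpr (Order.one_le_iff_pos.mpr hdim')
    have h2 := h p.asIdeal
    rw [Nat.cast_one, min_eq_left h1] at h2
    exact WithBot.coe_le_coe.mp h2
  · intro h p hp
    by_cases hass : p ∈ associatedPrimes R M
    · have := (supportDim_localized_le_zero_iff p).mpr (h ⟨p, hp⟩ hass)
      exact (min_le_right _ _).trans (this.trans (WithBot.coe_le_coe.mpr bot_le))
    · have hd := (one_le_depth_localized_iff (M := M) p).mpr hass
      exact (min_le_left _ _).trans (by exact_mod_cast hd)

theorem hasSkAt_one_iff (q : Ideal R) [q.IsPrime] :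
    EGA4.HasSkAt 1 R M q ↔ ∀ p : PrimeSpectrum R, p.asIdeal ∈ associatedPrimes R M → p.asIdeal ≤ q →
      ∀ r : PrimeSpectrum R, r ∈ Module.support R M → r.asIdeal ≤ p.asIdeal → r.asIdeal = p.asIdeal := by
  rw [EGA4.HasSkAt, hasSk_one_iff]
  have hass : ∀ P : PrimeSpectrum (Localization.AtPrime q),
      P.asIdeal ∈ associatedPrimes (Localization.AtPrime q) (LocalizedModule q.primeCompl M) ↔
        P.asIdeal.under R ∈ associatedPrimes R M := fun P => by
    rw [← Module.associatedPrimes.preimage_comap_associatedPrimes_eq_associatedPrimes_of_isLocalizedModule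
      q.primeCompl (Localization.AtPrime q) (f := LocalizedModule.mkLinearMap q.primeCompl M)]
    rfl
  constructor
  · intro h p hp hpq r hr hrp
    obtain ⟨P, hP, hPp⟩ := exists_under_eq q p.asIdeal hpq
    obtain ⟨Q, hQ, hQr⟩ := exists_under_eq q r.asIdeal (hrp.trans hpq)
    have hQs : (⟨Q, hQ⟩ : PrimeSpectrum (Localization.AtPrime q)) ∈
        Module.support (Localization.AtPrime q) (LocalizedModule q.primeCompl M) := by
      rw [mem_support_localizedModule]
      convert hr
      exact PrimeSpectrum.ext hQr
    have hle : Q ≤ P := by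
      rw [← IsLocalization.map_under q.primeCompl (Localization.AtPrime q) Q,
        ← IsLocalization.map_under q.primeCompl (Localization.AtPrime q) P, hQr, hPp]
      exact Ideal.map_mono hrp
    have : Q = P := h ⟨P, hP⟩ ((hass ⟨P, hP⟩).mpr (hPp.symm ▸ hp)) ⟨Q, hQ⟩ hQs hle
    rw [← hQr, this, hPp]
  · intro h P hP Q hQ hQP
    exact (under_eq_iff_eq q _ _).mp (h (PrimeSpectrum.comap (algebraMap R (Localization.AtPrime q)) P)
      ((hass P).mp hP) (under_le q P.asIdeal) (PrimeSpectrum.comap (algebraMap R (Localization.AtPrime q)) Q)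
      ((mem_support_localizedModule q Q).mp hQ) (Ideal.comap_mono hQP))

theorem isOpen_hasSkAt_one : IsOpen {p : PrimeSpectrum R | EGA4.HasSkAt 1 R M p.asIdeal} := by
  classical
  have hset : {p : PrimeSpectrum R | EGA4.HasSkAt 1 R M p.asIdeal} =
      (⋃ P ∈ {P : Ideal R | P ∈ associatedPrimes R M ∧
        ∃ r : PrimeSpectrum R, r ∈ Module.support R M ∧ r.asIdeal ≤ P ∧ r.asIdeal ≠ P},
          PrimeSpectrum.zeroLocus (P : Set R))ᶜ := by
    ext q
    simp only [Set.mem_setOf_eq, Set.mem_compl_iff, Set.mem_iUnion, exists_prop, not_exists,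
      not_and, PrimeSpectrum.mem_zeroLocus, SetLike.coe_subset_coe]
    rw [hasSkAt_one_iff]
    constructor
    · intro h P hP hle
      obtain ⟨hPa, r, hr, hrP, hne⟩ := hP
      exact hne (h ⟨P, hPa.isPrime⟩ hPa hle r hr hrP)
    · intro h p hp hpq r hr hrp
      by_contra hne
      exact h p.asIdeal ⟨hp, r, hr, hrp, hne⟩ hpq
  rw [hset, isOpen_compl_iff]
  exact Set.Finite.isClosed_biUnion ((associatedPrimes.finite R M).subset fun P hP => hP.1)
    fun P _ => PrimeSpectrum.isClosed_zeroLocus _

end Groth.Agent.CommAlg6
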