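import Groth.Agent.CommAlg6.FlatEquidim
import Groth.Agent.CAlgH3.FlatDepth
import Groth.Agent.CommAlg6.DepthOne
import Groth.Agent.FlatCrit.Inj

/-! Depth and dimension of `N ⊗[A] M` for `N` a finite `B`-module flat over `A`. -/

universe u

open IsLocalRing TensorProduct
open scoped Pointwise

namespace Groth.Agent.CommAlg6

section tensor

variable {A B : Type u} [CommRing A] [CommRing B] [Algebra A B]
variable {N : Type u} [AddCommGroup N] [Module B N] [Module A N] [IsScalarTower A B N]

theorem mem_map_smul_top_iff (I : Ideal A) (x : N) :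
    x ∈ I.map (algebraMap A B) • (⊤ : Submodule B N) ↔ x ∈ I • (⊤ : Submodule A N) := by
  conv_rhs => rw [← Submodule.restrictScalars_top (R := B), ← Ideal.smul_restrictScalars]
  rw [Submodule.restrictScalars_mem]

theorem nonempty_tensor_quotient_equiv (I : Ideal A) :
    Nonempty ((N ⊗[A] (A ⧸ I)) ≃ₗ[B] N ⧸ (I.map (algebraMap A B) • (⊤ : Submodule B N))) := by
  let f : N →ₗ[B] N ⊗[A] (A ⧸ I) :=
    { toFun := fun n => n ⊗ₜ[A] (1 : A ⧸ I)
      map_add' := fun x y => TensorProduct.add_tmul x y _
      map_smul' := fun b x => by simp [TensorProduct.smul_tmul'] }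
  have hf : Function.Surjective f := by
    intro z
    induction z with
    | zero => exact ⟨0, map_zero f⟩
    | add a b ha hb =>
      obtain ⟨x, rfl⟩ := ha
      obtain ⟨y, rfl⟩ := hb
      exact ⟨x + y, map_add f x y⟩
    | tmul n q =>
      obtain ⟨a, rfl⟩ := Ideal.Quotient.mk_surjective q
      refine ⟨a • n, ?_⟩
      change (a • n) ⊗ₜ[A] (1 : A ⧸ I) = _
      rw [TensorProduct.smul_tmul, Algebra.smul_def, mul_one, Ideal.Quotient.algebraMap_eq]
  have hker : LinearMap.ker f = I.map (algebraMap A B) • (⊤ : Submodule B N) := by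
    ext n
    rw [LinearMap.mem_ker, mem_map_smul_top_iff]
    change n ⊗ₜ[A] (1 : A ⧸ I) = 0 ↔ _
    rw [← (TensorProduct.tensorQuotEquivQuotSMul N I).map_eq_zero_iff]
    simp [TensorProduct.tensorQuotEquivQuotSMul, Submodule.Quotient.mk_eq_zero]
  exact ⟨((Submodule.quotEquivOfEq _ _ hker.symm).trans (f.quotKerEquivOfSurjective hf)).symm⟩

theorem rTensor_injective_of_flat_coker_aux (u : N →ₗ[A] N) (hu : Function.Injective u)
    [Module.Flat A N] [Module.Flat A (N ⧸ LinearMap.range u)]
    (M : Type u) [AddCommGroup M] [Module A M] {F : Type u} [AddCommGroup F] [Module A F]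
    [Module.Flat A F] (π : F →ₗ[A] M) (hπ : Function.Surjective π) :
    Function.Injective (u.rTensor M) := by
  rw [injective_iff_map_eq_zero]
  intro z hz
  let q := (LinearMap.range u).mkQ
  have huq : Function.Exact u q := LinearMap.exact_map_mkQ_range u
  let K := LinearMap.ker π
  have hKF : Function.Exact K.subtype π := LinearMap.exact_subtype_ker_map π
  obtain ⟨w, rfl⟩ := LinearMap.lTensor_surjective N hπ z
  rw [← LinearMap.comp_apply, LinearMap.rTensor_comp_lTensor, ← LinearMap.lTensor_comp_rTensor,
    LinearMap.comp_apply] at hz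
  obtain ⟨k, hk⟩ := (Module.Flat.lTensor_exact N hKF _).1 hz
  have hqk : q.rTensor K k = 0 := by
    apply Module.Flat.lTensor_preserves_injective_linearMap (M := N ⧸ LinearMap.range u) K.subtype
      Subtype.val_injective
    rw [map_zero, ← LinearMap.comp_apply, LinearMap.lTensor_comp_rTensor,
      ← LinearMap.rTensor_comp_lTensor, LinearMap.comp_apply, hk, ← LinearMap.comp_apply,
      ← LinearMap.rTensor_comp, huq.linearMap_comp_eq_zero, LinearMap.rTensor_zero,
      LinearMap.zero_apply]
  obtain ⟨k', rfl⟩ := (rTensor_exact K huq (Submodule.mkQ_surjective _) k).1 hqk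
  have hw : K.subtype.lTensor N k' = w := by
    refine Module.Flat.rTensor_preserves_injective_linearMap (M := F) u hu ?_
    rw [← hk, ← LinearMap.comp_apply, ← LinearMap.comp_apply, LinearMap.rTensor_comp_lTensor,
      LinearMap.lTensor_comp_rTensor]
  rw [← hw, ← LinearMap.comp_apply, ← LinearMap.lTensor_comp, hKF.linearMap_comp_eq_zero,
    LinearMap.lTensor_zero, LinearMap.zero_apply]

/-- If the cokernel of an injective endomorphism is flat, it stays injective after tensoring. -/
theorem rTensor_injective_of_flat_coker (u : N →ₗ[A] N) (hu : Function.Injective u)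
    [Module.Flat A N] [Module.Flat A (N ⧸ LinearMap.range u)]
    (M : Type u) [AddCommGroup M] [Module A M] : Function.Injective (u.rTensor M) :=
  rTensor_injective_of_flat_coker_aux u hu M (Finsupp.linearCombination A (id : M → M))
    (Finsupp.linearCombination_id_surjective A M)

instance finite_tensor [Module.Finite B N] (M : Type u) [AddCommGroup M] [Module A M]
    [Module.Finite A M] : Module.Finite B (N ⊗[A] M) :=
  Module.Finite.equiv (AlgebraTensorModule.cancelBaseChange A B B N M)

end tensor

section goingDown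

variable {A B : Type u} [CommRing A] [CommRing B] [IsNoetherianRing B] [Algebra A B]
variable (N : Type u) [AddCommGroup N] [Module B N] [Module A N] [IsScalarTower A B N]
variable [Module.Finite B N] [Module.Flat A N]

/-- Going down holds on the support of a finite module which is flat over the base. -/
theorem exists_le_under_eq (Q : Ideal B) [Q.IsPrime] (hQ : Module.annihilator B N ≤ Q)
    (p : Ideal A) [p.IsPrime] (hp : p ≤ Q.under A) :
    ∃ P : Ideal B, P.IsPrime ∧ P ≤ Q ∧ Module.annihilator B N ≤ P ∧ P.under A = p := by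
  let J := Module.annihilator B N ⊔ p.map (algebraMap A B)
  obtain ⟨P, hP, hPQ⟩ :=
    Ideal.exists_minimalPrimes_le (show J ≤ Q from sup_le hQ (Ideal.map_le_iff_le_comap.2 hp))
  haveI := hP.1.1
  refine ⟨P, hP.1.1, hPQ, le_sup_left.trans hP.1.2, ?_⟩
  refine le_antisymm ?_ (Ideal.map_le_iff_le_comap.1 (le_sup_right.trans hP.1.2))
  let T := N ⧸ (p.map (algebraMap A B) • (⊤ : Submodule B N))
  have hsupp : Module.support B T = PrimeSpectrum.zeroLocus (J : Set B) := by
    rw [Module.support_quotient, Module.support_eq_zeroLocus, ← PrimeSpectrum.zeroLocus_sup]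
  have hass : P ∈ associatedPrimes B T := by
    apply Module.associatedPrimes.minimalPrimes_annihilator_subset_associatedPrimes B
    have hmem : (⟨P, hP.1.1⟩ : PrimeSpectrum B) ∈ Module.support B T := by
      rw [hsupp]; exact hP.1.2
    rw [Module.support_eq_zeroLocus] at hmem
    refine ⟨⟨hP.1.1, hmem⟩, fun P' hP' hle => hP.2 ⟨hP'.1, ?_⟩ hle⟩
    have hmem' : (⟨P', hP'.1⟩ : PrimeSpectrum B) ∈ Module.support B T := by
      rw [Module.support_eq_zeroLocus]; exact hP'.2
    rw [hsupp] at hmem'
    exact hmem'
  obtain ⟨-, z, hz⟩ := isAssociatedPrime_iff.1 hass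
  intro x hx
  by_contra hxp
  obtain ⟨e⟩ := nonempty_tensor_quotient_equiv (B := B) (N := N) p
  have hinj : Function.Injective ((x • LinearMap.id : (A ⧸ p) →ₗ[A] A ⧸ p).lTensor N) := by
    refine Module.Flat.lTensor_preserves_injective_linearMap (M := N) _ ?_
    intro a b hab
    obtain ⟨a, rfl⟩ := Ideal.Quotient.mk_surjective a
    obtain ⟨b, rfl⟩ := Ideal.Quotient.mk_surjective b
    rw [Ideal.Quotient.mk_eq_mk_iff_sub_mem]
    have : Ideal.Quotient.mk p (x * a) = Ideal.Quotient.mk p (x * b) := hab
    rw [Ideal.Quotient.mk_eq_mk_iff_sub_mem, ← mul_sub] at this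
    exact (‹p.IsPrime›.mem_or_mem this).resolve_left hxp
  have hxz : algebraMap A B x • e.symm z = 0 := by
    rw [← map_smul]
    have : algebraMap A B x • z = 0 := by
      have hx' : algebraMap A B x ∈ P := hx
      rw [hz, Submodule.mem_colon_singleton, Submodule.mem_bot] at hx'
      exact hx'
    rw [this, map_zero]
  rw [algebraMap_smul] at hxz
  have hz0 : z ≠ 0 := fun h => hP.1.1.ne_top ((Ideal.eq_top_iff_one _).2 (by
    rw [hz, Submodule.mem_colon_singleton, Submodule.mem_bot, h, smul_zero]))
  refine hz0 (e.symm.injective ?_)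
  rw [map_zero]
  apply hinj
  rw [map_zero, LinearMap.lTensor_smul, LinearMap.smul_apply, LinearMap.lTensor_id,
    LinearMap.id_apply, hxz]

/-- The support of `N ⊗ M` inside `Spec B`. -/
theorem support_tensor_eq [IsNoetherianRing A] (M : Type u) [AddCommGroup M] [Module A M]
    [Module.Finite A M] :
    Module.support B (N ⊗[A] M) = PrimeSpectrum.zeroLocus
      ((Module.annihilator B N ⊔ (Module.annihilator A M).map (algebraMap A B) : Ideal B) :
        Set B) := by
  rw [Module.support_eq_zeroLocus]
  apply subset_antisymm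
  · apply PrimeSpectrum.zeroLocus_anti_mono
    refine SetLike.coe_subset_coe.2 (sup_le (fun b hb => ?_) (Ideal.map_le_iff_le_comap.2 fun a ha => ?_))
    · rw [Module.mem_annihilator] at hb ⊢
      intro z
      induction z with
      | zero => simp
      | add s t hs ht => rw [smul_add, hs, ht, add_zero]
      | tmul n m => rw [TensorProduct.smul_tmul', hb, TensorProduct.zero_tmul]
    · rw [Ideal.mem_comap, Module.mem_annihilator]
      intro z
      rw [algebraMap_smul]
      induction z with
      | zero => simp
      | add s t hs ht => rw [smul_add, hs, ht, add_zero]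
      | tmul n m =>
        rw [← TensorProduct.tmul_smul, Module.mem_annihilator.1 ha, TensorProduct.tmul_zero]
  · intro Q hQ
    have hQN : Module.annihilator B N ≤ Q.asIdeal := le_sup_left.trans hQ
    have hQM : (Module.annihilator A M) ≤ Q.asIdeal.under A :=
      Ideal.map_le_iff_le_comap.1 (le_sup_right.trans hQ)
    have hp : (⟨Q.asIdeal.under A, inferInstance⟩ : PrimeSpectrum A) ∈ Module.support A M := by
      rw [Module.support_eq_zeroLocus]; exact hQM
    obtain ⟨m, hm⟩ := Module.mem_support_iff_exists_annihilator.1 hp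
    let I := (Submodule.span A {m}).annihilator
    let g : (A ⧸ I) →ₗ[A] M := Submodule.liftQ I (LinearMap.toSpanSingleton A M m) (fun a ha => by
      rw [LinearMap.mem_ker, LinearMap.toSpanSingleton_apply]
      exact (Submodule.mem_annihilator_span_singleton m a).1 ha)
    have hg : Function.Injective g := by
      rw [← LinearMap.ker_eq_bot]
      refine Submodule.ker_liftQ_eq_bot _ _ _ fun a ha => ?_
      exact (Submodule.mem_annihilator_span_singleton m a).2 ha
    have hinj : Function.Injective (AlgebraTensorModule.lTensor B N g) :=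
      Module.Flat.lTensor_preserves_injective_linearMap (M := N) g hg
    obtain ⟨e⟩ := nonempty_tensor_quotient_equiv (B := B) (N := N) I
    have hmem : Q ∈ Module.support B (N ⊗[A] (A ⧸ I)) := by
      rw [e.support_eq, Module.support_quotient, Module.support_eq_zeroLocus]
      exact ⟨hQN, Ideal.map_le_iff_le_comap.2 hm⟩
    have := Module.support_subset_of_injective _ hinj hmem
    rw [Module.support_eq_zeroLocus] at this
    exact this

end goingDown

section localRing

variable {A B : Type u} [CommRing A] [CommRing B] [IsLocalRing A] [IsLocalRing B]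
variable [IsNoetherianRing A] [IsNoetherianRing B] [Algebra A B] [IsLocalHom (algebraMap A B)]
variable (N : Type u) [AddCommGroup N] [Module B N] [Module A N] [IsScalarTower A B N]
variable [Module.Finite B N] [Module.Flat A N]

/-- `dim (N ⊗ M) = dim M + dim (N/mN)`. -/
theorem supportDim_tensor_eq [Nontrivial N] (M : Type u) [AddCommGroup M] [Module A M]
    [Module.Finite A M] [Nontrivial M] :
    Module.supportDim B (N ⊗[A] M) = Module.supportDim A M +
      Module.supportDim B (N ⧸ ((maximalIdeal A).map (algebraMap A B) • (⊤ : Submodule B N))) := by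
  let I := Module.annihilator A M
  let K : Ideal B := Module.annihilator B N ⊔ I.map (algebraMap A B)
  have hIne : I ≠ ⊤ := fun h => not_subsingleton M (Module.annihilator_eq_top_iff.1 h)
  have hJne : Module.annihilator B N ≠ ⊤ := fun h =>
    not_subsingleton N (Module.annihilator_eq_top_iff.1 h)
  have hIm : I ≤ maximalIdeal A := le_maximalIdeal hIne
  have hKm : K ≤ maximalIdeal B :=
    sup_le (le_maximalIdeal hJne) ((Ideal.map_mono hIm).trans map_maximalIdeal_le)
  have hfib : Module.support B (N ⧸ ((maximalIdeal A).map (algebraMap A B) •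
      (⊤ : Submodule B N))) = PrimeSpectrum.zeroLocus
        ((Module.annihilator B N ⊔ (maximalIdeal A).map (algebraMap A B) : Ideal B) : Set B) := by
    rw [Module.support_quotient, Module.support_eq_zeroLocus, ← PrimeSpectrum.zeroLocus_sup]
  have e1 : Module.supportDim B (N ⊗[A] M) = ringKrullDim (B ⧸ K) := by
    rw [Module.supportDim, support_tensor_eq N M, ringKrullDim_quotient]
  have e2 : Module.supportDim B (N ⧸ ((maximalIdeal A).map (algebraMap A B) •
      (⊤ : Submodule B N))) =
      ringKrullDim (B ⧸ (Module.annihilator B N ⊔ (maximalIdeal A).map (algebraMap A B))) := by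
    rw [Module.supportDim, hfib, ringKrullDim_quotient]
  rw [e1, e2, Module.supportDim_eq_ringKrullDim_quotient_annihilator]
  letI : Algebra (A ⧸ I) (B ⧸ K) :=
    (Ideal.quotientMap K (algebraMap A B) (Ideal.map_le_iff_le_comap.1 le_sup_right)).toAlgebra
  have hmk : ∀ a : A, algebraMap (A ⧸ I) (B ⧸ K) (Ideal.Quotient.mk I a) =
      Ideal.Quotient.mk K (algebraMap A B a) := fun a => rfl
  haveI : Algebra.HasGoingDown (A ⧸ I) (B ⧸ K) := by
    constructor
    intro p _ Q _ hlt
    let Q' := Q.comap (Ideal.Quotient.mk K)
    have hQ' : K ≤ Q' := fun x hx => by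
      rw [Ideal.mem_comap, Ideal.Quotient.eq_zero_iff_mem.2 hx]; exact Q.zero_mem
    obtain ⟨P, hP, hPQ, hPN, hPp⟩ := exists_le_under_eq N Q' (le_sup_left.trans hQ')
      (p.comap (Ideal.Quotient.mk I)) (fun a ha => by
        change Ideal.Quotient.mk K (algebraMap A B a) ∈ Q
        rw [← hmk]
        exact hlt.le ha)
    haveI := hP
    have hKP : K ≤ P := sup_le hPN (Ideal.map_le_iff_le_comap.2 fun a ha => by
      rw [← Ideal.under_def, hPp, Ideal.mem_comap, Ideal.Quotient.eq_zero_iff_mem.2 ha]
      exact p.zero_mem)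
    refine ⟨P.map (Ideal.Quotient.mk K), ?_, LocCoh.isPrime_map_mk hKP, ⟨?_⟩⟩
    · exact (Ideal.map_mono hPQ).trans Ideal.map_comap_le
    · apply Ideal.comap_injective_of_surjective (Ideal.Quotient.mk I) Ideal.Quotient.mk_surjective
      rw [← hPp]
      ext a
      rw [Ideal.mem_comap, Ideal.mem_comap, Ideal.mem_comap, hmk]
      change _ ↔ algebraMap A B a ∈ (P.map (Ideal.Quotient.mk K)).comap (Ideal.Quotient.mk K)
      rw [LocCoh.comap_map_mk hKP]
  haveI : Nontrivial (A ⧸ I) := Ideal.Quotient.nontrivial_iff.2 hIne
  haveI : Nontrivial (B ⧸ K) := Ideal.Quotient.nontrivial_iff.2 fun h =>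
    (maximalIdeal.isMaximal B).ne_top (top_le_iff.1 (h ▸ hKm))
  haveI : IsLocalRing (A ⧸ I) := .of_surjective' _ Ideal.Quotient.mk_surjective
  haveI : IsLocalRing (B ⧸ K) := .of_surjective' _ Ideal.Quotient.mk_surjective
  have hmaxA := map_maximalIdeal_of_surjective (Ideal.Quotient.mk I) Ideal.Quotient.mk_surjective
  have hmaxB := map_maximalIdeal_of_surjective (Ideal.Quotient.mk K) Ideal.Quotient.mk_surjective
  have hmap : (maximalIdeal (A ⧸ I)).map (algebraMap (A ⧸ I) (B ⧸ K)) =
      ((maximalIdeal A).map (algebraMap A B)).map (Ideal.Quotient.mk K) := by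
    rw [← hmaxA, Ideal.map_map, Ideal.map_map]; rfl
  haveI : IsLocalHom (algebraMap (A ⧸ I) (B ⧸ K)) :=
    ((local_hom_TFAE (algebraMap (A ⧸ I) (B ⧸ K))).out 0 2 rfl rfl).2 (by
      rw [hmap, ← hmaxB]; exact Ideal.map_mono map_maximalIdeal_le)
  haveI : (maximalIdeal (B ⧸ K)).LiesOver (maximalIdeal (A ⧸ I)) :=
    ⟨(under_eq_maximalIdeal (A := A ⧸ I) map_maximalIdeal_le).symm⟩
  let J' : Ideal (B ⧸ K) := (maximalIdeal (A ⧸ I)).map (algebraMap (A ⧸ I) (B ⧸ K))
  have hJ' : J' ≤ maximalIdeal (B ⧸ K) := map_maximalIdeal_le
  haveI : Nontrivial ((B ⧸ K) ⧸ J') := Ideal.Quotient.nontrivial_iff.2 fun h =>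
    (maximalIdeal.isMaximal (B ⧸ K)).ne_top (top_le_iff.1 (h ▸ hJ'))
  haveI : IsLocalRing ((B ⧸ K) ⧸ J') := .of_surjective' _ Ideal.Quotient.mk_surjective
  rw [← maximalIdeal_height_eq_ringKrullDim, ← maximalIdeal_height_eq_ringKrullDim,
    Ideal.height_eq_height_add_of_liesOver_of_hasGoingDown (maximalIdeal (A ⧸ I))
      (maximalIdeal (B ⧸ K)), map_maximalIdeal_of_surjective (Ideal.Quotient.mk J')
      Ideal.Quotient.mk_surjective, WithBot.coe_add, maximalIdeal_height_eq_ringKrullDim,
    maximalIdeal_height_eq_ringKrullDim]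
  congr 1
  refine ringKrullDim_eq_of_ringEquiv (((Ideal.quotEquivOfEq hmap).trans
    (DoubleQuot.quotQuotEquivQuotSup K ((maximalIdeal A).map (algebraMap A B)))).trans
    (Ideal.quotEquivOfEq ?_))
  refine le_antisymm (sup_le (sup_le le_sup_left ?_) le_sup_right)
    (sup_le (le_sup_left.trans le_sup_left) le_sup_right)
  exact (Ideal.map_mono hIm).trans le_sup_right

omit [IsLocalRing A] [IsNoetherianRing A] in
theorem depth_zero_of_injective {L L' : Type u} [AddCommGroup L] [Module B L] [Module.Finite B L]
    [AddCommGroup L'] [Module B L'] [Module.Finite B L'] [Nontrivial L'] (f : L →ₗ[B] L')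
    (hf : Function.Injective f) (h : _root_.LocCoh.depth B L = 0) :
    _root_.LocCoh.depth B L' = 0 := by
  by_contra h'
  have h1 : 1 ≤ _root_.LocCoh.depth B L' := Order.one_le_iff_pos.2 (pos_iff_ne_zero.2 h')
  obtain ⟨z, hz, hreg⟩ := CAlgH3.exists_regular_of_one_le_depth (M := L') h1
  rcases subsingleton_or_nontrivial L with hL | hL
  · rw [CAlgH3.depth_eq_top_of_subsingleton (M := L)] at h
    exact ENat.top_ne_zero h
  · have hregL : IsSMulRegular L z := fun a b hab =>
      hf (hreg (by simpa using congrArg f hab))
    rw [← CAlgH3.depth_quotSMulTop_add_one hz hregL] at h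
    simp at h

/-- An element regular on the closed fibre is regular on `N ⊗ M`. -/
theorem isSMulRegular_tensor_and_flat {y : B}
    (hy : IsSMulRegular (N ⧸ ((maximalIdeal A).map (algebraMap A B) • (⊤ : Submodule B N))) y) :
    Module.Flat A (N ⧸ (y • (⊤ : Submodule B N))) ∧
      ∀ (M : Type u) [AddCommGroup M] [Module A M], IsSMulRegular (N ⊗[A] M) y := by
  let u : N →ₗ[A] N := (LinearMap.lsmul B N y).restrictScalars A
  obtain ⟨e⟩ := nonempty_tensor_quotient_equiv (B := B) (N := N) (maximalIdeal A)
  have hu_eq : ∀ (M : Type u) [AddCommGroup M] [Module A M] (z : N ⊗[A] M),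
      u.rTensor M z = y • z := fun M _ _ z => by
    induction z with
    | zero => simp
    | add a b ha hb => rw [map_add, ha, hb, smul_add]
    | tmul a b => rfl
  have hinj : Function.Injective (u.lTensor (ResidueField A)) := by
    have h1 : Function.Injective (u.rTensor (A ⧸ maximalIdeal A)) := fun a b hab => by
      rw [hu_eq, hu_eq] at hab
      apply e.injective
      apply hy
      simpa using congrArg e hab
    have hc : ∀ z : (A ⧸ maximalIdeal A) ⊗[A] N,
        u.rTensor (A ⧸ maximalIdeal A) (TensorProduct.comm A (A ⧸ maximalIdeal A) N z) =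
          TensorProduct.comm A (A ⧸ maximalIdeal A) N (u.lTensor (A ⧸ maximalIdeal A) z) := by
      intro z
      induction z with
      | zero => simp
      | add a b ha hb => simp only [map_add, ha, hb]
      | tmul a b => rfl
    intro a b hab
    apply (TensorProduct.comm A (A ⧸ maximalIdeal A) N).injective
    apply h1
    exact (hc a).trans ((congrArg (TensorProduct.comm A (A ⧸ maximalIdeal A) N) hab).trans (hc b).symm)
  have hjac : (maximalIdeal A).map (algebraMap A B) ≤ Ideal.jacobson ⊥ :=
    map_maximalIdeal_le.trans (maximalIdeal_le_jacobson _)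
  have huinj := FlatCrit.injective_of_injective_mod_max u hinj (S := B) hjac
  haveI hflat := FlatCrit.flat_coker_of_injective_mod_max u hinj (S := B) hjac
  refine ⟨?_, fun M _ _ a b hab => ?_⟩
  · refine Module.Flat.of_linearEquiv (M := N ⧸ LinearMap.range u) ?_
    refine (Submodule.Quotient.restrictScalarsEquiv A (y • (⊤ : Submodule B N))).symm.trans
      (Submodule.quotEquivOfEq _ _ ?_)
    ext x
    simp [u, Submodule.mem_smul_pointwise_iff_exists]
  · apply rTensor_injective_of_flat_coker u huinj M
    rw [hu_eq, hu_eq]; exact hab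

/-- `depth (N ⊗ M) = depth M + depth (N/mN)`. -/
theorem depth_tensor_eq (M : Type u) [AddCommGroup M] [Module A M] [Module.Finite A M] :
    _root_.LocCoh.depth B (N ⊗[A] M) = _root_.LocCoh.depth A M +
      _root_.LocCoh.depth B (N ⧸ ((maximalIdeal A).map (algebraMap A B) • (⊤ : Submodule B N))) := by
  rcases subsingleton_or_nontrivial M with hM | hM
  · rw [CAlgH3.depth_eq_top_of_subsingleton (M := N ⊗[A] M),
      CAlgH3.depth_eq_top_of_subsingleton (M := M), top_add]
  suffices key : ∀ (d : ℕ) (N : Type u) [AddCommGroup N] [Module B N] [Module A N] [IsScalarTower A B N]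
      [Module.Finite B N] [Module.Flat A N] [Nontrivial N],
      _root_.LocCoh.depth B (N ⧸ ((maximalIdeal A).map (algebraMap A B) • (⊤ : Submodule B N))) = d →
      ∀ (a : ℕ) (M : Type u) [AddCommGroup M] [Module A M] [Module.Finite A M] [Nontrivial M],
      _root_.LocCoh.depth A M = a →
      _root_.LocCoh.depth B (N ⊗[A] M) = a + d by
    rcases subsingleton_or_nontrivial N with hN | hN
    · haveI : Subsingleton (N ⊗[A] M) := subsingleton_of_forall_eq 0 fun z => by
        induction z with
        | zero => rfl
        | add a b ha hb => rw [ha, hb, add_zero]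
        | tmul a b => rw [Subsingleton.elim a 0, TensorProduct.zero_tmul]
      haveI : Subsingleton (N ⧸ ((maximalIdeal A).map (algebraMap A B) • (⊤ : Submodule B N))) :=
        (Submodule.mkQ_surjective _).subsingleton
      rw [CAlgH3.depth_eq_top_of_subsingleton (M := N ⊗[A] M),
        CAlgH3.depth_eq_top_of_subsingleton
          (M := N ⧸ ((maximalIdeal A).map (algebraMap A B) • (⊤ : Submodule B N))), add_top]
    · haveI : Nontrivial (N ⧸ ((maximalIdeal A).map (algebraMap A B) • (⊤ : Submodule B N))) := by
        refine Submodule.Quotient.nontrivial_iff.2 ?_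
        exact fun h => LocCoh.smul_top_ne_top_of_nontrivial (R := B) N (maximalIdeal.isMaximal B).ne_top
          (top_le_iff.1 (h.ge.trans (Submodule.smul_mono map_maximalIdeal_le le_rfl)))
      obtain ⟨d, hd⟩ := CAlgH3.exists_depth_eq_natCast (R := B)
        (M := N ⧸ ((maximalIdeal A).map (algebraMap A B) • (⊤ : Submodule B N)))
      obtain ⟨a, ha⟩ := CAlgH3.exists_depth_eq_natCast (R := A) (M := M)
      rw [ha, hd]
      exact key d N hd a M ha
  intro d
  induction d with
  | zero =>
    intro N _ _ _ _ _ _ _ hd a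
    induction a with
    | zero =>
      intro M _ _ _ _ hM
      have hass : maximalIdeal A ∈ associatedPrimes A M := by
        by_contra h
        have h1 := (CAlgH3.one_le_depth_iff (R := A) (M := M)).2 h
        rw [hM] at h1
        exact absurd h1 (by simp)
      obtain ⟨-, f, hf⟩ : (maximalIdeal A).IsPrime ∧
          ∃ f : (A ⧸ maximalIdeal A) →ₗ[A] M, Function.Injective f := by
        obtain ⟨h1, x, hx⟩ := isAssociatedPrime_iff.1 hass
        refine ⟨h1, Submodule.liftQ _ (LinearMap.toSpanSingleton A M x) (fun a ha => ?_), ?_⟩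
        · rw [hx, Submodule.mem_colon_singleton, Submodule.mem_bot] at ha
          rw [LinearMap.mem_ker, LinearMap.toSpanSingleton_apply, ha]
        · rw [← LinearMap.ker_eq_bot]
          refine Submodule.ker_liftQ_eq_bot _ _ _ fun a ha => ?_
          rw [hx, Submodule.mem_colon_singleton, Submodule.mem_bot]
          exact ha
      obtain ⟨e⟩ := nonempty_tensor_quotient_equiv (B := B) (N := N) (maximalIdeal A)
      let F := (AlgebraTensorModule.lTensor B N f).comp e.symm.toLinearMap
      have hF : Function.Injective F :=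
        (Module.Flat.lTensor_preserves_injective_linearMap (M := N) f hf).comp e.symm.injective
      haveI : Nontrivial (N ⊗[A] M) := by
        rcases subsingleton_or_nontrivial
          (N ⧸ ((maximalIdeal A).map (algebraMap A B) • (⊤ : Submodule B N))) with h | h
        · rw [CAlgH3.depth_eq_top_of_subsingleton
            (M := N ⧸ ((maximalIdeal A).map (algebraMap A B) • (⊤ : Submodule B N)))] at hd
          exact absurd hd (by simp)
        · exact hF.nontrivial
      simpa using depth_zero_of_injective F hF (by simpa using hd)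
    | succ a ih =>
      intro M _ _ _ _ hM
      obtain ⟨x, hx, hreg⟩ := CAlgH3.exists_regular_of_one_le_depth (M := M)
        (by rw [hM]; exact_mod_cast Nat.le_add_left 1 a)
      haveI : Nontrivial (QuotSMulTop x M) := CAlgH3.nontrivial_quotSMulTop (M := M) hx
      rw [← CAlgH3.depth_quotSMulTop_add_one hx hreg, Nat.cast_succ] at hM
      have h1 := ih (QuotSMulTop x M) (WithTop.add_right_cancel ENat.one_ne_top hM)
      let g := AlgebraTensorModule.lTensor B N (Submodule.mkQ (x • (⊤ : Submodule A M)))
      let μ : M →ₗ[A] M := x • LinearMap.id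
      have hμ : ∀ z : N ⊗[A] M, μ.lTensor N z = algebraMap A B x • z := fun z => by
        rw [LinearMap.lTensor_smul, LinearMap.smul_apply, LinearMap.lTensor_id, LinearMap.id_apply,
          algebraMap_smul]
      have hex : Function.Exact μ (Submodule.mkQ (x • (⊤ : Submodule A M))) := fun z => by
        rw [Submodule.mkQ_apply, Submodule.Quotient.mk_eq_zero,
          Submodule.mem_smul_pointwise_iff_exists]
        simp [μ]
      have hxreg : IsSMulRegular (N ⊗[A] M) (algebraMap A B x) := fun s t h => by
        refine Module.Flat.lTensor_preserves_injective_linearMap (M := N) μ (fun s t h => hreg h) ?_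
        rw [hμ, hμ]; exact h
      rw [CAlgH3.depth_eq_add_one_of_exact (Q := N ⊗[A] QuotSMulTop x M)
        ((map_nonunit (algebraMap A B) x hx)) hxreg g
        (LinearMap.lTensor_surjective N (Submodule.mkQ_surjective _))
        (fun z => (Module.Flat.lTensor_exact N hex z).trans (by simp [hμ])), h1]
      push_cast
      ring
  | succ d ih =>
    intro N _ _ _ _ _ _ _ hd a M _ _ _ _ hM
    haveI : Nontrivial (N ⧸ ((maximalIdeal A).map (algebraMap A B) • (⊤ : Submodule B N))) := by
      rcases subsingleton_or_nontrivial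
        (N ⧸ ((maximalIdeal A).map (algebraMap A B) • (⊤ : Submodule B N))) with h | h
      · rw [CAlgH3.depth_eq_top_of_subsingleton
          (M := N ⧸ ((maximalIdeal A).map (algebraMap A B) • (⊤ : Submodule B N)))] at hd
        exact absurd hd.symm (ENat.natCast_ne_top _)
      · exact h
    obtain ⟨y, hy, hreg⟩ := CAlgH3.exists_regular_of_one_le_depth
      (M := N ⧸ ((maximalIdeal A).map (algebraMap A B) • (⊤ : Submodule B N)))
      (by rw [hd]; exact_mod_cast Nat.le_add_left 1 d)
    obtain ⟨hflat, hregM⟩ := isSMulRegular_tensor_and_flat N hreg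
    haveI : Nontrivial (QuotSMulTop y N) := CAlgH3.nontrivial_quotSMulTop (M := N) hy
    haveI : Module.Flat A (QuotSMulTop y N) := hflat
    let mB := (maximalIdeal A).map (algebraMap A B)
    let gF : (N ⧸ (mB • (⊤ : Submodule B N))) →ₗ[B]
        (QuotSMulTop y N ⧸ (mB • (⊤ : Submodule B (QuotSMulTop y N)))) :=
      Submodule.mapQ _ _ (Submodule.mkQ (y • (⊤ : Submodule B N))) (by
        rw [← Submodule.map_le_iff_le_comap, Submodule.map_smul'', Submodule.map_top,
          Submodule.range_mkQ])
    have hgF : Function.Surjective gF := by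
      intro z
      obtain ⟨z, rfl⟩ := Submodule.Quotient.mk_surjective _ z
      obtain ⟨z, rfl⟩ := Submodule.Quotient.mk_surjective _ z
      exact ⟨Submodule.Quotient.mk z, rfl⟩
    have hgF0 : ∀ z, gF z = 0 ↔ ∃ w, y • w = z := by
      intro z
      obtain ⟨z, rfl⟩ := Submodule.Quotient.mk_surjective _ z
      constructor
      · intro h
        change Submodule.Quotient.mk (Submodule.mkQ (y • (⊤ : Submodule B N)) z) = 0 at h
        rw [Submodule.Quotient.mk_eq_zero] at h
        have h' : Submodule.mkQ (y • (⊤ : Submodule B N)) z ∈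
            (mB • (⊤ : Submodule B N)).map (Submodule.mkQ (y • (⊤ : Submodule B N))) := by
          rw [Submodule.map_smul'', Submodule.map_top, Submodule.range_mkQ]; exact h
        obtain ⟨w, hw, hwz⟩ := h'
        rw [Submodule.mkQ_apply, Submodule.mkQ_apply, Submodule.Quotient.eq,
          Submodule.mem_smul_pointwise_iff_exists] at hwz
        obtain ⟨v, -, hv⟩ := hwz
        refine ⟨Submodule.Quotient.mk (-v), ?_⟩
        rw [← Submodule.Quotient.mk_smul, Submodule.Quotient.eq, smul_neg, hv]
        simpa using neg_mem hw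
      · rintro ⟨w, hw⟩
        rw [← hw, map_smul]
        obtain ⟨w, rfl⟩ := Submodule.Quotient.mk_surjective _ w
        change y • Submodule.Quotient.mk (Submodule.mkQ (y • (⊤ : Submodule B N)) w) = 0
        rw [← Submodule.Quotient.mk_smul, ← map_smul, Submodule.mkQ_apply,
          (Submodule.Quotient.mk_eq_zero _).2
            (Submodule.smul_mem_pointwise_smul w y ⊤ trivial)]
        rfl
    rw [CAlgH3.depth_eq_add_one_of_exact hy hreg gF hgF hgF0, Nat.cast_succ] at hd
    have h1 := ih (QuotSMulTop y N) (WithTop.add_right_cancel ENat.one_ne_top hd) a M hM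
    let q : N →ₗ[A] QuotSMulTop y N :=
      (Submodule.mkQ (y • (⊤ : Submodule B N))).restrictScalars A
    have hq : Function.Surjective q := Submodule.mkQ_surjective (y • (⊤ : Submodule B N))
    let g : N ⊗[A] M →ₗ[B] QuotSMulTop y N ⊗[A] M :=
      { toFun := q.rTensor M
        map_add' := map_add _
        map_smul' := fun b z => by
          induction z with
          | zero => simp
          | add s t hs ht => rw [smul_add, map_add, map_add, hs, ht, smul_add]
          | tmul n m => rfl }
    let u : N →ₗ[A] N := (LinearMap.lsmul B N y).restrictScalars A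
    have hu : ∀ z : N ⊗[A] M, u.rTensor M z = y • z := fun z => by
      induction z with
      | zero => simp
      | add a b ha hb => rw [map_add, ha, hb, smul_add]
      | tmul a b => rfl
    have hex : Function.Exact u q := fun z => by
      simp only [q, LinearMap.coe_restrictScalars, Submodule.mkQ_apply,
        Submodule.Quotient.mk_eq_zero, Submodule.mem_smul_pointwise_iff_exists]
      simp [u]
    have hg : Function.Surjective g := LinearMap.rTensor_surjective M hq
    have hgex : ∀ z, g z = 0 ↔ ∃ w, y • w = z := fun z => by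
      refine ((rTensor_exact M hex hq) z).trans ?_
      simp [hu]
    rw [CAlgH3.depth_eq_add_one_of_exact (Q := QuotSMulTop y N ⊗[A] M) hy (hregM M) g hg hgex, h1]
    push_cast
    ring

end localRing

end Groth.Agent.CommAlg6
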