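import Groth.Agent.CommAlg6.CodepthOpen
import Groth.Prelude.Def_EGA4b

/-! Openness of the `(S_n)` locus from the semicontinuity of the codepth. -/

set_option linter.style.haveILetI false

universe u

open IsLocalRing TensorProduct

namespace Groth.Agent.CommAlg6

/-- Localisation of a localised module: dimension and depth are those at the contracted prime. -/
theorem localized_localized {A : Type u} [CommRing A] (q : Ideal A) [q.IsPrime] (M : Type u)
    [AddCommGroup M] [Module A M] [Module.Finite A M] (P : Ideal (Localization.AtPrime q)) [P.IsPrime] :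
    Module.supportDim (Localization.AtPrime P)
        (LocalizedModule P.primeCompl (LocalizedModule q.primeCompl M)) =
      Module.supportDim (Localization.AtPrime (P.under A)) (LocalizedModule (P.under A).primeCompl M) ∧
    _root_.LocCoh.depth (Localization.AtPrime P)
        (LocalizedModule P.primeCompl (LocalizedModule q.primeCompl M)) =
      _root_.LocCoh.depth (Localization.AtPrime (P.under A)) (LocalizedModule (P.under A).primeCompl M) := by
  let p := P.under A
  let Aq := Localization.AtPrime q
  let B := Localization.AtPrime P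
  let Ap := Localization.AtPrime p
  let N := LocalizedModule P.primeCompl (LocalizedModule q.primeCompl M)
  haveI : IsLocalization p.primeCompl B :=
    IsLocalization.isLocalization_isLocalization_atPrime_isLocalization (R := A) (M := q.primeCompl) B P
  let f : M →ₗ[A] N :=
    ((LocalizedModule.mkLinearMap P.primeCompl (LocalizedModule q.primeCompl M)).restrictScalars A).comp
      (LocalizedModule.mkLinearMap q.primeCompl M)
  haveI : IsLocalizedModule p.primeCompl f := by
    rw [isLocalizedModule_iff_isBaseChange p.primeCompl B]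
    exact IsBaseChange.comp (IsLocalizedModule.isBaseChange q.primeCompl Aq _)
      (IsLocalizedModule.isBaseChange P.primeCompl B _)
  let g : Ap ≃ₐ[A] B := IsLocalization.algEquiv p.primeCompl Ap B
  letI : Algebra Ap B := g.toAlgHom.toRingHom.toAlgebra
  letI : Module Ap N := Module.compHom N (algebraMap Ap B)
  haveI : IsScalarTower Ap B N := .of_algebraMap_smul fun _ _ => rfl
  haveI : IsScalarTower A Ap N := .of_algebraMap_smul fun r x => by
    show g (algebraMap A Ap r) • x = r • x
    rw [AlgEquiv.commutes, algebraMap_smul]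
  let e : LocalizedModule p.primeCompl M ≃ₗ[Ap] N :=
    (IsLocalizedModule.linearEquiv p.primeCompl (LocalizedModule.mkLinearMap p.primeCompl M)
      f).extendScalarsOfIsLocalization p.primeCompl Ap
  have hsurj : Function.Surjective (algebraMap Ap B) := g.surjective
  refine ⟨?_, ?_⟩
  · rw [Module.supportDim_eq_of_equiv e, ← supportDim_of_surjective hsurj N]
  · rw [CAlgH3.depth_congr e, CAlgH3.depth_of_surjective hsurj N]

/-- `(S_n)` at a prime is a condition on the primes below it. -/
theorem hasSkAt_iff {A : Type u} [CommRing A] (n : ℕ) (M : Type u) [AddCommGroup M] [Module A M]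
    [Module.Finite A M] (q : Ideal A) [q.IsPrime] :
    EGA4.HasSkAt n A M q ↔ ∀ (p : Ideal A) [p.IsPrime], p ≤ q →
      min (n : WithBot ℕ∞) (Module.supportDim (Localization.AtPrime p) (LocalizedModule p.primeCompl M)) ≤
        ((_root_.LocCoh.depth (Localization.AtPrime p) (LocalizedModule p.primeCompl M) : ℕ∞) : WithBot ℕ∞) := by
  constructor
  · intro h p _ hp
    obtain ⟨P, hP, rfl⟩ := exists_under_eq q p hp
    obtain ⟨h1, h2⟩ := localized_localized q M P
    rw [← h1, ← h2]
    exact h P
  · intro h P _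
    obtain ⟨h1, h2⟩ := localized_localized q M P
    rw [h1, h2]
    exact h _ (under_le q P)

theorem exists_nat_dim_depth {A : Type u} [CommRing A] [IsNoetherianRing A] [IsLocalRing A] (M : Type u)
    [AddCommGroup M] [Module A M] [Module.Finite A M] [Nontrivial M] :
    ∃ d δ : ℕ, Module.supportDim A M = ((d : ℕ∞) : WithBot ℕ∞) ∧ _root_.LocCoh.depth A M = δ := by
  obtain ⟨δ, hδ⟩ := CAlgH3.exists_depth_eq_natCast (R := A) (M := M)
  haveI : Nontrivial (A ⧸ Module.annihilator A M) := Ideal.Quotient.nontrivial_iff.2 fun h =>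
    not_subsingleton M (Module.annihilator_eq_top_iff.1 h)
  haveI : IsLocalRing (A ⧸ Module.annihilator A M) := .of_surjective' _ Ideal.Quotient.mk_surjective
  obtain ⟨d, hd⟩ := exists_nat_ringKrullDim_eq (A ⧸ Module.annihilator A M)
  exact ⟨d, δ, (Module.supportDim_eq_ringKrullDim_quotient_annihilator A M).trans hd, hδ⟩

/-- If all the codepth loci are open, so is the `(S_n)` locus. -/
theorem isOpen_hasSkAt_of_isOpen_codepth {A : Type u} [CommRing A] [IsNoetherianRing A] (M : Type u)
    [AddCommGroup M] [Module A M] [Module.Finite A M]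
    (hopen : ∀ m : ℕ, IsOpen {p : PrimeSpectrum A |
      Module.supportDim (Localization.AtPrime p.asIdeal) (LocalizedModule p.asIdeal.primeCompl M) ≤
        ((_root_.LocCoh.depth (Localization.AtPrime p.asIdeal)
          (LocalizedModule p.asIdeal.primeCompl M) : ℕ∞) : WithBot ℕ∞) + m}) (n : ℕ) :
    IsOpen {p : PrimeSpectrum A | EGA4.HasSkAt n A M p.asIdeal} := by
  let dim := fun p : PrimeSpectrum A =>
    Module.supportDim (Localization.AtPrime p.asIdeal) (LocalizedModule p.asIdeal.primeCompl M)
  let dep := fun p : PrimeSpectrum A =>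
    ((_root_.LocCoh.depth (Localization.AtPrime p.asIdeal)
      (LocalizedModule p.asIdeal.primeCompl M) : ℕ∞) : WithBot ℕ∞)
  let U := fun m : ℕ => {p : PrimeSpectrum A | dim p ≤ dep p + m}
  let bad := fun p : PrimeSpectrum A => ¬ min (n : WithBot ℕ∞) (dim p) ≤ dep p
  have hnum : ∀ p, dim p = ⊥ ∨ ∃ d δ : ℕ,
      dim p = ((d : ℕ∞) : WithBot ℕ∞) ∧ dep p = ((δ : ℕ∞) : WithBot ℕ∞) := fun p => by
    rcases subsingleton_or_nontrivial (LocalizedModule p.asIdeal.primeCompl M) with h | h
    · exact .inl (Module.supportDim_eq_bot_of_subsingleton _ _)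
    · obtain ⟨d, δ, hd, hδ⟩ := exists_nat_dim_depth (A := Localization.AtPrime p.asIdeal)
        (LocalizedModule p.asIdeal.primeCompl M)
      exact .inr ⟨d, δ, hd, congrArg (fun x : ℕ∞ => (x : WithBot ℕ∞)) hδ⟩
  have hcover : (Set.univ : Set (PrimeSpectrum A)) ⊆ ⋃ m, U m := fun p _ => by
    rw [Set.mem_iUnion]
    rcases hnum p with h | ⟨d, δ, hd, hδ⟩
    · exact ⟨0, show dim p ≤ _ from h ▸ bot_le⟩
    · refine ⟨d, show dim p ≤ _ from ?_⟩
      rw [hd, hδ]
      exact_mod_cast Nat.le_add_left d δ
  obtain ⟨t, ht⟩ := (isCompact_univ (X := PrimeSpectrum A)).elim_finite_subcover U hopen hcover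
  obtain ⟨K, hK⟩ : ∃ K, ∀ m ∈ t, m ≤ K := ⟨t.sup id, fun m hm => Finset.le_sup (f := id) hm⟩
  have hclosed : ∀ k, ∃ I : Ideal A, PrimeSpectrum.zeroLocus (I : Set A) = (U k)ᶜ := fun k => by
    obtain ⟨I, hI⟩ := (PrimeSpectrum.isClosed_iff_zeroLocus_ideal _).1 (hopen k).isClosed_compl
    exact ⟨I, hI.symm⟩
  choose I hI using hclosed
  let S : Set (Ideal A) :=
    {x | ∃ k ≤ K, x ∈ (I k).minimalPrimes ∧ ∃ h : x.IsPrime, bad ⟨x, h⟩}
  have hS : S.Finite := by
    refine ((Set.finite_le_nat K).biUnion fun k _ =>
      (I k).finite_minimalPrimes_of_isNoetherianRing A).subset ?_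
    rintro x ⟨k, hk, hx, -⟩
    exact Set.mem_biUnion hk hx
  have hset : {p : PrimeSpectrum A | EGA4.HasSkAt n A M p.asIdeal} =
      (⋃ x ∈ S, PrimeSpectrum.zeroLocus (x : Set A))ᶜ := by
    ext p
    rw [Set.mem_compl_iff, Set.mem_ofPred_eq, hasSkAt_iff]
    simp only [Set.mem_iUnion, not_exists]
    constructor
    · rintro h x ⟨k, -, -, hx, hb⟩ hle
      exact hb (h x hle)
    · intro h q hq hle
      by_contra hb
      let q' : PrimeSpectrum A := ⟨q, hq⟩
      change ¬ min (n : WithBot ℕ∞) (dim q') ≤ dep q' at hb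
      rcases hnum q' with hbot | ⟨d, δ, hd, hδ⟩
      · exact hb (min_le_of_right_le (hbot ▸ bot_le))
      rw [hd, hδ, not_le, lt_min_iff] at hb
      have hδn : δ < n := by exact_mod_cast hb.1
      have hδd : δ < d := by exact_mod_cast hb.2
      obtain ⟨m, hm⟩ := Set.mem_iUnion.1 (ht (Set.mem_univ q'))
      obtain ⟨hmt, hm⟩ := Set.mem_iUnion.1 hm
      have hmK : d ≤ δ + m := by
        have : dim q' ≤ dep q' + m := hm
        rw [hd, hδ] at this
        exact_mod_cast this
      obtain ⟨k, hkdef⟩ : ∃ k, k = d - δ - 1 := ⟨_, rfl⟩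
      have hk : q' ∈ (U k)ᶜ := fun hc => by
        have : dim q' ≤ dep q' + (k : WithBot ℕ∞) := hc
        rw [hd, hδ] at this
        have : d ≤ δ + k := by exact_mod_cast this
        omega
      rw [← hI] at hk
      obtain ⟨x, hx, hxq⟩ := Ideal.exists_minimalPrimes_le (J := q) hk
      haveI := hx.1.1
      let x' : PrimeSpectrum A := ⟨x, inferInstance⟩
      have hxk : x' ∈ (U k)ᶜ := by rw [← hI]; exact hx.1.2
      refine h x ⟨k, le_trans (by omega) (hK m hmt), hx, inferInstance, ?_⟩ (hxq.trans hle)
      show ¬ min (n : WithBot ℕ∞) (dim x') ≤ dep x'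
      rcases hnum x' with hbot | ⟨d', δ', hd', hδ'⟩
      · exact (hxk (show dim x' ≤ _ from hbot ▸ bot_le)).elim
      have hdd : d' ≤ d := by
        have : dim x' ≤ dim q' := supportDim_localizedModule_mono q x hxq
        rw [hd, hd'] at this
        exact_mod_cast this
      have hgt : δ' + k < d' := by
        by_contra hc
        refine hxk (show dim x' ≤ dep x' + (k : WithBot ℕ∞) from ?_)
        rw [hd', hδ']
        exact_mod_cast not_lt.1 hc
      rw [hd', hδ', not_le, lt_min_iff]
      exact ⟨by exact_mod_cast (show δ' < n by omega), by exact_mod_cast (show δ' < d' by omega)⟩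
  rw [hset, isOpen_compl_iff]
  exact hS.isClosed_biUnion fun x _ => PrimeSpectrum.isClosed_zeroLocus _

theorem isOpen_hasSkAt_quotient {R A : Type u} [CommRing R] [CommRing A] [IsRegularRing R]
    [Algebra R A] (hs : Function.Surjective (algebraMap R A)) (M : Type u) [AddCommGroup M]
    [Module A M] [Module.Finite A M] (n : ℕ) :
    IsOpen {p : PrimeSpectrum A | EGA4.HasSkAt n A M p.asIdeal} := by
  haveI : IsNoetherianRing A := isNoetherianRing_of_surjective R A (algebraMap R A) hs
  exact isOpen_hasSkAt_of_isOpen_codepth M (isOpen_codepth_le_quotient hs M) n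

end Groth.Agent.CommAlg6
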