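import Groth.Agent.CommAlg6.FibreSk

/-! Serre conditions at a prime. -/

universe u

namespace Groth.Agent.CommAlg6

theorem hasSk_atPrime_iff {R : Type u} [CommRing R] (n : ℕ) (q : Ideal R) [q.IsPrime] :
    _root_.LocCoh.HasSk n (Localization.AtPrime q) (Localization.AtPrime q) ↔
      ∀ (p : Ideal R) [p.IsPrime], p ≤ q → min (n : WithBot ℕ∞) (ringKrullDim (Localization.AtPrime p)) ≤
        ((_root_.LocCoh.depth (Localization.AtPrime p) (Localization.AtPrime p) : ℕ∞) : WithBot ℕ∞) := by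
  rw [CAlgH3.hasSk_self_iff]
  constructor
  · intro h p _ hp
    obtain ⟨P, hP, rfl⟩ := exists_under_eq q p hp
    obtain ⟨e⟩ := nonempty_localization_ringEquiv q P
    rw [← ringKrullDim_eq_of_ringEquiv e, ← CAlgH3.depth_ringEquiv e]
    exact h P
  · intro h P _
    obtain ⟨e⟩ := nonempty_localization_ringEquiv q P
    rw [ringKrullDim_eq_of_ringEquiv e, CAlgH3.depth_ringEquiv e]
    exact h _ (under_le q P)

theorem normal_iff_dim_depth {R : Type u} [CommRing R] [IsNoetherianRing R] [IsLocalRing R]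
    [IsDomain R] [IsIntegrallyClosed R] :
    (ringKrullDim R ≤ ((1 : ℕ∞) : WithBot ℕ∞) → IsRegularLocalRing R) ∧
      min ((2 : ℕ) : WithBot ℕ∞) (ringKrullDim R) ≤
        ((_root_.LocCoh.depth R R : ℕ∞) : WithBot ℕ∞) := by
  refine ⟨fun h => CAlgH3.isRegularLocalRing_of_normal_dim_le_one h, ?_⟩
  by_cases h2 : 2 ≤ ringKrullDim R
  · exact min_le_of_left_le (WithBot.coe_le_coe.2 (CAlgH3.two_le_depth_of_normal h2))
  · have h1 : ringKrullDim R ≤ ((1 : ℕ∞) : WithBot ℕ∞) := by
      obtain ⟨d, hd⟩ := exists_dim_eq R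
      rw [hd] at h2 ⊢
      rw [show (2 : WithBot ℕ∞) = ((2 : ℕ∞) : WithBot ℕ∞) from rfl, WithBot.coe_le_coe, not_le] at h2
      exact WithBot.coe_le_coe.2 ((ENat.lt_add_one_iff ENat.one_ne_top).1 (by rwa [one_add_one_eq_two]))
    haveI := CAlgH3.isRegularLocalRing_of_normal_dim_le_one h1
    refine min_le_of_right_le ?_
    rw [CAlgH3.depth_eq_ringKrullDim]

theorem isNormalRing_of_ringEquiv {S T : Type u} [CommRing S] [CommRing T] (e : S ≃+* T)
    (h : EGA4.IsNormalRing S) : EGA4.IsNormalRing T := by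
  intro q _
  obtain ⟨h1, h2⟩ := h (q.comap e.toRingHom)
  haveI := h1
  haveI := h2
  have hM : Submonoid.map e.toMonoidHom (q.comap e.toRingHom).primeCompl = q.primeCompl := by
    ext x
    constructor
    · rintro ⟨y, hy, rfl⟩; exact hy
    · intro hx
      exact ⟨e.symm x, fun h' => hx (by have h'' : e (e.symm x) ∈ q := h'; simpa using h''), by simp⟩
  let f := IsLocalization.ringEquivOfRingEquiv (Localization.AtPrime (q.comap e.toRingHom))
    (Localization.AtPrime q) e hM
  haveI : IsDomain (Localization.AtPrime q) := f.symm.toMulEquiv.isDomain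
  exact ⟨inferInstance, IsIntegrallyClosed.of_equiv f⟩

end Groth.Agent.CommAlg6
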