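import Groth.Agent.CommAlg6.GenericRegular
import Groth.Agent.S2617
import Groth.Agent.CAlgH.NagataFiniteType
import Mathlib.RingTheory.DedekindDomain.Basic

/-! J-2 for rings of dimension at most one. -/

set_option linter.style.haveILetI false

universe u

namespace Groth.Agent.CommAlg6

theorem regLocus_generic (A : Type u) [CommRing A] [IsDomain A] :
    (⟨⊥, Ideal.isPrime_bot⟩ : PrimeSpectrum A) ∈ EGA4.regLocus A := by
  have hbot : IsField (Localization.AtPrime (⊥ : Ideal A)) := by
    have : IsLocalization (nonZeroDivisors A) (Localization.AtPrime (⊥ : Ideal A)) :=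
      (show (⊥ : Ideal A).primeCompl = nonZeroDivisors A by ext x; simp [Ideal.primeCompl]) ▸
        (Localization.isLocalization : IsLocalization (⊥ : Ideal A).primeCompl
          (Localization.AtPrime (⊥ : Ideal A)))
    exact (IsFractionRing.toField A (K := Localization.AtPrime (⊥ : Ideal A))).toIsField
  letI := hbot.toField
  exact (inferInstance : IsRegularLocalRing (Localization.AtPrime (⊥ : Ideal A)))

/-- A field has regular generic point: finite domains over fields. -/
theorem isJ2_of_field (k : Type u) [Field k] : EGA4.IsJ2 k := by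
  refine (Groth.Agent.S2617.result k).2 fun A' _ _ _ hfin => ?_
  haveI := hfin
  haveI : Algebra.IsIntegral k A' := Algebra.IsIntegral.of_finite k A'
  have hF : IsField A' := isField_of_isIntegral_of_isField' (R := k) (Field.toIsField k)
  refine ⟨Set.univ, isOpen_univ, ⟨⟨⊥, Ideal.isPrime_bot⟩, trivial⟩, fun q _ => ?_⟩
  letI := hF.toField
  rw [show q = ⟨⊥, Ideal.isPrime_bot⟩ from PrimeSpectrum.ext (((Ideal.eq_bot_or_top q.asIdeal).resolve_right q.2.ne_top))]
  exact regLocus_generic A'

theorem dim_le_one_of_finite (A A' : Type u) [CommRing A] [CommRing A'] [Algebra A A'] [Module.Finite A A']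
    (hdim : ringKrullDim A ≤ 1) : ringKrullDim A' ≤ 1 :=
  (DimLib.strictMono_comap_of_isIntegral (R := A) (S := A') |> Order.krullDim_le_of_strictMono _).trans hdim

/-- A Noetherian semilocal ring of dimension at most one is J-2. -/
theorem isJ2_of_semilocal (A : Type u) [CommRing A] [IsNoetherianRing A] (hsl : {I : Ideal A | I.IsMaximal}.Finite)
    (hdim : ringKrullDim A ≤ 1) : EGA4.IsJ2 A := by
  classical
  refine (Groth.Agent.S2617.result A).2 fun A' _ _ _ hfin => ?_
  haveI := hfin
  haveI : Algebra.IsIntegral A A' := Algebra.IsIntegral.of_finite A A'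
  haveI : IsNoetherianRing A' := IsNoetherianRing.of_finite A A'
  have hdim' := dim_le_one_of_finite A A' hdim
  haveI : Ring.KrullDimLE 1 A' := Ring.krullDimLE_iff.2 hdim'
  -- finitely many maximal ideals upstairs
  have hfinmax : {I : Ideal A' | I.IsMaximal}.Finite := by
    refine (hsl.biUnion fun m hm => ((m.map (algebraMap A A')).finite_minimalPrimes_of_isNoetherianRing A')).subset ?_
    intro n hn
    haveI : n.IsMaximal := hn
    refine Set.mem_biUnion (show (n.under A).IsMaximal from Ideal.isMaximal_comap_of_isIntegral_of_isMaximal n) ?_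
    refine ⟨⟨inferInstance, Ideal.map_comap_le⟩, fun P hP hle => ?_⟩
    haveI := hP.1
    by_contra hne
    have hlt : P < n := lt_of_le_not_ge hle hne
    have h1 : P.under A < n.under A := by
      obtain ⟨x, hx, hxn⟩ := SetLike.exists_of_lt hlt
      exact Ideal.comap_lt_comap_of_integral_mem_sdiff hlt.le ⟨hx, hxn⟩ (Algebra.IsIntegral.isIntegral x)
    exact h1.not_ge (Ideal.map_le_iff_le_comap.1 hP.2)
  by_cases hF : IsField A'
  · letI := hF.toField
    refine ⟨Set.univ, isOpen_univ, ⟨⟨⊥, Ideal.isPrime_bot⟩, trivial⟩, fun q _ => ?_⟩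
    rw [show q = ⟨⊥, Ideal.isPrime_bot⟩ from PrimeSpectrum.ext (((Ideal.eq_bot_or_top q.asIdeal).resolve_right q.2.ne_top))]
    exact regLocus_generic A'
  refine ⟨(⋃ n ∈ {I : Ideal A' | I.IsMaximal}, PrimeSpectrum.zeroLocus (n : Set A'))ᶜ,
    (hfinmax.isClosed_biUnion fun n _ => PrimeSpectrum.isClosed_zeroLocus _).isOpen_compl,
    ⟨⟨⊥, Ideal.isPrime_bot⟩, ?_⟩, fun q hq => ?_⟩
  · simp only [Set.mem_compl_iff, Set.mem_iUnion, not_exists]
    intro n hn hle
    exact hF (Ring.isField_iff_maximal_bot.2 ((le_bot_iff.1 (show n ≤ (⊥ : Ideal A') from hle)) ▸ hn))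
  · have hq0 : q.asIdeal = ⊥ := by
      by_contra hne
      exact hq (Set.mem_biUnion (Ring.krullDimLE_one_iff_of_noZeroDivisors.1 inferInstance _ hne q.2)
        (show q.asIdeal ≤ q.asIdeal from le_rfl))
    rw [show q = ⟨⊥, Ideal.isPrime_bot⟩ from PrimeSpectrum.ext hq0]
    exact regLocus_generic A'

/-- A Dedekind domain of characteristic zero is J-2. -/
theorem isJ2_of_dedekind (A : Type u) [CommRing A] [IsDedekindDomain A] [CharZero A] : EGA4.IsJ2 A := by
  refine (Groth.Agent.S2617.result A).2 fun A' _ _ _ hfin => ?_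
  haveI := hfin
  haveI : Algebra.IsIntegral A A' := Algebra.IsIntegral.of_finite A A'
  by_cases hinj : Function.Injective (algebraMap A A')
  · let K := FractionRing A
    let L := FractionRing A'
    haveI : FaithfulSMul A A' := (faithfulSMul_iff_algebraMap_injective A A').2 hinj
    haveI : FaithfulSMul A L := FaithfulSMul.trans A A' L
    letI : Algebra K L := FractionRing.liftAlgebra A L
    haveI : IsScalarTower A K L := inferInstance
    haveI : Algebra.EssFiniteType A' L := Algebra.EssFiniteType.of_isLocalization L (nonZeroDivisors A')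
    haveI : Algebra.EssFiniteType A L := Algebra.EssFiniteType.comp A A' L
    haveI : Algebra.EssFiniteType K L := Algebra.EssFiniteType.of_comp A K L
    haveI : CharZero K := charZero_of_injective_algebraMap (IsFractionRing.injective A K)
    haveI : Algebra.FormallySmooth K L := inferInstance
    refine regLocus_nonempty_open_of_formallySmooth A A' hinj K L
      ⟨Set.univ, isOpen_univ, ⟨⟨⊥, Ideal.isPrime_bot⟩, trivial⟩, fun q _ => ?_⟩
    exact IsRegularRing.isRegularLocalRing_localization q.asIdeal
  · have hp : (RingHom.ker (algebraMap A A')).IsMaximal :=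
      (RingHom.ker_isPrime (algebraMap A A')).isMaximal fun h => hinj ((RingHom.injective_iff_ker_eq_bot _).2 h)
    letI := Ideal.Quotient.field (RingHom.ker (algebraMap A A'))
    letI : Algebra (A ⧸ RingHom.ker (algebraMap A A')) A' :=
      (Ideal.Quotient.lift _ (algebraMap A A') fun _ hx => hx).toAlgebra
    haveI : IsScalarTower A (A ⧸ RingHom.ker (algebraMap A A')) A' := .of_algebraMap_eq fun _ => rfl
    haveI : Module.Finite (A ⧸ RingHom.ker (algebraMap A A')) A' := Module.Finite.of_restrictScalars_finite A _ _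
    exact (Groth.Agent.S2617.result _).1 (isJ2_of_field (A ⧸ RingHom.ker (algebraMap A A'))) A' inferInstance

/-- A Nagata ring of dimension one is J-2. -/
theorem isJ2_of_nagata (R : Type u) [CommRing R] (hR : CAlg.IsNagata R)
    (hdim : ringKrullDim R ≤ 1) : EGA4.IsJ2 R := by
  haveI := hR.1
  refine (Groth.Agent.S2617.result R).2 fun A' _ _ _ hfin => ?_
  haveI := hfin
  haveI : IsNoetherianRing A' := IsNoetherianRing.of_finite R A'
  have hdim' := dim_le_one_of_finite R A' hdim
  haveI : Ring.KrullDimLE 1 A' := Ring.krullDimLE_iff.2 hdim'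
  have hN : CAlg.IsNagata A' := CAlgH.isNagata_of_finite (R := R) hR
  have hfinB : Module.Finite A' (integralClosure A' (FractionRing A')) := by
    exact CAlgH.isN2_of_ringEquiv (RingEquiv.quotientBot A') (hN.2 ⊥) (FractionRing A') inferInstance
  haveI := hfinB
  let B := integralClosure A' (FractionRing A')
  haveI : IsNoetherianRing B := IsNoetherianRing.of_finite A' B
  haveI : IsIntegrallyClosed B := integralClosure.isIntegrallyClosedOfFiniteExtension (FractionRing A')
  haveI : Ring.KrullDimLE 1 B := Ring.krullDimLE_iff.2 (dim_le_one_of_finite A' B hdim')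
  haveI : Ring.DimensionLEOne B := ⟨fun {I} h0 hI => Ring.krullDimLE_one_iff_of_noZeroDivisors.1 inferInstance I h0 hI⟩
  haveI : IsDedekindDomain B := {}
  refine Groth.Agent.S9255.result A' B (fun a b hab => IsFractionRing.injective A' (FractionRing A')
    (congrArg Subtype.val hab)) ⟨Set.univ, isOpen_univ, ⟨⟨⊥, Ideal.isPrime_bot⟩, trivial⟩, fun q _ => ?_⟩
  exact IsRegularRing.isRegularLocalRing_localization q.asIdeal

end Groth.Agent.CommAlg6
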