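import Groth.Agent.CommAlg6.GenericRegular
import Groth.Agent.CommAlg6.J2Small
import Groth.Agent.CAlgH.GenericFibre
import Groth.Agent.CAlgH.JacobianRegular
import Groth.Agent.CAlgH.CompletionDerivation
import Groth.Agent.S9255
import Groth.Agent.CAlgH.NagataComplete
import Mathlib.FieldTheory.PurelyInseparable.Basic

/-! Finite domains over regular domains with enough derivations are regular near the generic point. -/

set_option autoImplicit false
set_option linter.style.haveILetI false

universe u

open IsLocalRing Polynomial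

namespace Groth.Agent.CommAlg6

/-- The regular locus contains a nonempty open. -/
def RegGeneric (A : Type u) [CommRing A] : Prop :=
  ∃ U : Set (PrimeSpectrum A), IsOpen U ∧ U.Nonempty ∧ U ⊆ EGA4.regLocus A

theorem regGeneric_of_isRegularRing (A : Type u) [CommRing A] [IsDomain A] [IsRegularRing A] :
    RegGeneric A :=
  ⟨Set.univ, isOpen_univ, ⟨⟨⊥, Ideal.isPrime_bot⟩, trivial⟩,
    fun q _ => IsRegularRing.isRegularLocalRing_localization q.asIdeal⟩

theorem isRegularRing_away (B : Type u) [CommRing B] [IsNoetherianRing B] (h : B)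
    (hreg : ∀ q : PrimeSpectrum B, h ∉ q.asIdeal → q ∈ EGA4.regLocus B) :
    IsRegularRing (Localization.Away h) := by
  let T := Localization.Away h
  haveI : IsNoetherianRing T := IsLocalization.isNoetherianRing (Submonoid.powers h) T inferInstance
  refine isRegularRing_iff.2 fun P _ => ?_
  haveI := IsLocalization.isLocalization_isLocalization_atPrime_isLocalization (R := B)
    (M := Submonoid.powers h) (Localization.AtPrime P) P
  haveI : IsRegularLocalRing (Localization.AtPrime (P.under B)) :=
    hreg ⟨P.under B, inferInstance⟩ (fun hh => ‹P.IsPrime›.ne_top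
      (Ideal.eq_top_of_isUnit_mem _ hh (IsLocalization.Away.algebraMap_isUnit h)))
  exact IsRegularLocalRing.of_ringEquiv (IsLocalization.algEquiv (P.under B).primeCompl
    (Localization.AtPrime P) (Localization.AtPrime (P.under B))).symm.toRingEquiv

theorem isFractionRing_of_subfieldClosure {R L : Type u} [CommRing R] [Field L] [Algebra R L]
    (E : Subalgebra R L) (h : ∀ z : L, z ∈ Subfield.closure (E : Set L)) : IsFractionRing E L := by
  refine IsFractionRing.of_field _ _ fun z => ?_
  obtain ⟨a, ha, b, hb, rfl⟩ := Subfield.mem_closure_iff.1 (h z)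
  rw [show Subring.closure (E : Set L) = E.toSubring from Subring.closure_eq E.toSubring] at ha hb
  exact ⟨⟨a, ha⟩, ⟨b, hb⟩, rfl⟩

/-- Regularity near the generic point passes between finite type domains with one fraction field. -/
theorem regGeneric_of_birational {R L : Type u} [CommRing R] [IsNoetherianRing R] [Field L] [Algebra R L]
    (E : Subalgebra R L) (hE : E.FG) [IsFractionRing E L] (hJ : RegGeneric E)
    (A : Type u) [CommRing A] [IsDomain A] [Algebra R A] [Algebra.FiniteType R A] [Algebra A L]
    [IsScalarTower R A L] [IsFractionRing A L] : RegGeneric A := by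
  let φ := IsScalarTower.toAlgHom R A L
  let E' := E ⊔ φ.range
  have hrange : φ.range.FG := by
    rw [← Algebra.map_top]; exact Subalgebra.FG.map _ Algebra.FiniteType.out
  haveI : Algebra.FiniteType R E' := ⟨E'.fg_top.2 (hE.sup hrange)⟩
  haveI : Algebra.FiniteType R E := ⟨E.fg_top.2 hE⟩
  haveI : IsNoetherianRing E := Algebra.FiniteType.isNoetherianRing R E
  haveI : IsNoetherianRing A := Algebra.FiniteType.isNoetherianRing R A
  letI : Algebra E E' := (Subalgebra.inclusion (le_sup_left : E ≤ E')).toRingHom.toAlgebra
  haveI : IsScalarTower R E E' := .of_algebraMap_eq fun _ => rfl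
  haveI : IsScalarTower E E' L := .of_algebraMap_eq fun _ => rfl
  haveI : Algebra.FiniteType E E' := Algebra.FiniteType.of_restrictScalars_finiteType R E E'
  haveI : IsFractionRing E' L := isFractionRing_of_subfieldClosure E' fun z => by
    obtain ⟨a, b, -, rfl⟩ := IsFractionRing.div_surjective (A := E) z
    exact div_mem (Subfield.subset_closure ((le_sup_left : E ≤ E') a.2))
      (Subfield.subset_closure ((le_sup_left : E ≤ E') b.2))
  have hE' : RegGeneric E' := regLocus_nonempty_open_of_formallySmooth E E'
    (Subalgebra.inclusion_injective _) L L hJ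
  letI : Algebra A E' := (φ.codRestrict E' fun x => (le_sup_right : φ.range ≤ E') ⟨x, rfl⟩).toRingHom.toAlgebra
  haveI : IsScalarTower R A E' := .of_algebraMap_eq fun r => Subtype.ext (φ.commutes r).symm
  haveI : Algebra.FiniteType A E' := Algebra.FiniteType.of_restrictScalars_finiteType R A E'
  exact Groth.Agent.S9255.result A E' (fun a b hab => IsFractionRing.injective A L (congrArg Subtype.val hab)) hE'

set_option maxHeartbeats 1600000 in
set_option synthInstance.maxHeartbeats 100000 in
/-- One purely inseparable step. -/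
theorem exists_regular_model_step (p : ℕ) [hp : Fact p.Prime] (R : Type u) [CommRing R] [IsNoetherianRing R]
    (M L : Type u) [Field M] [Field L] [CharP M p] [Algebra R M] [Algebra R L] [Algebra M L]
    [IsScalarTower R M L] (B : Subalgebra R M) [Module.Finite R B] [IsFractionRing B M] (hB : RegGeneric B)
    (D : Derivation ℤ B B) (x : L) (a : B) (hxa : x ^ p = algebraMap M L a)
    (ha : ∀ g : M, g ^ p ≠ a) (hDa : D a ≠ 0)
    (hgen : ∀ y : L, y ∈ IntermediateField.adjoin M ({x} : Set L)) :
    ∃ E : Subalgebra R L, E.FG ∧ IsFractionRing E L ∧ RegGeneric E := by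
  obtain ⟨U, hU, ⟨u, hu⟩, hsub⟩ := hB
  obtain ⟨_, ⟨h, rfl⟩, hhu, hhU⟩ :=
    PrimeSpectrum.isTopologicalBasis_basic_opens.exists_subset_of_mem_open hu hU
  have h0 : h ≠ 0 := fun h' => hhu (h' ▸ u.asIdeal.zero_mem)
  haveI : IsNoetherianRing B := IsNoetherianRing.of_finite R B
  let c := h * D a
  have hc : c ≠ 0 := mul_ne_zero h0 hDa
  let T := Localization.Away c
  haveI : IsRegularRing T := isRegularRing_away B c fun q hq =>
    hsub (hhU fun hh => hq (q.asIdeal.mul_mem_right _ hh))
  obtain ⟨D', hD'⟩ := Groth.Agent.CAlgH.exists_derivation_localization (Submonoid.powers c) (L := T) D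
  have hDu : IsUnit (D' (algebraMap B T a)) := by
    rw [hD']
    exact isUnit_of_mul_isUnit_right ((map_mul (algebraMap B T) h (D a)) ▸ IsLocalization.Away.algebraMap_isUnit c)
  haveI hQ := Groth.Agent.CAlgH.isRegularRing_polynomial_quotient T (algebraMap B T a) D' hDu (X ^ p)
  -- the maps to the fields
  have hcM : IsUnit (algebraMap B M c) :=
    isUnit_iff_ne_zero.2 fun h' => hc (IsFractionRing.injective B M (h'.trans (map_zero _).symm))
  have hcM' : ∀ y : Submonoid.powers c, IsUnit (IsScalarTower.toAlgHom R B M y) := by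
    rintro ⟨_, n, rfl⟩
    simp only [IsScalarTower.coe_toAlgHom', map_pow]
    exact hcM.pow n
  let σ : T →ₐ[R] M := IsLocalization.liftAlgHom hcM'
  have hσ : ∀ b : B, σ (algebraMap B T b) = (b : M) := fun b => IsLocalization.lift_eq _ b
  have hσinj : Function.Injective σ := by
    refine (IsLocalization.lift_injective_iff _).2 fun y z => ⟨fun hyz => congrArg _ ?_, fun hyz => congrArg _ ?_⟩
    · exact IsLocalization.injective T (powers_le_nonZeroDivisors_of_noZeroDivisors hc) hyz
    · exact IsFractionRing.injective B M hyz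
  let σL : T →ₐ[R] L := (IsScalarTower.toAlgHom R M L).comp σ
  let ev : T[X] →ₐ[R] L :=
    { Polynomial.eval₂RingHom (σL : T →+* L) x with
      commutes' := fun r => by
        show Polynomial.eval₂ (σL : T →+* L) x (C (algebraMap R T r)) = _
        rw [eval₂_C]; exact σL.commutes r }
  let g : T[X] := Polynomial.map (Int.castRingHom T) (X ^ p) - C (algebraMap B T a)
  have hg : g = X ^ p - C (algebraMap B T a) := by simp [g]
  have hgm : g.Monic := hg ▸ monic_X_pow_sub_C _ hp.out.ne_zero
  have hev : ev g = 0 := by
    rw [hg]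
    show Polynomial.eval₂ (σL : T →+* L) x _ = 0
    rw [eval₂_sub, eval₂_X_pow, eval₂_C, hxa]
    exact sub_eq_zero.2 (congrArg (algebraMap M L) (hσ a)).symm
  haveI : Nontrivial T := (σ : T →+* M).domain_nontrivial
  have hirr : Irreducible (X ^ p - C (a : M)) := X_pow_sub_C_irreducible_of_prime hp.out ha
  have hmin : minpoly M x = X ^ p - C (a : M) :=
    (minpoly.eq_of_irreducible_of_monic hirr (by simp [hxa]) (monic_X_pow_sub_C _ hp.out.ne_zero)).symm
  have hker : RingHom.ker ev ≤ Ideal.span {g} := fun f hf => by
    rw [Ideal.mem_span_singleton, ← modByMonic_eq_zero_iff_dvd hgm]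
    have h1 : ev (f %ₘ g) = 0 := by
      rw [modByMonic_eq_sub_mul_div, map_sub, map_mul, hev, zero_mul, sub_zero]
      exact hf
    have h2 : aeval x ((f %ₘ g).map (σ : T →+* M)) = 0 := by
      rw [aeval_def, eval₂_map]; exact h1
    by_contra hne
    have h3 := natDegree_le_of_dvd (minpoly.dvd M x h2)
      ((Polynomial.map_ne_zero_iff hσinj).2 hne)
    rw [hmin, natDegree_X_pow_sub_C,
      natDegree_map_eq_of_injective (f := (σ : T →+* M)) hσinj] at h3
    have h4 := natDegree_modByMonic_lt f hgm (by
      intro h1
      have := congrArg natDegree h1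
      rw [hg, natDegree_X_pow_sub_C, natDegree_one] at this
      exact hp.out.ne_zero this)
    have h5 : g.natDegree = p := by rw [hg, natDegree_X_pow_sub_C]
    omega
  let Φ : (T[X] ⧸ Ideal.span {g}) →ₐ[R] L :=
    Ideal.Quotient.liftₐ _ ev fun f hf => by
      obtain ⟨w, rfl⟩ := Ideal.mem_span_singleton.1 hf
      rw [map_mul, hev, zero_mul]
  have hΦ : Function.Injective Φ :=
    RingHom.lift_injective_of_ker_le_ideal _ _ hker
  haveI : Algebra.FiniteType B T := IsLocalization.finiteType_of_monoid_fg (Submonoid.powers c) T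
  haveI : Algebra.FiniteType R T := Algebra.FiniteType.trans (S := B) inferInstance inferInstance
  haveI : Algebra.FiniteType R T[X] := Algebra.FiniteType.trans (S := T) inferInstance inferInstance
  let e := AlgEquiv.ofInjective Φ hΦ
  haveI : Algebra.FiniteType R Φ.range := Algebra.FiniteType.equiv inferInstance e
  haveI : IsRegularRing Φ.range := IsRegularRing.of_ringEquiv (R := T[X] ⧸ Ideal.span {g}) (RingEquiv.ofBijective e.toRingEquiv.toRingHom e.bijective)
  refine ⟨Φ.range, Φ.range.fg_top.1 Algebra.FiniteType.out, isFractionRing_of_subfieldClosure _ fun z => ?_,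
    regGeneric_of_isRegularRing _⟩
  let F := Subfield.closure (Φ.range : Set L)
  have hkM : ∀ m : M, algebraMap M L m ∈ F := fun m => by
    obtain ⟨b, d, -, rfl⟩ := IsFractionRing.div_surjective (A := B) m
    have hmem : ∀ b : B, algebraMap M L (b : M) ∈ (Φ.range : Set L) := fun b =>
      ⟨Ideal.Quotient.mk _ (C (algebraMap B T b)), by
        show ev (C (algebraMap B T b)) = _
        show Polynomial.eval₂ (σL : T →+* L) x _ = _
        rw [eval₂_C]
        exact congrArg (algebraMap M L) (hσ b)⟩
    rw [map_div₀]
    exact div_mem (Subfield.subset_closure (hmem b)) (Subfield.subset_closure (hmem d))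
  have hxF : x ∈ F := Subfield.subset_closure
    ⟨Ideal.Quotient.mk _ X, show Polynomial.eval₂ (σL : T →+* L) x X = x from eval₂_X _ _⟩
  let F' : IntermediateField M L := F.toIntermediateField hkM
  exact (IntermediateField.adjoin_simple_le_iff.2 hxF : IntermediateField.adjoin M ({x} : Set L) ≤ F') (hgen z)

set_option maxHeartbeats 800000 in
/-- Every finite extension of the fraction field has a model regular near the generic point. -/
theorem exists_regular_model (R : Type u) [CommRing R] [IsDomain R] [IsRegularRing R]
    (hgood : ∀ p, p.Prime → CharP R p → Groth.Agent.CAlgH.GoodFamily p R) :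
    ∀ (n : ℕ) (L : Type u) [Field L] [Algebra R L] [FaithfulSMul R L] [Algebra (FractionRing R) L]
      [IsScalarTower R (FractionRing R) L] [FiniteDimensional (FractionRing R) L],
      Module.finrank (FractionRing R) L ≤ n →
      ∃ E : Subalgebra R L, E.FG ∧ IsFractionRing E L ∧ RegGeneric E := by
  classical
  let K := FractionRing R
  intro n
  induction n using Nat.strong_induction_on with | _ n ih =>
  intro L _ _ _ _ _ _ hn
  by_cases hsep : Algebra.IsSeparable K L
  · let s : Finset L := Finset.univ.image (Module.finBasis K L)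
    let E := Algebra.adjoin R (s : Set L)
    haveI : IsFractionRing E L := isFractionRing_of_subfieldClosure E fun z => by
      rw [← (Module.finBasis K L).sum_repr z]
      refine sum_mem fun i _ => ?_
      rw [Algebra.smul_def]
      refine mul_mem ?_ (Subfield.subset_closure (Algebra.subset_adjoin
        (Finset.mem_image_of_mem _ (Finset.mem_univ i))))
      obtain ⟨a, b, -, hab⟩ := IsFractionRing.div_surjective (A := R) ((Module.finBasis K L).repr z i)
      rw [← hab, map_div₀, ← IsScalarTower.algebraMap_apply, ← IsScalarTower.algebraMap_apply]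
      exact div_mem (Subfield.subset_closure (E.algebraMap_mem a)) (Subfield.subset_closure (E.algebraMap_mem b))
    haveI : Algebra.FiniteType R E := ⟨E.fg_top.2 ⟨s, rfl⟩⟩
    haveI : Algebra.EssFiniteType K L := inferInstance
    haveI : Algebra.FormallyEtale K L := Algebra.FormallyEtale.of_isSeparable K L
    refine ⟨E, ⟨s, rfl⟩, inferInstance, regLocus_nonempty_open_of_formallySmooth R E (fun a b hab => ?_) K L
      (regGeneric_of_isRegularRing R)⟩
    exact FaithfulSMul.algebraMap_injective R L (congrArg Subtype.val hab :)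
  obtain hchar | ⟨p, hp, hcharp⟩ := CharP.exists' K
  · haveI := hchar
    exact absurd (inferInstance : Algebra.IsSeparable K L) hsep
  haveI : CharP R p := (RingHom.charP_iff _ (IsFractionRing.injective R K) p).2 hcharp
  haveI : CharP L p := charP_of_injective_algebraMap (algebraMap K L).injective p
  haveI : ExpChar K p := .prime hp.out
  let Ks := separableClosure K L
  have hKs : Ks ≠ ⊤ := fun h => hsep ((separableClosure.eq_top_iff K L).1 h)
  let S := {d : ℕ | ∃ M : IntermediateField K L, Ks ≤ M ∧ M ≠ ⊤ ∧ Module.finrank K M = d}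
  have hbd : BddAbove S := ⟨Module.finrank K L, by
    rintro _ ⟨M, -, -, rfl⟩; exact M.toSubalgebra.toSubmodule.finrank_le⟩
  obtain ⟨M, hKM, hMtop, hMmax⟩ := Nat.sSup_mem (s := S) ⟨_, Ks, le_rfl, hKs, rfl⟩ hbd
  obtain ⟨x, hx, hxp⟩ : ∃ x : L, x ∉ M ∧ x ^ p ∈ M := by
    obtain ⟨y, -, hy⟩ := SetLike.exists_of_lt (lt_top_iff_ne_top.2 hMtop)
    obtain ⟨m, z, hz⟩ := IsPurelyInseparable.pow_mem Ks p y
    have hm : y ^ p ^ m ∈ M := hKM (hz ▸ z.2)
    clear hz
    induction m generalizing y with
    | zero => exact absurd (by simpa using hm) hy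
    | succ m ihm =>
      by_cases hyp : y ^ p ∈ M
      · exact ⟨y, hy, hyp⟩
      · exact ihm (y ^ p) hyp (by rw [← pow_mul, ← pow_succ']; exact hm)
  have hgenx : ∀ y : L, y ∈ IntermediateField.adjoin M ({x} : Set L) := by
    intro y
    by_contra hy
    let M' := (IntermediateField.adjoin M ({x} : Set L)).restrictScalars K
    have hlt : M < M' := lt_of_le_of_ne (fun z hz => (IntermediateField.adjoin M {x}).algebraMap_mem ⟨z, hz⟩)
      fun h => hx (h.symm ▸ IntermediateField.mem_adjoin_simple_self M x : x ∈ M)
    have hmem : Module.finrank K M' ∈ S := ⟨M', hKM.trans hlt.le, fun h => hy (show y ∈ M' from h ▸ IntermediateField.mem_top), rfl⟩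
    have h1 := le_csSup hbd hmem
    have h2 : Module.finrank K M < Module.finrank K M' :=
      Submodule.finrank_lt_finrank_of_lt (show M.toSubalgebra.toSubmodule < M'.toSubalgebra.toSubmodule from hlt)
    omega
  have hlt : Module.finrank K M < n := lt_of_lt_of_le
    (Submodule.finrank_lt (s := M.toSubalgebra.toSubmodule) (fun h => hMtop (SetLike.ext' (congrArg
      (fun N : Submodule K L => (N : Set L)) h)))) hn
  haveI : FaithfulSMul R M := (faithfulSMul_iff_algebraMap_injective R M).2 fun a b hab =>
    FaithfulSMul.algebraMap_injective R L (congrArg Subtype.val hab :)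
  obtain ⟨EM, hEM, hEMfrac, hEMJ⟩ := ih _ hlt M le_rfl
  haveI := hEMfrac
  let f : M := ⟨x ^ p, hxp⟩
  have hf : ∀ g : M, g ^ p ≠ f := fun g hg => by
    have h : (g : L) ^ p = x ^ p := congrArg Subtype.val hg
    rw [← frobenius_def, ← frobenius_def] at h
    exact hx ((frobenius L p).injective h ▸ g.2)
  obtain ⟨B, hBfin, D, θ, hloc, hDθ, hθf⟩ :=
    Groth.Agent.CAlgH.exists_derivation_scaled p R (hgood p hp.out inferInstance) M f hf
  haveI := hBfin
  haveI := hloc
  haveI : CharP M p := charP_of_injective_algebraMap (algebraMap K M).injective p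
  have hinjR : Function.Injective (algebraMap R M) := FaithfulSMul.algebraMap_injective R M
  haveI : IsFractionRing B M := isFractionRing_of_subfieldClosure B fun z => by
    obtain ⟨⟨b, ⟨d, r, hr, hrd⟩⟩, hz⟩ := IsLocalization.surj (Algebra.algebraMapSubmonoid B (nonZeroDivisors R)) z
    have hd : algebraMap B M d ≠ 0 := by
      rw [← hrd, ← IsScalarTower.algebraMap_apply]
      exact fun h => nonZeroDivisors.ne_zero hr (hinjR (h.trans (map_zero _).symm))
    rw [show z = algebraMap B M b / algebraMap B M d from eq_div_of_mul_eq hd hz]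
    exact div_mem (Subfield.subset_closure b.2) (Subfield.subset_closure d.2)
  have hBJ : RegGeneric B := regGeneric_of_birational EM hEM hEMJ B
  -- move `f` into `B`
  obtain ⟨⟨β, ⟨d, r, hr, hrd⟩⟩, hβ⟩ := IsLocalization.surj (Algebra.algebraMapSubmonoid B (nonZeroDivisors R)) f
  replace hβ : f * (d : M) = (β : M) := hβ
  have hd : (d : M) ≠ 0 := by
    rw [← hrd]
    exact fun h => nonZeroDivisors.ne_zero hr (hinjR (h.trans (map_zero _).symm))
  let a : B := β * d ^ (p - 1)
  have ha : (a : M) = f * (d : M) ^ p := by
    show (β : M) * (d : M) ^ (p - 1) = _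
    rw [← hβ, mul_assoc, ← pow_succ', Nat.sub_add_cancel hp.out.one_le]
  let x' : L := x * algebraMap M L (d : M)
  haveI : IsScalarTower R M L := IsScalarTower.of_algebraMap_eq fun _ => rfl
  refine exists_regular_model_step p R M L B hBJ D x' a ?_ (fun g hg => ?_) (fun h => ?_) fun y => ?_
  · show (x * algebraMap M L (d : M)) ^ p = _
    rw [ha, map_mul, map_pow, mul_pow]; rfl
  · refine hf (g / (d : M)) ?_
    rw [div_pow, hg, ha, mul_div_assoc, div_self (pow_ne_zero _ hd), mul_one]
  · refine hθf ?_
    have h1 : θ (a : M) = 0 := by rw [← hDθ, h]; rfl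
    rw [ha, Derivation.leibniz, Derivation.leibniz_pow, ← Nat.cast_smul_eq_nsmul M p, CharP.cast_eq_zero, zero_smul,
      smul_zero, zero_add, smul_eq_zero] at h1
    exact h1.resolve_left (pow_ne_zero _ hd)
  · have hle : IntermediateField.adjoin M ({x} : Set L) ≤ IntermediateField.adjoin M ({x'} : Set L) := by
      rw [IntermediateField.adjoin_simple_le_iff]
      have hd' : algebraMap M L (d : M) ≠ 0 := fun h => hd ((algebraMap M L).injective (h.trans (map_zero _).symm))
      rw [show x = x' / algebraMap M L (d : M) from (mul_div_cancel_right₀ x hd').symm]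
      exact div_mem (IntermediateField.mem_adjoin_simple_self M x') (IntermediateField.algebraMap_mem _ _)
    exact hle (hgenx y)

/-- A domain finite over a regular domain with enough derivations is regular near its generic point. -/
theorem regGeneric_of_finite (R A : Type u) [CommRing R] [IsDomain R] [IsRegularRing R] [CommRing A]
    [IsDomain A] [Algebra R A] [Module.Finite R A] (hinj : Function.Injective (algebraMap R A))
    (hgood : ∀ p, p.Prime → CharP R p → Groth.Agent.CAlgH.GoodFamily p R) : RegGeneric A := by
  let L := FractionRing A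
  haveI : FaithfulSMul R A := (faithfulSMul_iff_algebraMap_injective R A).2 hinj
  haveI : FaithfulSMul R L := FaithfulSMul.trans R A L
  letI : Algebra (FractionRing R) L := FractionRing.liftAlgebra R L
  haveI : IsScalarTower R (FractionRing R) L := inferInstance
  haveI : FiniteDimensional (FractionRing R) L :=
    Groth.Agent.CAlgH.finiteDimensional_fractionRing (algebraMap R A) hinj (RingHom.finite_algebraMap.2 inferInstance) fun a => by
      rw [← IsScalarTower.algebraMap_apply, ← IsScalarTower.algebraMap_apply]
  obtain ⟨E, hE, hfrac, hJ⟩ := exists_regular_model R hgood _ L le_rfl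
  haveI := hfrac
  exact regGeneric_of_birational E hE hJ A

end Groth.Agent.CommAlg6
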