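import Groth.Agent.CAlgH.NagataFiniteType
import Groth.Agent.CAlgH.NagataComplete
import Groth.Agent.CAlgH.NagataIC
import Groth.Agent.CAlgH3.RegularLocal
import Groth.Agent.CAlgH.GenericFibre
import Groth.Agent.Matlis6.CompletionNoetherian
import Groth.Agent.CommAlg6.InsepModel
import Groth.Prelude.Def_EGA4b

/-! Japanese rings from geometrically reduced formal fibres. -/

set_option autoImplicit false
set_option linter.style.haveILetI false

universe u
open CAlg IsLocalRing TensorProduct
open Groth.Agent.CAlgH

namespace Groth.Agent.CommAlg6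

set_option maxHeartbeats 800000 in
/-- A domain with a reduced faithfully flat Nagata extension is N-1. -/
theorem isN1_of_faithfullyFlat {A Ah : Type u} [CommRing A] [IsDomain A] [IsNoetherianRing A] [CommRing Ah]
    [Algebra A Ah] [Module.FaithfullyFlat A Ah] [IsReduced Ah] (hN : CAlg.IsNagata Ah) : IsN1 A := by
  classical
  haveI := hN.1
  let K := FractionRing A
  let ι := {q : Ideal Ah // q ∈ minimalPrimes Ah}
  haveI : Finite ι := (minimalPrimes.finite_of_isNoetherianRing Ah).to_subtype
  haveI hprime : ∀ q : ι, q.1.IsPrime := fun q => q.2.1.1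
  let θ : ∀ q : ι, A →+* FractionRing (Ah ⧸ q.1) := fun q =>
    (algebraMap Ah (FractionRing (Ah ⧸ q.1))).comp (algebraMap A Ah)
  have hθ : ∀ q, Function.Injective (θ q) := by
    intro q
    rw [injective_iff_map_eq_zero]
    intro a ha
    by_contra ha0
    rw [RingHom.comp_apply, IsScalarTower.algebraMap_apply Ah (Ah ⧸ q.1) (FractionRing (Ah ⧸ q.1)),
      map_eq_zero_iff _ (IsFractionRing.injective (Ah ⧸ q.1) _)] at ha
    refine notMem_nonZeroDivisors_of_mem_mem_minimalPrimes (Ideal.Quotient.eq_zero_iff_mem.mp ha) q.2 ?_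
    rw [mem_nonZeroDivisors_iff_right]
    intro w hw
    have hr : IsSMulRegular Ah a := Module.Flat.isSMulRegular_of_isRegular (IsRegular.of_ne_zero ha0)
    apply hr
    show a • w = a • (0 : Ah)
    rw [smul_zero, Algebra.smul_def, mul_comm]; exact hw
  let Θ : K →+* ((q : ι) → FractionRing (Ah ⧸ q.1)) := Pi.ringHom fun q => IsFractionRing.lift (hθ q)
  have hΘ : ∀ a : A, Θ (algebraMap A K a) = algebraMap Ah _ (algebraMap A Ah a) := fun a =>
    funext fun q => IsFractionRing.lift_algebraMap (hθ q) a
  let W : Submodule Ah ((q : ι) → FractionRing (Ah ⧸ q.1)) :=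
    Submodule.pi Set.univ fun q => (Subalgebra.toSubmodule (integralClosure (Ah ⧸ q.1) (FractionRing (Ah ⧸ q.1)))).restrictScalars Ah
  have hWfg : W.FG := by
    refine Submodule.fg_pi fun q => ?_
    have h1 : Module.Finite (Ah ⧸ q.1) (integralClosure (Ah ⧸ q.1) (FractionRing (Ah ⧸ q.1))) :=
      isN2_apply (hN.2 q.1) (FractionRing (Ah ⧸ q.1)) (FractionRing (Ah ⧸ q.1))
    have h2 : Module.Finite Ah (integralClosure (Ah ⧸ q.1) (FractionRing (Ah ⧸ q.1))) := Module.Finite.trans (Ah ⧸ q.1) _
    exact Module.Finite.iff_fg.mp h2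
  have hΘW : ∀ c : K, IsIntegral A c → Θ c ∈ W := by
    intro c hc q _
    show IsIntegral (Ah ⧸ q.1) (IsFractionRing.lift (hθ q) c)
    obtain ⟨P, hP, hP0⟩ := hc
    refine ⟨P.map ((Ideal.Quotient.mk q.1).comp (algebraMap A Ah)), hP.map _, ?_⟩
    have h1 := congrArg (IsFractionRing.lift (hθ q)) hP0
    rw [Polynomial.hom_eval₂, map_zero] at h1
    rw [Polynomial.eval₂_map]
    convert h1 using 2
    · rfl
    ·
      refine RingHom.ext fun a => ?_
      show _ = IsFractionRing.lift (hθ q) (algebraMap A K a)
      rw [IsFractionRing.lift_algebraMap]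
      rfl
  haveI : IsNoetherian Ah W := isNoetherian_of_fg_of_noetherian W hWfg
  let N : Finset (integralClosure A K) → Submodule Ah W := fun s => (Submodule.span Ah ((fun c : integralClosure A K => Θ (c : K)) '' (s : Set (integralClosure A K)))).comap W.subtype
  obtain ⟨M, ⟨s, rfl⟩, hmax⟩ := set_has_maximal_iff_noetherian.mpr inferInstance (Set.range N) ⟨_, ⟨∅, rfl⟩⟩
  refine (isN1_iff_finite K).mpr ⟨⟨s, eq_top_iff.mpr fun c _ => ?_⟩⟩
  have hsc : N (insert c s) = N s := by
    by_contra hne
    refine hmax _ ⟨_, rfl⟩ (lt_of_le_of_ne (Submodule.comap_mono (Submodule.span_mono (Set.image_mono ?_))) (Ne.symm hne))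
    exact Finset.coe_subset.mpr (Finset.subset_insert c s)
  have hc : Θ (c : K) ∈ Submodule.span Ah ((fun c : integralClosure A K => Θ (c : K)) '' (s : Set (integralClosure A K))) := by
    have : (⟨Θ c, hΘW c c.2⟩ : W) ∈ N (insert c s) := Submodule.subset_span ⟨c, Finset.mem_insert_self c s, rfl⟩
    rw [hsc] at this; exact this
  obtain ⟨⟨d, hd⟩, hd'⟩ := IsLocalization.exist_integer_multiples_of_finset (nonZeroDivisors A) ((insert c s).image fun z : integralClosure A K => (z : K))
  have hd0 : d ≠ 0 := nonZeroDivisors.ne_zero hd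
  have hint : ∀ z ∈ insert c s, ∃ a : A, algebraMap A K a = d • (z : K) := fun z hz =>
    hd' _ (Finset.mem_image_of_mem _ hz)
  choose! num hnum using hint
  let I : Ideal A := Ideal.span (num '' (s : Set (integralClosure A K)))
  have hinj : Function.Injective (algebraMap Ah ((q : ι) → FractionRing (Ah ⧸ q.1))) := by
    rw [injective_iff_map_eq_zero]
    intro w hw
    have hmem : w ∈ nilradical Ah := by
      rw [nilradical, ← Ideal.sInf_minimalPrimes, Submodule.mem_sInf]
      intro q hq
      have h1 := congrFun hw ⟨q, hq⟩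
      haveI : Ideal.IsPrime q := hq.1.1
      rw [Pi.algebraMap_apply, IsScalarTower.algebraMap_apply Ah (Ah ⧸ q) (FractionRing (Ah ⧸ q)), Pi.zero_apply,
        map_eq_zero_iff _ (IsFractionRing.injective (Ah ⧸ q) _)] at h1
      exact Ideal.Quotient.eq_zero_iff_mem.mp h1
    exact (mem_nilradical.mp hmem).eq_zero
  have hkey : ∀ v ∈ Submodule.span Ah ((fun c : integralClosure A K => Θ (c : K)) '' (s : Set (integralClosure A K))),
      ∃ w ∈ I.map (algebraMap A Ah), algebraMap A Ah d • v = algebraMap Ah _ w := by
    intro v hv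
    induction hv using Submodule.span_induction with
    | mem v hv =>
      obtain ⟨z, hz, rfl⟩ := hv
      refine ⟨algebraMap A Ah (num z), Ideal.mem_map_of_mem _ (Ideal.subset_span ⟨z, hz, rfl⟩), ?_⟩
      rw [← hΘ, hnum z (Finset.mem_insert_of_mem hz), Algebra.smul_def, Algebra.smul_def, map_mul, hΘ]
    | zero => exact ⟨0, Ideal.zero_mem _, by simp⟩
    | add a b _ _ ha hb =>
      obtain ⟨w, hw, e⟩ := ha; obtain ⟨w', hw', e'⟩ := hb
      exact ⟨w + w', Ideal.add_mem _ hw hw', by rw [smul_add, e, e', map_add]⟩
    | smul r a _ ha =>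
      obtain ⟨w, hw, e⟩ := ha
      exact ⟨r * w, Ideal.mul_mem_left _ _ hw, by rw [smul_comm, e, map_mul, Algebra.smul_def]⟩
  obtain ⟨w, hw, hwe⟩ := hkey _ hc
  have hnumc : algebraMap A Ah (num c) = w := by
    apply hinj
    rw [← hwe, ← hΘ, hnum c (Finset.mem_insert_self c s), Algebra.smul_def, Algebra.smul_def, map_mul, hΘ]
  have hcI : num c ∈ I := by
    rw [← Ideal.comap_map_eq_self_of_faithfullyFlat (B := Ah) I, Ideal.mem_comap, hnumc]; exact hw
  have hlin : ∀ r ∈ I, ∃ e ∈ Submodule.span A (s : Set (integralClosure A K)), algebraMap A K r = d • (e : K) := by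
    intro r hr
    induction hr using Submodule.span_induction with
    | mem r hr =>
      obtain ⟨z, hz, rfl⟩ := hr
      exact ⟨z, Submodule.subset_span hz, hnum z (Finset.mem_insert_of_mem hz)⟩
    | zero => exact ⟨0, Submodule.zero_mem _, by simp⟩
    | add a b _ _ ha hb =>
      obtain ⟨e, he, h1⟩ := ha; obtain ⟨e', he', h2⟩ := hb
      exact ⟨e + e', Submodule.add_mem _ he he', by rw [map_add, h1, h2, ← smul_add]; rfl⟩
    | smul r a _ ha =>
      obtain ⟨e, he, h1⟩ := ha
      refine ⟨r • e, Submodule.smul_mem _ r he, ?_⟩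
      rw [smul_eq_mul, map_mul, h1, SetLike.val_smul, smul_comm, Algebra.smul_def r]
  obtain ⟨e, he, hee⟩ := hlin _ hcI
  rw [hnum c (Finset.mem_insert_self c s)] at hee
  have : c = e := Subtype.ext (by
    rw [Algebra.smul_def, Algebra.smul_def] at hee
    exact mul_left_cancel₀ ((map_ne_zero_iff _ (IsFractionRing.injective A K)).mpr hd0) hee)
  rw [this]; exact he

theorem isFractionRing_of_algebraMapSubmonoid {R M : Type u} [CommRing R] [IsDomain R] [Field M] [Algebra R M]
    [FaithfulSMul R M] (D : Subalgebra R M)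
    [IsLocalization (Algebra.algebraMapSubmonoid D (nonZeroDivisors R)) M] : IsFractionRing D M :=
  isFractionRing_of_subfieldClosure D fun z => by
    obtain ⟨⟨b, ⟨d, r, hr, hrd⟩⟩, hz⟩ := IsLocalization.surj (Algebra.algebraMapSubmonoid D (nonZeroDivisors R)) z
    have hd : algebraMap D M d ≠ 0 := by
      rw [← hrd, ← IsScalarTower.algebraMap_apply]
      exact fun h => nonZeroDivisors.ne_zero hr (FaithfulSMul.algebraMap_injective R M (h.trans (map_zero _).symm))
    rw [show z = algebraMap D M b / algebraMap D M d from eq_div_of_mul_eq hd hz]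
    exact div_mem (Subfield.subset_closure b.2) (Subfield.subset_closure d.2)

/-- A finite extension field has a finite model. -/
theorem exists_finite_model {B K L : Type u} [CommRing B] [IsDomain B] [IsNoetherianRing B] [Field K]
    [Algebra B K] [IsFractionRing B K] [Field L] [Algebra B L] [Algebra K L] [IsScalarTower B K L]
    [FiniteDimensional K L] :
    ∃ D : Subalgebra B L, Module.Finite B D ∧ IsFractionRing D L := by
  haveI : FaithfulSMul B L := (faithfulSMul_iff_algebraMap_injective B L).2 (by
    rw [IsScalarTower.algebraMap_eq B K L]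
    exact (algebraMap K L).injective.comp (IsFractionRing.injective B K))
  haveI : Module.Finite (⊤ : Subring B) B := ⟨⟨{1}, eq_top_iff.2 fun b _ => by
    rw [Finset.coe_singleton, Submodule.mem_span_singleton]
    exact ⟨⟨b, trivial⟩, mul_one b⟩⟩⟩
  obtain ⟨D, hD, -, -, -, hloc, -⟩ := exists_subalgebra_derivation B K (⊤ : Subring B) L 0 fun _ _ => rfl
  haveI := hloc
  exact ⟨D, hD, isFractionRing_of_algebraMapSubmonoid D⟩

/-- A geometrically regular algebra over a field is geometrically reduced. -/
theorem isGeometricallyReduced_of_isGeometricallyRegular (k S : Type u) [Field k] [CommRing S] [Algebra k S]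
    (h : CAlg.IsGeometricallyRegular k S) : Algebra.IsGeometricallyReduced k S := by
  rw [Algebra.isGeometricallyReduced_field_iff]
  suffices IsReduced (S ⊗[k] AlgebraicClosure k) from
    isReduced_of_injective (Algebra.TensorProduct.comm k (AlgebraicClosure k) S).toRingHom (AlgEquiv.injective _)
  refine IsReduced.tensorProduct_of_flat_of_forall_fg fun B hB => ?_
  haveI : Algebra.IsAlgebraic k (AlgebraicClosure k) := AlgebraicClosure.isAlgebraic k
  letI : Field B := (Subalgebra.isField_of_algebraic B).toField
  haveI : Module.Finite k B := by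
    obtain ⟨s, rfl⟩ := hB
    exact Module.Finite.iff_fg.2 (fg_adjoin_of_finite s.finite_toSet fun x _ =>
      Algebra.IsIntegral.isIntegral x)
  haveI := h B inferInstance
  haveI : IsReduced (B ⊗[k] S) := isReduced_of_isRegularRing _
  exact isReduced_of_injective (Algebra.TensorProduct.comm k S B).toRingHom (AlgEquiv.injective _)

theorem isN1_of_isN2 {R : Type u} [CommRing R] [IsDomain R] (h : IsN2 R) : IsN1 R :=
  isN2_apply h (FractionRing R) (FractionRing R)

/-- A regular domain is integrally closed. -/
theorem isIntegrallyClosed_of_isRegularRing (R : Type u) [CommRing R] [IsDomain R] [IsRegularRing R] :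
    IsIntegrallyClosed R :=
  IsIntegrallyClosed.of_localization_maximal fun m _ _ =>
    haveI : IsRegularLocalRing (Localization.AtPrime m) := IsRegularRing.isRegularLocalRing_localization m
    Groth.Agent.CAlgH3.isIntegrallyClosed_of_regular _

set_option maxHeartbeats 1600000 in
set_option synthInstance.maxHeartbeats 100000 in
/-- A Noetherian local ring with geometrically reduced formal fibres is Nagata. -/
theorem isNagata_of_geomReducedFormalFibres (A : Type u) [CommRing A] [IsNoetherianRing A] [IsLocalRing A]
    (hA : EGA4.HasGeomReducedFormalFibres A) : CAlg.IsNagata A := by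
  refine ⟨inferInstance, fun p _ => isN2_of p.ResidueField fun L _ _ _ _ _ => ?_⟩
  let k := p.ResidueField
  letI : Algebra A L := ((algebraMap k L).comp (algebraMap A k)).toAlgebra
  haveI : IsScalarTower A k L := .of_algebraMap_eq fun _ => rfl
  haveI : IsScalarTower A (A ⧸ p) L := .of_algebraMap_eq fun a => by
    show algebraMap k L (algebraMap A k a) = _
    rw [IsScalarTower.algebraMap_apply A (A ⧸ p) k, ← IsScalarTower.algebraMap_apply (A ⧸ p) k L]
  obtain ⟨D, hD, hDfrac⟩ := exists_finite_model (B := A ⧸ p) (K := k) (L := L)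
  haveI := hD
  haveI : Module.Finite A D := Module.Finite.trans (A ⧸ p) D
  haveI : IsNoetherianRing D := IsNoetherianRing.of_finite A D
  let Ah := EGA4.Cpl A
  haveI : IsNoetherianRing Ah := Groth.Agent.Matlis6.isNoetherianRing_adicCompletion _
  haveI : Module.FaithfullyFlat A Ah := Module.FaithfullyFlat.of_flat_of_isLocalHom
  have hNag : CAlg.IsNagata (D ⊗[A] Ah) := isNagata_of_ringEquiv
    (Algebra.TensorProduct.comm A Ah D).toRingEquiv
    (isNagata_of_finite (R := Ah) (R' := Ah ⊗[A] D) (isNagata_of_complete_local Ah))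
  haveI := hA p
  haveI : Algebra.IsAlgebraic k L := Algebra.IsAlgebraic.of_finite k L
  haveI : IsReduced (L ⊗[A] Ah) :=
    haveI : IsReduced (L ⊗[k] (k ⊗[A] Ah)) :=
      inferInstanceAs (IsReduced (L ⊗[k] EGA4.formalFibre A p))
    isReduced_of_injective (Algebra.TensorProduct.cancelBaseChange A k L L Ah).symm.toRingHom
      (AlgEquiv.injective _)
  haveI : IsReduced (D ⊗[A] Ah) := isReduced_of_injective
    (Algebra.TensorProduct.map (IsScalarTower.toAlgHom A D L) (AlgHom.id A Ah))
    (Module.Flat.rTensor_preserves_injective_linearMap (IsScalarTower.toAlgHom A D L).toLinearMap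
      fun a b hab => Subtype.ext hab)
  have hN1 : IsN1 D := isN1_of_faithfullyFlat (Ah := D ⊗[A] Ah) hNag
  exact fin_ic_of_finite_base (B := D) ((isN1_iff_finite L).mp hN1)

set_option maxHeartbeats 1600000 in
set_option synthInstance.maxHeartbeats 100000 in
/-- J-2 rings with Nagata local rings are universally Japanese. -/
theorem isUniversallyJapanese_of_isNagata_localization (A : Type u) [CommRing A] [IsNoetherianRing A]
    (h1 : ∀ (m : Ideal A) [m.IsMaximal], CAlg.IsNagata (Localization.AtPrime m))
    (h2 : EGA4.IsJ2 A) : CAlg.IsUniversallyJapanese A := by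
  have hN1 : ∀ (T : Type u) [CommRing T] [IsDomain T] [Algebra A T] [Algebra.FiniteType A T], IsN1 T := by
    intro T _ _ _ _
    haveI : IsNoetherianRing T := Algebra.FiniteType.isNoetherianRing A T
    have hopen := h2 T inferInstance
    obtain ⟨_, ⟨f, rfl⟩, hf, hfU⟩ :=
      PrimeSpectrum.isTopologicalBasis_basic_opens.exists_subset_of_mem_open (regLocus_generic T) hopen
    have hf0 : f ≠ 0 := fun h => hf (h ▸ Ideal.zero_mem _)
    haveI := isRegularRing_away T f fun q hq => hfU hq
    haveI : IsDomain (Localization.Away f) :=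
      IsLocalization.isDomain_localization (powers_le_nonZeroDivisors_of_noZeroDivisors hf0)
    refine isN1_of_exists_normal_localization hf0 (isIntegrallyClosed_of_isRegularRing _) fun m _ => ?_
    obtain ⟨n, hn, hmn⟩ := Ideal.exists_le_maximal (m.comap (algebraMap A T)) (Ideal.IsPrime.ne_top inferInstance)
    let An := Localization.AtPrime n
    let M := Algebra.algebraMapSubmonoid T n.primeCompl
    let Tn := Localization M
    haveI : Algebra.IsPushout A An T Tn := (Algebra.isPushout_of_isLocalization n.primeCompl An T Tn).symm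
    haveI : Algebra.FiniteType An Tn :=
      Algebra.FiniteType.equiv (inferInstance : Algebra.FiniteType An (An ⊗[A] T)) (Algebra.IsPushout.equiv A An T Tn)
    have hTn : CAlg.IsNagata Tn := isNagata_of_finiteType (h1 n) Tn
    have hle : M ≤ m.primeCompl := by
      rintro _ ⟨a, ha, rfl⟩ h
      exact ha (hmn h)
    have hM0 : M ≤ nonZeroDivisors T := hle.trans (Ideal.primeCompl_le_nonZeroDivisors m)
    haveI : IsDomain Tn := IsLocalization.isDomain_localization hM0
    haveI : IsDomain (Localization.AtPrime m) :=
      IsLocalization.isDomain_localization (Ideal.primeCompl_le_nonZeroDivisors m)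
    letI : Algebra Tn (Localization.AtPrime m) :=
      IsLocalization.localizationAlgebraOfSubmonoidLe Tn (Localization.AtPrime m) M m.primeCompl hle
    haveI := IsLocalization.localization_isScalarTower_of_submonoid_le Tn (Localization.AtPrime m) M m.primeCompl hle
    haveI := IsLocalization.isLocalization_of_submonoid_le Tn (Localization.AtPrime m) M m.primeCompl hle
    have h2' : IsN2 Tn := isN2_of_ringEquiv (RingEquiv.quotientBot Tn) (hTn.2 ⊥)
    have h3 : IsN2 (Localization.AtPrime m) := isN2_localization (m.primeCompl.map (algebraMap T Tn)) h2'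
    exact isN1_of_isN2 h3
  intro S _ _ _ hS
  haveI := hS
  haveI : IsNoetherianRing S := Algebra.FiniteType.isNoetherianRing A S
  refine isN2_of (FractionRing S) fun L _ _ _ _ _ => ?_
  obtain ⟨D, hD, hDfrac⟩ := exists_finite_model (B := S) (K := FractionRing S) (L := L)
  haveI := hD
  letI : Algebra A D := ((algebraMap S D).comp (algebraMap A S)).toAlgebra
  haveI : IsScalarTower A S D := .of_algebraMap_eq fun _ => rfl
  haveI : Algebra.FiniteType A D := Algebra.FiniteType.trans (S := S) inferInstance inferInstance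
  exact fin_ic_of_finite_base (B := D) ((isN1_iff_finite L).mp (hN1 D))

/-- Universally Japanese Noetherian rings are Nagata. -/
theorem isNagata_of_isUniversallyJapanese (A : Type u) [CommRing A] [IsNoetherianRing A]
    (h : CAlg.IsUniversallyJapanese A) : CAlg.IsNagata A :=
  ⟨inferInstance, fun p _ => h (A ⧸ p) inferInstance⟩

/-- A quasi-excellent ring has geometrically reduced formal fibres. -/
theorem geomReducedFormalFibres_of_isGRing (A : Type u) [CommRing A] (h : CAlg.IsGRing A) (m : Ideal A) [m.IsPrime] :
    EGA4.HasGeomReducedFormalFibres (Localization.AtPrime m) := fun p _ =>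
  isGeometricallyReduced_of_isGeometricallyRegular _ _ ((h.2 m).2 p).2

end Groth.Agent.CommAlg6
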