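import Groth.Agent.CommAlg6.CompletionQuot
import Groth.Agent.CommAlg6.FibreAt
import Groth.Agent.CommAlg6.CompletionEquidim
import Mathlib.RingTheory.Nilpotent.GeometricallyReduced

/-! Formal fibres of a quotient. -/

universe u

open IsLocalRing TensorProduct

namespace Groth.Agent.CommAlg6

section general

variable {A B A' B' : Type u} [CommRing A] [CommRing B] [CommRing A'] [CommRing B']
variable [Algebra A B] [Algebra A A'] [Algebra B B'] [Algebra A B'] [IsScalarTower A B B']

/-- Fibres of a base change along a surjection. -/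
theorem fiber_of_surjective (hπ : Function.Surjective (algebraMap A B)) (φ : A' →ₐ[A] B')
    (hφ : Function.Surjective φ)
    (hker : RingHom.ker φ ≤ (RingHom.ker (algebraMap A B)).map (algebraMap A A'))
    (p : Ideal B) [p.IsPrime] :
    Nonempty (p.Fiber B' ≃ₐ[p.ResidueField] p.ResidueField ⊗[A] A') := by
  let k := p.ResidueField
  let T := k ⊗[A] A'
  let inc : A' →ₐ[A] T := Algebra.TensorProduct.includeRight
  have hkill : RingHom.ker φ ≤ RingHom.ker inc := by
    refine hker.trans (Ideal.map_le_iff_le_comap.2 fun a ha => ?_)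
    rw [Ideal.mem_comap, RingHom.mem_ker, AlgHom.commutes,
      IsScalarTower.algebraMap_apply A k T, IsScalarTower.algebraMap_apply A B k,
      RingHom.mem_ker.1 ha, map_zero, map_zero]
  let ψ₀ : B' →+* T :=
    (RingHom.liftOfSurjective φ.toRingHom hφ ⟨inc.toRingHom, hkill⟩)
  have hψ₀ : ∀ z : A', ψ₀ (φ z) = inc z := fun z =>
    RingHom.liftOfRightInverse_comp_apply _ _ _ ⟨inc.toRingHom, hkill⟩ z
  let ψ : B' →ₐ[B] T :=
    { ψ₀ with
      commutes' := fun b => by
        obtain ⟨a, rfl⟩ := hπ b
        change ψ₀ _ = _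
        rw [← IsScalarTower.algebraMap_apply A B B', ← φ.commutes, hψ₀, AlgHom.commutes,
          ← IsScalarTower.algebraMap_apply A B T] }
  let F : T →ₐ[k] k ⊗[B] B' :=
    Algebra.TensorProduct.lift Algebra.TensorProduct.includeLeft
      ((Algebra.TensorProduct.includeRight.restrictScalars A).comp φ)
      (fun _ _ => Commute.all _ _)
  let G : k ⊗[B] B' →ₐ[k] T :=
    Algebra.TensorProduct.lift Algebra.TensorProduct.includeLeft ψ (fun _ _ => Commute.all _ _)
  have hF : ∀ x z, F (x ⊗ₜ[A] z) = x ⊗ₜ[B] φ z := fun x z => by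
    change Algebra.TensorProduct.lift _ _ _ (x ⊗ₜ[A] z) = _
    rw [Algebra.TensorProduct.lift_tmul]
    simp
  have hG : ∀ x w, G (x ⊗ₜ[B] w) = (x ⊗ₜ[A] (1 : A')) * ψ₀ w := fun x w => rfl
  refine ⟨AlgEquiv.ofAlgHom G F ?_ ?_⟩
  · refine Algebra.TensorProduct.ext (AlgHom.ext fun x => ?_) (AlgHom.ext fun z => ?_)
    · change G (F (x ⊗ₜ[A] (1 : A'))) = x ⊗ₜ[A] (1 : A')
      rw [hF, hG, map_one φ, map_one ψ₀, mul_one]
    · change G (F ((1 : k) ⊗ₜ[A] z)) = (1 : k) ⊗ₜ[A] z
      rw [hF, hG, hψ₀]
      simp [inc, T, k, Algebra.TensorProduct.tmul_mul_tmul]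
  · refine Algebra.TensorProduct.ext (AlgHom.ext fun x => ?_) (AlgHom.ext fun w => ?_)
    · change F (G (x ⊗ₜ[B] (1 : B'))) = x ⊗ₜ[B] (1 : B')
      rw [hG, map_one ψ₀, mul_one, hF, map_one φ]
    · obtain ⟨z, rfl⟩ := hφ w
      change F (G ((1 : k) ⊗ₜ[B] φ z)) = (1 : k) ⊗ₜ[B] φ z
      rw [hG, hψ₀]
      rw [map_mul, hF, map_one φ]
      change _ * F ((1 : k) ⊗ₜ[A] z) = _
      rw [hF, Algebra.TensorProduct.tmul_mul_tmul, one_mul, one_mul]

end general

section formal

variable (A : Type u) {B : Type u} [CommRing A] [CommRing B] [IsLocalRing A] [IsLocalRing B]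
variable [IsNoetherianRing A] [IsNoetherianRing B] [Algebra A B]

theorem formalFibre_of_surjective (hπ : Function.Surjective (algebraMap A B)) (p : Ideal B)
    [p.IsPrime] :
    Nonempty (EGA4.formalFibre B p ≃ₐ[p.ResidueField] p.ResidueField ⊗[A] EGA4.Cpl A) := by
  obtain ⟨e, he⟩ := completion_quotient_algEquiv (algebraMap A B) hπ
  let φ : EGA4.Cpl A →ₐ[A] EGA4.Cpl B :=
    { e.toRingHom.comp (Ideal.Quotient.mk _) with
      commutes' := fun a => by
        change e (Ideal.Quotient.mk _ (algebraMap A (EGA4.Cpl A) a)) = _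
        rw [he, ← IsScalarTower.algebraMap_apply A B (EGA4.Cpl B)] }
  refine fiber_of_surjective hπ φ (e.surjective.comp Ideal.Quotient.mk_surjective) ?_ p
  intro z hz
  rw [RingHom.mem_ker] at hz
  change e (Ideal.Quotient.mk _ z) = 0 at hz
  rwa [EmbeddingLike.map_eq_zero_iff, Ideal.Quotient.eq_zero_iff_mem] at hz

theorem formalFibre_ringEquiv (hπ : Function.Surjective (algebraMap A B)) (p : Ideal B)
    [p.IsPrime] :
    Nonempty (EGA4.formalFibre A (p.comap (algebraMap A B)) ≃+* EGA4.formalFibre B p) := by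
  obtain ⟨e⟩ := formalFibre_of_surjective A hπ p
  let g : (p.comap (algebraMap A B)).ResidueField →ₐ[A] p.ResidueField :=
    Ideal.ResidueField.mapₐ _ p (Algebra.ofId A B) rfl
  have hg : Function.Bijective g :=
    (RingHom.surjectiveOnStalks_of_surjective hπ).residueFieldMap_bijective _ p rfl
  exact ⟨(Algebra.TensorProduct.congr (AlgEquiv.ofBijective g hg)
    (AlgEquiv.refl (R := A) (A₁ := EGA4.Cpl A))).toRingEquiv.trans e.toRingEquiv.symm⟩

/-- Base changes of the formal fibre at `p` are base changes of the formal fibre at the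
contraction. -/
theorem formalFibre_baseChange (hπ : Function.Surjective (algebraMap A B)) (p : Ideal B)
    [p.IsPrime] (k' : Type u) [Field k'] [Algebra p.ResidueField k'] :
    ∃ (_ : Algebra (p.comap (algebraMap A B)).ResidueField k'),
      (Module.Finite p.ResidueField k' →
        Module.Finite (p.comap (algebraMap A B)).ResidueField k') ∧
      (Algebra.IsAlgebraic p.ResidueField k' →
        Algebra.IsAlgebraic (p.comap (algebraMap A B)).ResidueField k') ∧
      Nonempty ((k' ⊗[p.ResidueField] EGA4.formalFibre B p) ≃+*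
        (k' ⊗[(p.comap (algebraMap A B)).ResidueField]
          EGA4.formalFibre A (p.comap (algebraMap A B)))) := by
  let P := p.comap (algebraMap A B)
  let kP := P.ResidueField
  let k := p.ResidueField
  let g : kP →ₐ[A] k := Ideal.ResidueField.mapₐ P p (Algebra.ofId A B) rfl
  have hg : Function.Surjective g :=
    ((RingHom.surjectiveOnStalks_of_surjective hπ).residueFieldMap_bijective P p rfl).2
  letI : Algebra kP k := g.toRingHom.toAlgebra
  letI : Algebra A k' := Algebra.compHom k' (algebraMap A k)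
  haveI : IsScalarTower A k k' := .of_algebraMap_eq fun _ => rfl
  letI : Algebra kP k' := Algebra.compHom k' (algebraMap kP k)
  haveI : IsScalarTower kP k k' := .of_algebraMap_eq fun _ => rfl
  haveI : IsScalarTower A kP k' := .of_algebraMap_eq fun a => by
    change algebraMap k k' (algebraMap A k a) = algebraMap k k' (g (algebraMap A kP a))
    rw [g.commutes]
  haveI : Module.Finite kP k := Module.Finite.of_surjective (Algebra.linearMap kP k) hg
  refine ⟨inferInstance, fun h => Module.Finite.trans k k', fun h => ?_, ?_⟩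
  · haveI : Algebra.IsAlgebraic kP k := Algebra.IsAlgebraic.of_finite kP k
    exact Algebra.IsAlgebraic.trans kP k k'
  · obtain ⟨e⟩ := formalFibre_of_surjective A hπ p
    exact ⟨(((Algebra.TensorProduct.congr (AlgEquiv.refl (R := k) (A₁ := k')) e).toRingEquiv).trans
      (Algebra.TensorProduct.cancelBaseChange A k k' k' (EGA4.Cpl A)).toRingEquiv).trans
      (Algebra.TensorProduct.cancelBaseChange A kP k' k' (EGA4.Cpl A)).toRingEquiv.symm⟩

end formal

end Groth.Agent.CommAlg6
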