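import Groth.Agent.CommAlg6.CMModuleFibres
import Groth.Agent.CommAlg6.CompletionMap
import Groth.Agent.CommAlg6.FormalFibreQuot
import Groth.Agent.CommAlg6.FieldTensor
import Groth.Agent.CAlgH.CompleteLocal
import Groth.Agent.CAlgH3.CMPolynomial
import Mathlib.RingTheory.RegularLocalRing.Polynomial
import Mathlib.RingTheory.EssentialFiniteness
import Mathlib.RingTheory.Localization.BaseChange

/-! Cohen–Macaulay formal fibres and essentially finite type algebras. -/

universe u

open IsLocalRing TensorProduct

namespace Groth.Agent.CommAlg6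

/-- Cohen–Macaulay formal fibres descend along flat local maps with Cohen–Macaulay fibres. -/
theorem hasCMFormalFibres_descend (A A' : Type u) [CommRing A] [CommRing A'] [IsNoetherianRing A]
    [IsNoetherianRing A'] [IsLocalRing A] [IsLocalRing A'] [Algebra A A']
    [IsLocalHom (algebraMap A A')] [Module.Flat A A']
    (hf : ∀ (p : Ideal A) [p.IsPrime], _root_.LocCoh.IsCohenMacaulayRing (p.Fiber A'))
    (hA' : EGA4.HasCMFormalFibres A') : EGA4.HasCMFormalFibres A := by
  obtain ⟨_, hT, _⟩ := exists_algebra_completion A A'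
  haveI : Module.Flat A' (EGA4.Cpl A') := AdicCompletion.flat_of_isNoetherian _
  intro p _
  haveI : IsNoetherianRing (EGA4.formalFibre A p) := isNoetherianRing_fiber p
  rw [isCMRing_iff_forall_hasSk]
  intro n
  haveI : IsNoetherianRing (p.Fiber A') := isNoetherianRing_fiber p
  have hp := isResFinite_residueField p
  refine hasSk_fibre_descend (C := EGA4.Cpl A') n hp ?_
  refine hasSk_fibre_comp (B := A') n hp (isCMRing_iff_forall_hasSk.1 (hf p) n) fun L _ _ hL => ?_
  haveI := isNoetherianRing_resFinite (B := EGA4.Cpl A') hL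
  obtain ⟨q, _, _, _, _⟩ := hL
  haveI : IsNoetherianRing (EGA4.formalFibre A' q) := isNoetherianRing_fiber q
  let e := (Algebra.TensorProduct.cancelBaseChange A' q.ResidueField L L (EGA4.Cpl A')).toRingEquiv
  haveI := isNoetherianRing_of_ringEquiv _ e.symm
  exact hasSk_of_ringEquiv e (hasSk_field_of_hasSk q.ResidueField L (EGA4.formalFibre A' q) n
    (isCMRing_iff_forall_hasSk.1 (hA' q) n))

/-- A local algebra essentially of finite type is a quotient of a localised polynomial ring. -/
theorem exists_local_presentation (A B : Type u) [CommRing A] [CommRing B] [IsLocalRing B]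
    [Algebra A B] [Algebra.EssFiniteType A B] :
    ∃ (n : ℕ) (Q : Ideal (MvPolynomial (Fin n) A)) (_ : Q.IsPrime)
      (g : Localization.AtPrime Q →+* B), Function.Surjective g := by
  let S := Algebra.EssFiniteType.subalgebra A B
  obtain ⟨n, π, hπ⟩ := Algebra.FiniteType.iff_quotient_mvPolynomial''.1
    (inferInstance : Algebra.FiniteType A S)
  let h : MvPolynomial (Fin n) A →+* B := (algebraMap S B).comp π.toRingHom
  let Q := (maximalIdeal B).comap h
  have hu : ∀ y : Q.primeCompl, IsUnit (h y) := fun y => notMem_maximalIdeal.1 y.2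
  refine ⟨n, Q, inferInstance, IsLocalization.lift hu, fun b => ?_⟩
  obtain ⟨⟨s, t⟩, hst⟩ := IsLocalization.surj (Algebra.EssFiniteType.submonoid A B) b
  obtain ⟨s', hs'⟩ := hπ s
  obtain ⟨t', ht'⟩ := hπ t
  have htu : IsUnit (algebraMap S B t) := IsLocalization.map_units B t
  have hQ : t' ∈ Q.primeCompl := fun hmem => by
    have : algebraMap S B t ∈ maximalIdeal B := by rw [← ht']; exact hmem
    exact notMem_maximalIdeal.2 htu this
  refine ⟨IsLocalization.mk' _ s' ⟨t', hQ⟩, ?_⟩
  rw [IsLocalization.lift_mk'_spec]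
  show algebraMap S B (π s') = algebraMap S B (π t') * b
  rw [hs', ht', ← hst, mul_comm]

/-- A local ring of a finite type algebra over a complete local ring has CM formal fibres. -/
theorem hasCMFormalFibres_localization_complete (R : Type u) [CommRing R] [IsLocalRing R]
    [IsNoetherianRing R] [IsAdicComplete (maximalIdeal R) R] {n : ℕ}
    (Q : Ideal (MvPolynomial (Fin n) R)) [Q.IsPrime] :
    EGA4.HasCMFormalFibres (Localization.AtPrime Q) := by
  obtain ⟨Λ, _, φ, hreg, hres, -⟩ := CAlgH.exists_coefficient_ring R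
  obtain ⟨m, a, ha⟩ := Submodule.fg_iff_exists_fin_generating_family.mp
    (IsNoetherian.noetherian (maximalIdeal R))
  have hI : ∀ i, a i ∈ maximalIdeal R := fun i => ha ▸ Submodule.subset_span ⟨i, rfl⟩
  obtain ⟨f, hfC, hfX⟩ := CAlgH.exists_mvPowerSeries_eval φ (maximalIdeal R) a hI
  have hf : Function.Surjective f :=
    CAlgH.surjective_mvPowerSeries_hom f (maximalIdeal R) (fun i => (hfX i).symm ▸ hI i) (by
      rw [show (fun i => f (MvPowerSeries.X i)) = a from funext hfX, hfC,
        show Ideal.span (Set.range a) = maximalIdeal R from ha]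
      exact hres)
  let P0 := MvPowerSeries (Fin m) Λ
  haveI := (CAlgH.isRegularLocalRing_mvPowerSeries Λ m).1
  haveI : IsRegularRing P0 := CAlgH3.isRegularRing_of_isRegularLocalRing
  let π : MvPolynomial (Fin n) P0 →+* MvPolynomial (Fin n) R := MvPolynomial.map f
  have hπ : Function.Surjective π := MvPolynomial.map_surjective f hf
  let Q' := Q.comap π
  let g : Localization.AtPrime Q' →+* Localization.AtPrime Q := Localization.localRingHom Q' Q π rfl
  have hg : Function.Surjective g := RingHom.surjective_localRingHom_of_surjective π hπ Q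
  haveI := CAlgH3.isCohenMacaulayRing_of_isRegularRing (R := MvPolynomial (Fin n) P0)
  have hCM : _root_.LocCoh.IsCohenMacaulayModule (Localization.AtPrime Q') (Localization.AtPrime Q') :=
    (CAlgH3.isCohenMacaulayLocalRing_iff _).1
      (_root_.LocCoh.IsCohenMacaulayRing.isCohenMacaulayLocalRing_localization Q')
  have h := hasCMFormalFibres_of_cm_module (Localization.AtPrime Q') (Localization.AtPrime Q') hCM
    (Set.eq_univ_of_forall fun p => by rw [Module.mem_support_iff]; infer_instance)
  letI : Algebra (Localization.AtPrime Q') (Localization.AtPrime Q) := g.toAlgebra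
  intro p _
  obtain ⟨e⟩ := formalFibre_ringEquiv (Localization.AtPrime Q') (B := Localization.AtPrime Q) hg p
  haveI := h (p.comap (algebraMap (Localization.AtPrime Q') (Localization.AtPrime Q)))
  exact CAlgH3.isCohenMacaulayRing_of_ringEquiv e

/-- The local rings of `A[X]` have CM formal fibres when `A` has. -/
theorem hasCMFormalFibres_localization_mvPolynomial (A : Type u) [CommRing A] [IsLocalRing A]
    [IsNoetherianRing A] (hA : EGA4.HasCMFormalFibres A) {n : ℕ}
    (Q : Ideal (MvPolynomial (Fin n) A)) [Q.IsPrime] :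
    EGA4.HasCMFormalFibres (Localization.AtPrime Q) := by
  let Ah := EGA4.Cpl A
  haveI : Module.Flat A Ah := AdicCompletion.flat_of_isNoetherian _
  haveI : Module.FaithfullyFlat A Ah :=
    haveI := isLocalHom_completion A
    Module.FaithfullyFlat.of_flat_of_isLocalHom
  let S := MvPolynomial (Fin n) A
  let S' := MvPolynomial (Fin n) Ah
  letI : Algebra S S' := MvPolynomial.algebraMvPolynomial
  haveI : IsScalarTower A S S' := inferInstance
  haveI hpush : Algebra.IsPushout A S Ah S' := inferInstance
  let e : S ⊗[A] Ah ≃ₐ[S] S' := Algebra.IsPushout.equiv A S Ah S'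
  haveI : Module.Flat S S' := Module.Flat.of_linearEquiv e.toLinearEquiv.symm
  haveI : Module.FaithfullyFlat S S' := Module.FaithfullyFlat.of_linearEquiv S (S ⊗[A] Ah) e.toLinearEquiv.symm
  obtain ⟨Q', hQ'⟩ := PrimeSpectrum.comap_surjective_of_faithfullyFlat (A := S) (B := S') ⟨Q, ‹_›⟩
  have hQ'' : Q = Q'.asIdeal.comap (algebraMap S S') := (congrArg PrimeSpectrum.asIdeal hQ').symm
  haveI : Q'.asIdeal.LiesOver Q := ⟨hQ''⟩
  letI := Localization.AtPrime.algebraOfLiesOver Q Q'.asIdeal
  let R := Localization.AtPrime Q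
  let R' := Localization.AtPrime Q'.asIdeal
  haveI : IsLocalHom (algebraMap R R') :=
    Localization.isLocalHom_localRingHom Q Q'.asIdeal (algebraMap S S') Ideal.LiesOver.over
  haveI : Module.Flat R R' := inferInstance
  refine hasCMFormalFibres_descend R R' (fun P _ => ?_) (hasCMFormalFibres_localization_complete Ah Q'.asIdeal)
  let K := P.ResidueField
  let p : Ideal A := RingHom.ker (algebraMap A K)
  haveI : p.IsPrime := RingHom.ker_isPrime _
  letI : Algebra p.ResidueField K :=
    (Ideal.ResidueField.lift p (algebraMap A K) le_rfl fun x hx => isUnit_iff_ne_zero.mpr hx).toAlgebra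
  haveI : IsScalarTower A p.ResidueField K :=
    IsScalarTower.of_algebraMap_eq fun x => (Ideal.ResidueField.lift_algebraMap p _ _ _ x).symm
  haveI : Algebra.EssFiniteType S R := Algebra.EssFiniteType.of_isLocalization R Q.primeCompl
  haveI : Algebra.EssFiniteType A R := Algebra.EssFiniteType.comp A S R
  haveI : Algebra.EssFiniteType A K := Algebra.EssFiniteType.comp A R K
  haveI : Algebra.EssFiniteType p.ResidueField K := Algebra.EssFiniteType.of_comp A _ _
  haveI : IsNoetherianRing (EGA4.formalFibre A p) := isNoetherianRing_fiber p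
  haveI := isNoetherianRing_field_tensor p.ResidueField K (EGA4.formalFibre A p)
  haveI : _root_.LocCoh.IsCohenMacaulayRing (K ⊗[p.ResidueField] EGA4.formalFibre A p) :=
    isCMRing_iff_forall_hasSk.2 fun j =>
      hasSk_field_of_hasSk p.ResidueField K _ j (isCMRing_iff_forall_hasSk.1 (hA p) j)
  let e' : K ⊗[p.ResidueField] EGA4.formalFibre A p ≃+* K ⊗[S] S' :=
    ((Algebra.TensorProduct.cancelBaseChange A p.ResidueField K K Ah).toRingEquiv.trans
      (Algebra.TensorProduct.cancelBaseChange A S K K Ah).toRingEquiv.symm).trans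
      (Algebra.TensorProduct.congr (AlgEquiv.refl (R := S) (A₁ := K)) e).toRingEquiv
  haveI : _root_.LocCoh.IsCohenMacaulayRing (K ⊗[S] S') := CAlgH3.isCohenMacaulayRing_of_ringEquiv (R := K ⊗[p.ResidueField] EGA4.formalFibre A p) e'
  letI : Algebra (K ⊗[S] S') (K ⊗[S] R') :=
    (Algebra.TensorProduct.map (AlgHom.id K K) (IsScalarTower.toAlgHom S S' R')).toAlgebra
  haveI : IsScalarTower K (K ⊗[S] S') (K ⊗[S] R') := by
    refine @IsScalarTower.of_algebraMap_eq K (K ⊗[S] S') (K ⊗[S] R') _ _ _ _ _ _ fun x => ?_
    show x ⊗ₜ[S] (1 : R') =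
      Algebra.TensorProduct.map (AlgHom.id K K) (IsScalarTower.toAlgHom S S' R') (x ⊗ₜ[S] (1 : S'))
    simp
  haveI := IsLocalization.tensorProduct_tensorProduct_right S K Q'.asIdeal.primeCompl R'
    (RingHom.ext fun x => by simp [RingHom.algebraMap_toAlgebra])
  haveI : _root_.LocCoh.IsCohenMacaulayRing (K ⊗[S] R') :=
    CAlgH3.isCohenMacaulayRing_of_isLocalization
      (Q'.asIdeal.primeCompl.map (Algebra.TensorProduct.includeRight (R := S) (A := K)))
  exact CAlgH3.isCohenMacaulayRing_of_ringEquiv (R := K ⊗[S] R')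
    (IsLocalization.algebraTensorEquiv Q.primeCompl R K R').toRingEquiv.symm

end Groth.Agent.CommAlg6
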