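import Groth.Agent.CommAlg6.SerreOpen
import Groth.Agent.CommAlg6.CMFormalEFT
import Mathlib.RingTheory.Spectrum.Prime.Topology

/-! Openness of the Cohen–Macaulay locus for rings with Cohen–Macaulay formal fibres. -/

set_option linter.style.haveILetI false

universe u

open IsLocalRing TensorProduct

namespace Groth.Agent.CommAlg6

/-- A complete Noetherian local ring is a quotient of a regular ring. -/
theorem exists_regular_surjection (R : Type u) [CommRing R] [IsLocalRing R] [IsNoetherianRing R]
    [IsAdicComplete (maximalIdeal R) R] :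
    ∃ (P : Type u) (_ : CommRing P) (_ : IsRegularRing P) (f : P →+* R), Function.Surjective f := by
  obtain ⟨Λ, _, φ, hreg, hres, -⟩ := CAlgH.exists_coefficient_ring R
  obtain ⟨m, a, ha⟩ := Submodule.fg_iff_exists_fin_generating_family.mp
    (IsNoetherian.noetherian (maximalIdeal R))
  have hI : ∀ i, a i ∈ maximalIdeal R := fun i => ha ▸ Submodule.subset_span ⟨i, rfl⟩
  obtain ⟨f, hfC, hfX⟩ := CAlgH.exists_mvPowerSeries_eval φ (maximalIdeal R) a hI
  have hf : Function.Surjective f :=
    CAlgH.surjective_mvPowerSeries_hom f (maximalIdeal R) (fun i => (hfX i).symm ▸ hI i) (by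
      rw [show (fun i => f (MvPowerSeries.X i)) = a from funext hfX, hfC,
        show Ideal.span (Set.range a) = maximalIdeal R from ha]
      exact hres)
  haveI := (CAlgH.isRegularLocalRing_mvPowerSeries Λ m).1
  exact ⟨MvPowerSeries (Fin m) Λ, inferInstance, CAlgH3.isRegularRing_of_isRegularLocalRing, f, hf⟩

theorem isCMLocalRing_iff_codepth {R : Type u} [CommRing R] [IsNoetherianRing R] [IsLocalRing R] :
    _root_.LocCoh.IsCohenMacaulayLocalRing R ↔ ∃ d δ : ℕ, ringKrullDim R = ((d : ℕ∞) : WithBot ℕ∞) ∧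
      _root_.LocCoh.depth R R = δ ∧ d = δ := by
  obtain ⟨d, hd⟩ := exists_nat_ringKrullDim_eq R
  obtain ⟨δ, hδ⟩ := CAlgH3.exists_depth_eq_natCast (R := R) (M := R)
  rw [CAlgH3.isCohenMacaulayLocalRing_iff_depth, hd, hδ, WithBot.coe_inj, Nat.cast_inj]
  refine ⟨fun h => ⟨d, δ, rfl, rfl, h⟩, ?_⟩
  rintro ⟨d', δ', h1, h2, h3⟩
  rw [WithBot.coe_inj, Nat.cast_inj] at h1
  rw [Nat.cast_inj] at h2
  omega

/-- Along a flat map with CM fibres the CM loci correspond. -/
theorem isCMLocalRing_comap_iff {A B : Type u} [CommRing A] [CommRing B] [IsNoetherianRing A]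
    [IsNoetherianRing B] [Algebra A B] [Module.Flat A B]
    (h : ∀ (p : Ideal A) [p.IsPrime], _root_.LocCoh.IsCohenMacaulayRing (p.Fiber B))
    (q : Ideal B) [q.IsPrime] :
    _root_.LocCoh.IsCohenMacaulayLocalRing (Localization.AtPrime (q.comap (algebraMap A B))) ↔
      _root_.LocCoh.IsCohenMacaulayLocalRing (Localization.AtPrime q) := by
  have hc := codepth_eq_of_cm_fibres h q
  let Ap := Localization.AtPrime (q.comap (algebraMap A B))
  let Bq := Localization.AtPrime q
  obtain ⟨d, hd⟩ := exists_nat_ringKrullDim_eq Ap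
  obtain ⟨δ, hδ⟩ := CAlgH3.exists_depth_eq_natCast (R := Ap) (M := Ap)
  obtain ⟨d', hd'⟩ := exists_nat_ringKrullDim_eq Bq
  obtain ⟨δ', hδ'⟩ := CAlgH3.exists_depth_eq_natCast (R := Bq) (M := Bq)
  rw [hd, hδ, hd', hδ', ← WithBot.coe_add, ← WithBot.coe_add, WithBot.coe_inj] at hc
  have hc' : d + δ' = d' + δ := by exact_mod_cast hc
  rw [CAlgH3.isCohenMacaulayLocalRing_iff_depth, CAlgH3.isCohenMacaulayLocalRing_iff_depth, hd, hδ,
    hd', hδ', WithBot.coe_inj, WithBot.coe_inj, Nat.cast_inj, Nat.cast_inj]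
  omega

/-- The CM locus of a quotient of a regular ring is open. -/
theorem isOpen_cmLocus_quotient {R A : Type u} [CommRing R] [CommRing A] [IsRegularRing R]
    [Algebra R A] (hs : Function.Surjective (algebraMap R A)) :
    IsOpen {p : PrimeSpectrum A |
      _root_.LocCoh.IsCohenMacaulayLocalRing (Localization.AtPrime p.asIdeal)} := by
  haveI : IsNoetherianRing A := isNoetherianRing_of_surjective R A (algebraMap R A) hs
  convert isOpen_codepth_le_quotient hs A 0 using 1
  ext p
  have e := CAlgH3.localizedModuleSelf p.asIdeal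
  rw [Set.mem_ofPred_eq, Set.mem_ofPred_eq, Module.supportDim_eq_of_equiv e, CAlgH3.depth_congr e,
    Module.supportDim_self_eq_ringKrullDim, CAlgH3.isCohenMacaulayLocalRing_iff_depth,
    Nat.cast_zero, add_zero]
  refine ⟨fun h => h.le, fun h => le_antisymm h ?_⟩
  exact CAlgH3.depth_le_supportDim.trans (Module.supportDim_le_ringKrullDim _ _)

/-- The CM locus of a local ring with CM formal fibres is open. -/
theorem isOpen_cmLocus_of_hasCMFormalFibres (A : Type u) [CommRing A] [IsNoetherianRing A]
    [IsLocalRing A] (hA : EGA4.HasCMFormalFibres A) :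
    IsOpen {p : PrimeSpectrum A |
      _root_.LocCoh.IsCohenMacaulayLocalRing (Localization.AtPrime p.asIdeal)} := by
  let Ah := EGA4.Cpl A
  haveI : Module.Flat A Ah := AdicCompletion.flat_of_isNoetherian _
  haveI : Module.FaithfullyFlat A Ah :=
    haveI := isLocalHom_completion A
    Module.FaithfullyFlat.of_flat_of_isLocalHom
  obtain ⟨P, _, _, f, hf⟩ := exists_regular_surjection Ah
  letI : Algebra P Ah := f.toAlgebra
  have hopen := isOpen_cmLocus_quotient (R := P) (A := Ah) hf
  refine ((PrimeSpectrum.isQuotientMap_of_generalizingMap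
    (PrimeSpectrum.comap_surjective_of_faithfullyFlat (A := A) (B := Ah))
    (Algebra.HasGoingDown.iff_generalizingMap_primeSpectrumComap.mp inferInstance)).isOpen_preimage).1 ?_
  convert hopen using 1
  ext q
  exact isCMLocalRing_comap_iff (fun p _ => hA p) q.asIdeal

end Groth.Agent.CommAlg6
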