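import Groth.Agent.CAlgH3.Serre
import Groth.Agent.CommAlg6.CatenaryHeight
import Mathlib.RingTheory.KrullDimension.Regular

/-! Local rings of `R/(t)` for a regular element `t`; associated primes and hyperplane sections. -/

universe u

namespace Groth.Agent.CommAlg6

open IsLocalRing

variable {R : Type u} [CommRing R]

theorem localization_quotient_ringEquiv (I : Ideal R) (q : Ideal R) [q.IsPrime] (hI : I ≤ q)
    [(q.map (Ideal.Quotient.mk I)).IsPrime] :
    Nonempty (Localization.AtPrime (q.map (Ideal.Quotient.mk I)) ≃+*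
      Localization.AtPrime q ⧸ I.map (algebraMap R (Localization.AtPrime q))) := by
  have e : Algebra.algebraMapSubmonoid (R ⧸ I) q.primeCompl =
      (q.map (Ideal.Quotient.mk I)).primeCompl := by
    ext x
    constructor
    · rintro ⟨y, hy, rfl⟩ hx
      exact hy ((LocCoh.comap_map_mk hI).le hx)
    · intro hx
      obtain ⟨y, rfl⟩ := Ideal.Quotient.mk_surjective x
      exact ⟨y, fun hy => hx (Ideal.mem_map_of_mem _ hy), rfl⟩
  have : IsLocalization (q.map (Ideal.Quotient.mk I)).primeCompl
      (Localization.AtPrime q ⧸ I.map (algebraMap R (Localization.AtPrime q))) := by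
    rw [← e]; infer_instance
  exact ⟨(IsLocalization.algEquiv (q.map (Ideal.Quotient.mk I)).primeCompl _ _).toRingEquiv⟩

theorem isSMulRegular_localization_self [IsNoetherianRing R] (q : Ideal R) [q.IsPrime] {t : R}
    (hreg : t ∈ nonZeroDivisors R) :
    IsSMulRegular (Localization.AtPrime q) (algebraMap R (Localization.AtPrime q) t) := by
  intro a b hab
  have hreg' : algebraMap R (Localization.AtPrime q) t ∈ nonZeroDivisors (Localization.AtPrime q) :=
    IsLocalization.map_nonZeroDivisors_le q.primeCompl _ ⟨t, hreg, rfl⟩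
  exact (mul_cancel_left_mem_nonZeroDivisors hreg').1 hab

/-- Dimension and depth drop by one in the local rings of `R/(t)`. -/
theorem local_quotient_span [IsNoetherianRing R] (q : Ideal R) [q.IsPrime] {t : R} (htq : t ∈ q)
    (hreg : t ∈ nonZeroDivisors R) [(q.map (Ideal.Quotient.mk (Ideal.span {t}))).IsPrime] :
    ringKrullDim (Localization.AtPrime (q.map (Ideal.Quotient.mk (Ideal.span {t})))) + 1 =
        ringKrullDim (Localization.AtPrime q) ∧
      _root_.LocCoh.depth (Localization.AtPrime (q.map (Ideal.Quotient.mk (Ideal.span {t}))))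
          (Localization.AtPrime (q.map (Ideal.Quotient.mk (Ideal.span {t})))) + 1 =
        _root_.LocCoh.depth (Localization.AtPrime q) (Localization.AtPrime q) ∧
      (IsRegularLocalRing (Localization.AtPrime (q.map (Ideal.Quotient.mk (Ideal.span {t})))) →
        IsRegularLocalRing (Localization.AtPrime q)) := by
  obtain ⟨e⟩ := localization_quotient_ringEquiv (Ideal.span {t}) q
    ((Ideal.span_singleton_le_iff_mem _).2 htq)
  let S := Localization.AtPrime q
  let t' := algebraMap R S t
  have ht' : t' ∈ maximalIdeal S := by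
    rw [← Localization.AtPrime.map_eq_maximalIdeal]
    exact Ideal.mem_map_of_mem _ htq
  have hr : IsSMulRegular S t' := isSMulRegular_localization_self q hreg
  have hspan : (Ideal.span {t}).map (algebraMap R S) = Ideal.span {t'} := by
    rw [Ideal.map_span, Set.image_singleton]
  let e' : Localization.AtPrime (q.map (Ideal.Quotient.mk (Ideal.span {t}))) ≃+*
      S ⧸ Ideal.span {t'} := e.trans (Ideal.quotientEquiv _ _ (RingEquiv.refl S)
        (by rw [hspan]; exact (Ideal.map_id _).symm))
  haveI : IsLocalRing (S ⧸ Ideal.span {t'}) := e'.isLocalRing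
  refine ⟨?_, ?_, fun h => ?_⟩
  · rw [ringKrullDim_eq_of_ringEquiv e',
      ringKrullDim_quotient_span_singleton_succ_eq_ringKrullDim hr ht']
  · rw [CAlgH3.depth_ringEquiv e', CAlgH3.depth_quotient_ring,
      ← CAlgH3.depth_congr (CAlgH3.quotSMulTopSelf t'), CAlgH3.depth_quotSMulTop_add_one ht' hr]
  · haveI := h
    haveI : IsRegularLocalRing (S ⧸ Ideal.span {t'}) := IsRegularLocalRing.of_ringEquiv e'
    exact CAlgH3.isRegularLocalRing_of_quotient ht' hr

/-- A prime `q` minimal over `p + (t)`, with `t ∉ p`, has height one over `p`. -/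
theorem exists_hq_eq_one [IsNoetherianRing R] [IsLocalRing R] (p : Ideal R) [p.IsPrime] {t : R}
    (ht : t ∈ maximalIdeal R) (htp : t ∉ p) :
    ∃ q : Ideal R, q.IsPrime ∧ p < q ∧ t ∈ q ∧ LocCoh.hq p q = 1 := by
  have hle : p ⊔ Ideal.span {t} ≤ maximalIdeal R :=
    sup_le (le_maximalIdeal (Ideal.IsPrime.ne_top ‹_›)) ((Ideal.span_singleton_le_iff_mem _).2 ht)
  obtain ⟨q, hq, hqm⟩ := Ideal.exists_minimalPrimes_le hle
  haveI := hq.1.1
  have hpq : p ≤ q := le_sup_left.trans hq.1.2
  have htq : t ∈ q := hq.1.2 (Ideal.mem_sup_right (Ideal.mem_span_singleton_self t))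
  have hlt : p < q := lt_of_le_of_ne hpq fun e => htp (e ▸ htq)
  refine ⟨q, hq.1.1, hlt, htq, le_antisymm ?_ (LocCoh.one_le_map_height_of_not_le hlt)⟩
  exact Ideal.map_height_le_one_of_mem_minimalPrimes hq

/-- If `t` is regular and `P` is an associated prime of `R`, then `P + (t)` lies in an associated
prime of `R/(t)`. -/
theorem exists_associatedPrime_quotient [IsNoetherianRing R] [IsLocalRing R] {t : R}
    (ht : t ∈ maximalIdeal R) (hreg : t ∈ nonZeroDivisors R) {P : Ideal R}
    (hP : P ∈ associatedPrimes R R) :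
    ∃ Q ∈ associatedPrimes R (R ⧸ Ideal.span {t}), P ≤ Q ∧ t ∈ Q := by
  obtain ⟨hPp, x, hx⟩ := isAssociatedPrime_iff.1 hP
  have hmemP : ∀ r, r ∈ P ↔ r * x = 0 := fun r => by
    rw [hx, Submodule.mem_colon_singleton, Submodule.mem_bot, smul_eq_mul]
  have hx0 : x ≠ 0 := fun h => hPp.ne_top ((Ideal.eq_top_iff_one _).2 ((hmemP 1).2 (by simp [h])))
  have hne : ∃ n, x ∉ Ideal.span {t ^ n} := by
    by_contra hcon
    push Not at hcon
    apply hx0
    have hI : Ideal.span {t} ≠ ⊤ := fun h => (maximalIdeal.isMaximal R).ne_top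
      (top_le_iff.1 (h ▸ (Ideal.span_singleton_le_iff_mem _).2 ht))
    have h := Ideal.iInf_pow_eq_bot_of_isLocalRing (Ideal.span {t}) hI
    have hmem : x ∈ ⨅ n : ℕ, Ideal.span {t} ^ n :=
      Submodule.mem_iInf _ |>.2 fun n => by rw [Ideal.span_singleton_pow]; exact hcon n
    rwa [h, Submodule.mem_bot] at hmem
  obtain ⟨n, hn, hmin⟩ : ∃ n, x ∉ Ideal.span {t ^ (n + 1)} ∧ x ∈ Ideal.span {t ^ n} := by
    obtain ⟨n, hn⟩ := hne
    induction n with
    | zero => simp at hn
    | succ n ih =>
      by_cases h : x ∈ Ideal.span {t ^ n}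
      · exact ⟨n, hn, h⟩
      · exact ih h
  obtain ⟨y, rfl⟩ := Ideal.mem_span_singleton'.1 hmin
  have hy : Ideal.Quotient.mk (Ideal.span {t}) y ≠ 0 := by
    rw [ne_eq, Ideal.Quotient.eq_zero_iff_mem, Ideal.mem_span_singleton']
    rintro ⟨z, rfl⟩
    exact hn (Ideal.mem_span_singleton'.2 ⟨z, by ring⟩)
  obtain ⟨Q, hQ, hQle⟩ := exists_le_isAssociatedPrime_of_isNoetherianRing (R := R)
    (M := R ⧸ Ideal.span {t}) (Ideal.Quotient.mk (Ideal.span {t}) y) hy
  refine ⟨Q, hQ, fun r hr => hQle ?_, hQle ?_⟩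
  · rw [Submodule.mem_colon_singleton, Submodule.mem_bot]
    have h0 := (hmemP r).1 hr
    have : r * y = 0 := by
      rw [← mul_assoc] at h0
      exact mem_nonZeroDivisors_iff_right.1 (pow_mem hreg n) _ h0
    change Ideal.Quotient.mk _ (r * y) = 0
    rw [this, map_zero]
  · rw [Submodule.mem_colon_singleton, Submodule.mem_bot]
    change Ideal.Quotient.mk _ (t * y) = 0
    rw [Ideal.Quotient.eq_zero_iff_mem]
    exact Ideal.mul_mem_right _ _ (Ideal.mem_span_singleton_self t)

end Groth.Agent.CommAlg6
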