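import Groth.Agent.CommAlg6.CompletionEquidim
import Groth.Agent.CommAlg6.CompletionMap
import Groth.Agent.CommAlg6.CMFormalEFT
import Groth.Agent.CommAlg6.FibreLocal
import Groth.Agent.CommAlg6.QuotRegular
import Groth.Agent.CommAlg6.CMLocusFormal
import Groth.Agent.S2629
import Groth.Agent.S2635
import Groth.Agent.S9127

/-! Formally catenary local rings are stable under essentially finite type local algebras. -/

set_option linter.style.haveILetI false
set_option autoImplicit false

universe u

open IsLocalRing TensorProduct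

namespace Groth.Agent.CommAlg6

theorem isPrime_map_C {A : Type u} [CommRing A] {n : ℕ} (p : Ideal A) [p.IsPrime] :
    (p.map (MvPolynomial.C : A →+* MvPolynomial (Fin n) A)).IsPrime := by
  rw [← Ideal.mk_ker (I := p), ← MvPolynomial.ker_map]
  exact RingHom.ker_isPrime _

/-- Formally equidimensional quotients only depend on the kernel. -/
theorem isFormallyEquidim_congr {A B C : Type u} [CommRing A] [IsLocalRing A] [IsNoetherianRing A]
    [CommRing B] [IsLocalRing B] [CommRing C] [IsLocalRing C] [IsNoetherianRing B] [IsNoetherianRing C]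
    (f : A →+* B) (hf : Function.Surjective f) (g : A →+* C) (hg : Function.Surjective g)
    (h : RingHom.ker f = RingHom.ker g) :
    EGA4.IsFormallyEquidim B ↔ EGA4.IsFormallyEquidim C := by
  rw [isFormallyEquidim_iff_of_surjective A f hf, isFormallyEquidim_iff_of_surjective A g hg, h]

/-- Formal catenarity passes to quotients. -/
theorem isFormallyCatenary_of_surjective {A B : Type u} [CommRing A] [CommRing B] [IsLocalRing A]
    [IsLocalRing B] [IsNoetherianRing A] [IsNoetherianRing B] (g : A →+* B)
    (hg : Function.Surjective g) (h : EGA4.IsFormallyCatenary A) : EGA4.IsFormallyCatenary B := by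
  intro P _
  exact (isFormallyEquidim_congr (Ideal.Quotient.mk (P.comap g)) Ideal.Quotient.mk_surjective
    ((Ideal.Quotient.mk P).comp g) (Ideal.Quotient.mk_surjective.comp hg)
    (by rw [Ideal.mk_ker, ← RingHom.comap_ker, Ideal.mk_ker])).1 (h (P.comap g))

/-- The local rings of `A[X]` are formally equidimensional when `A` is. -/
theorem isFormallyEquidim_localization_mvPolynomial (A : Type u) [CommRing A] [IsLocalRing A]
    [IsNoetherianRing A] (hA : EGA4.IsFormallyEquidim A) {n : ℕ}
    (Q : Ideal (MvPolynomial (Fin n) A)) [Q.IsPrime] :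
    EGA4.IsFormallyEquidim (Localization.AtPrime Q) := by
  let Ah := EGA4.Cpl A
  haveI : Module.Flat A Ah := AdicCompletion.flat_of_isNoetherian _
  haveI : Module.FaithfullyFlat A Ah :=
    haveI := isLocalHom_completion A
    Module.FaithfullyFlat.of_flat_of_isLocalHom
  let S := MvPolynomial (Fin n) A
  let S' := MvPolynomial (Fin n) Ah
  letI : Algebra S S' := MvPolynomial.algebraMvPolynomial
  haveI hpush : Algebra.IsPushout A S Ah S' := inferInstance
  let e : S ⊗[A] Ah ≃ₐ[S] S' := Algebra.IsPushout.equiv A S Ah S'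
  haveI : Module.Flat S S' := Module.Flat.of_linearEquiv e.toLinearEquiv.symm
  haveI : Module.FaithfullyFlat S S' :=
    Module.FaithfullyFlat.of_linearEquiv S (S ⊗[A] Ah) e.toLinearEquiv.symm
  obtain ⟨Q', hQ'⟩ := PrimeSpectrum.comap_surjective_of_faithfullyFlat (A := S) (B := S') ⟨Q, ‹_›⟩
  haveI : Q'.asIdeal.LiesOver Q := ⟨(congrArg PrimeSpectrum.asIdeal hQ').symm⟩
  letI := Localization.AtPrime.algebraOfLiesOver Q Q'.asIdeal
  let R := Localization.AtPrime Q
  let R' := Localization.AtPrime Q'.asIdeal
  haveI : IsLocalHom (algebraMap R R') :=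
    Localization.isLocalHom_localRingHom Q Q'.asIdeal (algebraMap S S') Ideal.LiesOver.over
  haveI : Module.Flat R R' := inferInstance
  -- `R'` is formally catenary, being a quotient of a regular local ring
  have hcat : EGA4.IsFormallyCatenary R' := by
    obtain ⟨P0, _, _, f, hf⟩ := exists_regular_surjection Ah
    let π : MvPolynomial (Fin n) P0 →+* S' := MvPolynomial.map f
    let Q'' := Q'.asIdeal.comap π
    let g : Localization.AtPrime Q'' →+* R' := Localization.localRingHom Q'' Q'.asIdeal π rfl
    have hg : Function.Surjective g :=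
      RingHom.surjective_localRingHom_of_surjective π (MvPolynomial.map_surjective f hf) Q'.asIdeal
    haveI := CAlgH3.isCohenMacaulayRing_of_isRegularRing (R := MvPolynomial (Fin n) P0)
    haveI := _root_.LocCoh.IsCohenMacaulayRing.isCohenMacaulayLocalRing_localization Q''
    letI : Algebra (Localization.AtPrime Q'') R' := g.toAlgebra
    exact Groth.Agent.S2635.result (Localization.AtPrime Q'') R' hg
  -- `R'` is equidimensional
  have heq : EGA4.IsEquidim R' := by
    intro P' hP'
    haveI := hP'.1.1
    let q := Q'.asIdeal.under Ah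
    let Aq := Localization.AtPrime q
    haveI : IsLocalHom (algebraMap A Ah) := isLocalHom_completion A
    let P := P'.under Ah
    obtain ⟨h1, h2⟩ := under_mem_minimalPrimes (A := Ah) (⊥ : Ideal Ah) (Q := P')
      (by rw [Ideal.map_bot]; exact hP')
    haveI hPp : P.IsPrime := h1.1.1
    let P1 := P.map (MvPolynomial.C : Ah →+* S')
    haveI : P1.IsPrime := isPrime_map_C P
    have hP1 : P1 ≤ Q'.asIdeal := (Ideal.map_le_iff_le_comap.2 (by
      have : P ≤ (P'.under S').comap MvPolynomial.C := fun x hx => by
        show algebraMap S' R' (MvPolynomial.C x) ∈ P'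
        have hx' : algebraMap Ah R' x ∈ P' := hx
        rwa [IsScalarTower.algebraMap_apply Ah S' R', MvPolynomial.algebraMap_eq] at hx'
      exact this)).trans (under_le Q'.asIdeal P')
    have hprime : (P.map (algebraMap Ah R')).IsPrime := by
      rw [IsScalarTower.algebraMap_eq Ah S' R', MvPolynomial.algebraMap_eq, ← Ideal.map_map]
      exact IsLocalization.isPrime_of_isPrime_disjoint Q'.asIdeal.primeCompl _ P1 inferInstance
        (Set.disjoint_left.2 fun a ha ha' => ha (hP1 ha'))
    have hPP : P.map (algebraMap Ah R') = P' :=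
      le_antisymm h2.1.2 (h2.2 ⟨hprime, le_rfl⟩ h2.1.2)
    rw [← hPP]
    -- reduce to the localisation of `Ah` at `q`
    haveI : Q'.asIdeal.LiesOver q := ⟨rfl⟩
    letI := Localization.AtPrime.algebraOfLiesOver q Q'.asIdeal
    haveI : IsLocalHom (algebraMap Aq R') :=
      Localization.isLocalHom_localRingHom q Q'.asIdeal (algebraMap Ah S') Ideal.LiesOver.over
    haveI : Module.Flat Aq R' := inferInstance
    have hPq : P ≤ q := fun x hx => hP1 (Ideal.mem_map_of_mem _ hx)
    haveI : Nontrivial (Aq ⧸ P.map (algebraMap Ah Aq)) := Ideal.Quotient.nontrivial_iff.2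
      (IsLocalization.isPrime_of_isPrime_disjoint q.primeCompl _ P inferInstance
        (Set.disjoint_left.2 fun a ha ha' => ha (hPq ha'))).ne_top
    rw [IsScalarTower.algebraMap_eq Ah Aq R', ← Ideal.map_map,
      ringKrullDim_quotient_map_add_eq (A := Aq) (B := R'), ringKrullDim_eq_add_fibre (A := Aq) (B := R')]
    congr 1
    -- `Aq` is equidimensional
    haveI : (P.map (Ideal.Quotient.mk P)).IsPrime := Groth.Agent.LocCoh.isPrime_map_mk le_rfl
    haveI := Groth.Agent.LocCoh.isPrime_map_mk hPq
    obtain ⟨e'⟩ := localization_quotient_ringEquiv P q hPq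
    rw [← ringKrullDim_eq_of_ringEquiv e', IsLocalization.AtPrime.ringKrullDim_eq_height
      (q.map (Ideal.Quotient.mk P)) _, IsLocalization.AtPrime.ringKrullDim_eq_height q _,
      WithBot.coe_inj]
    have hmin : P ∈ minimalPrimes Ah := h1
    have hc := isCatenary_completion A
    have e1 := height_add_ringKrullDim_quotient_of_equidim hc hA q
    have e2 := hq_add_eq hc (p := P) (s := q) (q := maximalIdeal Ah) hPq
      (le_maximalIdeal (Ideal.IsPrime.ne_top inferInstance))
    have e3 := hA P hmin
    rw [← hq_eq_ringKrullDim_quotient, ← maximalIdeal_height_eq_ringKrullDim,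
      ← WithBot.coe_add, WithBot.coe_inj] at e1
    rw [← hq_eq_ringKrullDim_quotient, ← maximalIdeal_height_eq_ringKrullDim, WithBot.coe_inj] at e3
    refine WithTop.add_right_cancel (Groth.Agent.LocCoh.hq_ne_top
      (le_maximalIdeal (Ideal.IsPrime.ne_top (I := q) inferInstance))) ?_
    show Groth.Agent.LocCoh.hq P q + _ = _
    rw [e2, e3]
    exact e1.symm
  have hfe : EGA4.IsFormallyEquidim R' :=
    (Groth.Agent.S2629.result R').2 ⟨heq, fun p _ _ => hcat p⟩
  obtain ⟨_, _, _⟩ := exists_algebra_completion R R'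
  haveI : IsLocalHom (algebraMap (EGA4.Cpl R) (EGA4.Cpl R')) := inferInstance
  exact (isEquidim_and_isCatenary_of_flat (isCatenary_completion R') hfe).1

/-- Quotients by primes of a formally equidimensional ring are formally equidimensional. -/
theorem isFormallyEquidim_quotient_of_surjective {R B : Type u} [CommRing R] [CommRing B]
    [IsLocalRing R] [IsLocalRing B] [IsNoetherianRing R] [IsNoetherianRing B] (g : R →+* B)
    (hg : Function.Surjective g) (P : Ideal R) [P.IsPrime] (hgker : RingHom.ker g ≤ P)
    (hfe : EGA4.IsFormallyEquidim B) : EGA4.IsFormallyEquidim (R ⧸ P) := by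
  haveI : (P.map g).IsPrime := Ideal.map_isPrime_of_surjective hg hgker
  refine (isFormallyEquidim_congr (Ideal.Quotient.mk P) Ideal.Quotient.mk_surjective
    ((Ideal.Quotient.mk (P.map g)).comp g) (Ideal.Quotient.mk_surjective.comp hg) ?_).2 ?_
  · rw [Ideal.mk_ker, ← RingHom.comap_ker, Ideal.mk_ker, Ideal.comap_map_of_surjective g hg,
      ← RingHom.ker_eq_comap_bot, sup_eq_left.2 hgker]
  haveI := isLocalHom_completion B
  rw [isFormallyEquidim_quotient_iff B (P.map g),
    isEquidim_quotient_map_iff (isCatenary_completion B) hfe (ringKrullDim_fibre_completion B)]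
  intro T hT
  rw [IsDomain.minimalPrimes_eq_singleton_bot, Set.mem_singleton_iff] at hT
  subst hT
  exact ringKrullDim_eq_of_ringEquiv (RingEquiv.quotientBot _)

set_option maxHeartbeats 800000 in
/-- The local rings of `A[X]` are formally catenary when `A` is. -/
theorem isFormallyCatenary_localization_mvPolynomial (A : Type u) [CommRing A] [IsLocalRing A]
    [IsNoetherianRing A] (hA : EGA4.IsFormallyCatenary A) {n : ℕ}
    (Q : Ideal (MvPolynomial (Fin n) A)) [Q.IsPrime] :
    EGA4.IsFormallyCatenary (Localization.AtPrime Q) := by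
  intro P _
  let S := MvPolynomial (Fin n) A
  let R := Localization.AtPrime Q
  let p := P.under A
  let Sb := MvPolynomial (Fin n) (A ⧸ p)
  let π : S →+* Sb := MvPolynomial.map (Ideal.Quotient.mk p)
  have hπ : Function.Surjective π := MvPolynomial.map_surjective _ Ideal.Quotient.mk_surjective
  have hker : RingHom.ker π ≤ P.under S := by
    rw [MvPolynomial.ker_map, Ideal.mk_ker, Ideal.map_le_iff_le_comap]
    intro x hx
    show algebraMap S R (MvPolynomial.C x) ∈ P
    have hx' : algebraMap A R x ∈ P := hx
    rwa [IsScalarTower.algebraMap_apply A S R, MvPolynomial.algebraMap_eq] at hx'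
  have hkerQ : RingHom.ker π ≤ Q := hker.trans (under_le Q P)
  haveI : (Q.map π).IsPrime := Ideal.map_isPrime_of_surjective hπ hkerQ
  have hQ : Q = (Q.map π).comap π := by
    rw [Ideal.comap_map_of_surjective π hπ, ← RingHom.ker_eq_comap_bot, sup_eq_left.2 hkerQ]
  let Rb := Localization.AtPrime (Q.map π)
  let g : R →+* Rb := Localization.localRingHom Q (Q.map π) π hQ
  have hg : Function.Surjective g := by
    intro y
    obtain ⟨⟨b, t⟩, rfl⟩ := IsLocalization.mk'_surjective (Q.map π).primeCompl y
    obtain ⟨a, rfl⟩ := hπ b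
    obtain ⟨s, hs⟩ := hπ t
    have hsQ : s ∈ Q.primeCompl := fun h => t.2 (hs ▸ Ideal.mem_map_of_mem π h)
    exact ⟨IsLocalization.mk' R a ⟨s, hsQ⟩, by
      rw [Localization.localRingHom_mk']
      congr 1
      exact Subtype.ext hs⟩
  have hgker : RingHom.ker g ≤ P := by
    intro x hx
    obtain ⟨⟨a, s⟩, rfl⟩ := IsLocalization.mk'_surjective Q.primeCompl x
    rw [RingHom.mem_ker, Localization.localRingHom_mk'] at hx
    obtain ⟨⟨t, ht⟩, htx⟩ := (IsLocalization.mk'_eq_zero_iff _ _).1 hx
    obtain ⟨t', rfl⟩ := hπ t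
    have ht' : t' ∈ Q.primeCompl := fun h => ht (Ideal.mem_map_of_mem π h)
    have h0 : algebraMap S R (t' * a) ∈ P := hker (by rw [RingHom.mem_ker, map_mul]; exact htx)
    rw [map_mul] at h0
    have ha : algebraMap S R a ∈ P :=
      ((‹P.IsPrime›).mem_or_mem h0).resolve_left fun h =>
        ‹P.IsPrime›.ne_top (Ideal.eq_top_of_isUnit_mem _ h (IsLocalization.map_units R ⟨t', ht'⟩))
    show IsLocalization.mk' R a s ∈ P
    rw [IsLocalization.mk'_eq_mul_mk'_one]
    exact P.mul_mem_right _ ha
  have h1 : EGA4.IsFormallyEquidim Rb := isFormallyEquidim_localization_mvPolynomial (A ⧸ p) (hA p) (Q.map π)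
  have h2 := @isFormallyEquidim_quotient_of_surjective R Rb _ _ _ _ _ _ g
  exact h2 hg P hgker h1

/-- Local algebras essentially of finite type over a formally catenary ring are formally catenary. -/
theorem isFormallyCatenary_of_essFiniteType (A B : Type u) [CommRing A] [IsLocalRing A]
    [IsNoetherianRing A] [CommRing B] [IsLocalRing B] [IsNoetherianRing B] [Algebra A B]
    [Algebra.EssFiniteType A B] (hA : EGA4.IsFormallyCatenary A) : EGA4.IsFormallyCatenary B := by
  obtain ⟨n, Q, _, g, hg⟩ := exists_local_presentation A B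
  exact isFormallyCatenary_of_surjective g hg (isFormallyCatenary_localization_mvPolynomial A hA Q)

/-- Catenarity can be tested on the local rings. -/
theorem isCatenary_of_forall_localization {S : Type u} [CommRing S]
    (h : ∀ (q : Ideal S) [q.IsPrime], CAlg.IsCatenary (Localization.AtPrime q)) :
    CAlg.IsCatenary S := by
  have key : ∀ q : PrimeSpectrum S, ∃ e : PrimeSpectrum (Localization.AtPrime q.asIdeal) ↪o PrimeSpectrum S,
      Set.range e = Set.Iic q := fun q => by
    let o := IsLocalization.AtPrime.primeSpectrumOrderIso (Localization.AtPrime q.asIdeal) q.asIdeal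
    refine ⟨o.toOrderEmbedding.trans (OrderEmbedding.subtype _), Set.ext fun x => ⟨?_, fun hx => ?_⟩⟩
    · rintro ⟨y, rfl⟩; exact (o y).2
    · exact ⟨o.symm ⟨x, hx⟩, by simp⟩
  have lift : ∀ (q : PrimeSpectrum S) (e : PrimeSpectrum (Localization.AtPrime q.asIdeal) ↪o PrimeSpectrum S),
      Set.range e = Set.Iic q → ∀ s : LTSeries (PrimeSpectrum S), s.last = q →
      ∃ (s' : LTSeries (PrimeSpectrum (Localization.AtPrime q.asIdeal))) (hl : s'.length = s.length),
        ∀ i, e (s' i) = s (i.cast (by rw [hl])) := by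
    intro q e he s hs
    have hmem : ∀ i, ∃ y, e y = s i := fun i => by
      show s i ∈ Set.range e
      rw [he, ← hs]
      exact s.monotone (Fin.le_last i)
    choose y hy using hmem
    exact ⟨⟨s.length, y, fun i => e.lt_iff_lt.1 (by rw [hy, hy]; exact s.step i)⟩, rfl,
      fun i => hy i⟩
  refine ⟨fun p q hpq => ?_, fun s t hh hl hs ht => ?_⟩
  · obtain ⟨e, he⟩ := key q
    obtain ⟨p', hp'⟩ : p ∈ Set.range e := he ▸ hpq
    obtain ⟨q', hq'⟩ : q ∈ Set.range e := he ▸ Set.self_mem_Iic
    obtain ⟨m, hm⟩ := (h q.asIdeal).1 p' q' (e.le_iff_le.1 (by rw [hp', hq']; exact hpq))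
    refine ⟨m, fun s hs1 hs2 => ?_⟩
    obtain ⟨s', hl', hs'⟩ := lift q e he s hs2
    rw [← hl']
    refine hm s' (e.injective ?_) (e.injective ?_)
    · exact ((hs' 0).trans (congrArg s (Fin.ext (by simp)))).trans (hs1.trans hp'.symm)
    · exact ((hs' (Fin.last _)).trans (congrArg s (Fin.ext (by simp)))).trans (hs2.trans hq'.symm)
  · obtain ⟨e, he⟩ := key s.last
    obtain ⟨s', hls, hs'⟩ := lift _ e he s rfl
    obtain ⟨t', hlt, ht'⟩ := lift _ e he t hl.symm
    rw [← hls, ← hlt]
    have hcov : ∀ a b, e a ⋖ e b → a ⋖ b := fun a b hab =>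
      ⟨e.lt_iff_lt.1 hab.1, fun x h1 h2 => hab.2 (e.lt_iff_lt.2 h1) (e.lt_iff_lt.2 h2)⟩
    refine (h s.last.asIdeal).2 s' t' (e.injective ?_) (e.injective ?_)
      (fun i => hcov _ _ ?_) (fun i => hcov _ _ ?_)
    · exact (hs' 0).trans ((congrArg s (Fin.ext (by simp))).trans (hh.trans
        ((congrArg t (Fin.ext (by simp))).trans (ht' 0).symm)))
    · exact (hs' (Fin.last _)).trans ((congrArg s (Fin.ext (by simp))).trans (hl.trans
        ((congrArg t (Fin.ext (by simp))).trans (ht' (Fin.last _)).symm)))
    · rw [hs', hs']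
      exact hs (i.cast hls)
    · rw [ht', ht']
      exact ht (i.cast hlt)

/-- A formally catenary Noetherian local ring is universally catenary. -/
theorem isUniversallyCatenary_of_isFormallyCatenary (A : Type u) [CommRing A] [IsNoetherianRing A]
    [IsLocalRing A] (hA : EGA4.IsFormallyCatenary A) : CAlg.IsUniversallyCatenary A := by
  refine ⟨inferInstance, fun S _ _ hS => ?_⟩
  haveI := hS
  refine isCatenary_of_forall_localization fun q _ => ?_
  let B := Localization.AtPrime q
  haveI : Algebra.EssFiniteType S B := Algebra.EssFiniteType.of_isLocalization B q.primeCompl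
  haveI : Algebra.EssFiniteType A B := Algebra.EssFiniteType.comp A S B
  haveI : IsNoetherianRing B := Algebra.EssFiniteType.isNoetherianRing A B
  have hB := isFormallyCatenary_of_essFiniteType A B hA
  rw [Groth.Agent.S9127.result B]
  intro P hP
  haveI := hP.1.1
  haveI := isLocalHom_completion (B ⧸ P)
  exact (isEquidim_and_isCatenary_of_flat (isCatenary_completion (B ⧸ P)) (hB P)).2

end Groth.Agent.CommAlg6
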