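import Groth.Agent.CommAlg6.CompleteJ2
import Groth.Agent.CommAlg6.FormallyCatenary
import Groth.Agent.CAlgH.GRingRegular
import Groth.Agent.CAlgH.GRingFiniteType
import Groth.Agent.CAlgH.GRingMaximal
import Groth.Agent.CAlgH3.CMPolynomial
import Groth.Agent.CAlgH3.CMRing
import Groth.Prelude.Def_EGA4b

/-! Complete local rings are excellent. -/

set_option autoImplicit false
set_option linter.style.haveILetI false

universe u

open IsLocalRing

namespace Groth.Agent.CommAlg6

theorem isFormallyEquidim_of_complete_domain (D : Type u) [CommRing D] [IsDomain D] [IsLocalRing D]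
    [IsNoetherianRing D] [IsAdicComplete (maximalIdeal D) D] : EGA4.IsFormallyEquidim D := by
  let e : D ≃+* AdicCompletion (maximalIdeal D) D :=
    RingEquiv.ofBijective (algebraMap D (AdicCompletion (maximalIdeal D) D))
      (AdicCompletion.of_bijective (maximalIdeal D) D)
  haveI : IsDomain (AdicCompletion (maximalIdeal D) D) := e.symm.toMulEquiv.isDomain D
  intro p hp
  rw [IsDomain.minimalPrimes_eq_singleton_bot, Set.mem_singleton_iff] at hp
  subst hp
  exact ringKrullDim_eq_of_ringEquiv (RingEquiv.quotientBot _)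

theorem isUniversallyCatenary_of_complete_local (A : Type u) [CommRing A] [IsNoetherianRing A] [IsLocalRing A]
    [IsAdicComplete (maximalIdeal A) A] : CAlg.IsUniversallyCatenary A := by
  refine isUniversallyCatenary_of_isFormallyCatenary A fun p _ => ?_
  haveI := Groth.Agent.CAlgH.isAdicComplete_quotient p
  exact isFormallyEquidim_of_complete_domain (A ⧸ p)

/-- A complete Noetherian local ring is excellent. -/
theorem isExcellent_of_complete_local (A : Type u) [CommRing A] [IsNoetherianRing A] [IsLocalRing A]
    [IsAdicComplete (maximalIdeal A) A] : EGA4.IsExcellent A :=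
  ⟨inferInstance, isUniversallyCatenary_of_complete_local A, Groth.Agent.CAlgH.isGRing_complete A,
    isJ2_of_complete_local A⟩

theorem isUniversallyCatenary_of_finiteType (A B : Type u) [CommRing A] [CommRing B] [Algebra A B]
    [Algebra.FiniteType A B] (h : CAlg.IsUniversallyCatenary A) : CAlg.IsUniversallyCatenary B := by
  haveI := h.1
  refine ⟨Algebra.FiniteType.isNoetherianRing A B, fun S _ _ hS => ?_⟩
  haveI := hS
  letI : Algebra A S := ((algebraMap B S).comp (algebraMap A B)).toAlgebra
  haveI : IsScalarTower A B S := .of_algebraMap_eq fun _ => rfl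
  exact h.2 S (Algebra.FiniteType.trans (S := B) inferInstance inferInstance)

theorem isExcellent_of_finiteType (A B : Type u) [CommRing A] [CommRing B] [Algebra A B]
    [Algebra.FiniteType A B] (h : EGA4.IsExcellent A) : EGA4.IsExcellent B := by
  obtain ⟨hN, hU, hG, hJ⟩ := h
  haveI := hN
  refine ⟨Algebra.FiniteType.isNoetherianRing A B, isUniversallyCatenary_of_finiteType A B hU,
    Groth.Agent.CAlgH.isGRing_of_finiteType A hG B, fun S _ _ hS => ?_⟩
  haveI := hS
  letI : Algebra A S := ((algebraMap B S).comp (algebraMap A B)).toAlgebra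
  haveI : IsScalarTower A B S := .of_algebraMap_eq fun _ => rfl
  exact hJ S (Algebra.FiniteType.trans (S := B) inferInstance inferInstance)

/-- The regular loci of a localization. -/
theorem comap_mem_regLocus_iff (A : Type u) [CommRing A] (M : Submonoid A) (S : Type u) [CommRing S] [Algebra A S]
    [IsLocalization M S] (Q : PrimeSpectrum S) :
    PrimeSpectrum.comap (algebraMap A S) Q ∈ EGA4.regLocus A ↔ Q ∈ EGA4.regLocus S := by
  haveI := IsLocalization.isLocalization_isLocalization_atPrime_isLocalization (R := A) (M := M)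
    (Localization.AtPrime Q.asIdeal) Q.asIdeal
  let e := (IsLocalization.algEquiv (Q.asIdeal.comap (algebraMap A S)).primeCompl (Localization.AtPrime Q.asIdeal)
    (Localization.AtPrime (Q.asIdeal.comap (algebraMap A S)))).toRingEquiv
  constructor
  · intro h
    haveI : IsRegularLocalRing (Localization.AtPrime (Q.asIdeal.comap (algebraMap A S))) := h
    exact IsRegularLocalRing.of_ringEquiv e.symm
  · intro h
    haveI : IsRegularLocalRing (Localization.AtPrime Q.asIdeal) := h
    exact IsRegularLocalRing.of_ringEquiv e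

set_option maxHeartbeats 800000 in
/-- J-2 passes to localizations. -/
theorem isJ2_localization (A : Type u) [CommRing A] (M : Submonoid A) (B : Type u) [CommRing B] [Algebra A B]
    [IsLocalization M B] (h : EGA4.IsJ2 A) : EGA4.IsJ2 B := by
  intro S _ _ hS
  letI : Algebra A S := ((algebraMap B S).comp (algebraMap A B)).toAlgebra
  haveI : IsScalarTower A B S := .of_algebraMap_eq fun _ => rfl
  obtain ⟨s, hs⟩ := hS.out
  let S0 := Algebra.adjoin A (s : Set S)
  have hft : Algebra.FiniteType A S0 := ⟨S0.fg_top.2 ⟨s, rfl⟩⟩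
  have hB : ∀ b : B, ∃ m ∈ M, algebraMap A S m * algebraMap B S b ∈ S0 := fun b => by
    obtain ⟨⟨a, m⟩, hb⟩ := IsLocalization.surj M b
    refine ⟨m, m.2, ?_⟩
    rw [IsScalarTower.algebraMap_apply A B S, ← map_mul, mul_comm, hb, ← IsScalarTower.algebraMap_apply]
    exact S0.algebraMap_mem a
  have hsurj : ∀ z : S, ∃ m ∈ M, algebraMap A S m * z ∈ S0 := fun z => by
    have hz : z ∈ Algebra.adjoin B (s : Set S) := hs ▸ Algebra.mem_top
    induction hz using Algebra.adjoin_induction with
    | mem x hx => exact ⟨1, M.one_mem, by rw [map_one, one_mul]; exact Algebra.subset_adjoin hx⟩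
    | algebraMap b => exact hB b
    | add x y _ _ hx hy =>
      obtain ⟨m, hm, hmx⟩ := hx
      obtain ⟨n, hn, hny⟩ := hy
      refine ⟨m * n, M.mul_mem hm hn, ?_⟩
      rw [map_mul, show algebraMap A S m * algebraMap A S n * (x + y) = algebraMap A S n * (algebraMap A S m * x) +
        algebraMap A S m * (algebraMap A S n * y) by ring]
      exact add_mem (mul_mem (S0.algebraMap_mem n) hmx) (mul_mem (S0.algebraMap_mem m) hny)
    | mul x y _ _ hx hy =>
      obtain ⟨m, hm, hmx⟩ := hx
      obtain ⟨n, hn, hny⟩ := hy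
      refine ⟨m * n, M.mul_mem hm hn, ?_⟩
      rw [map_mul, show algebraMap A S m * algebraMap A S n * (x * y) =
        (algebraMap A S m * x) * (algebraMap A S n * y) by ring]
      exact mul_mem hmx hny
  haveI : IsLocalization (Algebra.algebraMapSubmonoid S0 M) S := by
    refine ⟨?_, fun z => ?_, fun {x y} hxy => ⟨1, by rw [Subtype.ext hxy]⟩⟩
    · rintro ⟨_, m, hm, rfl⟩
      show IsUnit (algebraMap S0 S (algebraMap A S0 m))
      rw [← IsScalarTower.algebraMap_apply, IsScalarTower.algebraMap_apply A B S]
      exact (IsLocalization.map_units B ⟨m, hm⟩).map _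
    · obtain ⟨m, hm, hmz⟩ := hsurj z
      exact ⟨⟨⟨_, hmz⟩, ⟨algebraMap A S0 m, m, hm, rfl⟩⟩, mul_comm _ _⟩
  have hpre : PrimeSpectrum.comap (algebraMap S0 S) ⁻¹' EGA4.regLocus S0 = EGA4.regLocus S :=
    Set.ext fun Q => comap_mem_regLocus_iff S0 (Algebra.algebraMapSubmonoid S0 M) S Q
  rw [← hpre]
  exact (h S0 hft).preimage (PrimeSpectrum.continuous_comap _)

/-- A Dedekind domain of characteristic zero is a G-ring. -/
theorem isGRing_of_dedekind (A : Type u) [CommRing A] [IsDedekindDomain A] [CharZero A] : CAlg.IsGRing A :=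
  (Groth.Agent.CAlgH.isGRing_iff_generic A).2 fun q hq P _ => by
    rcases eq_or_ne q ⊥ with rfl | hne
    · haveI : CharZero (A ⧸ (⊥ : Ideal A)) := charZero_of_injective_ringHom (f := (RingEquiv.quotientBot A).symm.toRingHom)
        (RingEquiv.quotientBot A).symm.injective
      haveI : IsRegularRing (A ⧸ (⊥ : Ideal A)) := IsRegularRing.of_ringEquiv (RingEquiv.quotientBot A).symm
      exact Groth.Agent.CAlgH.formalFibre_bot_regular (A ⧸ (⊥ : Ideal A)) (Or.inl inferInstance) P
    · haveI := hq.isMaximal hne
      letI := Ideal.Quotient.field q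
      refine Groth.Agent.CAlgH.formalFibre_bot_regular (A ⧸ q) ?_ P
      obtain h | ⟨p, hp, hchar⟩ := CharP.exists' (A ⧸ q)
      · exact Or.inl h
      · exact Or.inr ⟨p, hp.out, hchar, Groth.Agent.CAlgH.goodFamily_field p (A ⧸ q)⟩

end Groth.Agent.CommAlg6
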