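import Mathlib.AlgebraicGeometry.Noetherian
import Mathlib.AlgebraicGeometry.Morphisms.QuasiFinite
import Mathlib.Topology.KrullDimension
import Mathlib.Topology.Sober

/-! Comparison of Krull dimensions along maps of sober spaces. -/

universe u

open Topology TopologicalSpace

namespace Groth.Agent.CommAlg6

variable {α β : Type*}

/-- If relations below a point lift along a surjective monotone map, the dimension of the target is
at most that of the source. -/
theorem krullDim_le_of_lift_down [PartialOrder α] [PartialOrder β] (f : α → β)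
    (hf : Function.Surjective f)
    (hlift : ∀ (x : α) (b : β), b ≤ f x → ∃ x' ≤ x, f x' = b) :
    Order.krullDim β ≤ Order.krullDim α := by
  have key : ∀ p : LTSeries β, ∃ q : LTSeries α, q.length = p.length ∧ f q.head = p.head := by
    intro p
    induction p using RelSeries.inductionOn with
    | singleton b =>
      obtain ⟨a, rfl⟩ := hf b
      exact ⟨RelSeries.singleton _ a, rfl, rfl⟩
    | cons p b hb ih =>
      obtain ⟨q, hq, hq'⟩ := ih
      have hb' : b < p.head := hb
      obtain ⟨x', hx', hfx⟩ := hlift q.head b (hq' ▸ hb'.le)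
      have hlt : x' < q.head := lt_of_le_of_ne hx' fun h => hb'.ne (by rw [← hfx, h, hq'])
      exact ⟨q.cons x' hlt, by simp [hq], by simp [hfx]⟩
  refine iSup_le fun p => ?_
  obtain ⟨q, hq, -⟩ := key p
  exact le_iSup_of_le q (le_of_eq (by rw [hq]))

/-- Dual version of `krullDim_le_of_lift_down`. -/
theorem krullDim_le_of_lift_up [PartialOrder α] [PartialOrder β] (f : α → β)
    (hf : Function.Surjective f)
    (hlift : ∀ (x : α) (b : β), f x ≤ b → ∃ x', x ≤ x' ∧ f x' = b) :
    Order.krullDim β ≤ Order.krullDim α := by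
  rw [← Order.krullDim_orderDual (α := β), ← Order.krullDim_orderDual (α := α)]
  exact krullDim_le_of_lift_down (fun x : αᵒᵈ => OrderDual.toDual (f (OrderDual.ofDual x)))
    hf (fun x b hb => hlift (OrderDual.ofDual x) (OrderDual.ofDual b) hb)

variable {X Y : Type*} [TopologicalSpace X] [TopologicalSpace Y] [QuasiSober X] [T0Space X]
  [QuasiSober Y] [T0Space Y]

attribute [local instance] specializationOrder

theorem topologicalKrullDim_eq_krullDim_points : topologicalKrullDim X = Order.krullDim X :=
  Order.krullDim_eq_of_orderIso irreducibleSetEquivPoints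

theorem topologicalKrullDim_le_of_specializingMap {f : X → Y} (hs : Function.Surjective f)
    (hf : SpecializingMap f) : topologicalKrullDim Y ≤ topologicalKrullDim X := by
  rw [topologicalKrullDim_eq_krullDim_points, topologicalKrullDim_eq_krullDim_points (X := X)]
  exact krullDim_le_of_lift_down f hs fun x b hb => hf hb

theorem topologicalKrullDim_le_of_generalizingMap {f : X → Y} (hs : Function.Surjective f)
    (hf : GeneralizingMap f) : topologicalKrullDim Y ≤ topologicalKrullDim X := by
  rw [topologicalKrullDim_eq_krullDim_points, topologicalKrullDim_eq_krullDim_points (X := X)]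
  exact krullDim_le_of_lift_up f hs fun x b hb => hf hb

theorem topologicalKrullDim_le_of_fibres {f : X → Y} (hc : Continuous f)
    (hfib : ∀ x x' : X, x ⤳ x' → f x = f x' → x = x') :
    topologicalKrullDim X ≤ topologicalKrullDim Y := by
  rw [topologicalKrullDim_eq_krullDim_points, topologicalKrullDim_eq_krullDim_points (X := Y)]
  refine Order.krullDim_le_of_strictMono f fun x x' h => ?_
  have h1 : x' ⤳ x := h.le
  have h2 : f x ≤ f x' := h1.map hc
  exact lt_of_le_of_ne h2 fun e => h.ne (hfib x' x h1 e.symm).symm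

omit [QuasiSober Y] in
/-- An open map out of a locally Noetherian sober space to a `T0` space is generalizing. -/
theorem generalizingMap_of_isOpenMap {f : X → Y} (hc : Continuous f) (ho : IsOpenMap f)
    (hX : ∀ x : X, ∃ U : Set X, IsOpen U ∧ x ∈ U ∧ NoetherianSpace U) : GeneralizingMap f := by
  intro x y hy
  obtain ⟨U, hU, hxU, hN⟩ := hX x
  set g : U → Y := f ∘ Subtype.val with hg
  have hgc : Continuous g := hc.comp continuous_subtype_val
  have hgo : IsOpenMap g := ho.comp hU.isOpenMap_subtype_val
  set S : Set U := g ⁻¹' {y}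
  have hxS : (⟨x, hxU⟩ : U) ∈ closure S := by
    rw [mem_closure_iff]
    intro V hV hxV
    obtain ⟨z, hz, hzy⟩ := hy.mem_open (hgo V hV) ⟨_, hxV, rfl⟩
    exact ⟨z, hz, hzy⟩
  obtain ⟨T, hT, hTc, hTirr, hTeq⟩ :=
    NoetherianSpace.exists_finite_set_isClosed_irreducible (isClosed_closure (s := S))
  -- a minimal such family
  obtain ⟨Z, hZT, hZmin⟩ := exists_minimal_le_of_wellFoundedLT
    (fun Z : Finset (Set U) => closure S = ⋃₀ (Z : Set (Set U)) ∧ ↑Z ⊆ T) hT.toFinset
    (by simp [hTeq])
  obtain ⟨⟨hZeq, hZsub⟩, hmin⟩ := hZmin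
  rw [hZeq] at hxS
  obtain ⟨A, hA, hxA⟩ := hxS
  have hAc := hTc A (hZsub hA)
  have hAi := hTirr A (hZsub hA)
  have hne : (A ∩ S).Nonempty := by
    by_contra hemp
    classical
    have hsub : closure S ⊆ ⋃₀ ((Z.erase A : Finset _) : Set (Set U)) := by
      refine closure_minimal (fun s hs => ?_) ?_
      · obtain ⟨B, hB, hsB⟩ := hZeq ▸ subset_closure hs
        refine ⟨B, ?_, hsB⟩
        simp only [Finset.coe_erase, Set.mem_diff, Set.mem_singleton_iff]
        exact ⟨hB, fun e => hemp ⟨s, e ▸ hsB, hs⟩⟩
      · rw [Set.sUnion_eq_biUnion]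
        exact Set.Finite.isClosed_biUnion (Finset.finite_toSet _)
          fun B hB => hTc B (hZsub (by simp_all))
    have hle := hmin (y := Z.erase A) ⟨le_antisymm hsub (hZeq ▸ Set.sUnion_subset_sUnion (by simp)),
      fun B hB => hZsub (by simp_all)⟩ (Finset.erase_subset _ _)
    exact absurd (hle hA) (Finset.notMem_erase A Z)
  haveI : QuasiSober U := hU.isOpenEmbedding_subtypeVal.quasiSober
  obtain ⟨η, hη⟩ := QuasiSober.sober hAi hAc
  obtain ⟨s, hsA, hsS⟩ := hne
  refine ⟨η.1, (hη.specializes hxA).map continuous_subtype_val, ?_⟩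
  have h1 : g η ⤳ y := by
    have h := (hη.specializes hsA).map hgc
    rwa [show g s = y from hsS] at h
  have h2 : y ⤳ g η := by
    rw [specializes_iff_mem_closure]
    have hηS : η ∈ closure S := hZeq ▸ ⟨A, hA, hη.mem⟩
    exact map_mem_closure hgc hηS fun s hs => hs
  exact (h1.antisymm h2).eq

end Groth.Agent.CommAlg6

open AlgebraicGeometry CategoryTheory

namespace Groth.Agent.CommAlg6

theorem eq_of_specializes_of_locallyQuasiFinite {X Y : Scheme.{u}} (f : X ⟶ Y) [LocallyQuasiFinite f]
    {x x' : X} (h : x ⤳ x') (e : f x = f x') : x = x' := by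
  have : DiscreteTopology (f ⁻¹' {f x}) := (f.isDiscrete_preimage_singleton (f x)).to_subtype
  have h' : (⟨x, rfl⟩ : f ⁻¹' {f x}) ⤳ ⟨x', e.symm⟩ := IsInducing.subtypeVal.specializes_iff.mp h
  exact congrArg Subtype.val h'.eq

theorem exists_noetherian_nhd (X : Scheme.{u}) [IsLocallyNoetherian X] (x : X) :
    ∃ U : Set X, IsOpen U ∧ x ∈ U ∧ NoetherianSpace U := by
  obtain ⟨_, ⟨V, hV, rfl⟩, hxV, -⟩ :=
    X.isBasis_affineOpens.exists_subset_of_mem_open (Set.mem_univ x) isOpen_univ
  haveI := IsLocallyNoetherian.component_noetherian (⟨V, hV⟩ : X.affineOpens)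
  exact ⟨(V : Set X), V.2, hxV, noetherianSpace_of_isAffineOpen V hV⟩

end Groth.Agent.CommAlg6
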