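import Groth.Agent.CommAlg6.FibreLocal
import Groth.Agent.CAlgH3.CMRing
import Groth.Agent.FlatCrit.Inj

/-! `(R_k)`, `(S_k)`, Cohen–Macaulay, normality, reducedness along flat homomorphisms. -/

universe u

open IsLocalRing

namespace Groth.Agent.CommAlg6

attribute [local instance] isLocalRing_fibLocRing

variable {A B : Type u} [CommRing A] [CommRing B] [Algebra A B]
variable [IsNoetherianRing A] [IsNoetherianRing B]

theorem exists_dim_eq (R : Type u) [CommRing R] [IsLocalRing R] :
    ∃ d : ℕ∞, ringKrullDim R = (d : WithBot ℕ∞) :=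
  ⟨_, maximalIdeal_height_eq_ringKrullDim.symm⟩

theorem min_add_le (n a b : ℕ∞) : min n (a + b) ≤ min n a + min n b := by
  rcases le_total n a with h | h
  · rw [min_eq_left h]; exact (min_le_left _ _).trans le_self_add
  · rw [min_eq_right h]
    rcases le_total n b with h' | h'
    · rw [min_eq_left h']; exact (min_le_left _ _).trans le_add_self
    · rw [min_eq_right h']; exact min_le_right _ _

theorem sk_add {n : ℕ} {D DA DF : WithBot ℕ∞} {dA dF : ℕ∞} {a b : ℕ∞} (hA : DA = a) (hF : DF = b)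
    (hD : D = DA + DF) (h1 : min (n : WithBot ℕ∞) DA ≤ (dA : WithBot ℕ∞))
    (h2 : min (n : WithBot ℕ∞) DF ≤ (dF : WithBot ℕ∞)) :
    min (n : WithBot ℕ∞) D ≤ ((dA + dF : ℕ∞) : WithBot ℕ∞) := by
  rw [hD, hA, hF, ← WithBot.coe_add, ← WithBot.coe_natCast, ← WithBot.coe_min, WithBot.coe_le_coe]
  rw [hA, ← WithBot.coe_natCast, ← WithBot.coe_min, WithBot.coe_le_coe] at h1
  rw [hF, ← WithBot.coe_natCast, ← WithBot.coe_min, WithBot.coe_le_coe] at h2
  exact (min_add_le _ _ _).trans (add_le_add h1 h2)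

theorem hasSk_of_base_and_fibres [Module.Flat A B] (n : ℕ)
    (hA : _root_.LocCoh.HasSk n A A)
    (hfib : ∀ (q : Ideal B) [q.IsPrime], min (n : WithBot ℕ∞) (ringKrullDim (EGA4.FibLocRing A B q)) ≤
      ((_root_.LocCoh.depth (EGA4.FibLocRing A B q) (EGA4.FibLocRing A B q) : ℕ∞) : WithBot ℕ∞)) :
    _root_.LocCoh.HasSk n B B := by
  rw [CAlgH3.hasSk_self_iff] at hA ⊢
  intro q _
  obtain ⟨h1, h2, -, -⟩ := local_fibre (A := A) q
  obtain ⟨a, ha⟩ := exists_dim_eq (Localization.AtPrime (q.comap (algebraMap A B)))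
  obtain ⟨b, hb⟩ := exists_dim_eq (EGA4.FibLocRing A B q)
  rw [h2]
  exact sk_add ha hb h1 (hA _) (hfib q)

/-- Over every prime of the base there is a prime of zero-dimensional, depth-zero fibre. -/
theorem exists_minimal_over (p : Ideal A) [hp : p.IsPrime] [Module.FaithfullyFlat A B] :
    ∃ (q : Ideal B) (_ : q.IsPrime), q.comap (algebraMap A B) = p ∧
      ringKrullDim (EGA4.FibLocRing A B q) = 0 ∧
      _root_.LocCoh.depth (EGA4.FibLocRing A B q) (EGA4.FibLocRing A B q) = 0 := by
  obtain ⟨q₀, hq₀⟩ := PrimeSpectrum.comap_surjective_of_faithfullyFlat (A := A) (B := B) ⟨p, hp⟩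
  have hq₀' : q₀.asIdeal.comap (algebraMap A B) = p := congrArg PrimeSpectrum.asIdeal hq₀
  obtain ⟨q, hq, -⟩ := Ideal.exists_minimalPrimes_le (J := q₀.asIdeal)
    (I := p.map (algebraMap A B)) (Ideal.map_le_iff_le_comap.2 hq₀'.ge)
  haveI := hq.1.1
  have hqp : q.comap (algebraMap A B) = p := by
    refine le_antisymm ?_ (Ideal.map_le_iff_le_comap.1 hq.1.2)
    by_contra hne
    obtain ⟨Q', hQ', hQ'p, hQ'o⟩ := Ideal.exists_ideal_lt_liesOver_of_lt q
      (show p < q.under A from lt_of_le_not_ge (Ideal.map_le_iff_le_comap.1 hq.1.2) hne)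
    exact hQ'.not_ge (hq.2 ⟨hQ'p, Ideal.map_le_iff_le_comap.2 hQ'o.over.le⟩ hQ'.le)
  refine ⟨q, hq.1.1, hqp, ?_⟩
  have hdim : ringKrullDim (EGA4.FibLocRing A B q) = 0 := by
    let J := (q.comap (algebraMap A B)).map (algebraMap A (Localization.AtPrime q))
    have hle : J ≤ maximalIdeal (Localization.AtPrime q) := by
      refine le_maximalIdeal fun h => ?_
      exact (Ideal.Quotient.nontrivial_iff.1
        (inferInstance : Nontrivial (EGA4.FibLocRing A B q))) h
    have hmin : maximalIdeal (Localization.AtPrime q) ∈ J.minimalPrimes := by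
      refine ⟨⟨inferInstance, hle⟩, fun P hP hPle => ?_⟩
      haveI := hP.1
      have h1 : q ≤ P.comap (algebraMap B (Localization.AtPrime q)) := by
        refine hq.2 ⟨inferInstance, ?_⟩ ?_
        · rw [Ideal.map_le_iff_le_comap, Ideal.comap_comap, ← IsScalarTower.algebraMap_eq,
            ← Ideal.map_le_iff_le_comap]
          exact le_of_eq_of_le (by rw [← hqp]) hP.2
        · exact (Ideal.comap_mono hPle).trans
            (IsLocalization.AtPrime.comap_maximalIdeal (Localization.AtPrime q) q).le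
      rw [← Localization.AtPrime.map_eq_maximalIdeal, Ideal.map_le_iff_le_comap]
      exact h1
    rw [← maximalIdeal_height_eq_ringKrullDim, ← IsLocalRing.map_maximalIdeal_of_surjective
      (Ideal.Quotient.mk J) Ideal.Quotient.mk_surjective, height_map_mk_eq_zero hmin]
    rfl
  refine ⟨hdim, ?_⟩
  have h := CAlgH3.depth_le_supportDim (R := EGA4.FibLocRing A B q) (M := EGA4.FibLocRing A B q)
  rw [Module.supportDim_self_eq_ringKrullDim, hdim, ← WithBot.coe_zero, WithBot.coe_le_coe] at h
  exact nonpos_iff_eq_zero.1 h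

theorem hasSk_descend [Module.FaithfullyFlat A B] (n : ℕ) (hB : _root_.LocCoh.HasSk n B B) :
    _root_.LocCoh.HasSk n A A := by
  rw [CAlgH3.hasSk_self_iff] at hB ⊢
  intro p hp
  obtain ⟨q, hq, hqp, h0, hd0⟩ := exists_minimal_over (B := B) p
  obtain ⟨h1, h2, -, -⟩ := local_fibre (A := A) q
  have h := hB q
  rw [h1, h2, h0, hd0, add_zero, add_zero] at h
  subst hqp
  exact h

theorem hasRk_descend [Module.FaithfullyFlat A B] (k : ℕ) (hB : _root_.LocCoh.HasRk k B) :
    _root_.LocCoh.HasRk k A := by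
  intro p hp hk
  obtain ⟨q, hq, hqp, h0, -⟩ := exists_minimal_over (B := B) p
  obtain ⟨h1, -, h3, -⟩ := local_fibre (A := A) q
  subst hqp
  refine h3 (hB q ?_)
  rw [h0, add_zero, IsLocalization.AtPrime.ringKrullDim_eq_height q (Localization.AtPrime q),
    IsLocalization.AtPrime.ringKrullDim_eq_height (q.comap (algebraMap A B))
      (Localization.AtPrime (q.comap (algebraMap A B))), WithBot.coe_inj] at h1
  rw [h1]; exact hk

theorem regular_of_base_and_fibre [Module.Flat A B] (k : ℕ) (q : Ideal B) [q.IsPrime]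
    (hq : q.height ≤ k)
    (hA : (q.comap (algebraMap A B)).height ≤ k →
      IsRegularLocalRing (Localization.AtPrime (q.comap (algebraMap A B))))
    (hF : ringKrullDim (EGA4.FibLocRing A B q) ≤ ((k : ℕ∞) : WithBot ℕ∞) →
      IsRegularLocalRing (EGA4.FibLocRing A B q)) :
    IsRegularLocalRing (Localization.AtPrime q) := by
  obtain ⟨h1, -, -, h4⟩ := local_fibre (A := A) q
  obtain ⟨b, hb⟩ := exists_dim_eq (EGA4.FibLocRing A B q)
  rw [IsLocalization.AtPrime.ringKrullDim_eq_height q (Localization.AtPrime q),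
    IsLocalization.AtPrime.ringKrullDim_eq_height (q.comap (algebraMap A B))
      (Localization.AtPrime (q.comap (algebraMap A B))), hb, ← WithBot.coe_add,
    WithBot.coe_inj] at h1
  rw [h1] at hq
  refine h4 (hA (le_self_add.trans hq)) (hF ?_)
  rw [hb, WithBot.coe_le_coe]
  exact le_add_self.trans hq

theorem regular_of_hasRk_local {R : Type u} [CommRing R] [IsLocalRing R] [IsNoetherianRing R]
    {k : ℕ} (h : _root_.LocCoh.HasRk k R) (hdim : ringKrullDim R ≤ ((k : ℕ∞) : WithBot ℕ∞)) :
    IsRegularLocalRing R := by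
  have hk : (maximalIdeal R).height ≤ k := by
    rw [← WithBot.coe_le_coe, maximalIdeal_height_eq_ringKrullDim]; exact hdim
  haveI := h (maximalIdeal R) hk
  haveI : IsLocalization.AtPrime R (maximalIdeal R) :=
    IsLocalization.self fun x hx => notMem_maximalIdeal.1 hx
  exact IsRegularLocalRing.of_ringEquiv (IsLocalization.algEquiv (maximalIdeal R).primeCompl
    (Localization.AtPrime (maximalIdeal R)) R).toRingEquiv

theorem hasRk_of_base_and_fibres [Module.Flat A B] (k : ℕ) (hA : _root_.LocCoh.HasRk k A)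
    (hfib : ∀ (q : Ideal B) [q.IsPrime],
      ringKrullDim (EGA4.FibLocRing A B q) ≤ ((k : ℕ∞) : WithBot ℕ∞) →
        IsRegularLocalRing (EGA4.FibLocRing A B q)) :
    _root_.LocCoh.HasRk k B :=
  fun q _ hq => regular_of_base_and_fibre (A := A) k q hq (hA _) (hfib q)

omit [IsNoetherianRing A] [IsNoetherianRing B] in
theorem fib_regular_of_hasRk_fiber (k : ℕ)
    (h : ∀ (p : Ideal A) [p.IsPrime], _root_.LocCoh.HasRk k (p.Fiber B)) (q : Ideal B) [q.IsPrime]
    (hq : ringKrullDim (EGA4.FibLocRing A B q) ≤ ((k : ℕ∞) : WithBot ℕ∞)) :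
    IsRegularLocalRing (EGA4.FibLocRing A B q) := by
  obtain ⟨Q, hQ, ⟨e⟩⟩ := exists_fiber_prime (A := A) q
  haveI := h (q.comap (algebraMap A B)) Q (by
    rw [← WithBot.coe_le_coe,
      ← IsLocalization.AtPrime.ringKrullDim_eq_height Q (Localization.AtPrime Q),
      ringKrullDim_eq_of_ringEquiv e]
    exact hq)
  exact IsRegularLocalRing.of_ringEquiv (R := Localization.AtPrime Q) e

section trans

variable {C : Type u} [CommRing C] [IsNoetherianRing C] [Algebra B C] [Algebra A C]
variable [IsScalarTower A B C] [Module.Flat B C]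

/-- The fibre of a composite at a prime `r`: dimensions and depths add. -/
theorem local_fibre_trans (r : Ideal C) [r.IsPrime] :
    ringKrullDim (EGA4.FibLocRing A C r) =
        ringKrullDim (EGA4.FibLocRing A B (r.comap (algebraMap B C))) +
          ringKrullDim (EGA4.FibLocRing B C r) ∧
      _root_.LocCoh.depth (EGA4.FibLocRing A C r) (EGA4.FibLocRing A C r) =
        _root_.LocCoh.depth (EGA4.FibLocRing A B (r.comap (algebraMap B C)))
            (EGA4.FibLocRing A B (r.comap (algebraMap B C))) +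
          _root_.LocCoh.depth (EGA4.FibLocRing B C r) (EGA4.FibLocRing B C r) := by
  let q := r.comap (algebraMap B C)
  haveI : r.LiesOver q := ⟨rfl⟩
  letI := Localization.AtPrime.algebraOfLiesOver q r
  let Bq := Localization.AtPrime q
  let Cr := Localization.AtPrime r
  haveI : IsLocalHom (algebraMap Bq Cr) :=
    Localization.isLocalHom_localRingHom q r (algebraMap B C) Ideal.LiesOver.over
  haveI : Module.Flat Bq Cr := inferInstance
  let I : Ideal Bq := (q.comap (algebraMap A B)).map (algebraMap A Bq)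
  have hp : r.comap (algebraMap A C) = q.comap (algebraMap A B) := by
    rw [IsScalarTower.algebraMap_eq A B C, ← Ideal.comap_comap]
  have hI : I.map (algebraMap Bq Cr) = (r.comap (algebraMap A C)).map (algebraMap A Cr) := by
    rw [hp, Ideal.map_map, IsScalarTower.algebraMap_eq A B Bq, ← RingHom.comp_assoc,
      ← IsScalarTower.algebraMap_eq B Bq Cr, ← IsScalarTower.algebraMap_eq A B Cr]
  have hm : (maximalIdeal Bq).map (algebraMap Bq Cr) = q.map (algebraMap B Cr) := by
    rw [← Localization.AtPrime.map_eq_maximalIdeal, Ideal.map_map, ← IsScalarTower.algebraMap_eq]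
  let e₁ : (Cr ⧸ I.map (algebraMap Bq Cr)) ≃+* EGA4.FibLocRing A C r := Ideal.quotEquivOfEq hI
  let e₂ : (Cr ⧸ (maximalIdeal Bq).map (algebraMap Bq Cr)) ≃+* EGA4.FibLocRing B C r :=
    Ideal.quotEquivOfEq hm
  haveI : IsLocalRing (Cr ⧸ I.map (algebraMap Bq Cr)) := e₁.symm.isLocalRing
  haveI : IsLocalRing (Cr ⧸ (maximalIdeal Bq).map (algebraMap Bq Cr)) := e₂.symm.isLocalRing
  haveI : IsLocalRing (Bq ⧸ I) := isLocalRing_fibLocRing q
  refine ⟨?_, ?_⟩
  · have h := ringKrullDim_quotient_map_add_eq (A := Bq) (B := Cr) I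
    rwa [ringKrullDim_eq_of_ringEquiv e₁, ringKrullDim_eq_of_ringEquiv e₂] at h
  · have h := depth_quotient_map_eq (A := Bq) (B := Cr) I
    rwa [CAlgH3.depth_ringEquiv e₁, CAlgH3.depth_ringEquiv e₂] at h

end trans

omit [IsNoetherianRing A] in
theorem isNoetherianRing_fiber (p : Ideal A) [p.IsPrime] : IsNoetherianRing (p.Fiber B) := by
  haveI : IsNoetherianRing (Localization (Algebra.algebraMapSubmonoid B p.primeCompl)) :=
    IsLocalization.isNoetherianRing (Algebra.algebraMapSubmonoid B p.primeCompl) _ inferInstance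
  letI : Algebra B (p.Fiber B) := Algebra.TensorProduct.rightAlgebra
  exact isNoetherianRing_of_ringEquiv _ (Ideal.Fiber.algEquivQuotient (S := B) p).toRingEquiv.symm

omit [IsNoetherianRing A] in
theorem forall_isCMRing_fiber_iff :
    (∀ (p : Ideal A) [p.IsPrime], _root_.LocCoh.IsCohenMacaulayRing (p.Fiber B)) ↔
      ∀ (q : Ideal B) [q.IsPrime], ringKrullDim (EGA4.FibLocRing A B q) =
        ((_root_.LocCoh.depth (EGA4.FibLocRing A B q) (EGA4.FibLocRing A B q) : ℕ∞) :
          WithBot ℕ∞) := by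
  constructor
  · intro h q _
    obtain ⟨Q, hQ, ⟨e⟩⟩ := exists_fiber_prime (A := A) q
    have hQcm := (h (q.comap (algebraMap A B))).isCohenMacaulayLocalRing_localization Q
    haveI := isNoetherianRing_fiber (B := B) (q.comap (algebraMap A B))
    rw [CAlgH3.isCohenMacaulayLocalRing_iff_depth, ringKrullDim_eq_of_ringEquiv e,
      CAlgH3.depth_ringEquiv e] at hQcm
    exact hQcm
  · intro h p _
    haveI := isNoetherianRing_fiber (B := B) p
    refine ⟨fun Q _ => ?_⟩
    obtain ⟨-, ⟨e⟩⟩ := fiber_localization_equiv p Q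
    rw [CAlgH3.isCohenMacaulayLocalRing_iff_depth, ringKrullDim_eq_of_ringEquiv e,
      CAlgH3.depth_ringEquiv e]
    exact h _

end Groth.Agent.CommAlg6
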