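import Mathlib.Algebra.Category.ModuleCat.ProjectiveDimension
import Mathlib.RingTheory.LocalProperties.ProjectiveDimension
import Mathlib.RingTheory.Flat.EquationalCriterion
import Mathlib.RingTheory.Flat.FaithfullyFlat.Basic
import Mathlib.RingTheory.Spectrum.Prime.FreeLocus
import Mathlib.RingTheory.Localization.BaseChange
import Mathlib.RingTheory.Flat.Localization

/-! Projective dimension and base change. -/

universe u

open CategoryTheory TensorProduct

namespace Groth.Agent.CommAlg6

/-- `pd M ≤ n` for modules. -/
def PdLE (R : Type u) [CommRing R] (M : Type u) [AddCommGroup M] [Module R M] (n : ℕ) : Prop :=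
  HasProjectiveDimensionLE (ModuleCat.of R M) n

variable {R : Type u} [CommRing R] {M N P : Type u} [AddCommGroup M] [Module R M] [AddCommGroup N]
  [Module R N] [AddCommGroup P] [Module R P]

theorem pdLE_zero_iff : PdLE R M 0 ↔ Module.Projective R M := by
  rw [PdLE, HasProjectiveDimensionLE, zero_add, ← projective_iff_hasProjectiveDimensionLT_one,
    ← IsProjective.iff_projective]

theorem pdLE_congr (e : M ≃ₗ[R] N) (n : ℕ) : PdLE R M n ↔ PdLE R N n :=
  ⟨fun (h : HasProjectiveDimensionLE (ModuleCat.of R M) n) => haveI := h
    ModuleCat.hasProjectiveDimensionLE_of_linearEquiv (M := ModuleCat.of R M)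
      (N := ModuleCat.of R N) e n,
    fun (h : HasProjectiveDimensionLE (ModuleCat.of R N) n) => haveI := h
    ModuleCat.hasProjectiveDimensionLE_of_linearEquiv (M := ModuleCat.of R N)
      (N := ModuleCat.of R M) e.symm n⟩

theorem pdLE_succ_iff [Module.Projective R P] (f : P →ₗ[R] M) (hf : Function.Surjective f) (n : ℕ) :
    PdLE R M (n + 1) ↔ PdLE R (LinearMap.ker f) n := by
  have hS := LinearMap.shortExact_shortComplexKer hf
  have hP : Projective (ModuleCat.of R P) := (IsProjective.iff_projective P).mp inferInstance
  exact hS.hasProjectiveDimensionLT_X₃_iff n hP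

theorem projectiveDimension_le_iff_pdLE (n : ℕ) :
    projectiveDimension (ModuleCat.of R M) ≤ n ↔ PdLE R M n :=
  projectiveDimension_le_iff _ n

theorem projectiveDimension_eq_bot_iff_subsingleton :
    projectiveDimension (ModuleCat.of R M) = ⊥ ↔ Subsingleton M := by
  rw [projectiveDimension_eq_bot_iff, ModuleCat.isZero_iff_subsingleton]

theorem le_of_forall_nat {a b : WithBot ℕ∞} (hbot : b = ⊥ → a = ⊥) (h : ∀ n : ℕ, b ≤ n → a ≤ n) :
    a ≤ b := by
  refine le_of_forall_ge fun c => ?_
  induction c with
  | bot => simpa using hbot
  | coe c =>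
    induction c with
    | top => simp
    | coe n => exact h n

variable (B : Type u) [CommRing B] [Algebra R B]

/-- The kernel of a base-changed map along a flat algebra. -/
noncomputable def kerBaseChangeEquiv [Module.Flat R B] (f : P →ₗ[R] M) :
    (B ⊗[R] LinearMap.ker f) ≃ₗ[B] LinearMap.ker (f.baseChange B) :=
  LinearEquiv.ofBijective
    (((LinearMap.ker f).subtype.baseChange B).codRestrict _ fun x => by
      rw [LinearMap.mem_ker]
      have h : (f.baseChange B).comp ((LinearMap.ker f).subtype.baseChange B) = 0 := by
        rw [← LinearMap.baseChange_comp, show f.comp (LinearMap.ker f).subtype = 0 from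
          LinearMap.ext fun x => x.2, LinearMap.baseChange_zero]
      exact DFunLike.congr_fun h x)
    ⟨fun x y h => Module.Flat.lTensor_preserves_injective_linearMap (M := B)
        (LinearMap.ker f).subtype Subtype.val_injective (congrArg Subtype.val h),
      fun ⟨y, hy⟩ => by
        obtain ⟨x, hx⟩ := (Module.Flat.lTensor_exact B
          (LinearMap.exact_subtype_ker_map f) y).mp hy
        exact ⟨x, Subtype.ext hx⟩⟩

theorem pdLE_baseChange [Module.Flat R B] : ∀ (n : ℕ) {M : Type u} [AddCommGroup M] [Module R M],
    PdLE R M n → PdLE B (B ⊗[R] M) n := by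
  intro n
  induction n with
  | zero =>
    intro M _ _ h
    haveI := pdLE_zero_iff.mp h
    exact pdLE_zero_iff.mpr inferInstance
  | succ n ih =>
    intro M _ _ h
    let f : (M →₀ R) →ₗ[R] M := Finsupp.linearCombination R id
    have hf : Function.Surjective f := fun m => ⟨Finsupp.single m 1, by simp [f]⟩
    rw [pdLE_succ_iff (f.baseChange B) (LinearMap.lTensor_surjective B hf),
      ← pdLE_congr (kerBaseChangeEquiv B f)]
    exact ih ((pdLE_succ_iff f hf n).mp h)

theorem pdLE_baseChange_iff [IsNoetherianRing R] [Module.FaithfullyFlat R B] :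
    ∀ (n : ℕ) {M : Type u} [AddCommGroup M] [Module R M] [Module.Finite R M],
      (PdLE B (B ⊗[R] M) n ↔ PdLE R M n) := by
  intro n
  induction n with
  | zero =>
    intro M _ _ _
    refine ⟨fun h => ?_, pdLE_baseChange B 0⟩
    haveI := pdLE_zero_iff.mp h
    haveI : Module.FinitePresentation R M := Module.finitePresentation_of_finite R M
    haveI : Module.Flat R M := Module.Flat.of_flat_tensorProduct R M B
    exact pdLE_zero_iff.mpr Module.Flat.projective_of_finitePresentation
  | succ n ih =>
    intro M _ _ _
    obtain ⟨P, _, _, _, _, f, hf⟩ := Module.exists_finite_presentation R M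
    rw [pdLE_succ_iff (f.baseChange B) (LinearMap.lTensor_surjective B hf),
      ← pdLE_congr (kerBaseChangeEquiv B f), pdLE_succ_iff f hf]
    exact ih

theorem projectiveDimension_baseChange_le [Module.Flat R B] :
    projectiveDimension (ModuleCat.of B (B ⊗[R] M)) ≤ projectiveDimension (ModuleCat.of R M) := by
  refine le_of_forall_nat ?_ fun n h => ?_
  · simp only [projectiveDimension_eq_bot_iff_subsingleton]
    intro h
    infer_instance
  · rw [projectiveDimension_le_iff_pdLE] at h ⊢
    exact pdLE_baseChange B n h

theorem projectiveDimension_baseChange_eq [IsNoetherianRing R] [Module.FaithfullyFlat R B]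
    [Module.Finite R M] :
    projectiveDimension (ModuleCat.of B (B ⊗[R] M)) = projectiveDimension (ModuleCat.of R M) := by
  refine le_antisymm (projectiveDimension_baseChange_le B) (le_of_forall_nat ?_ fun n h => ?_)
  · simp only [projectiveDimension_eq_bot_iff_subsingleton]
    exact fun h => (Module.FaithfullyFlat.subsingleton_tensorProduct_iff_right R B).mp h
  · rw [projectiveDimension_le_iff_pdLE] at h ⊢
    exact (pdLE_baseChange_iff B n).mp h

/-- The locus where the localization has projective dimension at most `n` is open. -/
theorem isOpen_pdLE_locus [IsNoetherianRing R] :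
    ∀ (n : ℕ) (M : Type u) [AddCommGroup M] [Module R M] [Module.Finite R M],
      IsOpen {p : PrimeSpectrum R |
        PdLE (Localization.AtPrime p.asIdeal) (LocalizedModule p.asIdeal.primeCompl M) n} := by
  intro n
  induction n with
  | zero =>
    intro M _ _ _
    haveI : Module.FinitePresentation R M := Module.finitePresentation_of_finite R M
    convert Module.isOpen_freeLocus (R := R) (M := M) using 1
    ext p
    rw [Set.mem_setOf_eq, pdLE_zero_iff, Module.mem_freeLocus]
    haveI : Module.FinitePresentation (Localization.AtPrime p.asIdeal)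
        (LocalizedModule p.asIdeal.primeCompl M) :=
      Module.finitePresentation_of_finite _ _
    exact ⟨fun _ => Module.free_of_flat_of_isLocalRing, fun _ => inferInstance⟩
  | succ n ih =>
    intro M _ _ _
    obtain ⟨P, _, _, _, _, f, hf⟩ := Module.exists_finite_presentation R M
    convert ih (LinearMap.ker f) using 1
    ext p
    rw [Set.mem_setOf_eq, Set.mem_setOf_eq,
      pdLE_congr (LocalizedModule.equivTensorProduct p.asIdeal.primeCompl M),
      pdLE_congr (LocalizedModule.equivTensorProduct p.asIdeal.primeCompl (LinearMap.ker f))]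
    exact ((pdLE_succ_iff (f.baseChange (Localization.AtPrime p.asIdeal))
        (LinearMap.lTensor_surjective _ hf) n).trans
      (pdLE_congr (kerBaseChangeEquiv (Localization.AtPrime p.asIdeal) f) n).symm)

end Groth.Agent.CommAlg6
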