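import Groth.Agent.CAlgML.MLProps
import Mathlib.RingTheory.MvPowerSeries.Basic
import Mathlib.RingTheory.TensorProduct.Maps

/-! Power series over a Noetherian ring: flatness and finite base change. -/

universe u v

open TensorProduct

namespace Groth.Agent.CommAlg6

theorem flat_pi (ι : Type v) (R : Type u) [CommRing R] [IsNoetherianRing R] :
    Module.Flat R (ι → R) := by
  rw [Module.Flat.iff_rTensor_injective]
  intro I hI
  haveI : Module.FinitePresentation R I := Module.finitePresentation_of_finite R I
  intro x y hxy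
  apply (CAlgML.piRightHom_bijective_of_finitePresentation I ι (fun _ => R)).1
  funext i
  apply (TensorProduct.rid R I).injective
  have key : ∀ z : I ⊗[R] (ι → R), ((TensorProduct.rid R I (piRightHom R R I (fun _ : ι => R) z i) : I) : R) =
      TensorProduct.lid R (ι → R) (I.subtype.rTensor (ι → R) z) i := by
    intro z
    induction z with
    | zero => simp
    | tmul a f => simp [mul_comm]
    | add p q hp hq => simp only [map_add, Pi.add_apply, Submodule.coe_add, hp, hq]
  exact Subtype.ext ((key x).trans ((congrArg (fun t => TensorProduct.lid R (ι → R) t i) hxy).trans (key y).symm))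

theorem flat_mvPowerSeries (σ : Type v) (R : Type u) [CommRing R] [IsNoetherianRing R] :
    Module.Flat R (MvPowerSeries σ R) :=
  flat_pi (σ →₀ ℕ) R

section

variable (σ : Type v) (R R' : Type u) [CommRing R] [CommRing R'] [Algebra R R']

/-- The comparison map `R' ⊗_R R⟦X⟧ → R'⟦X⟧`. -/
noncomputable def mvPowerSeriesBaseChange : R' ⊗[R] MvPowerSeries σ R →ₐ[R'] MvPowerSeries σ R' :=
  Algebra.TensorProduct.lift (Algebra.ofId R' _)
    { MvPowerSeries.map (algebraMap R R') with
      commutes' := fun r => by
        simp [MvPowerSeries.algebraMap_apply] }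
    (fun _ _ => Commute.all _ _)

theorem coeff_mvPowerSeriesBaseChange_tmul (a : R') (f : MvPowerSeries σ R) (d : σ →₀ ℕ) :
    MvPowerSeries.coeff d (mvPowerSeriesBaseChange σ R R' (a ⊗ₜ[R] f)) =
      a * algebraMap R R' (MvPowerSeries.coeff d f) := by
  simp [mvPowerSeriesBaseChange, Algebra.ofId_apply, MvPowerSeries.algebraMap_apply]

theorem mvPowerSeriesBaseChange_bijective [IsNoetherianRing R] [Module.Finite R R'] :
    Function.Bijective (mvPowerSeriesBaseChange σ R R') := by
  haveI : Module.FinitePresentation R R' := Module.finitePresentation_of_finite R R'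
  have h1 := CAlgML.piRightHom_bijective_of_finitePresentation (R := R) R' (σ →₀ ℕ) (fun _ => R)
  let r : ((σ →₀ ℕ) → R' ⊗[R] R) ≃ ((σ →₀ ℕ) → R') :=
    Equiv.piCongrRight fun _ => (TensorProduct.rid R R').toEquiv
  have h2 : ∀ x : R' ⊗[R] ((σ →₀ ℕ) → R), mvPowerSeriesBaseChange σ R R' x =
      r (TensorProduct.piRightHom R R R' (fun _ : σ →₀ ℕ => R) x) := by
    intro x
    induction x with
    | zero =>
      refine (map_zero (mvPowerSeriesBaseChange σ R R')).trans ?_
      funext d
      simp [r]; rfl
    | tmul a f =>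
      funext d
      refine (coeff_mvPowerSeriesBaseChange_tmul σ R R' a f d).trans ?_
      simp [r, TensorProduct.rid_tmul, Algebra.smul_def, mul_comm]
      rfl
    | add x y hx hy =>
      refine (map_add (mvPowerSeriesBaseChange σ R R') x y).trans ?_
      funext d
      refine (congrArg₂ (· + ·) (congrFun hx d) (congrFun hy d)).trans ?_
      simp [r]
  have := (r.bijective.comp h1)
  constructor
  · intro x y hxy
    refine this.1 ?_
    exact (h2 x).symm.trans (hxy.trans (h2 y))
  · intro z
    obtain ⟨x, hx⟩ := this.2 z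
    exact ⟨x, (h2 x).trans hx⟩

/-- `R' ⊗_R R⟦X⟧ ≅ R'⟦X⟧` for a finite algebra over a Noetherian ring. -/
noncomputable def mvPowerSeriesBaseChangeEquiv [IsNoetherianRing R] [Module.Finite R R'] :
    R' ⊗[R] MvPowerSeries σ R ≃ₐ[R'] MvPowerSeries σ R' :=
  AlgEquiv.ofBijective _ (mvPowerSeriesBaseChange_bijective σ R R')

end

end Groth.Agent.CommAlg6
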