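import Groth.Prelude.Def_EGA4b
import Mathlib.RingTheory.IntegralClosure.IntegrallyClosed
import Mathlib.RingTheory.Localization.Integral
import Mathlib.RingTheory.Ideal.MinimalPrime.Localization

/-! Normal rings (all local rings are integrally closed domains) versus integral closedness in the
total ring of fractions. -/

universe u

namespace Groth.Agent.CommAlg6

open nonZeroDivisors

variable {A : Type u} [CommRing A]

/-- A subalgebra of the total ring of fractions which is a normal ring is integrally closed in it. -/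
theorem mem_of_isIntegral_of_isNormalRing (B : Subalgebra A (FractionRing A))
    (hB : EGA4.IsNormalRing B) {x : FractionRing A} (hx : IsIntegral B x) : x ∈ B := by
  classical
  let J : Ideal B :=
    { carrier := {c | (c : FractionRing A) * x ∈ B}
      zero_mem' := by simp
      add_mem' := fun {c d} hc hd => by
        simp only [Set.mem_ofPred_eq, Subalgebra.coe_add, add_mul] at hc hd ⊢
        exact B.add_mem hc hd
      smul_mem' := fun c d hd => by
        simp only [Set.mem_ofPred_eq, smul_eq_mul, Subalgebra.coe_mul, mul_assoc] at hd ⊢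
        exact B.mul_mem c.2 hd }
  suffices J = ⊤ by
    have h1 : (1 : B) ∈ J := this ▸ Submodule.mem_top
    change ((1 : B) : FractionRing A) * x ∈ B at h1
    simpa using h1
  by_contra hJ
  obtain ⟨p, hp, hJp⟩ := Ideal.exists_le_maximal J hJ
  obtain ⟨hdom, hic⟩ := hB p
  haveI := hdom; haveI := hic
  let Bp := Localization.AtPrime p
  haveI : IsDomain Bp := hdom
  let L := FractionRing Bp
  haveI : IsFractionRing Bp L := Localization.isLocalization
  let ψ : B →+* L := (algebraMap Bp L).comp (algebraMap B Bp)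
  have hψ0 : ∀ b : B, ψ b = 0 → ∃ u : B, u ∉ p ∧ u * b = 0 := by
    intro b hb
    have : algebraMap B Bp b = 0 := IsFractionRing.injective Bp L ((show algebraMap Bp L (algebraMap B Bp b) = 0 from hb).trans (map_zero _).symm)
    obtain ⟨⟨u, hu⟩, huz⟩ := (IsLocalization.map_eq_zero_iff p.primeCompl Bp b).mp this
    exact ⟨u, hu, huz⟩
  have hs : ∀ s : A⁰, IsUnit ((ψ.comp (algebraMap A B)) s) := by
    intro s
    rw [isUnit_iff_ne_zero]
    intro h
    obtain ⟨u, hu, huz⟩ := hψ0 _ h
    have hu0 : (u : FractionRing A) * algebraMap A (FractionRing A) s = 0 := by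
      simpa using congrArg Subtype.val huz
    rw [(IsLocalization.map_units (FractionRing A) s).mul_left_eq_zero] at hu0
    exact hu (by rw [show u = 0 from Subtype.ext hu0]; exact p.zero_mem)
  let φ : FractionRing A →+* L := IsLocalization.lift (M := A⁰) hs
  have hφ : ∀ b : B, φ (b : FractionRing A) = ψ b := by
    intro b
    obtain ⟨⟨a, s⟩, hb⟩ := IsLocalization.surj A⁰ (b : FractionRing A)
    have e1 := congrArg φ hb
    simp only [map_mul, φ, IsLocalization.lift_eq] at e1
    have hb' : b * algebraMap A B s = algebraMap A B a := Subtype.ext (by simpa using hb)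
    have e2 := congrArg ψ hb'
    rw [map_mul] at e2
    exact (hs s).mul_right_cancel (e1.trans e2.symm)
  have hφx : IsIntegral Bp (φ x) := by
    obtain ⟨f, hf, hfx⟩ := hx
    refine ⟨f.map (algebraMap B Bp), hf.map _, ?_⟩
    rw [Polynomial.eval₂_map]
    have h := congrArg φ hfx
    rw [map_zero, Polynomial.hom_eval₂] at h
    rwa [show (algebraMap Bp L).comp (algebraMap B Bp) = φ.comp (algebraMap B (FractionRing A))
      from RingHom.ext fun b => (hφ b).symm]
  obtain ⟨z, hz⟩ := IsIntegrallyClosed.algebraMap_eq_of_integral hφx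
  obtain ⟨⟨b, t⟩, hzt⟩ := IsLocalization.surj p.primeCompl z
  obtain ⟨⟨a, s⟩, has⟩ := IsLocalization.surj A⁰ x
  have e1 := congrArg φ has
  rw [map_mul] at e1
  have e1a : φ (algebraMap A _ (s : A)) = ψ (algebraMap A B s) := IsLocalization.lift_eq _ _
  have e1b : φ (algebraMap A _ a) = ψ (algebraMap A B a) := IsLocalization.lift_eq _ _
  rw [e1a, e1b] at e1
  have e2 : φ x * ψ t = ψ b := by
    rw [← hz]
    simpa [ψ] using congrArg (algebraMap Bp L) hzt
  have e3 : ψ ((t : B) * algebraMap A B a - b * algebraMap A B s) = 0 := by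
    rw [map_sub, map_mul, map_mul, ← e1, ← e2]
    ring
  obtain ⟨u, hu, huz⟩ := hψ0 _ e3
  apply p.primeCompl.mul_mem hu t.2
  refine hJp ?_
  change ((u * (t : B) : B) : FractionRing A) * x ∈ B
  have h3 : ((u : FractionRing A) * (t : B)) * algebraMap A (FractionRing A) a =
      ((u : FractionRing A) * b) * algebraMap A (FractionRing A) s := by
    have := congrArg Subtype.val huz
    simp only [Subalgebra.coe_mul, Subalgebra.coe_sub, Subalgebra.coe_algebraMap,
      Subalgebra.coe_zero] at this
    linear_combination this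
  have h4 : ((u * (t : B) : B) : FractionRing A) * x = ((u * b : B) : FractionRing A) := by
    apply (IsLocalization.map_units (FractionRing A) s).mul_right_cancel
    simp only [Subalgebra.coe_mul]
    rw [mul_assoc, has, h3]
  rw [h4]
  exact (u * b).2

/-- A reduced ring with finitely many minimal primes which is integrally closed in its total ring
of fractions is normal. -/
theorem isNormalRing_of_integrallyClosed [IsReduced A] (hfin : (minimalPrimes A).Finite)
    (hA : ∀ x : FractionRing A, IsIntegral A x → ∃ a, algebraMap A _ a = x) :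
    EGA4.IsNormalRing A := by
  classical
  -- an element lying in every minimal prime vanishes
  have hzero : ∀ x : A, (∀ P ∈ minimalPrimes A, x ∈ P) → x = 0 := fun x hx => by
    have : x ∈ sInf (minimalPrimes A) := Submodule.mem_sInf.mpr hx
    rw [show sInf (minimalPrimes A) = nilradical A from Ideal.sInf_minimalPrimes,
      nilradical_eq_zero] at this
    exact this
  have hnzd : ∀ x : A, (∀ P ∈ minimalPrimes A, x ∉ P) → x ∈ A⁰ := by
    intro x hx
    rw [mem_nonZeroDivisors_iff_right]
    intro y hy
    refine hzero y fun P hP => ?_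
    have h' : y * x ∈ P := hy ▸ P.zero_mem
    exact (hP.1.1.mem_or_mem h').resolve_right (hx P hP)
  -- the idempotent of a minimal prime
  have hidem : ∀ P ∈ minimalPrimes A, ∃ c : A, c * c = c ∧ c ∉ P ∧
      ∀ P' ∈ minimalPrimes A, P' ≠ P → c ∈ P' := by
    intro P hP
    let T : Finset (Ideal A) := hfin.toFinset.erase P
    have hPp : P.IsPrime := hP.1.1
    have hT : ∀ P' ∈ T, P' ∈ minimalPrimes A ∧ P' ≠ P := fun P' h => by
      simp [T] at h; exact ⟨h.2, h.1⟩
    have h1 : ¬ T.inf id ≤ P := fun h => by
      obtain ⟨P', hP', hle⟩ := hPp.inf_le'.mp h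
      exact (hT P' hP').2 (le_antisymm hle (hP.2 ⟨(hT P' hP').1.1.1, bot_le⟩ hle))
    obtain ⟨a, ha, haP⟩ := SetLike.not_le_iff_exists.mp h1
    have h2 : ¬ ((P : Set A) ⊆ ⋃ i ∈ (↑T : Set (Ideal A)), (i : Set A)) := by
      rw [Ideal.subset_union_prime (f := fun i => i) P P (fun i hi _ _ => (hT i hi).1.1.1)]
      rintro ⟨P', hP', hle⟩
      exact (hT P' hP').2 (le_antisymm ((hT P' hP').1.2 ⟨hPp, bot_le⟩ hle) hle)
    obtain ⟨b, hbP, hb⟩ := Set.not_subset.mp h2
    simp only [Set.mem_iUnion, SetLike.mem_coe, exists_prop, not_exists, not_and] at hb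
    have haT : ∀ P' ∈ T, a ∈ P' := fun P' h => (Finset.inf_le h : T.inf id ≤ P') ha
    have hab : a * b = 0 := hzero _ fun P' hP' => by
      by_cases h : P' = P
      · exact h ▸ Ideal.mul_mem_left _ _ hbP
      · exact Ideal.mul_mem_right _ _ (haT P' (by simp [T, h, hP']))
    have hsum : a + b ∈ A⁰ := hnzd _ fun P' hP' hmem => by
      by_cases h : P' = P
      · subst h; exact haP ((Submodule.add_mem_iff_left _ hbP).mp hmem)
      · have hPT : P' ∈ T := by simp [T, h, hP']
        exact hb P' hPT ((Submodule.add_mem_iff_right _ (haT P' hPT)).mp hmem)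
    let e : FractionRing A := IsLocalization.mk' _ a ⟨a + b, hsum⟩
    have hes : e * algebraMap A _ (a + b) = algebraMap A _ a :=
      IsLocalization.mk'_spec (FractionRing A) a ⟨a + b, hsum⟩
    have he2 : e * e = e := by
      apply (IsLocalization.map_units (FractionRing A) (⟨a + b, hsum⟩ : A⁰)).mul_right_cancel
      apply (IsLocalization.map_units (FractionRing A) (⟨a + b, hsum⟩ : A⁰)).mul_right_cancel
      calc e * e * algebraMap A _ (a + b) * algebraMap A _ (a + b)
          = (e * algebraMap A _ (a + b)) * (e * algebraMap A _ (a + b)) := by ring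
        _ = algebraMap A _ a * algebraMap A _ a := by rw [hes]
        _ = algebraMap A _ (a * (a + b)) := by rw [← map_mul, mul_add, hab, add_zero]
        _ = e * algebraMap A _ (a + b) * algebraMap A _ (a + b) := by rw [map_mul, hes]
    obtain ⟨c, hc⟩ := hA e ⟨Polynomial.X ^ 2 - Polynomial.X,
      Polynomial.monic_X_pow_sub (lt_of_le_of_lt Polynomial.degree_X_le (by norm_num)),
      by simp [pow_two, he2]⟩
    have hinj := IsFractionRing.injective A (FractionRing A)
    have hcc : c * c = c := hinj (by rw [map_mul, hc, he2])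
    have hca : c * (a + b) = a := hinj (by rw [map_mul, hc, hes])
    refine ⟨c, hcc, fun h => haP (hca ▸ Ideal.mul_mem_right _ _ h), fun P' hP' hne => ?_⟩
    have hPT : P' ∈ T := by simp [T, hne, hP']
    have hmem : c * (a + b) ∈ P' := by rw [hca]; exact haT P' hPT
    exact (hP'.1.1.mem_or_mem hmem).resolve_right
      fun h => hb P' hPT ((Submodule.add_mem_iff_right _ (haT P' hPT)).mp h)
  intro p hp
  obtain ⟨P, hP, hPp⟩ := Ideal.exists_minimalPrimes_le (bot_le : (⊥ : Ideal A) ≤ p)
  obtain ⟨c, hcc, hcP, hcO⟩ := hidem P hP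
  have h1c : 1 - c ∈ P := (hP.1.1.mem_or_mem
    (show c * (1 - c) ∈ P by rw [mul_sub, mul_one, hcc, sub_self]; exact P.zero_mem)).resolve_left hcP
  have hcp : c ∉ p := fun h => hp.ne_top ((Ideal.eq_top_iff_one _).mpr
    (by simpa using p.add_mem (hPp h1c) h))
  have hcx : ∀ x ∈ P, c * x = 0 := fun x hx => hzero _ fun P' hP' => by
    by_cases h : P' = P
    · exact h ▸ Ideal.mul_mem_left _ _ hx
    · exact Ideal.mul_mem_right _ _ (hcO P' hP' h)
  let Ap := Localization.AtPrime p
  have hker : ∀ x : A, algebraMap A Ap x = 0 ↔ x ∈ P := by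
    intro x
    rw [IsLocalization.map_eq_zero_iff p.primeCompl Ap x]
    constructor
    · rintro ⟨⟨u, hu⟩, hux⟩
      have hmem : u * x ∈ P := by
        have h' : u * x = 0 := hux
        rw [h']; exact P.zero_mem
      exact (hP.1.1.mem_or_mem hmem).resolve_left fun h => hu (hPp h)
    · exact fun hx => ⟨⟨c, hcp⟩, hcx x hx⟩
  haveI hdom : IsDomain Ap := by
    haveI : NoZeroDivisors Ap := ⟨fun {y z} hyz => by
      obtain ⟨⟨a, s⟩, ha⟩ := IsLocalization.surj p.primeCompl y
      obtain ⟨⟨b, t⟩, hb⟩ := IsLocalization.surj p.primeCompl z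
      have hab : algebraMap A Ap (a * b) = 0 := by
        rw [map_mul, ← ha, ← hb]
        calc y * algebraMap A Ap s * (z * algebraMap A Ap t)
            = (y * z) * (algebraMap A Ap s * algebraMap A Ap t) := by ring
          _ = 0 := by rw [hyz, zero_mul]
      rcases hP.1.1.mem_or_mem ((hker _).mp hab) with h | h
      · left
        have h0 := ha.trans ((hker a).mpr h)
        exact (IsLocalization.map_units Ap s).mul_left_eq_zero.mp h0
      · right
        have h0 := hb.trans ((hker b).mpr h)
        exact (IsLocalization.map_units Ap t).mul_left_eq_zero.mp h0⟩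
    exact NoZeroDivisors.to_isDomain _
  refine ⟨hdom, ?_⟩
  let L := FractionRing Ap
  rw [isIntegrallyClosed_iff L]
  intro y hy
  have hA' : ∀ x : A, algebraMap A L x = algebraMap Ap L (algebraMap A Ap x) := fun x =>
    IsScalarTower.algebraMap_apply A Ap L x
  obtain ⟨⟨u, hu⟩, huy⟩ :=
    IsIntegral.exists_multiple_integral_of_isLocalization p.primeCompl y hy
  -- write y as a quotient of elements of A with a regular denominator
  obtain ⟨⟨z, w⟩, hzw⟩ := IsLocalization.surj Ap⁰ y
  obtain ⟨⟨a₀, s₀⟩, hz⟩ := IsLocalization.surj p.primeCompl z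
  obtain ⟨⟨b₀, t₀⟩, hw⟩ := IsLocalization.surj p.primeCompl (w : Ap)
  have hb₀ : b₀ ∉ P := fun h => by
    have h0 := hw.trans ((hker b₀).mpr h)
    exact nonZeroDivisors.ne_zero w.2 ((IsLocalization.map_units Ap t₀).mul_left_eq_zero.mp h0)
  let s : A := b₀ * s₀ * c + (1 - c)
  let a : A := a₀ * t₀
  have hsPs : s ∈ A⁰ := hnzd _ fun P' hP' hmem => by
    by_cases h : P' = P
    · subst h
      have h2 : b₀ * s₀ * c ∈ P' := (Submodule.add_mem_iff_left _ h1c).mp hmem
      rcases hP'.1.1.mem_or_mem h2 with h3 | h3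
      · rcases hP'.1.1.mem_or_mem h3 with h4 | h4
        · exact hb₀ h4
        · exact s₀.2 (hPp h4)
      · exact hcP h3
    · have h2 : 1 - c ∈ P' := (Submodule.add_mem_iff_right _
        (Ideal.mul_mem_left _ _ (hcO P' hP' h))).mp hmem
      exact hP'.1.1.ne_top ((Ideal.eq_top_iff_one _).mpr
        (by simpa using P'.add_mem h2 (hcO P' hP' h)))
  have hc1 : algebraMap A Ap c = 1 := by
    have h0 : algebraMap A Ap (1 - c) = 0 := (hker _).mpr h1c
    rw [map_sub, map_one, sub_eq_zero] at h0
    exact h0.symm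
  have hs1 : algebraMap A Ap s = algebraMap A Ap (b₀ * s₀) := by
    simp only [s, map_add, map_mul, map_sub, map_one, hc1]; ring
  have key : y * algebraMap A L s = algebraMap A L a := by
    rw [hA', hA', hs1, map_mul, map_mul, show a = a₀ * (t₀ : A) from rfl, map_mul, map_mul,
      ← hw, ← hz, map_mul, map_mul, ← hzw]
    ring
  -- the map to L
  have hlift : ∀ r : A⁰, IsUnit (algebraMap A L r) := fun r => by
    rw [isUnit_iff_ne_zero, hA']
    intro h
    have h' := IsFractionRing.injective Ap L (h.trans (map_zero _).symm)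
    obtain ⟨⟨v, hv⟩, hvr⟩ := (IsLocalization.map_eq_zero_iff p.primeCompl Ap _).mp h'
    have : v = 0 := mem_nonZeroDivisors_iff_right.mp r.2 v hvr
    exact hv (this ▸ p.zero_mem)
  let φ : FractionRing A →+* L := IsLocalization.lift (M := A⁰) hlift
  have hφa : ∀ r, φ (algebraMap A _ r) = algebraMap A L r := IsLocalization.lift_eq _
  have hφ0 : ∀ x, φ x = 0 → algebraMap A _ c * x = 0 := by
    intro x hx
    obtain ⟨⟨r, t⟩, hrt⟩ := IsLocalization.surj A⁰ x
    have h1 := congrArg φ hrt
    rw [map_mul, hx, zero_mul, hφa, hA'] at h1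
    have h2 := hcx r ((hker r).mp (IsFractionRing.injective Ap L (h1.symm.trans (map_zero _).symm)))
    apply (IsLocalization.map_units (FractionRing A) t).mul_right_cancel
    rw [mul_assoc, hrt, zero_mul, ← map_mul, h2, map_zero]
  let x0 : FractionRing A := IsLocalization.mk' _ (u * a) ⟨s, hsPs⟩
  have hx0 : x0 * algebraMap A _ s = algebraMap A _ (u * a) := by
    exact IsLocalization.mk'_spec (FractionRing A) (u * a) ⟨s, hsPs⟩
  have hφx0 : φ x0 = (⟨u, hu⟩ : p.primeCompl) • y := by
    have h1 := congrArg φ hx0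
    rw [map_mul, hφa, hφa, map_mul, ← key] at h1
    apply (hlift ⟨s, hsPs⟩).mul_right_cancel
    rw [h1, Submonoid.smul_def, Algebra.smul_def]
    ring
  obtain ⟨q, hq, hqy⟩ := huy
  have hq0 : algebraMap A _ c * Polynomial.aeval x0 q = 0 := hφ0 _ (by
    rw [Polynomial.aeval_def, Polynomial.hom_eval₂, hφx0,
      show φ.comp (algebraMap A _) = algebraMap A L from RingHom.ext hφa]
    exact hqy)
  let x : FractionRing A := algebraMap A _ c * x0
  have hcq : ∀ f : Polynomial A, algebraMap A _ c * Polynomial.aeval x f =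
      algebraMap A (FractionRing A) c * Polynomial.aeval x0 f := by
    intro f
    have hcc' : algebraMap A (FractionRing A) c * algebraMap A _ c = algebraMap A _ c := by
      rw [← map_mul, hcc]
    induction f using Polynomial.induction_on' with
    | add f g hf hg => rw [map_add, map_add, mul_add, mul_add, hf, hg]
    | monomial n r =>
      rw [Polynomial.aeval_monomial, Polynomial.aeval_monomial, mul_pow]
      have hpow : algebraMap A (FractionRing A) c * algebraMap A _ c ^ n = algebraMap A _ c := by
        induction n with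
        | zero => simp
        | succ n ih => rw [pow_succ, ← mul_assoc, ih, hcc']
      calc algebraMap A _ c * (algebraMap A _ r * (algebraMap A _ c ^ n * x0 ^ n))
          = (algebraMap A _ c * algebraMap A _ c ^ n) * (algebraMap A _ r * x0 ^ n) := by ring
        _ = _ := by rw [hpow]
  obtain ⟨d, hd⟩ := hA x ⟨Polynomial.X * q, Polynomial.monic_X.mul hq, by
    rw [← Polynomial.aeval_def, map_mul, Polynomial.aeval_X]
    calc x * Polynomial.aeval x q = x0 * (algebraMap A _ c * Polynomial.aeval x q) := by ring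
      _ = 0 := by rw [hcq, hq0, mul_zero]⟩
  have hds : d * s = c * (u * a) := IsFractionRing.injective A (FractionRing A) (by
    rw [map_mul, hd, mul_assoc, hx0, ← map_mul])
  refine ⟨algebraMap A Ap d * ↑(IsLocalization.map_units Ap (⟨u, hu⟩ : p.primeCompl)).unit⁻¹, ?_⟩
  have hs0 : algebraMap A L s ≠ 0 := (hlift ⟨s, hsPs⟩).ne_zero
  apply mul_right_cancel₀ hs0
  rw [key, hA', hA']
  have e : algebraMap A Ap d * algebraMap A Ap s = algebraMap A Ap u * algebraMap A Ap a := by
    rw [← map_mul, hds, map_mul, hc1, one_mul, map_mul]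
  generalize hv : (IsLocalization.map_units Ap (⟨u, hu⟩ : p.primeCompl)).unit = v
  have hv' : (v : Ap) = algebraMap A Ap u := by rw [← hv]; rfl
  rw [← map_mul]
  refine congrArg (algebraMap Ap L) ?_
  calc algebraMap A Ap d * (↑v⁻¹ : Ap) * algebraMap A Ap s
      = (algebraMap A Ap d * algebraMap A Ap s) * (↑v⁻¹ : Ap) := by ring
    _ = ((v : Ap) * (↑v⁻¹ : Ap)) * algebraMap A Ap a := by rw [e, hv']; ring
    _ = algebraMap A Ap a := by rw [Units.mul_inv, one_mul]

end Groth.Agent.CommAlg6
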