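import Groth.Agent.CommAlg6.PdBaseChange
import Groth.Agent.CommAlg6.CompletionEquidim
import Groth.Agent.CommAlg6.AtPrime
import Groth.Agent.CAlgH3.ExtDual
import Groth.Agent.CAlgH3.CMRing
import Groth.Agent.FlatCrit.SupportBC
import Groth.Agent.CommAlg6.SupportDimSurj

/-! Semicontinuity of the codepth over a regular ring. -/

universe u

open IsLocalRing TensorProduct

namespace Groth.Agent.CommAlg6

theorem exists_nat_ringKrullDim_eq (R : Type u) [CommRing R] [IsNoetherianRing R] [IsLocalRing R] :
    ∃ d : ℕ, ringKrullDim R = ((d : ℕ∞) : WithBot ℕ∞) := by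
  obtain ⟨d, hd⟩ := ENat.ne_top_iff_exists.1
    (Ideal.height_ne_top (maximalIdeal.isMaximal R).ne_top : (maximalIdeal R).height ≠ ⊤)
  exact ⟨d, by rw [← maximalIdeal_height_eq_ringKrullDim, ← hd]⟩

/-- Over a regular local ring, codepth in terms of projective dimension and heights. -/
theorem codepth_le_iff_local {R : Type u} [CommRing R] [IsRegularLocalRing R] (N : Type u)
    [AddCommGroup N] [Module R N] [Module.Finite R N] [Nontrivial N] (n : ℕ) :
    Module.supportDim R N ≤ ((_root_.LocCoh.depth R N : ℕ∞) : WithBot ℕ∞) + n ↔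
      ∃ e, PdLE R N e ∧ ∀ P : PrimeSpectrum R, P ∈ Module.support R N →
        (e : ℕ∞) ≤ P.asIdeal.height + n := by
  haveI := CAlgH3.isRegularRing_of_isRegularLocalRing (R := R)
  haveI := CAlgH3.isCohenMacaulayRing_of_isRegularRing (R := R)
  haveI : _root_.LocCoh.IsCohenMacaulayLocalRing R :=
    CAlgH3.isCohenMacaulayLocalRing_of_ringEquiv
      (h := _root_.LocCoh.IsCohenMacaulayRing.isCohenMacaulayLocalRing_localization (maximalIdeal R))
      (IsLocalization.atUnits R (maximalIdeal R).primeCompl (S := Localization.AtPrime (maximalIdeal R))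
        (fun _ hx => IsLocalRing.notMem_maximalIdeal.1 hx)).symm.toRingEquiv
  obtain ⟨e, -, he, hne⟩ := CAlgH3.exists_pd_index (CAlgH3.pd_all (R := R) N)
  obtain ⟨D, hD⟩ := exists_nat_ringKrullDim_eq R
  obtain ⟨δ, hδ⟩ := CAlgH3.exists_depth_eq_natCast (R := R) (M := N)
  have hsum : D = e + δ := by
    have h1 := CAlgH3.depth_add_of_pd e N he hne
    have h2 : ringKrullDim R = ((_root_.LocCoh.depth R R : ℕ∞) : WithBot ℕ∞) :=
      (CAlgH3.isCohenMacaulayLocalRing_iff_depth R).1 inferInstance
    rw [h1, hδ, hD, WithBot.coe_inj] at h2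
    exact_mod_cast h2
  have hP : ∀ P : PrimeSpectrum R, ∃ h r : ℕ, P.asIdeal.height = h ∧
      ringKrullDim (R ⧸ P.asIdeal) = ((r : ℕ∞) : WithBot ℕ∞) ∧ h + r = D := fun P => by
    haveI : Nontrivial (R ⧸ P.asIdeal) := Ideal.Quotient.nontrivial_iff.2 P.2.ne_top
    haveI : IsLocalRing (R ⧸ P.asIdeal) := .of_surjective' _ Ideal.Quotient.mk_surjective
    obtain ⟨h, hh⟩ := ENat.ne_top_iff_exists.1 (Ideal.height_ne_top (I := P.asIdeal) P.2.ne_top)
    obtain ⟨r, hr⟩ := exists_nat_ringKrullDim_eq (R ⧸ P.asIdeal)
    have := CAlgH3.height_add_ringKrullDim_quotient P.asIdeal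
    rw [← hh, hr, hD, ← WithBot.coe_add, WithBot.coe_inj] at this
    exact ⟨h, r, hh.symm, hr, by exact_mod_cast this⟩
  have hann : Module.annihilator R N ≠ ⊤ := fun h =>
    not_subsingleton N (Module.annihilator_eq_top_iff.1 h)
  have hsupp : Module.supportDim R N = ringKrullDim (R ⧸ Module.annihilator R N) :=
    Module.supportDim_eq_ringKrullDim_quotient_annihilator R N
  constructor
  · intro h
    refine ⟨e, he, fun P hP' => ?_⟩
    obtain ⟨h', r, hh', hr, hsum'⟩ := hP P
    have h1 : ringKrullDim (R ⧸ P.asIdeal) ≤ Module.supportDim R N := by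
      rw [hsupp]
      exact ringKrullDim_le_of_surjective (Ideal.Quotient.factor (Module.annihilator_le_of_mem_support hP'))
        (Ideal.Quotient.factor_surjective _)
    have h2 := h1.trans h
    rw [hr, hδ, ← WithBot.coe_natCast n, ← WithBot.coe_add, WithBot.coe_le_coe] at h2
    have h3 : r ≤ δ + n := by exact_mod_cast h2
    rw [hh']
    exact_mod_cast (show e ≤ h' + n by omega)
  · rintro ⟨e', he', hall⟩
    have hee : e ≤ e' := by
      by_contra hlt
      exact hne (CAlgH3.pd_mono (Nat.succ_le_of_lt (not_le.1 hlt)) he')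
    obtain ⟨Q, hQ, hQd⟩ := exists_minimal_ringKrullDim_eq hann
    haveI := hQ.1.1
    obtain ⟨h', r, hh', hr, hsum'⟩ := hP ⟨Q, inferInstance⟩
    have h1 := hall ⟨Q, inferInstance⟩ (by
      rw [Module.support_eq_zeroLocus]
      exact hQ.1.2)
    rw [hh'] at h1
    have h2 : e' ≤ h' + n := by exact_mod_cast h1
    rw [hsupp, ← hQd, show ringKrullDim (R ⧸ Q) = _ from hr, hδ, ← WithBot.coe_natCast n,
      ← WithBot.coe_add, WithBot.coe_le_coe]
    exact_mod_cast (show r ≤ δ + n by omega)

theorem codepth_le_iff {R : Type u} [CommRing R] [IsRegularRing R] (M : Type u) [AddCommGroup M]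
    [Module R M] [Module.Finite R M] (n : ℕ) (p : PrimeSpectrum R) :
    Module.supportDim (Localization.AtPrime p.asIdeal) (LocalizedModule p.asIdeal.primeCompl M) ≤
        ((_root_.LocCoh.depth (Localization.AtPrime p.asIdeal)
          (LocalizedModule p.asIdeal.primeCompl M) : ℕ∞) : WithBot ℕ∞) + n ↔
      ∃ e, PdLE (Localization.AtPrime p.asIdeal) (LocalizedModule p.asIdeal.primeCompl M) e ∧
        ∀ P : PrimeSpectrum R, P ∈ Module.support R M → P.asIdeal ≤ p.asIdeal →
          (e : ℕ∞) ≤ P.asIdeal.height + n := by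
  let Rp := Localization.AtPrime p.asIdeal
  let Mp := LocalizedModule p.asIdeal.primeCompl M
  rcases subsingleton_or_nontrivial Mp with hs | hs
  · refine ⟨fun _ => ⟨0, ?_, fun P _ _ => by simp⟩,
      fun _ => by rw [Module.supportDim_eq_bot_of_subsingleton]; exact bot_le⟩
    rw [pdLE_zero_iff]
    infer_instance
  have e := LocalizedModule.equivTensorProduct p.asIdeal.primeCompl M
  have hsupp : ∀ P : PrimeSpectrum Rp, P ∈ Module.support Rp Mp ↔
      PrimeSpectrum.comap (algebraMap R Rp) P ∈ Module.support R M := fun P => by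
    rw [e.support_eq, FlatCrit.mem_support_baseChange_iff]
  haveI : IsRegularLocalRing Rp := IsRegularRing.isRegularLocalRing_localization _
  rw [codepth_le_iff_local Mp n]
  refine exists_congr fun c => and_congr_right fun _ => ⟨fun h P hP hle => ?_, fun h P hP => ?_⟩
  · obtain ⟨P', hP', hPP⟩ := exists_under_eq p.asIdeal P.asIdeal hle
    have h' := h ⟨P', hP'⟩ ((hsupp _).2 (by
      convert hP using 1
      exact PrimeSpectrum.ext hPP))
    rwa [← IsLocalization.height_under p.asIdeal.primeCompl P', hPP] at h'
  · have h' := h (PrimeSpectrum.comap (algebraMap R Rp) P) ((hsupp P).1 hP) (under_le p.asIdeal P.asIdeal)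
    rwa [← IsLocalization.height_under p.asIdeal.primeCompl P.asIdeal]

/-- Over a regular ring the locus `codepth ≤ n` of a finite module is open. -/
theorem isOpen_codepth_le_regular {R : Type u} [CommRing R] [IsRegularRing R] (M : Type u)
    [AddCommGroup M] [Module R M] [Module.Finite R M] (n : ℕ) :
    IsOpen {p : PrimeSpectrum R |
      Module.supportDim (Localization.AtPrime p.asIdeal) (LocalizedModule p.asIdeal.primeCompl M) ≤
        ((_root_.LocCoh.depth (Localization.AtPrime p.asIdeal)
          (LocalizedModule p.asIdeal.primeCompl M) : ℕ∞) : WithBot ℕ∞) + n} := by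
  simp only [codepth_le_iff]
  rw [Set.setOf_exists]
  refine isOpen_iUnion fun e => ?_
  rw [Set.setOf_and]
  refine (isOpen_pdLE_locus e M).inter ?_
  let S : Set (Ideal R) := {P | P ∈ (Module.annihilator R M).minimalPrimes ∧ ¬ (e : ℕ∞) ≤ P.height + n}
  have hS : S.Finite := ((Module.annihilator R M).finite_minimalPrimes_of_isNoetherianRing R).subset fun P h => h.1
  have hset : {p : PrimeSpectrum R | ∀ P : PrimeSpectrum R, P ∈ Module.support R M →
      P.asIdeal ≤ p.asIdeal → (e : ℕ∞) ≤ P.asIdeal.height + n} =
      (⋃ P ∈ S, PrimeSpectrum.zeroLocus (P : Set R))ᶜ := by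
    ext p
    simp only [Set.mem_setOf_eq, Set.mem_compl_iff, Set.mem_iUnion, not_exists]
    constructor
    · intro h P hP hle
      haveI := hP.1.1.1
      exact hP.2 (h ⟨P, inferInstance⟩ (by rw [Module.support_eq_zeroLocus]; exact hP.1.1.2) hle)
    · intro h P hP hle
      rw [Module.support_eq_zeroLocus] at hP
      obtain ⟨Q, hQ, hQP⟩ := Ideal.exists_minimalPrimes_le (J := P.asIdeal) hP
      by_contra hne
      refine h Q ⟨hQ, fun hc => hne (hc.trans ?_)⟩ (hQP.trans hle)
      gcongr
  rw [hset, isOpen_compl_iff]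
  exact hS.isClosed_biUnion fun P _ => PrimeSpectrum.isClosed_zeroLocus _

end Groth.Agent.CommAlg6

namespace Groth.Agent.CommAlg6

/-- Localisations along a surjection: dimension and depth agree. -/
theorem localized_of_surjective {R A : Type u} [CommRing R] [CommRing A] [Algebra R A]
    (hs : Function.Surjective (algebraMap R A)) (M : Type u) [AddCommGroup M] [Module R M] [Module A M]
    [IsScalarTower R A M] [Module.Finite A M] (p : Ideal A) [p.IsPrime] :
    Module.supportDim (Localization.AtPrime (p.comap (algebraMap R A)))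
        (LocalizedModule (p.comap (algebraMap R A)).primeCompl M) =
      Module.supportDim (Localization.AtPrime p) (LocalizedModule p.primeCompl M) ∧
    _root_.LocCoh.depth (Localization.AtPrime (p.comap (algebraMap R A)))
        (LocalizedModule (p.comap (algebraMap R A)).primeCompl M) =
      _root_.LocCoh.depth (Localization.AtPrime p) (LocalizedModule p.primeCompl M) := by
  let P := p.comap (algebraMap R A)
  haveI : p.LiesOver P := ⟨rfl⟩
  letI := Localization.AtPrime.algebraOfLiesOver P p
  let RP := Localization.AtPrime P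
  let Ap := Localization.AtPrime p
  let N := LocalizedModule p.primeCompl M
  letI : Module RP N := Module.compHom N (algebraMap RP Ap)
  haveI : IsScalarTower RP Ap N := .of_algebraMap_smul fun _ _ => rfl
  haveI : IsScalarTower R RP N := .of_algebraMap_smul fun r x => by
    show algebraMap RP Ap (algebraMap R RP r) • x = r • x
    rw [← IsScalarTower.algebraMap_apply R RP Ap, IsScalarTower.algebraMap_apply R A Ap, algebraMap_smul,
      algebraMap_smul]
  haveI : IsLocalizedModule (Algebra.algebraMapSubmonoid A P.primeCompl)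
      (LocalizedModule.mkLinearMap p.primeCompl M) := by
    have hc : Algebra.algebraMapSubmonoid A P.primeCompl = p.primeCompl :=
      p.map_primeCompl_comap_of_surjective (algebraMap R A) hs
    rw [hc]
    infer_instance
  haveI : IsLocalizedModule P.primeCompl
      ((LocalizedModule.mkLinearMap p.primeCompl M).restrictScalars R) :=
    IsLocalizedModule.restrictScalars P.primeCompl _
  let e : LocalizedModule P.primeCompl M ≃ₗ[RP] N :=
    (IsLocalizedModule.linearEquiv P.primeCompl (LocalizedModule.mkLinearMap P.primeCompl M)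
      ((LocalizedModule.mkLinearMap p.primeCompl M).restrictScalars R)).extendScalarsOfIsLocalization
        P.primeCompl RP
  have hsurj : Function.Surjective (algebraMap RP Ap) :=
    RingHom.surjective_localRingHom_of_surjective (algebraMap R A) hs p
  haveI : Module.Finite Ap N := inferInstance
  refine ⟨?_, ?_⟩
  · rw [Module.supportDim_eq_of_equiv e, ← supportDim_of_surjective hsurj N]
  · rw [CAlgH3.depth_congr e, CAlgH3.depth_of_surjective hsurj N]

/-- Over a quotient of a regular ring the locus `codepth ≤ n` of a finite module is open. -/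
theorem isOpen_codepth_le_quotient {R A : Type u} [CommRing R] [CommRing A] [IsRegularRing R]
    [Algebra R A] (hs : Function.Surjective (algebraMap R A)) (M : Type u) [AddCommGroup M]
    [Module A M] [Module.Finite A M] (n : ℕ) :
    IsOpen {p : PrimeSpectrum A |
      Module.supportDim (Localization.AtPrime p.asIdeal) (LocalizedModule p.asIdeal.primeCompl M) ≤
        ((_root_.LocCoh.depth (Localization.AtPrime p.asIdeal)
          (LocalizedModule p.asIdeal.primeCompl M) : ℕ∞) : WithBot ℕ∞) + n} := by
  letI : Module R M := Module.compHom M (algebraMap R A)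
  haveI : IsScalarTower R A M := .of_algebraMap_smul fun _ _ => rfl
  haveI : Module.Finite R A := Module.Finite.of_surjective (Algebra.linearMap R A) hs
  haveI : Module.Finite R M := Module.Finite.trans A M
  convert (isOpen_codepth_le_regular (R := R) M n).preimage
    (PrimeSpectrum.continuous_comap (algebraMap R A)) using 1
  ext p
  obtain ⟨h1, h2⟩ := localized_of_surjective hs M p.asIdeal
  simp only [Set.mem_setOf_eq, Set.mem_preimage]
  rw [← h1, ← h2]
  rfl

end Groth.Agent.CommAlg6
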