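import Groth.Agent.CommAlg6.GeomNormalFibres
import Groth.Agent.CAlgH.GRingCompletion

/-! Formal fibres and adic completions: reduced and normal cases. -/

set_option autoImplicit false
set_option linter.style.haveILetI false

universe u

open IsLocalRing TensorProduct

namespace Groth.Agent.CommAlg6

/-- A property of rings which is local and passes to localizations. -/
structure LocalProp (P : ∀ (R : Type u) [CommRing R], Prop) : Prop where
  iso : ∀ {R S : Type u} [CommRing R] [CommRing S], (R ≃+* S) → P R → P S
  sub : ∀ (R : Type u) [CommRing R] [Subsingleton R], P R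
  loc : ∀ {R S : Type u} [CommRing R] [CommRing S] [IsNoetherianRing R] [Algebra R S] (W : Submonoid R)
    [IsLocalization W S], P R → P S
  max : ∀ {R : Type u} [CommRing R] [IsNoetherianRing R],
    (∀ (M : Ideal R), [M.IsMaximal] → P (Localization.AtPrime M)) → P R
  desc : ∀ {A B C : Type u} [CommRing A] [CommRing B] [CommRing C] [Algebra A B] [Algebra B C] [Algebra A C]
    [IsScalarTower A B C] [IsNoetherianRing B] [IsNoetherianRing C] [Module.FaithfullyFlat B C]
    (K : Type u) [Field K] [Algebra A K], IsResFinite A K → P (K ⊗[A] C) → P (K ⊗[A] B)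

theorem localProp_isReduced : LocalProp.{u} (fun R _ => IsReduced R) where
  iso e h := haveI := h; isReduced_of_injective e.symm.toRingHom e.symm.injective
  sub R _ _ := ⟨fun x _ => Subsingleton.elim x 0⟩
  loc W _ h := haveI := h; isReduced_of_isLocalization W
  max h := isReduced_ofLocalizationMaximal _ fun M hM => @h M hM
  desc {A B C} _ _ _ _ _ _ _ _ _ _ K _ _ _ h := by
    haveI := h
    haveI : IsReduced ((B ⊗[A] K) ⊗[B] C) :=
      isReduced_of_injective (towerEquiv (B := B) (C := C) K).toRingHom (RingEquiv.injective _)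
    haveI : IsReduced (B ⊗[A] K) := by
      refine isReduced_of_injective
        (Algebra.TensorProduct.includeLeft : B ⊗[A] K →ₐ[B] (B ⊗[A] K) ⊗[B] C) fun x y hxy => ?_
      refine Module.FaithfullyFlat.tensorProduct_mk_injective (A := B) (B := C) (B ⊗[A] K) ?_
      have h2 := congrArg (TensorProduct.comm B (B ⊗[A] K) C) hxy
      simpa using h2
    exact isReduced_of_injective (Algebra.TensorProduct.comm A K B).toRingHom (AlgEquiv.injective _)

theorem localProp_isNormalRing : LocalProp.{u} (fun R _ => EGA4.IsNormalRing R) where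
  iso e h := isNormalRing_of_ringEquiv e h
  sub R _ _ p hp := absurd (Subsingleton.elim p ⊤) hp.ne_top
  loc W _ h := isNormalRing_of_isLocalization W h
  max h := isNormalRing_of_maximal h
  desc {A B C} _ _ _ _ _ _ _ _ _ _ K _ _ hK h := by
    haveI := isNoetherianRing_resFinite (B := B) hK
    haveI := isNoetherianRing_resFinite (B := C) hK
    obtain ⟨hR, hS⟩ := isNormalRing_iff_R1_S2.1 h
    exact isNormalRing_iff_R1_S2.2 ⟨hasRk_fibre_descend (C := C) 1 hK hR, hasSk_fibre_descend (C := C) 2 hK hS⟩

theorem IsResFinite.to_localization {A A' : Type u} [CommRing A] [CommRing A'] [Algebra A A'] {K : Type u} [Field K]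
    [Algebra A K] [Algebra A' K] [IsScalarTower A A' K] (h : IsResFinite A K) : IsResFinite A' K := by
  obtain ⟨p, _, _, _, _⟩ := h
  have hp : RingHom.ker (algebraMap A K) = p := by
    rw [IsScalarTower.algebraMap_eq A p.ResidueField K, RingHom.ker_comp_of_injective _ (algebraMap p.ResidueField K).injective,
      Ideal.ker_algebraMap_residueField]
  let p' := RingHom.ker (algebraMap A' K)
  haveI : p'.IsPrime := RingHom.ker_isPrime _
  let g : p'.ResidueField →+* K :=
    Ideal.ResidueField.lift p' (algebraMap A' K) le_rfl fun x hx => isUnit_iff_ne_zero.mpr hx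
  letI : Algebra p'.ResidueField K := g.toAlgebra
  haveI : IsScalarTower A' p'.ResidueField K :=
    .of_algebraMap_eq fun x => (Ideal.ResidueField.lift_algebraMap _ _ _ _ x).symm
  let f : p.ResidueField →+* p'.ResidueField :=
    Ideal.ResidueField.lift p (algebraMap A p'.ResidueField)
      (fun x hx => by
        rw [← hp, RingHom.mem_ker] at hx
        rw [RingHom.mem_ker]
        apply g.injective
        rw [map_zero, ← hx, IsScalarTower.algebraMap_apply A A' K, IsScalarTower.algebraMap_apply A' p'.ResidueField K,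
          ← IsScalarTower.algebraMap_apply A A' p'.ResidueField]
        rfl)
      (fun x hx => isUnit_iff_ne_zero.mpr fun h0 => hx (by
        show x ∈ p
        rw [← hp, RingHom.mem_ker, IsScalarTower.algebraMap_apply A A' K,
          IsScalarTower.algebraMap_apply A' p'.ResidueField K, ← IsScalarTower.algebraMap_apply A A' p'.ResidueField, h0,
          map_zero]))
  letI : Algebra p.ResidueField p'.ResidueField := f.toAlgebra
  haveI : IsScalarTower p.ResidueField p'.ResidueField K := .of_algebraMap_eq' <| Ideal.ResidueField.ringHom_ext <| by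
    refine RingHom.ext fun x => ?_
    show algebraMap p.ResidueField K (algebraMap A p.ResidueField x) =
      algebraMap p'.ResidueField K (f (algebraMap A p.ResidueField x))
    rw [← IsScalarTower.algebraMap_apply A p.ResidueField K,
      show f (algebraMap A p.ResidueField x) = algebraMap A p'.ResidueField x from Ideal.ResidueField.lift_algebraMap _ _ _ _ x,
      IsScalarTower.algebraMap_apply A A' K, IsScalarTower.algebraMap_apply A' p'.ResidueField K,
      ← IsScalarTower.algebraMap_apply A A' p'.ResidueField]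
  exact ⟨p', inferInstance, inferInstance, inferInstance, Module.Finite.of_restrictScalars_finite p.ResidueField _ K⟩

variable {P : ∀ (R : Type u) [CommRing R], Prop}

/-- Fibres over a localization of the base. -/
theorem LocalProp.fibre_of_localization (hP : LocalProp P) {A A' C : Type u} [CommRing A] [CommRing A'] [CommRing C]
    [Algebra A A'] (S : Submonoid A) [IsLocalization S A'] [Algebra A' C] [Algebra A C] [IsScalarTower A A' C]
    (h : ∀ (L : Type u) [Field L] [Algebra A' L], IsResFinite A' L → P (L ⊗[A'] C))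
    (K : Type u) [Field K] [Algebra A K] (hK : IsResFinite A K) : P (K ⊗[A] C) := by
  by_cases hS : ∀ s ∈ S, algebraMap A K s ≠ 0
  · letI : Algebra A' K := (IsLocalization.lift (M := S) (S := A') (g := algebraMap A K)
      fun s => isUnit_iff_ne_zero.2 (hS s s.2)).toAlgebra
    haveI : IsScalarTower A A' K := .of_algebraMap_eq fun x => (IsLocalization.lift_eq _ x).symm
    exact hP.iso (IsLocalization.algebraTensorEquiv S A' K C).toRingEquiv (h K hK.to_localization)
  · push Not at hS
    obtain ⟨s, hs, hs0⟩ := hS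
    haveI : Subsingleton (K ⊗[A] C) := by
      refine subsingleton_of_zero_eq_one ?_
      have hu : IsUnit (algebraMap A C s) := by
        rw [IsScalarTower.algebraMap_apply A A' C]
        exact (IsLocalization.map_units A' ⟨s, hs⟩).map _
      obtain ⟨u, hu⟩ := hu
      have h1 : algebraMap A C s * (↑u⁻¹ : C) = 1 := by rw [← hu, u.mul_inv]
      rw [Algebra.TensorProduct.one_def, ← h1, ← Algebra.smul_def, ← smul_tmul, Algebra.smul_def, hs0, zero_mul,
        zero_tmul]
    exact hP.sub _

/-- Fibres are controlled by the local rings at maximal ideals. -/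
theorem LocalProp.fibre_of_local (hP : LocalProp P) {A B : Type u} [CommRing A] [CommRing B] [Algebra A B]
    [IsNoetherianRing B] (K : Type u) [Field K] [Algebra A K] (hK : IsResFinite A K)
    (h : ∀ (n : Ideal B) [n.IsMaximal], P (K ⊗[A] Localization.AtPrime n)) : P (K ⊗[A] B) := by
  haveI := isNoetherianRing_resFinite (B := B) hK
  refine hP.max fun M hM => ?_
  obtain ⟨n, hn, hMn⟩ := Ideal.exists_le_maximal
    (M.comap (Algebra.TensorProduct.includeRight : B →ₐ[A] K ⊗[A] B).toRingHom) (Ideal.IsPrime.ne_top (Ideal.IsPrime.comap _))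
  haveI := hn
  let Bn := Localization.AtPrime n
  let W := n.primeCompl.map (Algebra.TensorProduct.includeRight (R := A) (A := K) (B := B))
  letI : Algebra (K ⊗[A] B) (K ⊗[A] Bn) :=
    (Algebra.TensorProduct.map (AlgHom.id A K) (IsScalarTower.toAlgHom A B Bn)).toAlgebra
  haveI : IsScalarTower K (K ⊗[A] B) (K ⊗[A] Bn) :=
    @IsScalarTower.of_algebraMap_eq K (K ⊗[A] B) (K ⊗[A] Bn) _ _ _ _ _ _ fun x => by
      show x ⊗ₜ[A] (1 : Bn) = Algebra.TensorProduct.map (AlgHom.id A K) (IsScalarTower.toAlgHom A B Bn) (x ⊗ₜ[A] (1 : B))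
      simp
  haveI : IsLocalization W (K ⊗[A] Bn) := IsLocalization.tensorProduct_tensorProduct_right A K n.primeCompl Bn
    (RingHom.ext fun x => by simp [RingHom.algebraMap_toAlgebra]; try rfl)
  have hle : W ≤ M.primeCompl := by
    rintro _ ⟨b, hb, rfl⟩ hbM
    exact hb (hMn hbM)
  letI : Algebra (K ⊗[A] Bn) (Localization.AtPrime M) :=
    IsLocalization.localizationAlgebraOfSubmonoidLe (K ⊗[A] Bn) (Localization.AtPrime M) W M.primeCompl hle
  haveI := IsLocalization.localization_isScalarTower_of_submonoid_le (K ⊗[A] Bn) (Localization.AtPrime M) W M.primeCompl hle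
  haveI := IsLocalization.isLocalization_of_submonoid_le (K ⊗[A] Bn) (Localization.AtPrime M) W M.primeCompl hle
  haveI : IsNoetherianRing (K ⊗[A] Bn) := IsLocalization.isNoetherianRing W _ inferInstance
  exact hP.loc (M.primeCompl.map (algebraMap (K ⊗[A] B) (K ⊗[A] Bn))) (h n)

/-- Local rings of an adic completion have the completions of those of the ring. -/
theorem exists_cpl_algEquiv_adicCompletion (A : Type u) [CommRing A] [IsNoetherianRing A] (I : Ideal A)
    (n : Ideal (AdicCompletion I A)) [n.IsMaximal] :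
    Nonempty (EGA4.Cpl (Localization.AtPrime (n.comap (algebraMap A (AdicCompletion I A)))) ≃ₐ[A]
      EGA4.Cpl (Localization.AtPrime n)) := by
  let B := AdicCompletion I A
  haveI : IsNoetherianRing B := Groth.Agent.Matlis6.isNoetherianRing_adicCompletion _
  let q := n.comap (algebraMap A B)
  letI := (Localization.localRingHom q n (algebraMap A B) rfl).toAlgebra
  haveI : IsScalarTower A (Localization.AtPrime q) (Localization.AtPrime n) := .of_algebraMap_eq fun x => by
    rw [IsScalarTower.algebraMap_apply A B (Localization.AtPrime n)]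
    exact (Localization.localRingHom_to_map q n (algebraMap A B) rfl x).symm
  let J := I.map (algebraMap A B)
  have hI := IsNoetherian.noetherian I
  haveI : IsAdicComplete J B := (IsAdicComplete.map_algebraMap_iff _ _).mpr (AdicCompletion.isAdicComplete hI)
  have hJn : J ≤ n := (IsAdicComplete.le_jacobson_bot J).trans (sInf_le ⟨bot_le, inferInstance⟩)
  have hker : RingHom.ker (AdicCompletion.evalOneₐ I).toRingHom = J := AdicCompletion.ker_evalOneₐ_eq_map _ hI
  have hres : ∀ x : B, ∃ a, x - algebraMap A B a ∈ J := fun x => by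
    obtain ⟨a, ha⟩ := Ideal.Quotient.mk_surjective (AdicCompletion.evalOneₐ I x)
    refine ⟨a, ?_⟩
    rw [← hker, RingHom.mem_ker, map_sub, sub_eq_zero]
    exact ha.symm.trans (AlgHom.commutes _ a).symm
  have hqn : q.map (algebraMap A B) = n := by
    refine le_antisymm Ideal.map_comap_le fun x hx => ?_
    obtain ⟨a, ha⟩ := hres x
    have haq : a ∈ q := by
      show algebraMap A B a ∈ n
      simpa using sub_mem hx (hJn ha)
    have h1 : J ≤ q.map (algebraMap A B) := Ideal.map_mono fun i hi => hJn (Ideal.mem_map_of_mem _ hi)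
    simpa using add_mem (h1 ha) (Ideal.mem_map_of_mem (algebraMap A B) haq)
  let Aq := Localization.AtPrime q
  let Bn := Localization.AtPrime n
  haveI : IsNoetherianRing Aq := IsLocalization.isNoetherianRing q.primeCompl _ inferInstance
  haveI : IsNoetherianRing Bn := IsLocalization.isNoetherianRing n.primeCompl _ inferInstance
  haveI : IsLocalHom (algebraMap Aq Bn) := Localization.isLocalHom_localRingHom q n _ rfl
  haveI : Module.Flat Aq Bn :=
    RingHom.Flat.localRingHom (f := algebraMap A B) (RingHom.flat_algebraMap_iff.mpr inferInstance) n q rfl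
  have hmap : (maximalIdeal Aq).map (algebraMap Aq Bn) = maximalIdeal Bn := by
    rw [← Localization.AtPrime.map_eq_maximalIdeal, ← Localization.AtPrime.map_eq_maximalIdeal, Ideal.map_map,
      ← IsScalarTower.algebraMap_eq, IsScalarTower.algebraMap_eq A B Bn, ← Ideal.map_map, hqn]
  have hresn : ∀ y : Bn, ∃ a, y - algebraMap Aq Bn a ∈ maximalIdeal Bn := by
    intro y
    obtain ⟨a, ⟨s, hs⟩, rfl⟩ := IsLocalization.exists_mk'_eq n.primeCompl y
    obtain ⟨a1, ha⟩ := hres a
    obtain ⟨s1, hs1⟩ := hres s
    have hs1q : s1 ∉ q := fun h1 => hs (by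
      show s ∈ n
      simpa using add_mem (hJn hs1) (h1 : algebraMap A B s1 ∈ n))
    refine ⟨IsLocalization.mk' Aq a1 (⟨s1, hs1q⟩ : q.primeCompl), ?_⟩
    show _ - Localization.localRingHom q n (algebraMap A B) rfl _ ∈ _
    rw [Localization.localRingHom_mk', ← IsLocalization.mk'_sub,
      IsLocalization.AtPrime.mk'_mem_maximal_iff Bn n]
    show a * algebraMap A B s1 - algebraMap A B a1 * s ∈ n
    rw [show a * algebraMap A B s1 - algebraMap A B a1 * s =
      (a - algebraMap A B a1) * algebraMap A B s1 - algebraMap A B a1 * (s - algebraMap A B s1) by ring]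
    exact sub_mem (n.mul_mem_right _ (hJn ha)) (n.mul_mem_left _ (hJn hs1))
  haveI : IsNoetherianRing (EGA4.Cpl Bn) := Groth.Agent.Matlis6.isNoetherianRing_adicCompletion _
  haveI := CAlgH.isLocalHom_algebraMap_cpl Bn
  haveI : Module.Flat Aq (EGA4.Cpl Bn) := Module.Flat.trans Aq Bn _
  haveI : IsLocalHom (algebraMap Aq (EGA4.Cpl Bn)) :=
    IsScalarTower.algebraMap_eq Aq Bn (EGA4.Cpl Bn) ▸ RingHom.isLocalHom_comp (algebraMap Bn (EGA4.Cpl Bn)) (algebraMap Aq Bn)
  have hm : (maximalIdeal Aq).map (algebraMap Aq (EGA4.Cpl Bn)) = maximalIdeal (EGA4.Cpl Bn) := by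
    rw [AdicCompletion.maximalIdeal_eq_map, IsScalarTower.algebraMap_eq Aq Bn (EGA4.Cpl Bn), ← Ideal.map_map, hmap]
  have hr : ∀ y : EGA4.Cpl Bn, ∃ a, y - algebraMap Aq (EGA4.Cpl Bn) a ∈ maximalIdeal (EGA4.Cpl Bn) := fun y => by
    obtain ⟨b, hb⟩ := CAlgH.exists_sub_algebraMap_mem Bn y
    obtain ⟨a, ha⟩ := hresn b
    refine ⟨a, ?_⟩
    have h2 := Ideal.mem_map_of_mem (algebraMap Bn (EGA4.Cpl Bn)) ha
    rw [← AdicCompletion.maximalIdeal_eq_map, map_sub, ← IsScalarTower.algebraMap_apply] at h2
    convert add_mem hb h2 using 1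
    ring
  obtain ⟨e, he⟩ := CAlgH.completion_equiv_of_quotients (maximalIdeal Aq) (maximalIdeal (EGA4.Cpl Bn)) (algebraMap Aq _)
    (CAlgH.comap_pow_eq_of_flat _ (RingHom.flat_algebraMap_iff.mpr inferInstance) hm) (CAlgH.exists_sub_mem_pow _ hm hr)
  let g : EGA4.Cpl Aq →ₐ[A] EGA4.Cpl Bn := { e.toRingHom with
    commutes' := fun r => by
      show e (algebraMap A (EGA4.Cpl Aq) r) = _
      rw [IsScalarTower.algebraMap_apply A Aq (EGA4.Cpl Aq), he,
        IsScalarTower.algebraMap_apply Aq Bn (EGA4.Cpl Bn), ← IsScalarTower.algebraMap_apply A Aq Bn,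
        ← IsScalarTower.algebraMap_apply A Bn (EGA4.Cpl Bn)] }
  exact ⟨AlgEquiv.ofBijective g e.bijective⟩

/-- Formal fibres control the fibres of an adic completion. -/
theorem LocalProp.fibre_adicCompletion (hP : LocalProp P) (A : Type u) [CommRing A] [IsNoetherianRing A]
    (hA : ∀ (q : Ideal A) [q.IsPrime] (L : Type u) [Field L] [Algebra (Localization.AtPrime q) L],
      IsResFinite (Localization.AtPrime q) L → P (L ⊗[Localization.AtPrime q] EGA4.Cpl (Localization.AtPrime q)))
    (I : Ideal A) (K : Type u) [Field K] [Algebra A K] (hK : IsResFinite A K) :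
    P (K ⊗[A] AdicCompletion I A) := by
  haveI : IsNoetherianRing (AdicCompletion I A) := Groth.Agent.Matlis6.isNoetherianRing_adicCompletion _
  refine hP.fibre_of_local K hK fun n _ => ?_
  let q := n.comap (algebraMap A (AdicCompletion I A))
  obtain ⟨e⟩ := exists_cpl_algEquiv_adicCompletion A I n
  have h1 : P (K ⊗[A] EGA4.Cpl (Localization.AtPrime q)) := hP.fibre_of_localization q.primeCompl (hA q) K hK
  have h2 := hP.iso (Algebra.TensorProduct.congr (AlgEquiv.refl (R := A) (A₁ := K)) e).toRingEquiv h1
  haveI : IsNoetherianRing (Localization.AtPrime n) := IsLocalization.isNoetherianRing n.primeCompl _ inferInstance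
  haveI : IsNoetherianRing (EGA4.Cpl (Localization.AtPrime n)) := Groth.Agent.Matlis6.isNoetherianRing_adicCompletion _
  haveI := CAlgH.isLocalHom_algebraMap_cpl (Localization.AtPrime n)
  haveI : Module.FaithfullyFlat (Localization.AtPrime n) (EGA4.Cpl (Localization.AtPrime n)) :=
    Module.FaithfullyFlat.of_flat_of_isLocalHom
  exact hP.desc K hK h2

end Groth.Agent.CommAlg6
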