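import Groth.Agent.CommAlg6.CatenaryHeight
import Groth.Agent.S9125
import Mathlib.RingTheory.Flat.Basic
import Mathlib.RingTheory.Ideal.KrullsHeightTheorem
import Mathlib.RingTheory.Flat.Localization

/-! Descent of equidimensional + catenary along flat local homomorphisms. -/

universe u

open TensorProduct

namespace Groth.Agent.CommAlg6

open IsLocalRing
open LocCoh (hq isPrime_map_mk comap_map_mk)

variable {A B : Type u} [CommRing A] [CommRing B] [Algebra A B]

theorem flat_quotient_map [Module.Flat A B] (I : Ideal A) :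
    Module.Flat (A ⧸ I) (B ⧸ I.map (algebraMap A B)) := by
  let e := (TensorProduct.quotTensorEquivQuotSMul B I).trans
    (Submodule.quotEquivOfEq _ _ (Ideal.smul_top_eq_map I))
  let e' : ((A ⧸ I) ⊗[A] B) ≃ₗ[A] (B ⧸ I.map (algebraMap A B)) :=
    e.trans ((Submodule.Quotient.restrictScalarsEquiv A (I.map (algebraMap A B))))
  exact Module.Flat.of_linearEquiv
    (LinearEquiv.extendScalarsOfSurjective (S := A ⧸ I) Ideal.Quotient.mk_surjective e'.symm)

theorem height_map_mk_eq_zero {R : Type u} [CommRing R] {J M : Ideal R} (hM : M ∈ J.minimalPrimes) :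
    (M.map (Ideal.Quotient.mk J)).height = 0 := by
  haveI := hM.1.1
  haveI := isPrime_map_mk hM.1.2
  rw [Ideal.height_eq_zero_iff]
  refine ⟨⟨inferInstance, bot_le⟩, fun P hP hle => ?_⟩
  haveI := hP.1
  have hJ : J ≤ P.comap (Ideal.Quotient.mk J) := fun x hx => by
    rw [Ideal.mem_comap, Ideal.Quotient.eq_zero_iff_mem.2 hx]; exact P.zero_mem
  have h := hM.2 ⟨inferInstance, hJ⟩ ((Ideal.comap_mono hle).trans (comap_map_mk hM.1.2).le)
  rw [Ideal.map_le_iff_le_comap]
  exact h

theorem exists_minimal_hq_eq {R : Type u} [CommRing R] [IsNoetherianRing R] (J M : Ideal R)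
    [hMp : M.IsPrime] (hJM : J ≤ M) : ∃ Q ∈ J.minimalPrimes, Q ≤ M ∧ hq J M = hq Q M := by
  haveI := isPrime_map_mk hJM
  obtain ⟨l, hl, hlen⟩ := Ideal.exists_ltSeries_length_eq_height (M.map (Ideal.Quotient.mk J))
  let f : PrimeSpectrum (R ⧸ J) → PrimeSpectrum R := PrimeSpectrum.comap (Ideal.Quotient.mk J)
  have hf : StrictMono f := fun a b hab => lt_of_le_of_ne (Ideal.comap_mono hab.le) fun e =>
    hab.ne (PrimeSpectrum.comap_injective_of_surjective _ Ideal.Quotient.mk_surjective e)
  have hlast : (l.map f hf).last = ⟨M, hMp⟩ := by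
    rw [LTSeries.last_map, hl]
    exact PrimeSpectrum.ext (comap_map_mk hJM)
  have hJh : J ≤ (l.map f hf).head.asIdeal := fun x hx => by
    rw [LTSeries.head_map]
    change Ideal.Quotient.mk J x ∈ l.head.asIdeal
    rw [Ideal.Quotient.eq_zero_iff_mem.2 hx]
    exact zero_mem _
  obtain ⟨Q, hQ, hQh⟩ := Ideal.exists_minimalPrimes_le hJh
  haveI := hQ.1.1
  have hQM : Q ≤ M := hQh.trans (by
    have h : (l.map f hf).head.asIdeal ≤ (l.map f hf).last.asIdeal := (l.map f hf).head_le_last
    rw [hlast] at h
    exact h)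
  refine ⟨Q, hQ, hQM, le_antisymm ?_ (le_add_self.trans (LocCoh.hq_add_le hQ.1.2 hQM))⟩
  have h := hq_head_add_length_le (l.map f hf) hQh
  rw [hlast] at h
  change (M.map (Ideal.Quotient.mk J)).height ≤ _
  rw [← hlen]
  exact le_add_self.trans h

variable [IsLocalRing A] [IsLocalRing B] [IsNoetherianRing A] [IsNoetherianRing B]
variable [IsLocalHom (algebraMap A B)] [Module.Flat A B]

omit [IsNoetherianRing A] [IsNoetherianRing B] [Module.Flat A B] in
theorem map_maximalIdeal_le : (maximalIdeal A).map (algebraMap A B) ≤ maximalIdeal B :=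
  ((local_hom_TFAE (algebraMap A B)).out 0 2 rfl rfl).1 inferInstance

omit [IsNoetherianRing A] [IsNoetherianRing B] [Module.Flat A B] in
theorem under_eq_maximalIdeal {M : Ideal B} [M.IsPrime]
    (h : (maximalIdeal A).map (algebraMap A B) ≤ M) : M.under A = maximalIdeal A :=
  ((maximalIdeal.isMaximal A).eq_of_le (Ideal.IsPrime.ne_top inferInstance)
    (Ideal.map_le_iff_le_comap.1 h)).symm

/-- For a flat local homomorphism into an equidimensional catenary ring,
`ht p + dim A/p = dim A`. -/
theorem height_add_ringKrullDim_quotient_of_flat (hcat : CAlg.IsCatenary B)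
    (he : EGA4.IsEquidim B) (p : Ideal A) [p.IsPrime] :
    (p.height : WithBot ℕ∞) + ringKrullDim (A ⧸ p) = ringKrullDim A := by
  have hpm : p ≤ maximalIdeal A := le_maximalIdeal (Ideal.IsPrime.ne_top inferInstance)
  obtain ⟨M, hM, -⟩ := Ideal.exists_minimalPrimes_le (map_maximalIdeal_le (A := A) (B := B))
  haveI := hM.1.1
  have hMu := under_eq_maximalIdeal hM.1.2
  haveI : M.LiesOver (maximalIdeal A) := ⟨hMu.symm⟩
  have hMht : M.height = (maximalIdeal A).height := by
    rw [Ideal.height_eq_height_add_of_liesOver_of_hasGoingDown (maximalIdeal A) M,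
      height_map_mk_eq_zero hM, add_zero]
  let J := p.map (algebraMap A B)
  have hJM : J ≤ M := (Ideal.map_mono hpm).trans hM.1.2
  haveI := isPrime_map_mk hJM
  haveI := isPrime_map_mk (le_refl p)
  haveI := isPrime_map_mk hpm
  haveI := flat_quotient_map (B := B) p
  haveI : (M.map (Ideal.Quotient.mk J)).LiesOver ((maximalIdeal A).map (Ideal.Quotient.mk p)) := by
    constructor
    apply Ideal.comap_injective_of_surjective (Ideal.Quotient.mk p) Ideal.Quotient.mk_surjective
    rw [comap_map_mk hpm, ← hMu, Ideal.under_def, Ideal.under_def, Ideal.comap_comap]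
    conv_lhs => rw [← comap_map_mk hJM, Ideal.comap_comap]
    rfl
  have hmin : M.map (Ideal.Quotient.mk J) ∈ (((maximalIdeal A).map (Ideal.Quotient.mk p)).map
      (algebraMap (A ⧸ p) (B ⧸ J))).minimalPrimes := by
    have e : ((maximalIdeal A).map (Ideal.Quotient.mk p)).map (algebraMap (A ⧸ p) (B ⧸ J)) =
        ((maximalIdeal A).map (algebraMap A B)).map (Ideal.Quotient.mk J) := by
      rw [Ideal.map_map, Ideal.map_map]
      rfl
    rw [e]
    refine ⟨⟨inferInstance, Ideal.map_mono hM.1.2⟩, fun P hP hle => ?_⟩
    haveI := hP.1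
    have h := hM.2 ⟨inferInstance, Ideal.map_le_iff_le_comap.1 hP.2⟩
      ((Ideal.comap_mono hle).trans (comap_map_mk hJM).le)
    rw [Ideal.map_le_iff_le_comap]
    exact h
  have h1 : hq J M = hq p (maximalIdeal A) := by
    rw [hq, hq, Ideal.height_eq_height_add_of_liesOver_of_hasGoingDown
      ((maximalIdeal A).map (Ideal.Quotient.mk p)) (M.map (Ideal.Quotient.mk J)),
      height_map_mk_eq_zero hmin, add_zero]
  obtain ⟨Q, hQ, hQM, hQe⟩ := exists_minimal_hq_eq J M hJM
  haveI := hQ.1.1
  haveI : Q.LiesOver p := by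
    constructor
    refine le_antisymm (Ideal.map_le_iff_le_comap.1 hQ.1.2) ?_
    by_contra hne
    have hlt : p < Q.under A :=
      lt_of_le_not_ge (Ideal.map_le_iff_le_comap.1 hQ.1.2) hne
    obtain ⟨Q', hQ', hQ'p, hQ'o⟩ := Ideal.exists_ideal_lt_liesOver_of_lt Q hlt
    haveI := hQ'p
    have := hQ.2 ⟨hQ'p, Ideal.map_le_iff_le_comap.2 hQ'o.over.le⟩ hQ'.le
    exact hQ'.not_ge this
  have h2 : Q.height = p.height := by
    rw [Ideal.height_eq_height_add_of_liesOver_of_hasGoingDown p Q,
      height_map_mk_eq_zero hQ, add_zero]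
  have h3 := height_add_hq_eq hcat he hQM
  rw [h2, ← hQe, h1, hMht] at h3
  rw [← hq_eq_ringKrullDim_quotient, ← maximalIdeal_height_eq_ringKrullDim, ← WithBot.coe_add, h3]

/-- Equidimensional catenary descends along flat local homomorphisms. -/
theorem isEquidim_and_isCatenary_of_flat (hcat : CAlg.IsCatenary B) (he : EGA4.IsEquidim B) :
    EGA4.IsEquidim A ∧ CAlg.IsCatenary A := by
  have heA : EGA4.IsEquidim A := by
    intro P hP
    haveI := hP.1.1
    have := height_add_ringKrullDim_quotient_of_flat hcat he P
    rwa [Ideal.height_eq_zero_iff.2 hP, WithBot.coe_zero, zero_add] at this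
  refine ⟨heA, ?_⟩
  have key : ∀ (p q : Ideal A) [p.IsPrime] [q.IsPrime], p ≤ q →
      hq p q + hq q (maximalIdeal A) = hq p (maximalIdeal A) := by
    intro p q _ _ hpq
    let J := p.map (algebraMap A B)
    have hJ : J ≤ maximalIdeal B := (Ideal.map_mono
      (le_maximalIdeal (Ideal.IsPrime.ne_top inferInstance))).trans map_maximalIdeal_le
    haveI : IsLocalRing (A ⧸ p) := .of_surjective' _ Ideal.Quotient.mk_surjective
    haveI : Nontrivial (B ⧸ J) := Ideal.Quotient.nontrivial_iff.2 fun h =>
      (maximalIdeal.isMaximal B).ne_top (top_le_iff.1 (h ▸ hJ))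
    haveI : IsLocalRing (B ⧸ J) := .of_surjective' _ Ideal.Quotient.mk_surjective
    haveI : IsLocalHom (algebraMap (A ⧸ p) (B ⧸ J)) :=
      ((local_hom_TFAE (algebraMap (A ⧸ p) (B ⧸ J))).out 0 2 rfl rfl).2 (by
        rw [← map_maximalIdeal_of_surjective (Ideal.Quotient.mk p) Ideal.Quotient.mk_surjective,
          ← map_maximalIdeal_of_surjective (Ideal.Quotient.mk J) Ideal.Quotient.mk_surjective,
          Ideal.map_map,
          show (algebraMap (A ⧸ p) (B ⧸ J)).comp (Ideal.Quotient.mk p) =
            (Ideal.Quotient.mk J).comp (algebraMap A B) from rfl, ← Ideal.map_map]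
        exact Ideal.map_mono map_maximalIdeal_le)
    haveI := flat_quotient_map (B := B) p
    have hcatJ : CAlg.IsCatenary (B ⧸ J) := S9125.result B J hcat
    have heJ : EGA4.IsEquidim (B ⧸ J) := by
      have key' : ∀ P ∈ minimalPrimes (B ⧸ J),
          (p.height : WithBot ℕ∞) + ringKrullDim ((B ⧸ J) ⧸ P) = ringKrullDim B := by
        intro P hP
        haveI := hP.1.1
        let Q := P.comap (Ideal.Quotient.mk J)
        have hQJ : J ≤ Q := fun x hx => by
          rw [Ideal.mem_comap, Ideal.Quotient.eq_zero_iff_mem.2 hx]; exact P.zero_mem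
        have hPQ : Q.map (Ideal.Quotient.mk J) = P :=
          Ideal.map_comap_of_surjective _ Ideal.Quotient.mk_surjective P
        have hQ : Q ∈ J.minimalPrimes := by
          refine ⟨⟨inferInstance, hQJ⟩, fun R hR hle => ?_⟩
          haveI := hR.1
          haveI := isPrime_map_mk hR.2
          have := hP.2 ⟨inferInstance, bot_le⟩ ((Ideal.map_mono hle).trans hPQ.le)
          exact (Ideal.comap_mono this).trans (comap_map_mk hR.2).le
        haveI : Q.LiesOver p := by
          constructor
          refine le_antisymm (Ideal.map_le_iff_le_comap.1 hQJ) ?_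
          by_contra hne
          have hlt : p < Q.under A := lt_of_le_not_ge (Ideal.map_le_iff_le_comap.1 hQJ) hne
          obtain ⟨Q', hQ', hQ'p, hQ'o⟩ := Ideal.exists_ideal_lt_liesOver_of_lt Q hlt
          exact hQ'.not_ge
            (hQ.2 ⟨hQ'p, Ideal.map_le_iff_le_comap.2 hQ'o.over.le⟩ hQ'.le)
        rw [← hPQ, ringKrullDim_eq_of_ringEquiv (DoubleQuot.quotQuotEquivQuotOfLE hQJ),
          ← height_add_ringKrullDim_quotient_of_equidim hcat he Q,
          show Q.height = p.height by
            rw [Ideal.height_eq_height_add_of_liesOver_of_hasGoingDown p Q,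
              height_map_mk_eq_zero hQ, add_zero]]
      intro P hP
      refine le_antisymm (ringKrullDim_quotient_le P) ?_
      haveI := hP.1.1
      obtain ⟨P', hP', -, hP'e⟩ := exists_minimalPrimes_hq_eq_height (maximalIdeal (B ⧸ J))
      haveI := hP'.1.1
      rw [← maximalIdeal_height_eq_ringKrullDim, ← hP'e, hq_eq_ringKrullDim_quotient]
      have e := (key' P' hP').trans (key' P hP).symm
      rw [← hq_eq_ringKrullDim_quotient, ← hq_eq_ringKrullDim_quotient, ← WithBot.coe_add,
        ← WithBot.coe_add, WithBot.coe_inj] at e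
      rw [← hq_eq_ringKrullDim_quotient, ← hq_eq_ringKrullDim_quotient, WithBot.coe_le_coe]
      exact ((ENat.add_le_add_iff_left (Ideal.height_ne_top (Ideal.IsPrime.ne_top inferInstance))).1
        e.le)
    haveI := isPrime_map_mk hpq
    have h := height_add_ringKrullDim_quotient_of_flat hcatJ heJ (q.map (Ideal.Quotient.mk p))
    rw [ringKrullDim_eq_of_ringEquiv (DoubleQuot.quotQuotEquivQuotOfLE hpq),
      ← hq_eq_ringKrullDim_quotient, ← hq_eq_ringKrullDim_quotient, ← WithBot.coe_add,
      WithBot.coe_inj] at h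
    exact h
  refine ⟨fun p q hpq => ?_, fun s t hh hl hs ht => ?_⟩
  · obtain ⟨n, hn⟩ := ENat.ne_top_iff_exists.1 (LocCoh.hq_ne_top (p := p.asIdeal) (q := q.asIdeal) hpq)
    refine ⟨n, fun s h1 h2 => ?_⟩
    have := length_le_hq s h1 h2
    rw [← hn] at this
    exact_mod_cast this
  · have count : ∀ s : LTSeries (PrimeSpectrum A), (∀ i : Fin s.length, s i.castSucc ⋖ s i.succ) →
        hq s.head.asIdeal (maximalIdeal A) = s.length + hq s.last.asIdeal (maximalIdeal A) := by
      intro s hs
      have : ∀ i : Fin (s.length + 1), hq s.head.asIdeal (maximalIdeal A) =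
          (i.1 : ℕ) + hq (s i).asIdeal (maximalIdeal A) := by
        intro i
        induction i using Fin.induction with
        | zero => simp; rfl
        | succ i ih =>
          rw [ih, ← key (s i.castSucc).asIdeal (s i.succ).asIdeal (hs i).le]
          obtain ⟨c, hc1, hc2, hc3, hc4⟩ := exists_saturated_series (hs i).le
          have : c.length = 1 := by
            rcases Nat.lt_trichotomy c.length 1 with h | h | h
            · exfalso
              have e : c.head = c.last := by
                have h0 : c.length = 0 := by omega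
                exact congrArg c (Fin.ext (by simp [h0]))
              rw [hc1, hc2] at e
              exact (hs i).lt.ne e
            · exact h
            · exfalso
              let one : Fin (c.length + 1) := ⟨1, by omega⟩
              have l1 : c.head < c one := c.strictMono (by
                change (0 : Fin (c.length + 1)).1 < one.1
                exact Nat.one_pos)
              have l2 : c one < c.last := c.strictMono (by
                change one.1 < c.length
                exact h)
              rw [hc1] at l1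
              rw [hc2] at l2
              exact (hs i).2 l1 l2
          rw [← hc4, this, ← add_assoc]
          simp
      exact this (Fin.last _)
    have h1 := count s hs
    have h2 := count t ht
    rw [hh, hl, h2] at h1
    have := WithTop.add_right_cancel
      (LocCoh.hq_ne_top (le_maximalIdeal (Ideal.IsPrime.ne_top inferInstance))) h1
    exact (ENat.coe_inj.1 this).symm

end Groth.Agent.CommAlg6
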