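import Groth.Agent.CommAlg6.CompletionEquidim
import Groth.Agent.CommAlg6.CatenaryHeight
import Groth.Agent.S4689
import Groth.Agent.S9126
import Groth.Agent.FSchLib.Completion
import Mathlib.RingTheory.Flat.EquationalCriterion
import Mathlib.RingTheory.Flat.FaithfullyFlat.Algebra

/-! Ratliff's theorem: universally catenary local rings are formally catenary. -/

set_option linter.style.haveILetI false
set_option autoImplicit false

universe u

open IsLocalRing TensorProduct

namespace Groth.Agent.CommAlg6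

open LocCoh (hq isPrime_map_mk comap_map_mk hq_add_one_le hq_ne_top)

theorem exists_nat_ringKrullDim_eq' (R : Type u) [CommRing R] [IsNoetherianRing R] [IsLocalRing R] :
    ∃ d : ℕ, ringKrullDim R = ((d : ℕ) : WithBot ℕ∞) := by
  obtain ⟨d, hd⟩ := ENat.ne_top_iff_exists.1
    (Ideal.height_ne_top (maximalIdeal.isMaximal R).ne_top : (maximalIdeal R).height ≠ ⊤)
  exact ⟨d, by rw [← maximalIdeal_height_eq_ringKrullDim, ← hd]; rfl⟩

/-- A colon ideal with respect to a principal ideal commutes with flat extensions, elementwise: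
the witness is an explicit combination. -/
theorem exists_colon_combination {A C : Type u} [CommRing A] [CommRing C] [Algebra A C]
    [Module.Flat A C] (y : A) {k : ℕ} (g : Fin k → A) (c : C)
    (h : ∀ i, ∃ t : C, c * algebraMap A C (g i) = algebraMap A C y * t) :
    ∃ (l : ℕ) (e : Fin l → A) (d : Fin l → C), c = ∑ j, algebraMap A C (e j) * d j ∧
      ∀ j i, ∃ s : A, e j * g i = y * s := by
  classical
  choose t ht using h
  let v : Option (Fin k) → C := fun o => o.elim c t
  let x : (Option (Fin k) → A) →ₗ[A] C := Fintype.linearCombination A v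
  let f : (Fin k → A) →ₗ[A] (Option (Fin k) → A) := Fintype.linearCombination A fun i =>
    (Pi.single none (g i) - Pi.single (some i) y : Option (Fin k) → A)
  have hx : ∀ o a, x (Pi.single o a) = algebraMap A C a * v o := fun o a => by
    rw [Fintype.linearCombination_apply_single, Algebra.smul_def]
  have hxf : x ∘ₗ f = 0 := by
    refine (Pi.basisFun A (Fin k)).ext fun i => ?_
    rw [Pi.basisFun_apply, LinearMap.comp_apply, Fintype.linearCombination_apply_single, one_smul,
      map_sub, hx, hx, LinearMap.zero_apply]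
    show algebraMap A C (g i) * c - algebraMap A C y * t i = 0
    rw [mul_comm _ c, ht, sub_self]
  obtain ⟨l, a, z, hxz, haf⟩ := Module.Flat.exists_factorization_of_comp_eq_zero_of_free hxf
  refine ⟨l, fun j => a (Pi.single none 1) j, fun j => z (Finsupp.single j 1), ?_, fun j i => ?_⟩
  · have h1 : x (Pi.single none 1) = c := by rw [hx, map_one, one_mul]; rfl
    rw [← h1, hxz, LinearMap.comp_apply]
    conv_lhs => rw [← Finsupp.univ_sum_single (a (Pi.single none 1)), map_sum]
    refine Finset.sum_congr rfl fun j _ => ?_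
    rw [← Finsupp.smul_single_one, map_smul, Algebra.smul_def]
  · refine ⟨a (Pi.single (some i) 1) j, ?_⟩
    have h1 := LinearMap.congr_fun haf (Pi.single i 1)
    rw [LinearMap.comp_apply, Fintype.linearCombination_apply_single, one_smul, map_sub,
      LinearMap.zero_apply, sub_eq_zero] at h1
    have e1 : ∀ (o : Option (Fin k)) (r : A), (Pi.single o r : Option (Fin k) → A) = r • Pi.single o 1 :=
      fun o r => by rw [← Pi.single_smul, smul_eq_mul, mul_one]
    rw [e1 none (g i), e1 (some i) y, map_smul, map_smul] at h1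
    have h2 := DFunLike.congr_fun h1 j
    simp only [Finsupp.smul_apply, smul_eq_mul] at h2
    rw [← h2, mul_comm]

/-- An idempotent in `B ⊗ C` cutting out a one-dimensional component forces a maximal ideal of
height at most one in `B`. -/
theorem exists_maximal_height_le_one {A C B : Type u} [CommRing A] [IsNoetherianRing A] [IsLocalRing A]
    [CommRing C] [IsNoetherianRing C] [IsLocalRing C] [Algebra A C] [Module.Flat A C]
    [IsLocalHom (algebraMap A C)] [CommRing B] [IsDomain B] [Algebra A B] [Module.Finite A B]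
    (hinjB : Function.Injective (algebraMap A B)) (P : Ideal C) [P.IsPrime]
    (hdimP : ringKrullDim (C ⧸ P) ≤ ((1 : ℕ) : WithBot ℕ∞))
    (y a : A) (hy : y ≠ 0) (j h : C) (hj : j * j = algebraMap A C y * j) (hjP : j ∉ P)
    (ha : algebraMap A C a = j + algebraMap A C y * h)
    (hPT : ∀ T : Ideal C, T.IsPrime → j ∉ T → P ≤ T)
    (z : B) (hz : z * algebraMap A B y = algebraMap A B a) :
    ∃ n : Ideal B, n.IsMaximal ∧ n.height ≤ 1 := by
  letI : Algebra C (B ⊗[A] C) := Algebra.TensorProduct.rightAlgebra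
  haveI : IsNoetherianRing B := IsNoetherianRing.of_finite A B
  haveI : Module.Flat B (B ⊗[A] C) := inferInstance
  haveI hint : Algebra.IsIntegral C (B ⊗[A] C) := by
    haveI : Module.Finite C (C ⊗[A] B) := inferInstance
    refine ⟨fun x => ?_⟩
    have hx := Algebra.IsIntegral.isIntegral (R := C) ((Algebra.TensorProduct.comm A B C) x)
    let e : C ⊗[A] B →ₐ[C] B ⊗[A] C :=
      { (Algebra.TensorProduct.comm A C B).toRingHom with
        commutes' := fun c => by
          show (Algebra.TensorProduct.comm A C B) (c ⊗ₜ[A] 1) = 1 ⊗ₜ[A] c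
          rw [Algebra.TensorProduct.comm_tmul] }
    have := hx.map e
    have he : e ((Algebra.TensorProduct.comm A B C) x) = x := by
      show (Algebra.TensorProduct.comm A C B) ((Algebra.TensorProduct.comm A B C) x) = x
      clear this hx
      induction x using TensorProduct.induction_on with
      | zero => simp
      | tmul p q => rfl
      | add p q hp hq => rw [map_add, map_add, hp, hq]
    rwa [he] at this
  haveI : IsNoetherianRing (B ⊗[A] C) := by
    haveI : IsNoetherianRing (C ⊗[A] B) := IsNoetherianRing.of_finite C (C ⊗[A] B)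
    exact isNoetherianRing_of_ringEquiv _ (Algebra.TensorProduct.comm A C B).toRingEquiv
  let w : B ⊗[A] C := z ⊗ₜ[A] 1 - 1 ⊗ₜ[A] h
  have hYB : algebraMap C (B ⊗[A] C) (algebraMap A C y) = algebraMap A B y ⊗ₜ[A] 1 := by
    show (1 : B) ⊗ₜ[A] algebraMap A C y = _
    rw [Algebra.algebraMap_eq_smul_one, Algebra.algebraMap_eq_smul_one, TensorProduct.smul_tmul]
  have hYw : algebraMap C (B ⊗[A] C) (algebraMap A C y) * w = algebraMap C (B ⊗[A] C) j := by
    rw [show w = z ⊗ₜ[A] (1 : C) - (1 : B) ⊗ₜ[A] h from rfl, mul_sub, hYB,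
      Algebra.TensorProduct.tmul_mul_tmul, mul_comm (algebraMap A B y), hz, mul_one, ← hYB]
    show algebraMap A B a ⊗ₜ[A] (1 : C) - ((1 : B) ⊗ₜ[A] algebraMap A C y) * ((1 : B) ⊗ₜ[A] h) =
      (1 : B) ⊗ₜ[A] j
    rw [Algebra.TensorProduct.tmul_mul_tmul, mul_one, Algebra.algebraMap_eq_smul_one (R := A) (A := B),
      TensorProduct.smul_tmul, ← Algebra.algebraMap_eq_smul_one, ← TensorProduct.tmul_sub, ha,
      add_sub_cancel_right]
  have hinjBh : Function.Injective (algebraMap C (B ⊗[A] C)) :=
    Algebra.TensorProduct.includeRight_injective hinjB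
  have hregB : IsSMulRegular B y := fun p q hpq => by
    simp only [Algebra.smul_def] at hpq
    exact mul_left_cancel₀ (fun h0 => hy (hinjB (h0.trans (map_zero _).symm))) hpq
  have hYreg : ∀ u : B ⊗[A] C, algebraMap C (B ⊗[A] C) (algebraMap A C y) * u = 0 → u = 0 := by
    intro u hu
    refine (IsSMulRegular.rTensor C hregB).right_eq_zero_of_smul ?_
    rw [← hu, hYB, Algebra.smul_def, Algebra.TensorProduct.algebraMap_apply]
  have hww : w * w = w := by
    refine sub_eq_zero.1 (hYreg _ (hYreg _ ?_))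
    have e := congrArg (algebraMap C (B ⊗[A] C)) hj
    rw [map_mul, map_mul] at e
    linear_combination e + (algebraMap C (B ⊗[A] C) (algebraMap A C y) * w + algebraMap C (B ⊗[A] C) j
      - algebraMap C (B ⊗[A] C) (algebraMap A C y)) * hYw
  have hnu : ¬ IsUnit (1 - w) := fun hu => by
    have hw0 : w = 0 := hu.mul_left_eq_zero.1 (by rw [mul_sub, mul_one, hww, sub_self])
    rw [hw0, mul_zero, ← map_zero (algebraMap C (B ⊗[A] C))] at hYw
    exact hjP ((hinjBh hYw).symm ▸ P.zero_mem)
  obtain ⟨n, hnmax, hn⟩ := exists_max_ideal_of_mem_nonunits (mem_nonunits_iff.2 hnu)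
  haveI := hnmax
  obtain ⟨T, hT, hTn, hTe⟩ := exists_minimalPrimes_hq_eq_height n
  haveI hTp : T.IsPrime := hT.1.1
  have hwT : w ∉ T := fun hwT => hnmax.ne_top (n.eq_top_iff_one.2 (by
    simpa using add_mem hn (hTn hwT)))
  let t := T.under C
  have hyT : algebraMap C (B ⊗[A] C) (algebraMap A C y) ∉ T := fun hmem =>
    notMem_nonZeroDivisors_of_mem_mem_minimalPrimes hmem hT (mem_nonZeroDivisors_iff_left.2 hYreg)
  have hjt : j ∉ t := fun hmem => by
    have h0 : algebraMap C (B ⊗[A] C) (algebraMap A C y) * w ∈ T := by rw [hYw]; exact hmem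
    exact (hTp.mem_or_mem h0).elim hyT hwT
  have hPt : P ≤ t := hPT t inferInstance hjt
  have hdimT : ringKrullDim ((B ⊗[A] C) ⧸ T) ≤ ((1 : ℕ) : WithBot ℕ∞) := by
    haveI : T.LiesOver t := ⟨rfl⟩
    rw [← DimLib.ringKrullDim_eq_of_isIntegral (R := C ⧸ t) (S := (B ⊗[A] C) ⧸ T)
      (FaithfulSMul.algebraMap_injective _ _)]
    exact (ringKrullDim_le_of_surjective (Ideal.Quotient.factor hPt)
      (Ideal.Quotient.factor_surjective hPt)).trans hdimP
  have hn1 : n.height ≤ 1 := by
    rw [← hTe]
    haveI := isPrime_map_mk hTn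
    have := (Ideal.height_le_ringKrullDim_of_ne_top
      (Ideal.IsPrime.ne_top (I := n.map (Ideal.Quotient.mk T)) inferInstance)).trans hdimT
    exact_mod_cast this
  refine ⟨n.under B, ?_, ?_⟩
  · haveI hnC : (n.under C).IsMaximal := Ideal.isMaximal_comap_of_isIntegral_of_isMaximal n
    refine Ideal.isMaximal_of_isIntegral_of_isMaximal_comap (R := A) (n.under B) ?_
    have e : (n.under B).under A = (n.under C).under A := by
      ext r
      show algebraMap B (B ⊗[A] C) (algebraMap A B r) ∈ n ↔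
        algebraMap C (B ⊗[A] C) (algebraMap A C r) ∈ n
      rw [show algebraMap B (B ⊗[A] C) (algebraMap A B r) = algebraMap A B r ⊗ₜ[A] (1 : C) from rfl,
        show algebraMap C (B ⊗[A] C) (algebraMap A C r) = (1 : B) ⊗ₜ[A] algebraMap A C r from rfl,
        Algebra.algebraMap_eq_smul_one, Algebra.algebraMap_eq_smul_one, TensorProduct.smul_tmul]
    show ((n.under B).under A).IsMaximal
    rw [e, IsLocalRing.eq_maximalIdeal hnC]
    have hc : (maximalIdeal C).under A = maximalIdeal A :=
      ((local_hom_TFAE (algebraMap A C)).out 0 4 rfl rfl).1 inferInstance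
    rw [hc]; infer_instance
  · haveI : n.LiesOver (n.under B) := ⟨rfl⟩
    refine le_trans ?_ hn1
    rw [Ideal.height_eq_height_add_of_liesOver_of_hasGoingDown (n.under B) n]
    exact le_self_add

/-- In a universally catenary Noetherian local domain of dimension at least two, no minimal prime of
the completion has dimension one. -/
theorem not_ringKrullDim_quotient_eq_one (A : Type u) [CommRing A] [IsNoetherianRing A] [IsLocalRing A]
    [IsDomain A] (hA : CAlg.IsUniversallyCatenary A) (hd : 2 ≤ ringKrullDim A)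
    (P : Ideal (EGA4.Cpl A)) (hP : P ∈ minimalPrimes (EGA4.Cpl A))
    (h1 : ringKrullDim (EGA4.Cpl A ⧸ P) = ((1 : ℕ) : WithBot ℕ∞)) : False := by
  classical
  let C := EGA4.Cpl A
  haveI := hP.1.1
  haveI hloc : IsLocalHom (algebraMap A C) := isLocalHom_completion A
  haveI : Module.Flat A C := AdicCompletion.flat_of_isNoetherian _
  haveI : Module.FaithfullyFlat A C := Module.FaithfullyFlat.of_flat_of_isLocalHom
  let m := maximalIdeal A
  let M := maximalIdeal C
  have hmM : m.map (algebraMap A C) = M := (AdicCompletion.maximalIdeal_eq_map).symm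
  -- `s` lies in all the other minimal primes but not in `P`
  have hfin := minimalPrimes.finite_of_isNoetherianRing C
  let others := hfin.toFinset.erase P
  have hs : ∀ T ∈ others, ∃ e, e ∈ T ∧ e ∉ P := fun T hT => by
    rw [Finset.mem_erase, Set.Finite.mem_toFinset] at hT
    by_contra! hc
    exact hT.1 (le_antisymm hc (hP.2 hT.2.1 hc))
  choose e he he' using hs
  let s := ∏ T : others, e T T.2
  have hsP : s ∉ P := fun hmem => by
    obtain ⟨T, -, hT⟩ := (Ideal.IsPrime.prod_mem_iff (hp := inferInstanceAs P.IsPrime)).1 hmem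
    exact he' _ T.2 hT
  have hnil : Ideal.span {s} * P ≤ nilradical C := by
    rw [Ideal.span_singleton_mul_le_iff]
    intro w hw
    rw [nilradical_eq_sInf, Ideal.mem_sInf]
    rintro T (hT : T.IsPrime)
    obtain ⟨T0, hT0, hT0le⟩ := Ideal.exists_minimalPrimes_le (bot_le : (⊥ : Ideal C) ≤ T)
    refine hT0le ?_
    by_cases hTP : T0 = P
    · exact hTP ▸ P.mul_mem_left _ hw
    · have hT0' : T0 ∈ others := Finset.mem_erase.2 ⟨hTP, hfin.mem_toFinset.2 hT0⟩
      exact T0.mul_mem_right _ (Ideal.mem_of_dvd _ (Finset.dvd_prod_of_mem _ (Finset.mem_univ (⟨T0, hT0'⟩ : others))) (he T0 hT0'))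
  obtain ⟨n0, hn0⟩ := Ideal.exists_pow_le_of_le_radical_of_fg (I := Ideal.span {s} * P) (J := (⊥ : Ideal C))
    hnil (IsNoetherian.noetherian _)
  -- the annihilator of the powers of `s` stabilises
  let f : ℕ →o Ideal C :=
    ⟨fun k => LinearMap.ker (LinearMap.toSpanSingleton C C (s ^ k)), fun a b hab w hw => by
      rw [LinearMap.mem_ker, LinearMap.toSpanSingleton_apply, smul_eq_mul] at hw ⊢
      rw [← Nat.add_sub_cancel' hab, pow_add, ← mul_assoc, hw, zero_mul]⟩
  have hf : ∀ k w, w ∈ f k ↔ w * s ^ k = 0 := fun k w => by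
    show w ∈ LinearMap.ker _ ↔ _
    rw [LinearMap.mem_ker, LinearMap.toSpanSingleton_apply, smul_eq_mul]
  obtain ⟨k0, hk0⟩ := (monotone_stabilizes_iff_noetherian (R := C) (M := C)).2 inferInstance f
  let k := max k0 n0
  let I := f k
  let J := Ideal.span {s ^ k}
  have hIJ : ∀ w, w ∈ I → w ∈ J → w = 0 := by
    intro w hw hw'
    obtain ⟨r, rfl⟩ := Ideal.mem_span_singleton'.1 hw'
    rw [hf, mul_assoc, ← pow_add] at hw
    have : f (k + k) = f k := (hk0 _ (by omega)).symm.trans (hk0 _ (le_max_left _ _))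
    rw [← hf, this, hf] at hw
    exact hw
  have hPI : ∀ T : Ideal C, T.IsPrime → I ≤ T → P ≤ T := fun T hT hle w hw => by
    refine hT.mem_of_pow_mem n0 (hle ((hf k _).2 ?_))
    have : (s * w) ^ n0 = 0 := (Submodule.mem_bot C).1
      (hn0 (Ideal.pow_mem_pow (Ideal.mul_mem_mul (Ideal.mem_span_singleton_self s) hw) n0))
    rw [mul_pow, mul_comm] at this
    rw [show k = n0 + (k - n0) from (Nat.add_sub_cancel' (le_max_right k0 n0)).symm, pow_add,
      ← mul_assoc, this, zero_mul]
  have hIP : I ≤ P := fun w hw => by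
    have h0 : w * s ^ k ∈ P := ((hf k w).1 hw).symm ▸ P.zero_mem
    exact (Ideal.IsPrime.mem_or_mem inferInstance h0).resolve_right fun h =>
      hsP (Ideal.IsPrime.mem_of_pow_mem inferInstance _ h)
  have hrad : M ≤ (I ⊔ J).radical := by
    rw [Ideal.radical_eq_sInf]
    refine le_sInf fun T ⟨hT, hTp⟩ => ?_
    haveI := hTp
    have hPT := hPI T hTp (le_sup_left.trans hT)
    rcases eq_or_ne T M with rfl | hne
    · exact le_rfl
    exfalso
    have hsT : s ∈ T := hTp.mem_of_pow_mem k (hT (le_sup_right (a := I) (Ideal.mem_span_singleton_self _)))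
    have hPT' : P < T := lt_of_le_not_ge hPT fun h => hsP (h hsT)
    have hTM : T < M := lt_of_le_of_ne (le_maximalIdeal hTp.ne_top) hne
    have e1 := hq_add_one_le (p := P) le_rfl hPT'
    have e2 := hq_add_one_le (p := P) hPT hTM
    have e3 : hq P M = 1 := by
      have := hq_eq_ringKrullDim_quotient P
      rw [h1] at this
      exact_mod_cast this
    have : (2 : ℕ∞) ≤ 1 := calc
      (2 : ℕ∞) = 0 + 1 + 1 := by norm_num
      _ ≤ hq P P + 1 + 1 := by gcongr; exact zero_le
      _ ≤ hq P T + 1 := by gcongr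
      _ ≤ hq P M := e2
      _ = 1 := e3
    norm_num at this
  obtain ⟨N0, hN0⟩ := Ideal.exists_pow_le_of_le_radical_of_fg hrad (IsNoetherian.noetherian _)
  let N := N0 + 1
  have hN : M ^ N ≤ I ⊔ J := (Ideal.pow_le_pow_right (Nat.le_succ _)).trans hN0
  -- a nonzero element of the maximal ideal
  obtain ⟨x, hxm, hx0⟩ : ∃ x ∈ m, x ≠ 0 := by
    by_contra! hc
    have hm : m = ⊥ := eq_bot_iff.2 fun w hw => (Submodule.mem_bot _).2 (hc w hw)
    have hz := maximalIdeal_height_eq_ringKrullDim (R := A)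
    rw [show maximalIdeal A = (⊥ : Ideal A) from hm, Ideal.height_bot] at hz
    rw [← hz] at hd
    norm_num at hd
  let y := x ^ N
  let yC := algebraMap A C y
  have hinj : Function.Injective (algebraMap A C) := FaithfulSMul.algebraMap_injective A C
  have hy0 : y ≠ 0 := pow_ne_zero _ hx0
  have hyC : IsSMulRegular C y :=
    Module.Flat.isSMulRegular_of_isRegular (IsRegular.of_ne_zero hy0)
  have hxP : algebraMap A C x ∉ P := by
    intro hmem
    have hreg : algebraMap A C x ∈ nonZeroDivisors C := by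
      rw [mem_nonZeroDivisors_iff_right]
      intro w hw
      refine (Module.Flat.isSMulRegular_of_isRegular (R := A) (M := C) (IsRegular.of_ne_zero hx0)).right_eq_zero_of_smul ?_
      rw [Algebra.smul_def, mul_comm, hw]
    exact notMem_nonZeroDivisors_of_mem_mem_minimalPrimes hmem hP hreg
  have hymem : yC ∈ I ⊔ J := hN (by
    show algebraMap A C (x ^ N) ∈ M ^ N
    rw [map_pow]
    exact Ideal.pow_mem_pow (hmM ▸ Ideal.mem_map_of_mem _ hxm) N)
  obtain ⟨i0, hi0, j0, hj0, hsum⟩ := Submodule.mem_sup.1 hymem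
  have hsq : j0 * j0 = yC * j0 := by
    refine sub_eq_zero.1 (hIJ _ ?_ (sub_mem (J.mul_mem_left _ hj0) (J.mul_mem_left _ hj0)))
    rw [show j0 * j0 - yC * j0 = -(i0 * j0) by rw [← hsum]; ring]
    exact neg_mem (I.mul_mem_right _ hi0)
  have hcolon : ∀ u ∈ M ^ N, ∃ t, j0 * u = yC * t := fun u hu => by
    obtain ⟨i', hi', j', hj', rfl⟩ := Submodule.mem_sup.1 (hN hu)
    refine ⟨j', ?_⟩
    have e1 : j0 * i' = 0 := hIJ _ (I.mul_mem_left _ hi') (J.mul_mem_right _ hj0)
    have e2 : i0 * j' = 0 := hIJ _ (I.mul_mem_right _ hi0) (J.mul_mem_left _ hj')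
    rw [mul_add, e1, zero_add, ← hsum, add_mul, e2, zero_add]
  -- descend `j0` to `A` modulo `y`
  obtain ⟨kk, g, hg⟩ := Submodule.fg_iff_exists_fin_generating_family.1
    (IsNoetherian.noetherian (m ^ N))
  obtain ⟨l, ee, dd, hj, hcol⟩ := exists_colon_combination y g j0 fun i => hcolon _ (by
    rw [← hmM, ← Ideal.map_pow]
    exact Ideal.mem_map_of_mem _ (hg ▸ Submodule.subset_span ⟨i, rfl⟩))
  have happrox : ∀ d : C, ∃ a : A, d - algebraMap A C a ∈ (m ^ N).map (algebraMap A C) := fun d => by
    obtain ⟨a, ha⟩ := Ideal.Quotient.mk_surjective (AdicCompletion.evalₐ m N d)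
    refine ⟨a, ?_⟩
    rw [Ideal.map_pow]
    have hker := Groth.Agent.FSchLib.ker_evalₐ m (IsNoetherian.noetherian m) N
    refine (SetLike.ext_iff.1 hker _).1 ?_
    show AdicCompletion.evalₐ m N (d - algebraMap A C a) = 0
    rw [map_sub, Groth.Agent.FSchLib.evalₐ_algebraMap, ha, sub_self]
  choose aa haa using happrox
  have hek : ∀ j, ∀ u ∈ (m ^ N).map (algebraMap A C),
      algebraMap A C (ee j) * u ∈ Ideal.span {yC} := fun j u hu => by
    refine Submodule.span_induction (p := fun u _ => algebraMap A C (ee j) * u ∈ Ideal.span {yC})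
      ?_ (by simp) (fun a b _ _ ha hb => by rw [mul_add]; exact add_mem ha hb)
      (fun a b _ hb => by rw [smul_eq_mul, mul_left_comm]; exact Ideal.mul_mem_left _ _ hb) hu
    rintro _ ⟨r, hr, rfl⟩
    rw [SetLike.mem_coe, ← hg] at hr
    rw [← map_mul]
    refine Submodule.span_induction (p := fun r _ => algebraMap A C (ee j * r) ∈ Ideal.span {yC})
      ?_ (by simp) (fun a b _ _ ha hb => by rw [mul_add, map_add]; exact add_mem ha hb)
      (fun a b _ hb => by rw [smul_eq_mul, mul_left_comm, map_mul]; exact Ideal.mul_mem_left _ _ hb) hr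
    rintro _ ⟨i, rfl⟩
    obtain ⟨t, ht⟩ := hcol j i
    rw [ht, map_mul]
    exact Ideal.mul_mem_right _ _ (Ideal.mem_span_singleton_self _)
  let a : A := ∑ j, ee j * aa (dd j)
  obtain ⟨h', hh'⟩ : ∃ h', j0 - algebraMap A C a = h' * yC := by
    obtain ⟨h', e⟩ := Ideal.mem_span_singleton'.1 (show j0 - algebraMap A C a ∈ Ideal.span {yC} by
      rw [hj, map_sum, ← Finset.sum_sub_distrib]
      refine sum_mem fun j _ => ?_
      rw [map_mul, ← mul_sub]
      exact hek j _ (haa _))
    exact ⟨h', e.symm⟩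
  let h := -h'
  have ha : algebraMap A C a = j0 + yC * h := by
    rw [show h = -h' from rfl, mul_neg, mul_comm, ← hh', neg_sub, add_sub_cancel]
  -- `a / y` is integral over `A`
  obtain ⟨b, c, hbc⟩ : ∃ b c : A, a * a = b * (y * a) + c * (y * y) := by
    have hmem : algebraMap A C (a * a) ∈ (Ideal.span {y * a, y * y}).map (algebraMap A C) := by
      rw [map_mul, Ideal.map_span, Set.image_pair, Ideal.mem_span_pair, map_mul, map_mul]
      refine ⟨2 * h + 1, -(h * h + h), ?_⟩
      have hyy : algebraMap A C y = yC := rfl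
      rw [hyy, ha]
      linear_combination (-1 : C) * hsq
    have h' := Ideal.mem_comap.2 hmem
    rw [Ideal.comap_map_eq_self_of_faithfullyFlat, Ideal.mem_span_pair] at h'
    obtain ⟨b, c, e⟩ := h'
    exact ⟨b, c, e.symm⟩
  let K := FractionRing A
  let yK := algebraMap A K y
  have hyK : yK ≠ 0 := fun h' => hy0 ((IsFractionRing.injective A K) (h'.trans (map_zero _).symm))
  let z : K := algebraMap A K a / yK
  have hz : z * yK = algebraMap A K a := div_mul_cancel₀ _ hyK
  have hzint : IsIntegral A z := by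
    refine ⟨Polynomial.X ^ 2 - Polynomial.C b * Polynomial.X - Polynomial.C c, ?_, ?_⟩
    · monicity!
    · simp only [Polynomial.eval₂_sub, Polynomial.eval₂_pow, Polynomial.eval₂_X, Polynomial.eval₂_mul,
        Polynomial.eval₂_C]
      refine (mul_left_injective₀ (mul_ne_zero hyK hyK)) ?_
      have e := congrArg (algebraMap A K) hbc
      simp only [map_add, map_mul] at e
      show (_ : K) * (yK * yK) = (0 : K) * (yK * yK)
      linear_combination (z * yK + algebraMap A K a - algebraMap A K b * yK) * hz + e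
  let B := Algebra.adjoin A ({z} : Set K)
  haveI : Module.Finite A B := Module.Finite.iff_fg.2 hzint.fg_adjoin_singleton
  have hinjB : Function.Injective (algebraMap A B) := fun u v huv =>
    IsFractionRing.injective A K (congrArg Subtype.val huv)
  haveI : FaithfulSMul A B := (faithfulSMul_iff_algebraMap_injective A B).2 hinjB
  have hjP : j0 ∉ P := fun hmem => hxP (Ideal.IsPrime.mem_of_pow_mem (I := P) inferInstance N (by
    rw [← map_pow]
    exact (hsum ▸ add_mem (hIP hi0) hmem : yC ∈ P)))
  have hPT : ∀ T : Ideal C, T.IsPrime → j0 ∉ T → P ≤ T := fun T hT hjT => by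
    refine hPI T hT fun u hu => ?_
    have hs' : s ^ k ∉ T := fun hmem => hjT ((Ideal.span_singleton_le_iff_mem (I := T)).2 hmem hj0)
    have hzero : u * s ^ k ∈ T := ((hf k u).1 hu).symm ▸ T.zero_mem
    exact (hT.mem_or_mem hzero).resolve_right hs'
  obtain ⟨n, hn, hn1⟩ := exists_maximal_height_le_one (B := B) hinjB P h1.le y a hy0 j0 h hsq hjP ha hPT
    ⟨z, Algebra.subset_adjoin rfl⟩ (Subtype.ext hz)
  have hB := Groth.Agent.S4689.result A B hA n
  rw [IsLocalization.AtPrime.ringKrullDim_eq_height n] at hB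
  rw [← hB] at hd
  have hd' : ((2 : ℕ∞) : WithBot ℕ∞) ≤ (n.height : WithBot ℕ∞) := hd
  have : (2 : ℕ∞) ≤ 1 := (WithBot.coe_le_coe.1 hd').trans hn1
  norm_num at this

/-- The induction step: a minimal prime of dimension `c+1 ≥ 2` of the completion of a domain gives
one of dimension `c` for the completion of a quotient by a prime of height one. -/
theorem exists_height_one_prime_completion (A : Type u) [CommRing A] [IsNoetherianRing A] [IsLocalRing A]
    [IsDomain A] (c : ℕ) (hc : 1 ≤ c)
    (P : Ideal (EGA4.Cpl A)) (hP : P ∈ minimalPrimes (EGA4.Cpl A))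
    (hdim : ringKrullDim (EGA4.Cpl A ⧸ P) = ((c + 1 : ℕ) : WithBot ℕ∞)) :
    ∃ (p : Ideal A) (_ : p.IsPrime) (Q : Ideal (EGA4.Cpl (A ⧸ p))),
      p.height = 1 ∧ Q ∈ minimalPrimes (EGA4.Cpl (A ⧸ p)) ∧
        ringKrullDim (EGA4.Cpl (A ⧸ p) ⧸ Q) = ((c : ℕ) : WithBot ℕ∞) := by
  classical
  let C := EGA4.Cpl A
  haveI := hP.1.1
  haveI hloc : IsLocalHom (algebraMap A C) := isLocalHom_completion A
  haveI : Module.Flat A C := AdicCompletion.flat_of_isNoetherian _
  haveI : Module.FaithfullyFlat A C := Module.FaithfullyFlat.of_flat_of_isLocalHom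
  have hcat := isCatenary_completion A
  let M := maximalIdeal C
  have hPM : P ≤ M := le_maximalIdeal hP.1.1.ne_top
  have hmM : (maximalIdeal A).map (algebraMap A C) = M := (AdicCompletion.maximalIdeal_eq_map).symm
  have hhq : hq P M = ((c + 1 : ℕ) : ℕ∞) := by
    have := hq_eq_ringKrullDim_quotient P
    rw [hdim] at this
    exact_mod_cast this
  let others := (minimalPrimes.finite_of_isNoetherianRing C).toFinset.erase P
  let E : Finset (Ideal C) := (others.biUnion fun P' =>
    ((P ⊔ P').finite_minimalPrimes_of_isNoetherianRing C).toFinset).filter (· ≠ M)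
  let F : Finset (Ideal A) := insert ⊥ (E.image fun Q' => Q'.under A)
  have hEp : ∀ Q' ∈ E, Q'.IsPrime := fun Q' h => by
    simp only [E, Finset.mem_filter, Finset.mem_biUnion, Set.Finite.mem_toFinset] at h
    obtain ⟨⟨P', -, h'⟩, -⟩ := h
    exact h'.1.1
  have hF : ∀ I ∈ F, I.IsPrime := fun I hI => by
    simp only [F, Finset.mem_insert, Finset.mem_image] at hI
    rcases hI with rfl | ⟨Q', hQ', rfl⟩
    · exact Ideal.isPrime_bot
    · haveI := hEp Q' hQ'; infer_instance
  obtain ⟨x, hxm, hx⟩ : ∃ x ∈ maximalIdeal A, ∀ I ∈ F, x ∉ I := by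
    by_contra! hcon
    have hsub : (maximalIdeal A : Set A) ⊆ ⋃ I ∈ (↑F : Set (Ideal A)), (id I : Ideal A) := fun y hy => by
      obtain ⟨I, hI, hyI⟩ := hcon y hy
      exact Set.mem_biUnion hI hyI
    obtain ⟨I, hI, hle⟩ :=
      (Ideal.subset_union_prime (f := id) ⊥ ⊥ (fun I hI _ _ => hF I hI)).1 hsub
    have hMle : M ≤ P ∨ ∃ Q' ∈ E, M ≤ Q' := by
      simp only [F, Finset.mem_insert, Finset.mem_image] at hI
      rcases hI with rfl | ⟨Q', hQ', rfl⟩
      · exact .inl (hmM.symm.le.trans ((Ideal.map_mono hle).trans (by simp)))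
      · exact .inr ⟨Q', hQ', hmM.symm.le.trans ((Ideal.map_mono hle).trans Ideal.map_comap_le)⟩
    rcases hMle with h | ⟨Q', hQ', h⟩
    · have hPe : P = M := le_antisymm hPM h
      have h0 : ringKrullDim (C ⧸ P) = 0 := by
        haveI : P.IsMaximal := hPe ▸ inferInstance
        letI : Field (C ⧸ P) := Ideal.Quotient.field P
        exact ringKrullDim_eq_zero_of_field _
      rw [hdim] at h0
      norm_cast at h0
    · exact (Finset.mem_filter.1 hQ').2 (le_antisymm (le_maximalIdeal (hEp Q' hQ').ne_top) h)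
  have hx0 : x ≠ 0 := fun h => hx ⊥ (Finset.mem_insert_self _ _) (h ▸ zero_mem _)
  let xC := algebraMap A C x
  have hxP : xC ∉ P := by
    intro hmem
    refine notMem_nonZeroDivisors_of_mem_mem_minimalPrimes hmem hP
      (mem_nonZeroDivisors_iff_right.2 fun w hw => ?_)
    refine (Module.Flat.isSMulRegular_of_isRegular (R := A) (M := C) (IsRegular.of_ne_zero hx0)).right_eq_zero_of_smul ?_
    rw [Algebra.smul_def, mul_comm, hw]
  have hxM : xC ∈ M := hmM ▸ Ideal.mem_map_of_mem _ hxm
  obtain ⟨Q, hQ, hQM⟩ := Ideal.exists_minimalPrimes_le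
    (sup_le hPM ((Ideal.span_singleton_le_iff_mem (I := M)).2 hxM) : P ⊔ Ideal.span {xC} ≤ M)
  haveI hQp : Q.IsPrime := hQ.1.1
  have hPQ : P ≤ Q := le_sup_left.trans hQ.1.2
  have hxQ : xC ∈ Q := hQ.1.2 (le_sup_right (a := P) (Ideal.mem_span_singleton_self _))
  have hPQlt : P < Q := lt_of_le_not_ge hPQ fun h => hxP (h hxQ)
  have hhqPQ : hq P Q = 1 := le_antisymm (Ideal.map_height_le_one_of_mem_minimalPrimes hQ) (by
    refine le_trans ?_ (hq_add_one_le (p := P) le_rfl hPQlt)
    exact le_add_self)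
  have hhqQM : hq Q M = (c : ℕ∞) := by
    have := hq_add_eq hcat (p := P) (s := Q) (q := M) hPQ hQM
    rw [hhqPQ, hhq, Nat.cast_add, Nat.cast_one, add_comm (c : ℕ∞)] at this
    exact WithTop.add_left_cancel ENat.one_ne_top this
  have hQne : Q ≠ M := by
    intro h
    rw [h] at hhqPQ
    rw [hhqPQ] at hhq
    norm_cast at hhq
    omega
  have hQht : Q.height = 1 := by
    obtain ⟨P', hP', hP'Q, hP'e⟩ := exists_minimalPrimes_hq_eq_height Q
    rw [← hP'e]
    rcases eq_or_ne P' P with rfl | hne
    · exact hhqPQ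
    exfalso
    haveI := hP'.1.1
    obtain ⟨R, hR, hRQ⟩ := Ideal.exists_minimalPrimes_le (sup_le hPQ hP'Q : P ⊔ P' ≤ Q)
    haveI := hR.1.1
    have hPR : P < R := lt_of_le_not_ge (le_sup_left.trans hR.1.2) fun h =>
      hne (le_antisymm ((le_sup_right.trans hR.1.2).trans h) (hP.2 ⟨‹P'.IsPrime›, bot_le⟩
        ((le_sup_right.trans hR.1.2).trans h)))
    have hRQe : R = Q := by
      refine (lt_or_eq_of_le hRQ).resolve_left fun hlt => ?_
      have e1 := hq_add_one_le (p := P) le_rfl hPR
      have e2 := hq_add_one_le (p := P) hPR.le hlt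
      rw [hhqPQ] at e2
      have : (2 : ℕ∞) ≤ 1 := calc
        (2 : ℕ∞) = 0 + 1 + 1 := by norm_num
        _ ≤ hq P P + 1 + 1 := by gcongr; exact zero_le
        _ ≤ hq P R + 1 := by gcongr
        _ ≤ 1 := e2
      norm_num at this
    subst hRQe
    have hQE : R ∈ E := by
      simp only [E, Finset.mem_filter, Finset.mem_biUnion, Set.Finite.mem_toFinset]
      exact ⟨⟨P', Finset.mem_erase.2 ⟨hne, (minimalPrimes.finite_of_isNoetherianRing C).mem_toFinset.2 hP'⟩, hR⟩,
        hQne⟩
    exact hx (R.under A) (Finset.mem_insert_of_mem (Finset.mem_image_of_mem _ hQE)) hxQ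
  let p := Q.under A
  haveI : Q.LiesOver p := ⟨rfl⟩
  have hformula := Ideal.height_eq_height_add_of_liesOver_of_hasGoingDown p Q
  have hp1 : p.height = 1 := by
    refine le_antisymm (hQht ▸ hformula ▸ le_self_add) (Order.one_le_iff_pos.2 (pos_iff_ne_zero.2 fun h0 => ?_))
    rw [Ideal.height_eq_zero_iff, IsDomain.minimalPrimes_eq_singleton_bot, Set.mem_singleton_iff] at h0
    have hx' : x ∈ p := hxQ
    rw [h0] at hx'
    exact hx0 hx'
  have hQmin : Q ∈ (p.map (algebraMap A C)).minimalPrimes := by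
    refine ⟨⟨hQp, Ideal.map_comap_le⟩, fun R hR hle => ?_⟩
    haveI := hR.1
    by_contra hne
    have hlt : R < Q := lt_of_le_not_ge hle hne
    have e := hq_add_one_le (p := p.map (algebraMap A C)) hR.2 hlt
    rw [hQht, hp1] at hformula
    have h0 : hq (p.map (algebraMap A C)) Q = 0 :=
      (WithTop.add_left_cancel ENat.one_ne_top ((add_zero (1 : ℕ∞)).trans hformula)).symm
    rw [h0] at e
    exact absurd (le_add_self.trans e) (by simp)
  obtain ⟨e0⟩ := CAlgH.completion_quotient_equiv (Ideal.Quotient.mk p) Ideal.Quotient.mk_surjective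
  let e : (C ⧸ p.map (algebraMap A C)) ≃+* EGA4.Cpl (A ⧸ p) :=
    (Ideal.quotEquivOfEq (by rw [Ideal.mk_ker])).trans e0
  let φ : C →+* EGA4.Cpl (A ⧸ p) := e.toRingHom.comp (Ideal.Quotient.mk _)
  have hφ : Function.Surjective φ := e.surjective.comp Ideal.Quotient.mk_surjective
  have hker : RingHom.ker φ = p.map (algebraMap A C) := by
    rw [RingHom.ker_equiv_comp, Ideal.mk_ker]
  have hkQ : RingHom.ker φ ≤ Q := hker.le.trans hQmin.1.2
  refine ⟨p, inferInstance, Q.map φ, hp1, ?_, ?_⟩
  · refine ⟨⟨Ideal.map_isPrime_of_surjective hφ hkQ, bot_le⟩, fun R hR hle => ?_⟩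
    haveI := hR.1
    have h1 : R.comap φ ≤ Q := (Ideal.comap_mono hle).trans (by
      rw [Ideal.comap_map_of_surjective φ hφ, ← RingHom.ker_eq_comap_bot, sup_eq_left.2 hkQ])
    have h2 := hQmin.2 ⟨inferInstance, hker.ge.trans (Ideal.comap_mono bot_le)⟩ h1
    exact (Ideal.map_mono h2).trans (Ideal.map_comap_le)
  · let ψ : C ⧸ Q →+* EGA4.Cpl (A ⧸ p) ⧸ Q.map φ :=
      Ideal.quotientMap (Q.map φ) φ Ideal.le_comap_map
    have hψ : Function.Bijective ψ := by
      refine ⟨Ideal.quotientMap_injective' ?_, Ideal.quotientMap_surjective hφ⟩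
      rw [Ideal.comap_map_of_surjective φ hφ, ← RingHom.ker_eq_comap_bot, sup_eq_left.2 hkQ]
    rw [← ringKrullDim_eq_of_ringEquiv (RingEquiv.ofBijective ψ hψ),
      ← hq_eq_ringKrullDim_quotient Q, hhqQM]
    rfl

/-- Ratliff: the completion of a universally catenary Noetherian local domain is equidimensional. -/
theorem ringKrullDim_quotient_eq_of_universallyCatenary : ∀ (c : ℕ) (A : Type u) [CommRing A]
    [IsNoetherianRing A] [IsLocalRing A] [IsDomain A], CAlg.IsUniversallyCatenary A →
    ∀ (P : Ideal (EGA4.Cpl A)), P ∈ minimalPrimes (EGA4.Cpl A) →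
      ringKrullDim (EGA4.Cpl A ⧸ P) = ((c : ℕ) : WithBot ℕ∞) →
        ringKrullDim A = ((c : ℕ) : WithBot ℕ∞) := by
  intro c
  induction c using Nat.strong_induction_on with
  | _ c ih =>
    intro A _ _ _ _ hA P hP hdim
    haveI := hP.1.1
    have hle : ((c : ℕ) : WithBot ℕ∞) ≤ ringKrullDim A := by
      rw [← hdim, ← ringKrullDim_completion A]
      exact ringKrullDim_quotient_le P
    match c, ih, hdim, hle with
    | 0, _, hdim, hle =>
      haveI : Ring.KrullDimLE 0 (EGA4.Cpl A ⧸ P) :=
        Ring.krullDimLE_iff.2 hdim.le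
      have hmax : P.IsMaximal := Ideal.Quotient.maximal_of_isField P Ring.KrullDimLE.isField_of_isDomain
      rw [← ringKrullDim_completion A, ← maximalIdeal_height_eq_ringKrullDim,
        show maximalIdeal (EGA4.Cpl A) = P from (IsLocalRing.eq_maximalIdeal hmax).symm,
        Ideal.height_eq_zero_iff.2 hP]
      rfl
    | 1, _, hdim, hle =>
      refine le_antisymm ?_ hle
      by_contra hlt
      refine not_ringKrullDim_quotient_eq_one A hA ?_ P hP hdim
      obtain ⟨d, hd⟩ := exists_nat_ringKrullDim_eq' A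
      rw [hd] at hlt ⊢
      norm_cast at hlt ⊢
      omega
    | c + 2, ih, hdim, hle =>
      obtain ⟨p, _, Q, hp, hQ, hQdim⟩ :=
        exists_height_one_prime_completion A (c + 1) (by omega) P hP hdim
      haveI : Algebra.FiniteType A (A ⧸ p) := inferInstance
      have hAp : CAlg.IsUniversallyCatenary (A ⧸ p) := Groth.Agent.S9126.result A (A ⧸ p) hA
      have h1 := ih (c + 1) (by omega) (A ⧸ p) hAp Q hQ hQdim
      have hcatA : CAlg.IsCatenary A := hA.2 A inferInstance
      have heA : EGA4.IsEquidim A := fun T hT => by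
        rw [IsDomain.minimalPrimes_eq_singleton_bot, Set.mem_singleton_iff] at hT
        subst hT
        exact ringKrullDim_eq_of_ringEquiv (RingEquiv.quotientBot _)
      rw [← height_add_ringKrullDim_quotient_of_equidim hcatA heA p, hp, h1]
      show ((1 : ℕ) : WithBot ℕ∞) + ((c + 1 : ℕ) : WithBot ℕ∞) = _
      rw [← Nat.cast_add, add_comm]

/-- A universally catenary Noetherian local ring is formally catenary. -/
theorem isFormallyCatenary_of_isUniversallyCatenary (A : Type u) [CommRing A] [IsLocalRing A]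
    [IsNoetherianRing A] (hA : CAlg.IsUniversallyCatenary A) : EGA4.IsFormallyCatenary A := by
  intro p _ P hP
  haveI := hP.1.1
  have hAp : CAlg.IsUniversallyCatenary (A ⧸ p) := Groth.Agent.S9126.result A (A ⧸ p) hA
  obtain ⟨c, hc⟩ := exists_nat_ringKrullDim_eq' (EGA4.Cpl (A ⧸ p) ⧸ P)
  rw [hc, ringKrullDim_completion (A ⧸ p)]
  exact (ringKrullDim_quotient_eq_of_universallyCatenary c (A ⧸ p) hAp P hP hc).symm

end Groth.Agent.CommAlg6
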