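import Groth.Prelude.Def_EGA41
import Groth.Agent.CommAlg6.CMFormalEFT
import Mathlib.RingTheory.Smooth.Local
import Mathlib.RingTheory.Smooth.Kaehler
import Mathlib.RingTheory.Filtration

/-! Adic formal smoothness of an essentially finite type local algebra is discrete formal smoothness. -/

set_option autoImplicit false
set_option linter.style.haveILetI false

universe u

open IsLocalRing TensorProduct KaehlerDifferential

namespace Groth.Agent.CommAlg6

theorem one_tmul_eq_zero_iff {P M : Type u} [CommRing P] [AddCommGroup M] [Module P M] (m : Ideal P) (y : M) :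
    (1 : P ⧸ m) ⊗ₜ[P] y = 0 ↔ y ∈ m • (⊤ : Submodule P M) := by
  rw [← (TensorProduct.quotTensorEquivQuotSMul M m).map_eq_zero_iff,
    show (1 : P ⧸ m) = Ideal.Quotient.mk m 1 from (map_one _).symm,
    TensorProduct.quotTensorEquivQuotSMul_mk_tmul, one_smul]
  exact Submodule.Quotient.mk_eq_zero _

set_option maxHeartbeats 800000 in
/-- The Jacobian criterion extracted from adic formal smoothness. -/
theorem formallySmooth_of_adic_presentation {R S P : Type u} [CommRing R] [IsLocalRing R]
    [CommRing S] [IsLocalRing S] [Algebra R S] [IsLocalHom (algebraMap R S)]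
    [CommRing P] [IsLocalRing P] [IsNoetherianRing P] [Algebra R P] [Algebra P S] [IsScalarTower R P S]
    [Algebra.FormallySmooth R P] [Module.Free P Ω[P⁄R]] [Module.Finite P Ω[P⁄R]]
    (hsurj : Function.Surjective (algebraMap P S))
    (h : EGA41.IsFormallySmoothAdic R (maximalIdeal R) S (maximalIdeal S)) :
    Algebra.FormallySmooth R S := by
  classical
  let I := RingHom.ker (algebraMap P S)
  let m := maximalIdeal P
  haveI : IsLocalHom (algebraMap P S) := IsLocalHom.of_surjective _ hsurj
  have hIm : I ≤ m := le_maximalIdeal (RingHom.ker_ne_top _)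
  have hmS : maximalIdeal S = m.map (algebraMap P S) :=
    (IsLocalRing.map_maximalIdeal_of_surjective _ hsurj).symm
  letI : Field (P ⧸ m) := Ideal.Quotient.field m
  let g : S →+* P ⧸ m := RingHom.liftOfSurjective (algebraMap P S) hsurj
    ⟨Ideal.Quotient.mk m, fun x hx => by
      rw [RingHom.mem_ker, Ideal.Quotient.eq_zero_iff_mem]; exact hIm hx⟩
  have hg : ∀ x : P, g (algebraMap P S x) = Ideal.Quotient.mk m x := fun x =>
    RingHom.liftOfSurjective_comp_apply (algebraMap P S) hsurj _ x
  letI : Algebra S (P ⧸ m) := g.toAlgebra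
  haveI : IsScalarTower P S (P ⧸ m) := .of_algebraMap_eq fun x => (hg x).symm
  rw [Algebra.FormallySmooth.iff_injective_cotangentComplexBaseChange (S := S) P (P ⧸ m) hsurj
    (IsNoetherian.noetherian _) (by
      rw [hmS, Ideal.map_le_iff_le_comap]
      intro x hx
      show g _ = 0
      rw [hg, Ideal.Quotient.eq_zero_iff_mem]; exact hx)]
  rw [injective_iff_map_eq_zero]
  intro z hz
  obtain ⟨x, rfl⟩ := TensorProduct.mk_surjective P (RingHom.ker (algebraMap P S)) (P ⧸ m)
    Ideal.Quotient.mk_surjective z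
  obtain ⟨x, hx⟩ := x
  have hDx : D R P x ∈ m • (⊤ : Submodule P Ω[P⁄R]) := by
    rw [← one_tmul_eq_zero_iff]
    rw [TensorProduct.mk_apply, cotangentComplexBaseChange_tmul, one_smul] at hz
    exact hz
  -- Artin–Rees
  obtain ⟨k, hk⟩ := Ideal.exists_pow_inf_eq_pow_smul m (I : Submodule P P)
  have hAR : m ^ (k + 1) ⊓ I ≤ m * I := by
    have h1 := hk (k + 1) (Nat.le_succ k)
    simp only [Nat.add_sub_cancel_left, pow_one, smul_eq_mul, Ideal.mul_top] at h1
    rw [h1]
    exact Ideal.mul_mono le_rfl inf_le_right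
  -- the lifting problem
  let N := I ^ 2 ⊔ m ^ (k + 1)
  let C := P ⧸ N
  let π := Ideal.Quotient.mk N
  let J : Ideal C := I.map π
  have hJ2 : J ^ 2 = ⊥ := by
    rw [← Ideal.map_pow, Ideal.map_eq_bot_iff_le_ker, Ideal.mk_ker]; exact le_sup_left
  have hπN : ∀ y ∈ N, π y = 0 := fun y hy => Ideal.Quotient.eq_zero_iff_mem.2 hy
  let u0 : S →+* C ⧸ J := RingHom.liftOfSurjective (algebraMap P S) hsurj
    ⟨(Ideal.Quotient.mk J).comp π, fun y hy => by
      rw [RingHom.mem_ker, RingHom.comp_apply, Ideal.Quotient.eq_zero_iff_mem]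
      exact Ideal.mem_map_of_mem π hy⟩
  have hu0 : ∀ y : P, u0 (algebraMap P S y) = Ideal.Quotient.mk J (π y) := fun y =>
    RingHom.liftOfSurjective_comp_apply (algebraMap P S) hsurj _ y
  let u : S →ₐ[R] C ⧸ J :=
    { u0 with
      commutes' := fun r => by
        show u0 (algebraMap R S r) = _
        rw [IsScalarTower.algebraMap_apply R P S, hu0]
        rfl }
  obtain ⟨v, hv⟩ := h C J ⟨2, hJ2⟩ ⟨k + 1, by
    rw [Ideal.map_eq_bot_iff_le_ker]
    have h1 : maximalIdeal R ≤ m.comap (algebraMap R P) := by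
      intro r hr hu
      have h2 := hu.map (algebraMap P S)
      rw [← IsScalarTower.algebraMap_apply] at h2
      exact (mem_maximalIdeal r).1 hr (isUnit_of_map_unit (algebraMap R S) r h2)
    intro r hr
    exact hπN _ (le_sup_right (a := I ^ 2)
      (((Ideal.pow_right_mono h1 (k + 1)).trans (Ideal.le_comap_pow (algebraMap R P) (k + 1))) hr))⟩
    u ⟨k + 1, fun s hs => by
      rw [hmS, ← Ideal.map_pow, Ideal.mem_map_iff_of_surjective _ hsurj] at hs
      obtain ⟨y, hy, rfl⟩ := hs
      show u0 _ = 0
      rw [hu0, hπN y (le_sup_right (a := I ^ 2) hy), map_zero]⟩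
  have hv' : ∀ y : P, π y - v (algebraMap P S y) ∈ J := fun y => by
    rw [← Ideal.Quotient.eq_zero_iff_mem, map_sub, sub_eq_zero, ← hu0]
    exact (AlgHom.congr_fun hv (algebraMap P S y)).symm
  let JP : Submodule P C := J.restrictScalars P
  let f : P →ₗ[R] JP :=
    { toFun := fun y => ⟨π y - v (algebraMap P S y), hv' y⟩
      map_add' := fun a b => Subtype.ext (by
        show π (a + b) - v (algebraMap P S (a + b)) = _ + _
        simp only [map_add]; abel)
      map_smul' := fun r a => Subtype.ext (by
        show π (r • a) - v (algebraMap P S (r • a)) = r • (π a - v (algebraMap P S a))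
        rw [Algebra.smul_def, Algebra.smul_def, map_mul, map_mul, map_mul, ← IsScalarTower.algebraMap_apply,
          v.commutes]
        rw [show π (algebraMap R P r) = algebraMap R C r from rfl]
        ring) }
  have hzero : ∀ a b : C, a ∈ J → b ∈ J → a * b = 0 := fun a b ha hb => by
    have h1 := Ideal.mul_mem_mul ha hb
    rwa [← sq, hJ2, Ideal.mem_bot] at h1
  let δ : Derivation R P JP := Derivation.mk' f fun a b => Subtype.ext (by
    show π (a * b) - v (algebraMap P S (a * b)) =
      a • (π b - v (algebraMap P S b)) + b • (π a - v (algebraMap P S a))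
    rw [Algebra.smul_def, Algebra.smul_def, map_mul, map_mul, map_mul,
      show algebraMap P C a = π a from rfl, show algebraMap P C b = π b from rfl]
    have h1 := hzero _ _ (hv' a) (hv' b)
    linear_combination -h1)
  have hδ : δ x ∈ m • (⊤ : Submodule P JP) := by
    rw [← Derivation.liftKaehlerDifferential_comp_D δ x]
    have h1 : (m • (⊤ : Submodule P Ω[P⁄R])).map δ.liftKaehlerDifferential ≤ m • ⊤ := by
      rw [Submodule.map_smul'']; exact Submodule.smul_mono le_rfl le_top
    exact h1 (Submodule.mem_map_of_mem hDx)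
  have hx' : π x ∈ (m * I).map π := by
    have h1 : ∀ w : JP, w ∈ m • (⊤ : Submodule P JP) → (w : C) ∈ (m * I).map π := fun w hw => by
      refine Submodule.smul_induction_on hw (fun r hr w _ => ?_) fun a b ha hb => Ideal.add_mem _ ha hb
      obtain ⟨y, hy, hyw⟩ := (Ideal.mem_map_iff_of_surjective π Ideal.Quotient.mk_surjective).1 (w.2 : (w : C) ∈ J)
      rw [Submodule.coe_smul, Algebra.smul_def, show algebraMap P C r = π r from rfl, ← hyw, ← map_mul]
      exact Ideal.mem_map_of_mem π (Ideal.mul_mem_mul hr hy)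
    have h2 := h1 _ hδ
    have h3 : (δ x : C) = π x - v (algebraMap P S x) := rfl
    rwa [h3, show algebraMap P S x = 0 from hx, map_zero, sub_zero] at h2
  have hxmI : x ∈ m * I := by
    rw [← Ideal.mem_comap, Ideal.comap_map_of_surjective π Ideal.Quotient.mk_surjective,
      ← RingHom.ker_eq_comap_bot, Ideal.mk_ker] at hx'
    obtain ⟨a, ha, b, hb, hab⟩ := Submodule.mem_sup.1 hx'
    obtain ⟨c, hc, d, hd, hcd⟩ := Submodule.mem_sup.1 hb
    have hc' : c ∈ m * I := Ideal.mul_mono hIm le_rfl (by rwa [sq] at hc)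
    have hdI : d ∈ I := by
      have : d = x - a - c := by rw [← hab, ← hcd]; ring
      rw [this]
      have hle : m * I ≤ I := Ideal.mul_le.2 fun r _ i hi => Ideal.mul_mem_left I r hi
      exact Ideal.sub_mem I (Ideal.sub_mem I hx (hle ha)) (hle hc')
    rw [← hab, ← hcd]
    exact add_mem ha (add_mem hc' (hAR ⟨hd, hdI⟩))
  have hmem : (⟨x, hx⟩ : RingHom.ker (algebraMap P S)) ∈ m • (⊤ : Submodule P (RingHom.ker (algebraMap P S))) := by
    rw [Submodule.mem_smul_top_iff]; exact hxmI
  rw [TensorProduct.mk_apply, one_tmul_eq_zero_iff]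
  exact hmem

/-- An essentially finite type local algebra: adic smoothness is discrete smoothness. -/
theorem formallySmooth_of_isFormallySmoothAdic (R S : Type u) [CommRing R] [IsLocalRing R]
    [IsNoetherianRing R] [CommRing S] [IsLocalRing S] [Algebra R S] [IsLocalHom (algebraMap R S)]
    [Algebra.EssFiniteType R S]
    (h : EGA41.IsFormallySmoothAdic R (maximalIdeal R) S (maximalIdeal S)) :
    Algebra.FormallySmooth R S := by
  let S0 := Algebra.EssFiniteType.subalgebra R S
  obtain ⟨n, π, hπ⟩ := Algebra.FiniteType.iff_quotient_mvPolynomial''.1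
    (inferInstance : Algebra.FiniteType R S0)
  let T := MvPolynomial (Fin n) R
  let φ : T →ₐ[R] S := (IsScalarTower.toAlgHom R S0 S).comp π
  let Q := (maximalIdeal S).comap φ.toRingHom
  haveI : Q.IsPrime := Ideal.IsPrime.comap _
  let P := Localization.AtPrime Q
  have hu : ∀ y : Q.primeCompl, IsUnit (φ y) := fun y => notMem_maximalIdeal.1 y.2
  let g : P →ₐ[R] S := IsLocalization.liftAlgHom (M := Q.primeCompl) hu
  letI : Algebra P S := g.toRingHom.toAlgebra
  haveI : IsScalarTower R P S := .of_algebraMap_eq fun r => (g.commutes r).symm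
  have hg : ∀ t : T, g (algebraMap T P t) = φ t := fun t => IsLocalization.lift_eq _ t
  haveI : IsNoetherianRing P := IsLocalization.isNoetherianRing Q.primeCompl P inferInstance
  haveI : Algebra.FormallySmooth R P :=
    haveI : Algebra.FormallySmooth T P := .of_isLocalization Q.primeCompl
    .comp R T P
  have e : P ⊗[T] Ω[T⁄R] ≃ₗ[P] Ω[P⁄R] :=
    haveI : Algebra.FormallyEtale T P := .of_isLocalization Q.primeCompl
    KaehlerDifferential.tensorKaehlerEquivOfFormallyEtale R T P
  haveI : Module.Free P Ω[P⁄R] := .of_equiv e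
  haveI : Module.Finite P Ω[P⁄R] := Module.Finite.equiv e
  refine formallySmooth_of_adic_presentation (P := P) (fun b => ?_) h
  obtain ⟨⟨s, t⟩, hst⟩ := IsLocalization.surj (Algebra.EssFiniteType.submonoid R S) b
  obtain ⟨s', hs'⟩ := hπ s
  obtain ⟨t', ht'⟩ := hπ t
  have htu : IsUnit (algebraMap S0 S t) := IsLocalization.map_units S t
  have hQ : t' ∈ Q.primeCompl := fun hmem => by
    have : algebraMap S0 S t ∈ maximalIdeal S := by rw [← ht']; exact hmem
    exact notMem_maximalIdeal.2 htu this
  refine ⟨IsLocalization.mk' _ s' ⟨t', hQ⟩, ?_⟩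
  show g _ = b
  have h1 := congrArg g (IsLocalization.mk'_spec' P s' (⟨t', hQ⟩ : Q.primeCompl))
  rw [map_mul, hg, hg] at h1
  have h2 : φ t' * b = φ s' := by
    show algebraMap S0 S (π t') * b = algebraMap S0 S (π s')
    rw [hs', ht', mul_comm]; exact hst
  exact ((hu ⟨t', hQ⟩).mul_left_cancel (h2.trans h1.symm)).symm

/-- Discrete formal smoothness implies adic formal smoothness. -/
theorem isFormallySmoothAdic_of_formallySmooth (R : Type u) [CommRing R] (a : Ideal R) (S : Type u) [CommRing S]
    [Algebra R S] (b : Ideal S) [Algebra.FormallySmooth R S] : EGA41.IsFormallySmoothAdic R a S b := by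
  intro C _ _ J hJ _ u _
  exact ⟨Algebra.FormallySmooth.lift J hJ u, Algebra.FormallySmooth.comp_lift J hJ u⟩

end Groth.Agent.CommAlg6
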