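import Groth.Agent.CAlgH.AnalyticallyUnramified

/-! Completion of a quotient, compatibly with the maps from the ring.  The proof is that of
`Groth.Agent.CAlgH.completion_quotient_equiv` (helper2), with the compatibility kept. -/

universe u

open IsLocalRing

namespace Groth.Agent.CommAlg6

theorem completion_quotient_algEquiv {A B : Type u} [CommRing A] [IsLocalRing A] [IsNoetherianRing A] [CommRing B]
    [IsLocalRing B] [IsNoetherianRing B] (π : A →+* B) (hπ : Function.Surjective π) :
    ∃ e : (AdicCompletion (maximalIdeal A) A ⧸ (RingHom.ker π).map (algebraMap A (AdicCompletion (maximalIdeal A) A)))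
      ≃+* AdicCompletion (maximalIdeal B) B,
      ∀ a : A, e (Ideal.Quotient.mk _ (algebraMap A (AdicCompletion (maximalIdeal A) A) a)) =
        algebraMap B (AdicCompletion (maximalIdeal B) B) (π a) := by
  have : IsLocalHom π := IsLocalHom.of_surjective π hπ
  have := Groth.Agent.Matlis6.isNoetherianRing_adicCompletion (maximalIdeal A)
  let m := maximalIdeal A
  let Ah := AdicCompletion m A
  have hmB : m.map π = maximalIdeal B := by
    refine le_antisymm (Ideal.map_le_iff_le_comap.mpr fun a ha h => (mem_maximalIdeal a).mp ha (isUnit_of_map_unit π a h)) fun b hb => ?_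
    obtain ⟨a, rfl⟩ := hπ b
    exact Ideal.mem_map_of_mem π ((mem_maximalIdeal a).mpr fun h => (mem_maximalIdeal _).mp hb (h.map π))
  have hle : ∀ n, m ^ n ≤ (maximalIdeal B ^ n).comap π := fun n => by
    rw [← hmB, ← Ideal.map_pow]; exact Ideal.le_comap_map
  let f : (n : ℕ) → Ah →+* B ⧸ maximalIdeal B ^ n := fun n =>
    (Ideal.quotientMap (maximalIdeal B ^ n) π (hle n)).comp (AdicCompletion.evalₐ m n).toRingHom
  have hf : ∀ {i j : ℕ} (h : i ≤ j), (Ideal.Quotient.factorPow (maximalIdeal B) h).comp (f j) = f i := by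
    intro i j h
    refine RingHom.ext fun x => ?_
    induction x using AdicCompletion.induction_on with
    | _ g =>
      show Ideal.Quotient.factorPow (maximalIdeal B) h (Ideal.quotientMap _ π (hle j) (AdicCompletion.evalₐ m j (AdicCompletion.mk m A g))) = Ideal.quotientMap _ π (hle i) (AdicCompletion.evalₐ m i (AdicCompletion.mk m A g))
      rw [AdicCompletion.evalₐ_mk, AdicCompletion.evalₐ_mk]
      have := congrArg (Ideal.quotientMap (maximalIdeal B ^ i) π (hle i)) (AdicCompletion.Ideal.mk_eq_mk m h g)
      simpa [Ideal.quotientMap_mk] using this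
  let φ : Ah →+* AdicCompletion (maximalIdeal B) B := AdicCompletion.liftRingHom (maximalIdeal B) f hf
  have hfg : m.FG := IsNoetherian.noetherian m
  have hmaxA : maximalIdeal Ah = m.map (algebraMap A Ah) := AdicCompletion.maximalIdeal_eq_map
  have hφof : ∀ a : A, φ (algebraMap A Ah a) = algebraMap B _ (π a) := by
    intro a
    refine AdicCompletion.ext_evalₐ fun n => ?_
    rw [AdicCompletion.evalₐ_liftRingHom]
    simp [f]
  have hmapB : (maximalIdeal Ah).map φ = maximalIdeal (AdicCompletion (maximalIdeal B) B) := by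
    rw [hmaxA, Ideal.map_map, show φ.comp (algebraMap A Ah) = (algebraMap B _).comp π from RingHom.ext hφof,
      ← Ideal.map_map, hmB, AdicCompletion.maximalIdeal_eq_map]
  have hsurj : Function.Surjective φ := by
    have : IsHausdorff ((maximalIdeal Ah).map φ) (AdicCompletion (maximalIdeal B) B) := by
      rw [hmapB]; infer_instance
    apply surjective_of_mk_map_comp_surjective (I := maximalIdeal Ah) φ
    intro y
    obtain ⟨y, rfl⟩ := Ideal.Quotient.mk_surjective y
    obtain ⟨b, hb⟩ := Ideal.Quotient.mk_surjective (AdicCompletion.evalOneₐ (maximalIdeal B) y)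
    obtain ⟨a, rfl⟩ := hπ b
    refine ⟨algebraMap A Ah a, ?_⟩
    rw [RingHom.comp_apply, hφof, Ideal.Quotient.eq, hmapB, AdicCompletion.maximalIdeal_eq_map,
      ← AdicCompletion.ker_evalOneₐ_eq_map _ (IsNoetherian.noetherian _), RingHom.mem_ker, map_sub, sub_eq_zero]
    exact (AlgHom.commutes _ _).trans hb
  have hker : RingHom.ker φ = (RingHom.ker π).map (algebraMap A Ah) := by
    refine le_antisymm (fun x hx => ?_) (Ideal.map_le_iff_le_comap.mpr fun a ha => ?_)
    · let P := (RingHom.ker π).map (algebraMap A Ah)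
      have hH : IsHausdorff (maximalIdeal Ah) (Ah ⧸ P) := inferInstance
      rw [← Ideal.Quotient.eq_zero_iff_mem]
      refine hH.haus _ fun n => ?_
      rw [SModEq.zero]
      have h1 : f n x = 0 := by
        rw [← AdicCompletion.evalₐ_liftRingHom (maximalIdeal B) f hf]
        show AdicCompletion.evalₐ _ n (φ x) = 0
        rw [RingHom.mem_ker.mp hx, map_zero]
      obtain ⟨a, ha⟩ := Ideal.Quotient.mk_surjective (AdicCompletion.evalₐ m n x)
      simp only [f, RingHom.comp_apply, AlgHom.toRingHom_eq_coe, RingHom.coe_coe, ← ha, Ideal.quotientMap_mk,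
        Ideal.Quotient.eq_zero_iff_mem, ← hmB, ← Ideal.map_pow] at h1
      obtain ⟨b, hb, hba⟩ := (Ideal.mem_map_iff_of_surjective π hπ).mp h1
      have h2 : algebraMap A Ah (a - b) ∈ P := Ideal.mem_map_of_mem _ (by rw [RingHom.mem_ker, map_sub, hba, sub_self])
      have h3 : x - algebraMap A Ah (a - b) ∈ maximalIdeal Ah ^ n := by
        rw [hmaxA, ← Ideal.map_pow, ← Submodule.restrictScalars_mem A, ← Ideal.smul_top_eq_map,
          AdicCompletion.pow_smul_top_eq_ker_eval hfg, LinearMap.mem_ker, map_sub, sub_eq_zero]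
        have h4 : AdicCompletion.evalₐ m n (algebraMap A Ah (a - b)) = AdicCompletion.evalₐ m n x := by
          rw [AlgHom.commutes, ← ha, Ideal.Quotient.algebraMap_eq, Ideal.Quotient.eq, sub_sub_cancel_left]
          exact (m ^ n).neg_mem hb
        rw [← AdicCompletion.factor_evalₐ_eq_eval m x (by simp), ← AdicCompletion.factor_evalₐ_eq_eval m _ (by simp), h4]
      have h5 := Submodule.smul_mem_smul h3 (Submodule.mem_top : (1 : Ah ⧸ P) ∈ (⊤ : Submodule Ah (Ah ⧸ P)))
      rw [Algebra.smul_def, mul_one, Ideal.Quotient.algebraMap_eq, map_sub, Ideal.Quotient.eq_zero_iff_mem.mpr h2, sub_zero] at h5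
      exact h5
    · rw [Ideal.mem_comap, RingHom.mem_ker, hφof, RingHom.mem_ker.mp ha, map_zero]
  exact ⟨(Ideal.quotEquivOfEq hker.symm).trans (RingHom.quotientKerEquivOfSurjective hsurj),
    fun a => hφof a⟩

end Groth.Agent.CommAlg6
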