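import Groth.Agent.CAlgH.AdicSmoothDeriv
import Mathlib.RingTheory.LocalRing.Module
import Mathlib.RingTheory.Kaehler.Basic
import Mathlib.LinearAlgebra.Matrix.NonsingularInverse

/-! Finitely generated differentials of an adically formally smooth local algebra are free. -/

set_option autoImplicit false
set_option linter.style.haveILetI false

universe u

open IsLocalRing TensorProduct

namespace Groth.Agent.CommAlg6

theorem free_kaehler_of_adicFormallySmooth (k S : Type u) [CommRing k] [CommRing S] [IsLocalRing S] [IsNoetherianRing S]
    [Algebra k S] [Module.Finite S Ω[S⁄k]] (h : CAlgX.IsAdicFormallySmooth k S (maximalIdeal S)) :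
    Module.Free S Ω[S⁄k] := by
  classical
  let M := Ω[S⁄k]
  let m := maximalIdeal S
  let κ := ResidueField S
  let b₀ := Module.finBasis κ (κ ⊗[S] M)
  choose x hx using fun i => TensorProduct.mk_surjective S M κ IsLocalRing.residue_surjective (b₀ i)
  have hspan : Submodule.span S (Set.range x) = ⊤ := by
    rw [← IsLocalRing.map_tensorProduct_mk_eq_top, Submodule.map_span,
      ← Submodule.restrictScalars_span S κ IsLocalRing.residue_surjective, Submodule.restrictScalars_eq_top_iff,
      ← Set.range_comp]
    rw [show (TensorProduct.mk S κ M 1) ∘ x = b₀ from funext hx]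
    exact b₀.span_eq
  have hli : LinearIndependent S x := by
    rw [Fintype.linearIndependent_iff]
    intro a ha l
    suffices key : ∀ j : ℕ, a l ∈ m ^ j by
      refine IsHausdorff.haus (I := m) (M := S)
        (IsHausdorff.of_le_jacobson (M := S) m (IsLocalRing.maximalIdeal_le_jacobson _)) _ fun j => ?_
      rw [SModEq.zero, smul_eq_mul, Ideal.mul_top]
      exact key j
    intro j
    refine Ideal.pow_le_pow_right j.le_succ ?_
    -- lift the coordinate functionals
    let W := S ⧸ m ^ (j + 1)
    let q : W →+* κ := Ideal.Quotient.factor (Ideal.pow_le_self j.succ_ne_zero)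
    have lift : ∀ i, ∃ lam : M →ₗ[S] W, ∀ s, q (lam (KaehlerDifferential.D k S s)) =
        b₀.coord i ((1 : κ) ⊗ₜ[S] KaehlerDifferential.D k S s) := fun i => by
      let D₀ : S →+ κ :=
        { toFun := fun s => b₀.coord i ((1 : κ) ⊗ₜ[S] KaehlerDifferential.D k S s)
          map_zero' := by simp
          map_add' := fun a b => by simp [TensorProduct.tmul_add] }
      obtain ⟨D', hD1, hD2, hD3⟩ := CAlgH.AdicSmooth.exists_derivation_step h q
        (Ideal.Quotient.factor_surjective _) (Ideal.Quotient.mk (m ^ (j + 1))) (j + 1)
        (fun z hz => Ideal.Quotient.eq_zero_iff_mem.2 hz) D₀ (fun a b => by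
          show b₀.coord i ((1 : κ) ⊗ₜ[S] KaehlerDifferential.D k S (a * b)) =
            residue S a * b₀.coord i ((1 : κ) ⊗ₜ[S] KaehlerDifferential.D k S b) +
            residue S b * b₀.coord i ((1 : κ) ⊗ₜ[S] KaehlerDifferential.D k S a)
          rw [Derivation.leibniz, TensorProduct.tmul_add, map_add, TensorProduct.tmul_smul, TensorProduct.tmul_smul,
            ← algebraMap_smul κ a, ← algebraMap_smul κ b, map_smul, map_smul]
          rfl) 0 (fun a b => by simp) (fun r => by simp [D₀])
      let D : Derivation k S W := Derivation.mk'
        { toFun := D'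
          map_add' := fun a b => map_add D' a b
          map_smul' := fun c s => by
            rw [Algebra.smul_def, hD1, hD2, RingHom.id_apply, AddMonoidHom.zero_apply, mul_zero, add_zero,
              ← algebraMap_smul S c (D' s), Algebra.smul_def]
            rfl }
        fun a b => by
          show D' (a * b) = a • D' b + b • D' a
          rw [hD1, Algebra.smul_def, Algebra.smul_def]
          rfl
      refine ⟨D.liftKaehlerDifferential, fun s => ?_⟩
      rw [Derivation.liftKaehlerDifferential_comp_D]
      exact hD3 s
    choose lam hlam using lift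
    have hall : ∀ i (ω : M), q (lam i ω) = b₀.coord i ((1 : κ) ⊗ₜ[S] ω) := fun i ω => by
      induction (KaehlerDifferential.span_range_derivation k S).ge (Submodule.mem_top (x := ω))
        using Submodule.span_induction with
      | mem z hz => obtain ⟨s, rfl⟩ := hz; exact hlam i s
      | zero => simp
      | add a b _ _ ha hb => rw [map_add, map_add, ha, hb, TensorProduct.tmul_add, map_add]
      | smul c a _ ha =>
        rw [map_smul, Algebra.smul_def, map_mul, ha, TensorProduct.tmul_smul, ← algebraMap_smul κ c, map_smul,
          smul_eq_mul]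
        rfl
    let Λ : Matrix (Fin (Module.finrank κ (κ ⊗[S] M))) (Fin (Module.finrank κ (κ ⊗[S] M))) W :=
      Matrix.of fun i l => lam i (x l)
    have hΛ : IsUnit Λ.det := by
      haveI : IsLocalHom q := by
        haveI : Nontrivial W := Ideal.Quotient.nontrivial_iff.2 fun htop => (maximalIdeal.isMaximal S).ne_top
          (top_le_iff.1 (htop.ge.trans (Ideal.pow_le_self j.succ_ne_zero)))
        haveI : IsLocalRing W := IsLocalRing.of_surjective' (Ideal.Quotient.mk _) Ideal.Quotient.mk_surjective
        exact IsLocalHom.of_surjective q (Ideal.Quotient.factor_surjective _)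
      refine isUnit_of_map_unit q _ ?_
      rw [RingHom.map_det, show q.mapMatrix Λ = 1 from Matrix.ext fun i l => ?_, Matrix.det_one]
      · exact isUnit_one
      show q (lam i (x l)) = _
      rw [hall, show (1 : κ) ⊗ₜ[S] x l = b₀ l from hx l, Module.Basis.coord_apply, Module.Basis.repr_self]
      simp [Matrix.one_apply, Finsupp.single_apply, eq_comm]
    have hzero : Λ.mulVec (fun l => Ideal.Quotient.mk (m ^ (j + 1)) (a l)) = 0 := funext fun i => by
      have h0 := congrArg (lam i) ha
      rw [map_sum, map_zero] at h0
      simp only [map_smul, Algebra.smul_def] at h0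
      rw [Matrix.mulVec, dotProduct]
      refine (Finset.sum_congr rfl fun l _ => ?_).trans h0
      show lam i (x l) * Ideal.Quotient.mk (m ^ (j + 1)) (a l) = _
      rw [mul_comm]
      rfl
    have hinj := Matrix.mulVec_injective_of_isUnit ((Matrix.isUnit_iff_isUnit_det Λ).2 hΛ)
    have h1 := congrFun (hinj (hzero.trans (Matrix.mulVec_zero Λ).symm)) l
    exact Ideal.Quotient.eq_zero_iff_mem.1 h1
  exact Module.Free.of_basis (Module.Basis.mk hli hspan.ge)

end Groth.Agent.CommAlg6
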