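import Groth.Agent.CommAlg6.FlatLocalModule
import Groth.Agent.CommAlg6.FibreSk
import Groth.Agent.CommAlg6.CompletionEquidim
import Groth.Agent.CAlgH3.CohenMacaulay
import Groth.Agent.FlatCrit.SupportBC

/-! A Cohen–Macaulay module of full support makes the formal fibres Cohen–Macaulay. -/

universe u

open IsLocalRing TensorProduct

namespace Groth.Agent.CommAlg6

attribute [local instance] isLocalRing_fibLocRing

/-- If `M` and `B ⊗_A M` are Cohen–Macaulay at all primes, with `A → B` flat and `M` of full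
support, then the fibres of `A → B` are Cohen–Macaulay. -/
theorem isCMRing_fiber_of_cm_module {A B : Type u} [CommRing A] [CommRing B] [IsNoetherianRing A]
    [IsNoetherianRing B] [Algebra A B] [Module.Flat A B]
    (M : Type u) [AddCommGroup M] [Module A M] [Module.Finite A M]
    (hsupp : Module.support A M = Set.univ)
    (hM : ∀ (p : Ideal A) [p.IsPrime],
      _root_.LocCoh.IsCohenMacaulayModule (Localization.AtPrime p) (LocalizedModule p.primeCompl M))
    (hBM : ∀ (q : Ideal B) [q.IsPrime], _root_.LocCoh.IsCohenMacaulayModule (Localization.AtPrime q)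
      (LocalizedModule q.primeCompl (B ⊗[A] M))) :
    ∀ (p : Ideal A) [p.IsPrime], _root_.LocCoh.IsCohenMacaulayRing (p.Fiber B) := by
  rw [forall_isCMRing_fiber_iff]
  intro q _
  let p := q.comap (algebraMap A B)
  haveI : q.LiesOver p := ⟨rfl⟩
  letI := Localization.AtPrime.algebraOfLiesOver p q
  let Ap := Localization.AtPrime p
  let Bq := Localization.AtPrime q
  haveI : IsLocalHom (algebraMap Ap Bq) :=
    Localization.isLocalHom_localRingHom p q (algebraMap A B) Ideal.LiesOver.over
  haveI : Module.Flat Ap Bq := inferInstance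
  let Mp := LocalizedModule p.primeCompl M
  haveI : Nontrivial Mp := Module.mem_support_iff.1
    (hsupp.symm ▸ Set.mem_univ (⟨p, inferInstance⟩ : PrimeSpectrum A))
  let e₁ : Bq ⊗[Ap] Mp ≃ₗ[Bq] Bq ⊗[A] M :=
    (AlgebraTensorModule.congr (LinearEquiv.refl Bq Bq)
      (LocalizedModule.equivTensorProduct p.primeCompl M)) ≪≫ₗ
      AlgebraTensorModule.cancelBaseChange A Ap Bq Bq M
  let e₂ : LocalizedModule q.primeCompl (B ⊗[A] M) ≃ₗ[Bq] Bq ⊗[A] M :=
    (LocalizedModule.equivTensorProduct q.primeCompl (B ⊗[A] M)) ≪≫ₗ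
      AlgebraTensorModule.cancelBaseChange A B Bq Bq M
  have hT := (CAlgH3.isCohenMacaulayModule_congr (e₂ ≪≫ₗ e₁.symm)).1 (hBM q)
  have hMp : Module.supportDim Ap Mp = ((_root_.LocCoh.depth Ap Mp : ℕ∞) : WithBot ℕ∞) := hM p
  have h1 := supportDim_tensor_eq (A := Ap) (B := Bq) Bq Mp
  have h2 := depth_tensor_eq (A := Ap) (B := Bq) Bq Mp
  let J := (maximalIdeal Ap).map (algebraMap Ap Bq)
  have hJ : J = p.map (algebraMap A Bq) := by
    rw [show J = (maximalIdeal Ap).map (algebraMap Ap Bq) from rfl,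
      ← Localization.AtPrime.map_eq_maximalIdeal, Ideal.map_map, ← IsScalarTower.algebraMap_eq]
  let eq : (Bq ⧸ (J • (⊤ : Submodule Bq Bq))) ≃ₗ[Bq] EGA4.FibLocRing A B q :=
    Submodule.quotEquivOfEq _ _ (by rw [smul_eq_mul, Ideal.mul_top, hJ])
  rw [Module.supportDim_eq_of_equiv eq, Module.supportDim_quotient_eq_ringKrullDim] at h1
  rw [CAlgH3.depth_congr eq] at h2
  have h3 : _root_.LocCoh.depth (EGA4.FibLocRing A B q) (EGA4.FibLocRing A B q) =
      _root_.LocCoh.depth Bq (EGA4.FibLocRing A B q) := CAlgH3.depth_quotient_ring _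
  rw [← h3] at h2
  rw [_root_.LocCoh.IsCohenMacaulayModule, h1, h2, hMp, WithBot.coe_add] at hT
  obtain ⟨n, hn⟩ := CAlgH3.exists_depth_eq_natCast (R := Ap) (M := Mp)
  obtain ⟨b, hb⟩ := exists_dim_eq (EGA4.FibLocRing A B q)
  change ringKrullDim (EGA4.FibLocRing A B q) = _
  rw [hb, hn, ← WithBot.coe_add, ← WithBot.coe_add, WithBot.coe_inj] at hT
  rw [hb, WithBot.coe_inj]
  exact WithTop.add_left_cancel (ENat.coe_ne_top n) hT

/-- The formal fibres of a local ring with a Cohen–Macaulay module of full support are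
Cohen–Macaulay. -/
theorem hasCMFormalFibres_of_cm_module (A : Type u) [CommRing A] [IsNoetherianRing A] [IsLocalRing A]
    (M : Type u) [AddCommGroup M] [Module A M] [Module.Finite A M]
    (hCM : _root_.LocCoh.IsCohenMacaulayModule A M) (hsupp : Module.support A M = Set.univ) :
    EGA4.HasCMFormalFibres A := by
  let Ah := AdicCompletion (maximalIdeal A) A
  haveI := isLocalHom_completion A
  haveI : IsNoetherianRing Ah := inferInstance
  haveI : Module.Flat A Ah := AdicCompletion.flat_of_isNoetherian _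
  haveI : Nontrivial M := CAlgH3.nontrivial_of_cm hCM
  haveI : Nontrivial (Ah ⊗[A] M) :=
    haveI : Module.FaithfullyFlat A Ah := Module.FaithfullyFlat.of_flat_of_isLocalHom
    Module.FaithfullyFlat.lTensor_nontrivial A Ah M
  let I := (maximalIdeal A).map (algebraMap A Ah)
  have hI : (I • ⊤ : Submodule Ah Ah) = maximalIdeal Ah := by
    rw [smul_eq_mul, Ideal.mul_top]; exact AdicCompletion.maximalIdeal_eq_map.symm
  have hk : Module.supportDim Ah (Ah ⧸ (I • ⊤ : Submodule Ah Ah)) = 0 := by
    rw [Module.supportDim_eq_of_equiv (Submodule.quotEquivOfEq _ _ hI),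
      Module.supportDim_quotient_eq_ringKrullDim]
    exact ringKrullDim_eq_zero_of_isField
      ((Ideal.Quotient.maximal_ideal_iff_isField_quotient _).1 inferInstance)
  have hd : _root_.LocCoh.depth Ah (Ah ⧸ (I • ⊤ : Submodule Ah Ah)) = 0 := by
    haveI : Nontrivial (Ah ⧸ (I • ⊤ : Submodule Ah Ah)) :=
      Submodule.Quotient.nontrivial_iff.2 (by rw [hI]; exact (maximalIdeal.isMaximal Ah).ne_top)
    have h := CAlgH3.depth_le_supportDim (R := Ah) (M := Ah ⧸ (I • ⊤ : Submodule Ah Ah))
    rw [hk, ← WithBot.coe_zero, WithBot.coe_le_coe] at h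
    exact nonpos_iff_eq_zero.1 h
  have hT : _root_.LocCoh.IsCohenMacaulayModule Ah (Ah ⊗[A] M) := by
    rw [_root_.LocCoh.IsCohenMacaulayModule, supportDim_tensor_eq (A := A) (B := Ah) Ah M,
      depth_tensor_eq (A := A) (B := Ah) Ah M, hk, hd, add_zero, add_zero]
    exact hCM
  intro p _
  refine isCMRing_fiber_of_cm_module M hsupp (fun p _ => ?_) (fun q _ => ?_) p
  · obtain ⟨n, hn⟩ := CAlgH3.exists_depth_eq_natCast (R := A) (M := M)
    exact (CAlgH3.localization_isCohenMacaulayModule n M hn hCM p (hsupp.symm ▸ Set.mem_univ _)).1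
  · obtain ⟨n, hn⟩ := CAlgH3.exists_depth_eq_natCast (R := Ah) (M := Ah ⊗[A] M)
    refine (CAlgH3.localization_isCohenMacaulayModule n _ hn hT q ?_).1
    rw [FlatCrit.mem_support_baseChange_iff, hsupp]
    trivial

end Groth.Agent.CommAlg6
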