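import Groth.Prelude.Def_EGA4c
import Groth.Agent.AdicRing.ComplHom
import Groth.Agent.AdicRing.Basic
import Groth.Agent.AdicRing.CompQuot
import Groth.Agent.FlatCrit.Tor
import Mathlib.RingTheory.QuasiFinite.Basic
import Mathlib.RingTheory.Ideal.GoingUp
import Mathlib.RingTheory.Flat.Stability
import Mathlib.RingTheory.Flat.Tensor

/-! The completed tensor product of two complete Noetherian local algebras over a field. -/

set_option autoImplicit false
set_option linter.style.haveILetI false

universe u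

open IsLocalRing TensorProduct

attribute [local instance] Algebra.TensorProduct.rightAlgebra

namespace Groth.Agent.CommAlg6

/-- Completeness only depends on the topology. -/
theorem isAdicComplete_congr {S M : Type u} [CommRing S] [AddCommGroup M] [Module S M] (I J : Ideal S)
    (hIJ : I ≤ J) (N : ℕ) (hN : J ^ N ≤ I) [IsAdicComplete I M] : IsAdicComplete J M := by
  have hpow : ∀ i, (J ^ ((N + 1) * i) • ⊤ : Submodule S M) ≤ I ^ i • ⊤ := fun i => by
    rw [pow_mul]
    exact Submodule.smul_mono_left (Ideal.pow_right_mono ((Ideal.pow_le_pow_right N.le_succ).trans hN) i)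
  refine { haus' := fun x hx => ?_, prec' := fun f hf => ?_ }
  · exact IsHausdorff.haus ‹IsAdicComplete I M›.toIsHausdorff x fun n =>
      (hx ((N + 1) * n)).mono (hpow n)
  · obtain ⟨L, hL⟩ := IsPrecomplete.prec ‹IsAdicComplete I M›.toIsPrecomplete
      (f := fun i => f ((N + 1) * i)) fun {m n} hmn => (hf (Nat.mul_le_mul_left _ hmn)).mono (hpow m)
    refine ⟨L, fun n => ?_⟩
    exact (hf (Nat.le_mul_of_pos_left n N.succ_pos)).trans
      ((hL n).mono (Submodule.smul_mono_left (Ideal.pow_right_mono hIJ n)))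

/-- Flatness over the base from flatness of all quotients by powers of an ideal in the radical. -/
theorem flat_of_flat_quotient_powers {B S : Type u} [CommRing B] [CommRing S] [IsNoetherianRing B]
    [IsNoetherianRing S] [Algebra B S] (a : Ideal S) (hjac : a ≤ Ideal.jacobson ⊥)
    (h : ∀ n, Module.Flat B (S ⧸ a ^ n)) : Module.Flat B S := by
  rw [Module.Flat.iff_lTensor_injective]
  intro I hI
  rw [injective_iff_map_eq_zero]
  intro z hz
  haveI : Module.Finite B I := Module.IsNoetherian.finite B I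
  suffices h' : ∀ n, z ∈ a ^ n • (⊤ : Submodule S (S ⊗[B] I)) by
    have hbot := Ideal.iInf_pow_smul_eq_bot_of_le_jacobson (M := S ⊗[B] I) a hjac
    exact (Submodule.mem_bot S).1 (hbot ▸ (Submodule.mem_iInf _).2 h')
  intro n
  let q : S →ₗ[B] S ⧸ a ^ n := (Ideal.Quotient.mkₐ B (a ^ n)).toLinearMap
  have h1 : q.rTensor I z = 0 := by
    haveI := h n
    apply Module.Flat.lTensor_preserves_injective_linearMap (M := S ⧸ a ^ n) I.subtype Subtype.val_injective
    rw [map_zero, ← LinearMap.comp_apply, LinearMap.lTensor_comp_rTensor, ← LinearMap.rTensor_comp_lTensor,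
      LinearMap.comp_apply, hz, map_zero]
  have hex : Function.Exact (LinearMap.ker q).subtype q := q.exact_subtype_ker_map
  obtain ⟨y, rfl⟩ := (rTensor_exact I hex Ideal.Quotient.mk_surjective z).1 h1
  clear hz h1
  induction y using TensorProduct.induction_on with
  | zero => simp
  | add x y hx hy => rw [map_add]; exact add_mem hx hy
  | tmul s x =>
    rw [LinearMap.rTensor_tmul, show (LinearMap.ker q).subtype s ⊗ₜ[B] x = (s : S) • ((1 : S) ⊗ₜ[B] x) by
      rw [TensorProduct.smul_tmul', smul_eq_mul, mul_one]; rfl]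
    exact Submodule.smul_mem_smul (Ideal.Quotient.eq_zero_iff_mem.1 s.2) trivial

section CTensor

variable {k A B : Type u} [Field k] [CommRing A] [CommRing B] [Algebra k A] [Algebra k B]
  [IsNoetherianRing A] [IsNoetherianRing B] [IsLocalRing A] [IsLocalRing B]
  [IsAdicComplete (maximalIdeal A) A] [IsAdicComplete (maximalIdeal B) B]

omit [IsAdicComplete (maximalIdeal A) A] [IsAdicComplete (maximalIdeal B) B] in
theorem cTensorIdeal_fg : (EGA4.cTensorIdeal k A B).FG :=
  Submodule.FG.sup (Ideal.FG.map (IsNoetherian.noetherian _) _) (Ideal.FG.map (IsNoetherian.noetherian _) _)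

omit [IsNoetherianRing B] [IsLocalRing B] [IsAdicComplete (maximalIdeal B) B]
  [IsAdicComplete (maximalIdeal A) A] [Algebra k B] [CommRing B] in
theorem finite_quotient_pow_maximalIdeal [Module.Finite k (ResidueField A)] (n : ℕ) :
    Module.Finite k (A ⧸ maximalIdeal A ^ n) := by
  haveI : Module.Finite k (A ⧸ maximalIdeal A) := ‹Module.Finite k (ResidueField A)›
  exact AdicRing.finite_quotient_pow A (maximalIdeal A) n

omit [IsNoetherianRing A] [IsNoetherianRing B] [IsLocalRing A] [IsLocalRing B]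
  [IsAdicComplete (maximalIdeal A) A] [IsAdicComplete (maximalIdeal B) B] in
theorem finite_right_tensor {Q : Type u} [CommRing Q] [Algebra k Q] [Module.Finite k Q] :
    Module.Finite B (Q ⊗[k] B) :=
  Module.Finite.equiv (Algebra.TensorProduct.commRight k B Q).toLinearEquiv

omit [IsNoetherianRing A] [IsNoetherianRing B] [IsLocalRing A] [IsLocalRing B]
  [IsAdicComplete (maximalIdeal A) A] [IsAdicComplete (maximalIdeal B) B] in
theorem flat_right_tensor {Q : Type u} [CommRing Q] [Algebra k Q] :
    Module.Flat B (Q ⊗[k] B) :=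
  Module.Flat.of_linearEquiv (Algebra.TensorProduct.commRight k B Q).toLinearEquiv.symm

omit [IsAdicComplete (maximalIdeal A) A] [IsAdicComplete (maximalIdeal B) B] in
theorem isNoetherianRing_cTensor [Module.Finite k (ResidueField A)] :
    IsNoetherianRing (EGA4.CTensor k A B) := by
  let R := A ⊗[k] B
  let J : Ideal R := EGA4.cTensorIdeal k A B
  haveI : Module.Finite k (A ⧸ maximalIdeal A) := ‹Module.Finite k (ResidueField A)›
  let T := (A ⧸ maximalIdeal A) ⊗[k] B
  let φ : R →ₐ[k] T := Algebra.TensorProduct.map (Ideal.Quotient.mkₐ k (maximalIdeal A)) (AlgHom.id k B)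
  have hφ : Function.Surjective φ :=
    Algebra.TensorProduct.map_surjective _ _ Ideal.Quotient.mk_surjective Function.surjective_id
  have hker : RingHom.ker φ.toRingHom ≤ J := by
    refine (Algebra.TensorProduct.rTensor_ker (C := B) _ Ideal.Quotient.mk_surjective).le.trans ?_
    show Ideal.map _ (RingHom.ker (Ideal.Quotient.mk (maximalIdeal A))) ≤ _
    rw [Ideal.mk_ker]
    exact le_sup_left
  haveI : Module.Finite B T := finite_right_tensor
  haveI : IsNoetherianRing T := IsNoetherianRing.of_finite B T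
  haveI : IsNoetherianRing (R ⧸ J) :=
    isNoetherianRing_of_surjective T _
      ((Ideal.Quotient.factor hker).comp (RingHom.quotientKerEquivOfSurjective (f := φ.toRingHom) hφ).symm.toRingHom)
      ((Ideal.Quotient.factor_surjective hker).comp
        (RingHom.quotientKerEquivOfSurjective (f := φ.toRingHom) hφ).symm.surjective)
  exact AdicRing.isNoetherianRing_completion J cTensorIdeal_fg

omit [IsAdicComplete (maximalIdeal A) A] in
/-- Quotients of the completed tensor product by extended ideals with finite quotient. -/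
theorem exists_cTensor_quotient [Module.Finite k (ResidueField A)] (a : Ideal A) [Module.Finite k (A ⧸ a)] (N : ℕ) (hN : maximalIdeal A ^ N ≤ a) :
    ∃ Φ : EGA4.CTensor k A B →+* (A ⧸ a) ⊗[k] B, Function.Surjective Φ ∧
      RingHom.ker Φ = a.map (algebraMap A (EGA4.CTensor k A B)) ∧
      ∀ x, Φ (algebraMap (A ⊗[k] B) (EGA4.CTensor k A B) x) =
        Algebra.TensorProduct.map (Ideal.Quotient.mkₐ k a) (AlgHom.id k B) x := by
  let R := A ⊗[k] B
  let T := (A ⧸ a) ⊗[k] B
  let J : Ideal R := EGA4.cTensorIdeal k A B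
  let C := AdicCompletion J R
  let φ : R →ₐ[k] T := Algebra.TensorProduct.map (Ideal.Quotient.mkₐ k a) (AlgHom.id k B)
  have hφ : Function.Surjective φ :=
    Algebra.TensorProduct.map_surjective _ _ Ideal.Quotient.mk_surjective Function.surjective_id
  have hkerφ : RingHom.ker φ.toRingHom = a.map (algebraMap A R) := by
    refine (Algebra.TensorProduct.rTensor_ker (C := B) _ Ideal.Quotient.mk_surjective).trans ?_
    show Ideal.map _ (RingHom.ker (Ideal.Quotient.mk a)) = _
    rw [Ideal.mk_ker]; rfl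
  haveI : Module.Finite B T := finite_right_tensor
  haveI : IsAdicComplete ((maximalIdeal B).map (algebraMap B T)) T :=
    (IsAdicComplete.map_algebraMap_iff (S := T) (maximalIdeal B) T).2
      (AdicRing.isAdicComplete_of_finite (maximalIdeal B) T)
  let JT : Ideal T := J.map φ.toRingHom
  have hR : (φ.toRingHom.comp (Algebra.TensorProduct.includeRight : B →ₐ[k] R).toRingHom) = algebraMap B T :=
    RingHom.ext fun b => by
      show φ ((1 : A) ⊗ₜ[k] b) = (1 : A ⧸ a) ⊗ₜ[k] b
      exact (Algebra.TensorProduct.map_tmul _ _ _ _).trans (by rw [map_one, AlgHom.id_apply])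
  have hJT : JT = (maximalIdeal A).map (φ.toRingHom.comp (algebraMap A R)) ⊔
      (maximalIdeal B).map (algebraMap B T) := by
    show Ideal.map φ.toRingHom (EGA4.cTensorIdeal k A B) = _
    rw [EGA4.cTensorIdeal, Ideal.map_sup, ← hR, ← Ideal.map_map, ← Ideal.map_map]
    rfl
  haveI : IsAdicComplete JT T := by
    refine isAdicComplete_congr ((maximalIdeal B).map (algebraMap B T)) JT (hJT ▸ le_sup_right) (N + 1) ?_
    rw [hJT]
    refine Ideal.sup_pow_add_le_pow_sup_pow.trans (sup_le ?_ (pow_one _).le)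
    rw [← Ideal.map_pow]
    refine (Ideal.map_mono hN).trans ?_
    rw [← Ideal.map_map, ← hkerφ]
    exact (Ideal.map_le_iff_le_comap.2 fun x hx => hx : Ideal.map φ.toRingHom (RingHom.ker φ.toRingHom) ≤ ⊥).trans
      bot_le
  obtain ⟨Φ, hΦ⟩ := AdicRing.exists_completion_hom J φ.toRingHom JT le_rfl
  have hsurj : Function.Surjective Φ := fun y => by
    obtain ⟨x, hx⟩ := hφ y
    exact ⟨algebraMap R C x, (hΦ x).trans hx⟩
  refine ⟨Φ, hsurj, le_antisymm (fun z hz => ?_) ?_, hΦ⟩
  swap
  · refine Ideal.map_le_iff_le_comap.2 fun x hx => ?_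
    show Φ (algebraMap A C x) = 0
    rw [IsScalarTower.algebraMap_apply A R C, hΦ, ← RingHom.mem_ker, hkerφ]
    exact Ideal.mem_map_of_mem _ hx
  let aC : Ideal C := a.map (algebraMap A C)
  let JC : Ideal C := J.map (algebraMap R C)
  have hJfg : J.FG := cTensorIdeal_fg
  have key : ∀ j : ℕ, z ∈ JC ^ j ⊔ aC := by
    intro j
    obtain ⟨r, hr⟩ := Ideal.Quotient.mk_surjective (AdicCompletion.evalₐ J j z)
    have hz' : z - algebraMap R C r ∈ JC ^ j := by
      rw [← FSchLib.ker_evalₐ J hJfg j, RingHom.mem_ker]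
      change AdicCompletion.evalₐ _ j (z - algebraMap R C r) = 0
      rw [map_sub, FSchLib.evalₐ_algebraMap, hr, sub_self]
    have hcomp : Φ.comp (algebraMap R C) = φ.toRingHom := RingHom.ext hΦ
    have h1 : φ.toRingHom r ∈ (J ^ j).map φ.toRingHom := by
      have := Ideal.mem_map_of_mem Φ hz'
      rw [map_sub, hΦ, RingHom.mem_ker.1 hz, zero_sub, neg_mem_iff, Ideal.map_pow, Ideal.map_map, hcomp,
        ← Ideal.map_pow] at this
      exact this
    have h2 : r ∈ J ^ j ⊔ RingHom.ker φ.toRingHom := by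
      rw [RingHom.ker_eq_comap_bot, ← Ideal.comap_map_of_surjective φ.toRingHom hφ]
      exact h1
    rw [hkerφ] at h2
    have h3 := Ideal.mem_map_of_mem (algebraMap R C) h2
    rw [Ideal.map_sup, Ideal.map_pow, Ideal.map_map, ← IsScalarTower.algebraMap_eq] at h3
    rw [← sub_add_cancel z (algebraMap R C r)]
    exact add_mem ((le_sup_left : JC ^ j ≤ JC ^ j ⊔ aC) hz') h3
  haveI : IsNoetherianRing C := isNoetherianRing_cTensor (k := k) (A := A) (B := B)
  have hmk : ∀ j : ℕ, Submodule.mkQ aC z ∈ JC ^ j • (⊤ : Submodule C (C ⧸ aC)) := fun j => by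
    obtain ⟨w, hw, v, hv, hwv⟩ := Submodule.mem_sup.1 (key j)
    rw [← hwv, map_add, show Submodule.mkQ aC v = 0 from (Submodule.Quotient.mk_eq_zero _).2 hv, add_zero,
      show Submodule.mkQ aC w = w • Submodule.mkQ aC 1 by rw [← map_smul, smul_eq_mul, mul_one]]
    exact Submodule.smul_mem_smul hw trivial
  have hbot := Ideal.iInf_pow_smul_eq_bot_of_le_jacobson (M := C ⧸ aC) JC (FSchLib.map_le_jacobson J hJfg)
  exact (Submodule.Quotient.mk_eq_zero _).1 ((Submodule.mem_bot C).1 (hbot ▸ (Submodule.mem_iInf _).2 hmk))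

omit [IsAdicComplete (maximalIdeal A) A] in
theorem exists_quotient_algEquiv_left [Module.Finite k (ResidueField A)] (a : Ideal A)
    [Module.Finite k (A ⧸ a)] (N : ℕ) (hN : maximalIdeal A ^ N ≤ a) :
    Nonempty ((EGA4.CTensor k A B ⧸ a.map (algebraMap A (EGA4.CTensor k A B))) ≃ₐ[A ⧸ a] (A ⧸ a) ⊗[k] B) := by
  obtain ⟨Φ, hs, hker, hΦ⟩ := exists_cTensor_quotient (k := k) (B := B) a N hN
  refine ⟨AlgEquiv.ofRingEquiv (f := (Ideal.quotEquivOfEq hker.symm).trans
    (RingHom.quotientKerEquivOfSurjective hs)) fun x => ?_⟩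
  obtain ⟨x, rfl⟩ := Ideal.Quotient.mk_surjective x
  show Φ (algebraMap A (EGA4.CTensor k A B) x) = _
  rw [IsScalarTower.algebraMap_apply A (A ⊗[k] B) (EGA4.CTensor k A B), hΦ]
  exact (Algebra.TensorProduct.map_tmul _ _ _ _).trans (by rw [AlgHom.id_apply]; rfl)

omit [IsAdicComplete (maximalIdeal A) A] in
theorem exists_quotient_algEquiv_right [Module.Finite k (ResidueField A)] (a : Ideal A)
    [Module.Finite k (A ⧸ a)] (N : ℕ) (hN : maximalIdeal A ^ N ≤ a) :
    Nonempty ((EGA4.CTensor k A B ⧸ a.map (algebraMap A (EGA4.CTensor k A B))) ≃ₐ[B] (A ⧸ a) ⊗[k] B) := by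
  obtain ⟨Φ, hs, hker, hΦ⟩ := exists_cTensor_quotient (k := k) (B := B) a N hN
  refine ⟨AlgEquiv.ofRingEquiv (f := (Ideal.quotEquivOfEq hker.symm).trans
    (RingHom.quotientKerEquivOfSurjective hs)) fun x => ?_⟩
  show Φ (algebraMap B (EGA4.CTensor k A B) x) = _
  rw [IsScalarTower.algebraMap_apply B (A ⊗[k] B) (EGA4.CTensor k A B), hΦ]
  exact (Algebra.TensorProduct.map_tmul _ _ _ _).trans (by rw [map_one, AlgHom.id_apply]; rfl)

omit [IsAdicComplete (maximalIdeal A) A] [IsAdicComplete (maximalIdeal B) B] in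
theorem map_maximalIdeal_le_jacobson :
    (maximalIdeal A).map (algebraMap A (EGA4.CTensor k A B)) ≤ Ideal.jacobson ⊥ := by
  rw [IsScalarTower.algebraMap_eq A (A ⊗[k] B) (EGA4.CTensor k A B), ← Ideal.map_map]
  refine (Ideal.map_mono ?_).trans (FSchLib.map_le_jacobson (EGA4.cTensorIdeal k A B) cTensorIdeal_fg)
  exact le_sup_left

omit [IsAdicComplete (maximalIdeal A) A] in
theorem flat_cTensor_right [Module.Finite k (ResidueField A)] :
    Module.Flat B (EGA4.CTensor k A B) := by
  haveI := isNoetherianRing_cTensor (k := k) (A := A) (B := B)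
  refine flat_of_flat_quotient_powers _ (map_maximalIdeal_le_jacobson (k := k) (A := A) (B := B)) fun n => ?_
  rw [← Ideal.map_pow]
  haveI := finite_quotient_pow_maximalIdeal (k := k) (A := A) n
  obtain ⟨e⟩ := exists_quotient_algEquiv_right (k := k) (B := B) (maximalIdeal A ^ n) n le_rfl
  haveI : Module.Flat B ((A ⧸ maximalIdeal A ^ n) ⊗[k] B) := flat_right_tensor
  exact Module.Flat.of_linearEquiv e.toLinearEquiv

omit [IsAdicComplete (maximalIdeal A) A] in
theorem flat_cTensor_left [Module.Finite k (ResidueField A)] :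
    Module.Flat A (EGA4.CTensor k A B) := by
  haveI := isNoetherianRing_cTensor (k := k) (A := A) (B := B)
  refine FlatCrit.flat_of_quotFlat_pow (S := EGA4.CTensor k A B) (maximalIdeal A)
    (map_maximalIdeal_le_jacobson (k := k) (A := A) (B := B)) fun n => ?_
  haveI := finite_quotient_pow_maximalIdeal (k := k) (A := A) n
  refine FlatCrit.quotFlat_of_flat _ ?_
  obtain ⟨e⟩ := exists_quotient_algEquiv_left (k := k) (B := B) (maximalIdeal A ^ n) n le_rfl
  exact Module.Flat.of_linearEquiv
    ((Algebra.TensorProduct.quotIdealMapEquivQuotTensor (EGA4.CTensor k A B) (maximalIdeal A ^ n)).symm.trans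
      e).toLinearEquiv

omit [IsAdicComplete (maximalIdeal A) A] in
theorem exists_quotient_maximalIdeal [Module.Finite k (ResidueField A)] :
    ∃ Φ : EGA4.CTensor k A B →+* (A ⧸ maximalIdeal A) ⊗[k] B, Function.Surjective Φ ∧
      RingHom.ker Φ = (maximalIdeal A).map (algebraMap A (EGA4.CTensor k A B)) := by
  haveI : Module.Finite k (A ⧸ maximalIdeal A) := ‹Module.Finite k (ResidueField A)›
  obtain ⟨Φ, hs, hker, -⟩ := exists_cTensor_quotient (k := k) (B := B) (maximalIdeal A) 1 (pow_one _).le
  exact ⟨Φ, hs, hker⟩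

omit [IsAdicComplete (maximalIdeal A) A] in
theorem finite_quotient_cTensor [Module.Finite k (ResidueField A)] (M : Ideal (EGA4.CTensor k A B)) [hM : M.IsMaximal] :
    Module.Finite B (EGA4.CTensor k A B ⧸ M) := by
  haveI : Module.Finite k (A ⧸ maximalIdeal A) := ‹Module.Finite k (ResidueField A)›
  obtain ⟨e⟩ := exists_quotient_algEquiv_right (k := k) (B := B) (maximalIdeal A) 1 (pow_one _).le
  haveI : Module.Finite B ((A ⧸ maximalIdeal A) ⊗[k] B) := finite_right_tensor
  haveI := Module.Finite.equiv e.symm.toLinearEquiv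
  have hle : (maximalIdeal A).map (algebraMap A (EGA4.CTensor k A B)) ≤ M :=
    map_maximalIdeal_le_jacobson.trans (sInf_le ⟨bot_le, hM⟩)
  exact Module.Finite.of_surjective (Ideal.Quotient.factorₐ B hle).toLinearMap (Ideal.Quotient.factor_surjective hle)

omit [IsAdicComplete (maximalIdeal A) A] in
theorem finite_maximalSpectrum_cTensor [Module.Finite k (ResidueField A)] :
    (Set.univ : Set (MaximalSpectrum (EGA4.CTensor k A B))).Finite := by
  haveI : Module.Finite k (A ⧸ maximalIdeal A) := ‹Module.Finite k (ResidueField A)›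
  let T := (A ⧸ maximalIdeal A) ⊗[k] B
  haveI : Module.Finite B T := finite_right_tensor
  haveI : Algebra.IsIntegral B T := Algebra.IsIntegral.of_finite B T
  obtain ⟨Φ, hs, hker⟩ := exists_quotient_maximalIdeal (k := k) (A := A) (B := B)
  have hfin : {Q : Ideal T | Q.IsMaximal}.Finite :=
    (Algebra.QuasiFinite.finite_primesOver (S := T) (maximalIdeal B)).subset fun Q hQ =>
      have : Q.IsMaximal := hQ
      ⟨this.isPrime, ⟨(IsLocalRing.eq_maximalIdeal
        (Ideal.isMaximal_comap_of_isIntegral_of_isMaximal Q)).symm⟩⟩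
  refine Set.Finite.of_finite_image ((hfin.image (Ideal.comap Φ)).subset ?_)
    (fun M _ M' _ h => MaximalSpectrum.ext h : Set.InjOn MaximalSpectrum.asIdeal _)
  rintro _ ⟨M, -, rfl⟩
  have hle : RingHom.ker Φ ≤ M.asIdeal :=
    hker.le.trans (map_maximalIdeal_le_jacobson.trans (sInf_le ⟨bot_le, M.isMaximal⟩))
  have hc : Ideal.comap Φ (M.asIdeal.map Φ) = M.asIdeal := by
    rw [Ideal.comap_map_of_surjective Φ hs, ← RingHom.ker_eq_comap_bot, sup_eq_left]
    exact hle
  refine ⟨M.asIdeal.map Φ, (Ideal.map_eq_top_or_isMaximal_of_surjective Φ hs M.isMaximal).resolve_left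
    fun h => M.isMaximal.ne_top ?_, hc⟩
  rw [← hc, h, Ideal.comap_top]

end CTensor

end Groth.Agent.CommAlg6
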