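import Groth.Agent.CAlgH.FiniteCompletion
import Mathlib.RingTheory.Henselian
import Mathlib.RingTheory.Artinian.Ring

/-! Localizations of semi-local complete Noetherian rings at their maximal ideals. -/

set_option autoImplicit false
set_option linter.style.haveILetI false

universe u

open IsLocalRing

namespace Groth.Agent.CommAlg6

variable {C : Type u} [CommRing C] (J : Ideal C) [IsAdicComplete J C] [IsArtinianRing (C ⧸ J)]
include J

/-- An idempotent singling out a maximal ideal. -/
theorem exists_isIdempotentElem_of_isMaximal (M : Ideal C) [hM : M.IsMaximal] :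
    ∃ e : C, IsIdempotentElem e ∧ e ∉ M ∧ ∀ N : Ideal C, N.IsMaximal → N ≠ M → e ∈ N := by
  classical
  have hJac : ∀ N : Ideal C, N.IsMaximal → J ≤ N := fun N hN =>
    (IsAdicComplete.le_jacobson_bot J).trans (sInf_le ⟨bot_le, hN⟩)
  let q := Ideal.Quotient.mk J
  have hq : Function.Surjective q := Ideal.Quotient.mk_surjective
  have hmem : ∀ N : Ideal C, N.IsMaximal → ∀ x, q x ∈ N.map q ↔ x ∈ N := fun N hN x => by
    rw [← Ideal.mem_comap, Ideal.comap_map_of_surjective q hq, ← RingHom.ker_eq_comap_bot, Ideal.mk_ker,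
      sup_eq_left.2 (hJac N hN)]
  have hmax : ∀ N : Ideal C, N.IsMaximal → (N.map q).IsMaximal := fun N hN =>
    (Ideal.map_eq_top_or_isMaximal_of_surjective q hq hN).resolve_left fun h =>
      hN.ne_top ((Ideal.eq_top_iff_one N).2 ((hmem N hN 1).1 (h ▸ Submodule.mem_top)))
  have hfin : {Q : Ideal (C ⧸ J) | Q.IsMaximal ∧ Q ≠ M.map q}.Finite := by
    refine Set.Finite.subset (Set.finite_range fun Q : MaximalSpectrum (C ⧸ J) => Q.asIdeal) fun Q hQ => ?_
    exact ⟨⟨Q, hQ.1⟩, rfl⟩
  haveI := hmax M hM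
  have htop : M.map q ⊔ ⨅ Q ∈ hfin.toFinset, Q = ⊤ := Ideal.sup_iInf_eq_top fun Q hQ => by
    rw [Set.Finite.mem_toFinset] at hQ
    exact (hmax M hM).coprime_of_ne hQ.1 (Ne.symm hQ.2)
  obtain ⟨a, ha, x, hx, hax⟩ := Submodule.mem_sup.1 (htop.ge (Submodule.mem_top (x := (1 : C ⧸ J))))
  obtain ⟨N, ⟨y, hy⟩⟩ : ∃ N : ℕ, ∃ y, x ^ N = x ^ (2 * N + 1) * y := by
    obtain ⟨N, y, hy⟩ := IsArtinian.exists_pow_succ_smul_dvd (R := C ⧸ J) (M := C ⧸ J) x 1
    refine ⟨N, y ^ (N + 1), ?_⟩
    simp only [smul_eq_mul, mul_one, Nat.succ_eq_add_one] at hy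
    have : ∀ j : ℕ, x ^ N = x ^ (N + j) * y ^ j := fun j => by
      induction j with
      | zero => simp
      | succ j ih => rw [ih]; linear_combination (x ^ j * y ^ j) * hy.symm
    rw [this (N + 1)]
    ring
  let e₀ := x ^ (N + 1) * y
  have hx0 : x ^ N * e₀ = x ^ N := by rw [hy]; show x ^ (2 * N + 1) * y * (x ^ (N + 1) * y) = _; linear_combination (-(x ^ (N+1) * y)) * hy
  have hid : e₀ * e₀ = e₀ := by
    show x ^ (N + 1) * y * (x ^ (N + 1) * y) = _
    linear_combination (-(x * y)) * hy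
  obtain ⟨e₁, he₁⟩ := hq e₀
  have hroot : (Polynomial.X ^ 2 - Polynomial.X : Polynomial C).eval e₁ ∈ J := by
    rw [← Ideal.Quotient.eq_zero_iff_mem, Polynomial.eval_sub, Polynomial.eval_pow, Polynomial.eval_X, map_sub, map_pow,
      show Ideal.Quotient.mk J e₁ = e₀ from he₁, pow_two, hid, sub_self]
  have hder : IsUnit (Ideal.Quotient.mk J ((Polynomial.X ^ 2 - Polynomial.X : Polynomial C).derivative.eval e₁)) := by
    refine IsUnit.of_mul_eq_one (2 * e₀ - 1) ?_
    simp only [Polynomial.derivative_sub, Polynomial.derivative_pow, Polynomial.derivative_X, Polynomial.eval_sub,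
      Polynomial.eval_mul, Polynomial.eval_pow, Polynomial.eval_X, Polynomial.eval_one, Polynomial.eval_C,
      mul_one, map_sub, map_mul, map_one, Nat.add_one_sub_one, pow_one, Nat.cast_ofNat, map_ofNat, Polynomial.eval_ofNat]
    rw [show Ideal.Quotient.mk J e₁ = e₀ from he₁]
    linear_combination 4 * hid
  obtain ⟨e, he, hee⟩ := HenselianRing.is_henselian (I := J) _
    (Polynomial.monic_X_pow_sub (p := (Polynomial.X : Polynomial C)) (n := 2)
      (Polynomial.degree_X_le.trans_lt (by norm_num))) e₁ hroot hder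
  have hqe : q e = e₀ := by rw [← he₁]; exact Ideal.Quotient.eq.2 hee
  refine ⟨e, ?_, fun h => ?_, fun Q hQ hne => ?_⟩
  · rw [Polynomial.IsRoot.def, Polynomial.eval_sub, Polynomial.eval_pow, Polynomial.eval_X, sub_eq_zero, pow_two] at he
    exact he
  · have h1 : e₀ ∈ M.map q := hqe ▸ Ideal.mem_map_of_mem q h
    have h2 : x ^ N ∈ M.map q := hx0 ▸ Ideal.mul_mem_left _ _ h1
    have h3 : x ∈ M.map q := ((hmax M hM).isPrime.mem_of_pow_mem N h2)
    exact (hmax M hM).ne_top ((Ideal.eq_top_iff_one _).2 (hax ▸ add_mem ha h3))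
  · rw [← hmem Q hQ, hqe]
    refine Ideal.mul_mem_right _ _ (Ideal.pow_mem_of_mem _ ?_ _ N.succ_pos)
    have hmem' : Q.map q ∈ hfin.toFinset := by
      rw [Set.Finite.mem_toFinset]
      refine ⟨hmax Q hQ, fun h => hne ?_⟩
      ext z
      rw [← hmem Q hQ, h, hmem M hM]
    exact (Submodule.mem_iInf _).1 ((Submodule.mem_iInf _).1 hx _) hmem'

/-- The localization at a maximal ideal is a quotient. -/
theorem surjective_algebraMap_atPrime (M : Ideal C) [hM : M.IsMaximal] :
    Function.Surjective (algebraMap C (Localization.AtPrime M)) := by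
  obtain ⟨e, he, heM, hne⟩ := exists_isIdempotentElem_of_isMaximal J M
  intro z
  obtain ⟨a, ⟨s, hs⟩, rfl⟩ := IsLocalization.exists_mk'_eq M.primeCompl z
  have htop : Ideal.span {s, 1 - e} = ⊤ := by
    by_contra h
    obtain ⟨N, hN, hle⟩ := Ideal.exists_le_maximal _ h
    have h1 : 1 - e ∈ N := hle (Ideal.subset_span (by simp))
    by_cases hNM : N = M
    · exact hs (hNM ▸ hle (Ideal.subset_span (by simp)))
    · exact hN.ne_top ((Ideal.eq_top_iff_one N).2 (by simpa using add_mem h1 (hne N hN hNM)))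
  obtain ⟨u, v, huv⟩ := Ideal.mem_span_pair.1 (htop.ge (Submodule.mem_top (x := (1 : C))))
  refine ⟨a * u * e, ?_⟩
  rw [IsLocalization.eq_mk'_iff_mul_eq, ← map_mul]
  refine (IsLocalization.eq_iff_exists M.primeCompl _).2 ⟨⟨e, heM⟩, ?_⟩
  show e * (a * u * e * s) = e * a
  have he' : e * e = e := he
  linear_combination (a * e) * huv + (a * u * s + a * v) * he'

/-- The localizations at maximal ideals are complete. -/
theorem isAdicComplete_atPrime [IsNoetherianRing C] (M : Ideal C) [hM : M.IsMaximal] :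
    IsAdicComplete (maximalIdeal (Localization.AtPrime M)) (Localization.AtPrime M) := by
  let L := Localization.AtPrime M
  have hsurj := surjective_algebraMap_atPrime J M
  haveI : Module.Finite C L := Module.Finite.of_surjective (Algebra.linearMap C L) hsurj
  have h1 : IsAdicComplete J L := AdicRing.isAdicComplete_of_finite _ L
  let I := J.map (algebraMap C L)
  have h2 : IsAdicComplete I L := (IsAdicComplete.map_algebraMap_iff _ _).mpr h1
  have hI : I ≤ maximalIdeal L := by
    rw [← Localization.AtPrime.map_eq_maximalIdeal]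
    exact Ideal.map_mono ((IsAdicComplete.le_jacobson_bot J).trans (sInf_le ⟨bot_le, hM⟩))
  haveI : Nontrivial (L ⧸ I) :=
    Ideal.Quotient.nontrivial_iff.mpr fun h => (maximalIdeal.isMaximal L).ne_top (top_le_iff.mp (h ▸ hI))
  haveI : IsArtinianRing (L ⧸ I) := (Ideal.quotientMap_surjective (f := algebraMap C L) (I := I)
    (H := Ideal.le_comap_map (f := algebraMap C L) (I := J)) hsurj).isArtinianRing
  haveI : IsLocalRing (L ⧸ I) := .of_surjective' _ Ideal.Quotient.mk_surjective
  obtain ⟨d, hd⟩ := IsArtinianRing.isNilpotent_jacobson_bot (R := L ⧸ I)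
  rw [IsLocalRing.jacobson_eq_maximalIdeal _ bot_ne_top] at hd
  have hd' : maximalIdeal L ^ (d + 1) ≤ I := by
    refine le_trans (Ideal.pow_le_pow_right d.le_succ) ?_
    rw [← Ideal.mk_ker (I := I), RingHom.ker_eq_comap_bot, ← Ideal.map_le_iff_le_comap, Ideal.map_pow,
      IsLocalRing.map_maximalIdeal_of_surjective _ Ideal.Quotient.mk_surjective, hd]
    exact le_rfl
  exact (S9604.result I (maximalIdeal L) 1 (d + 1) one_pos d.succ_pos (by rw [pow_one]; exact hI) hd' L).mp h2

end Groth.Agent.CommAlg6
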