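import Groth.Agent.CommAlg6.CompletedKaehlerQuot
import Groth.Agent.CommAlg6.SemiLocalComplete
import Groth.Agent.CommAlg6.CTensorBasic
import Groth.Agent.CAlgH.RegularSmooth
import Groth.Agent.CAlgH3.RegularHom
import Groth.Agent.CAlgH.AdicSmoothField
import Groth.Agent.CAlgH.PowerSeriesEval
import Groth.Agent.CAlgH.PowerSeriesComplete
import Groth.Agent.S5993
import Mathlib.RingTheory.Etale.Locus

/-! Completed base change to a field of a quotient finite over a power series ring. -/

set_option autoImplicit false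
set_option linter.style.haveILetI false

universe u

open IsLocalRing TensorProduct

attribute [local instance] Algebra.TensorProduct.rightAlgebra

namespace Groth.Agent.CommAlg6

/-- Homomorphisms from a power series ring to a separated ring are determined by the variables. -/
theorem mvPowerSeries_hom_ext_adic {K T : Type u} [Field K] [CommRing T] {d : ℕ}
    (g g' : MvPowerSeries (Fin d) K →+* T) (hC : g.comp MvPowerSeries.C = g'.comp MvPowerSeries.C)
    (hX : ∀ i, g (MvPowerSeries.X i) = g' (MvPowerSeries.X i))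
    (I : Ideal T) [IsHausdorff I T] (hI : ∀ i, g (MvPowerSeries.X i) ∈ I) : g = g' := by
  refine RingHom.ext fun f => sub_eq_zero.1 (IsHausdorff.haus (I := I) inferInstance _ fun j => ?_)
  rw [SModEq.zero, smul_eq_mul, Ideal.mul_top, ← Ideal.Quotient.eq_zero_iff_mem, map_sub, sub_eq_zero]
  let q := Ideal.Quotient.mk (I ^ j)
  exact RingHom.congr_fun (CAlgH.AdicSmooth.mvPowerSeries_hom_ext (q.comp g) (q.comp g')
    (by rw [RingHom.comp_assoc, RingHom.comp_assoc, hC]) (fun i => congrArg q (hX i)) (I.map q)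
    (fun i => Ideal.mem_map_of_mem q (hI i)) (N := j) (by rw [← Ideal.map_pow, Ideal.map_quotient_self])) f

variable {k A k' : Type u} [Field k] [CommRing A] [IsNoetherianRing A] [IsLocalRing A] [Algebra k A]
  [IsAdicComplete (maximalIdeal A) A] [Module.Finite k (ResidueField A)] [Field k'] [Algebra k k']
  (b : Ideal A) [IsLocalRing (A ⧸ b)] {n : ℕ}
  [Algebra (MvPowerSeries (Fin n) k) (A ⧸ b)] [IsScalarTower k (MvPowerSeries (Fin n) k) (A ⧸ b)]
  [Module.Finite (MvPowerSeries (Fin n) k) (A ⧸ b)] [IsLocalHom (algebraMap (MvPowerSeries (Fin n) k) (A ⧸ b))]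
  [Algebra (MvPowerSeries (Fin n) k) (MvPowerSeries (Fin n) k')]

/-- The completed base change is an ordinary base change along the power series rings. -/
theorem exists_tensor_equiv_cTensor_quotient
    (hφC : ∀ c, algebraMap (MvPowerSeries (Fin n) k) (MvPowerSeries (Fin n) k') (MvPowerSeries.C c) =
      MvPowerSeries.C (algebraMap k k' c))
    (hφX : ∀ i, algebraMap (MvPowerSeries (Fin n) k) (MvPowerSeries (Fin n) k') (MvPowerSeries.X i) = MvPowerSeries.X i) :
    ∃ e : MvPowerSeries (Fin n) k' ⊗[MvPowerSeries (Fin n) k] (A ⧸ b) ≃+*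
        EGA4.CTensor k A k' ⧸ b.map (algebraMap A (EGA4.CTensor k A k')),
      ∀ a, e (1 ⊗ₜ Ideal.Quotient.mk b a) = Ideal.Quotient.mk _ (algebraMap A (EGA4.CTensor k A k') a) := by
  classical
  let R := MvPowerSeries (Fin n) k
  let R' := MvPowerSeries (Fin n) k'
  let B := A ⧸ b
  let S := A ⊗[k] k'
  let C := EGA4.CTensor k A k'
  let bC := b.map (algebraMap A C)
  let D := C ⧸ bC
  let X := R' ⊗[R] B
  let m := maximalIdeal A
  have hmap : (maximalIdeal R).map (algebraMap R R') = maximalIdeal R' := by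
    rw [CAlgH3.maximalIdeal_mvPowerSeries_eq, CAlgH3.maximalIdeal_mvPowerSeries_eq, Ideal.map_span, ← Set.range_comp]
    exact congrArg (fun f => Ideal.span (Set.range f)) (funext hφX)
  obtain ⟨hnoe, -, hcplC, -⟩ := S5993.aux k A k'
  haveI := hnoe
  let JC := m.map (algebraMap A C)
  -- `D` is complete
  let JD := JC.map (Ideal.Quotient.mk bC)
  haveI : IsAdicComplete JD D := by
    haveI := hcplC
    exact (IsAdicComplete.map_algebraMap_iff JC D).2 (AdicRing.isAdicComplete_of_finite JC D)
  -- `X` is complete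
  haveI : Module.Finite R' X := inferInstance
  haveI : IsRegularLocalRing R' := (CAlgH.isRegularLocalRing_mvPowerSeries k' n).1
  haveI : IsAdicComplete (maximalIdeal k') k' := by
    rw [IsLocalRing.isField_iff_maximalIdeal_eq.1 (Field.toIsField k')]; infer_instance
  haveI : IsAdicComplete (maximalIdeal R') R' := CAlgH.isAdicComplete_maximalIdeal_mvPowerSeries
  let inB : B →+* X := (Algebra.TensorProduct.includeRight : B →ₐ[R] X).toRingHom
  let inR : R' →+* X := (Algebra.TensorProduct.includeLeftRingHom : R' →+* X)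
  have hRB : ∀ r, inB (algebraMap R B r) = inR (algebraMap R R' r) := fun r => by
    show (1 : R') ⊗ₜ[R] algebraMap R B r = algebraMap R R' r ⊗ₜ[R] (1 : B)
    rw [Algebra.algebraMap_eq_smul_one, Algebra.algebraMap_eq_smul_one, TensorProduct.smul_tmul]
  haveI : IsScalarTower k R R' := .of_algebraMap_eq fun c => by
    simp only [MvPowerSeries.algebraMap_apply, Algebra.algebraMap_self, RingHom.id_apply, hφC, R, R']
  let JX := m.map (inB.comp (Ideal.Quotient.mk b))
  have hJX : JX = (maximalIdeal B).map inB := by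
    rw [← IsLocalRing.map_maximalIdeal_of_surjective (Ideal.Quotient.mk b) Ideal.Quotient.mk_surjective, Ideal.map_map]
  have hX' : ((maximalIdeal R).map (algebraMap R B)).map inB = (maximalIdeal R').map inR := by
    rw [← hmap, Ideal.map_map, Ideal.map_map]
    exact congrArg (fun f => Ideal.map f (maximalIdeal R)) (RingHom.ext hRB)
  obtain ⟨N, hN⟩ : ∃ N : ℕ, maximalIdeal B ^ (N + 1) ≤ (maximalIdeal R).map (algebraMap R B) := by
    let I := (maximalIdeal R).map (algebraMap R B)
    have hI : I ≤ maximalIdeal B := ((local_hom_TFAE (algebraMap R B)).out 0 2 rfl rfl).1 inferInstance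
    haveI : Nontrivial (B ⧸ I) :=
      Ideal.Quotient.nontrivial_iff.mpr fun h => (maximalIdeal.isMaximal B).ne_top (top_le_iff.mp (h ▸ hI))
    haveI : Module.Finite (R ⧸ maximalIdeal R) (B ⧸ I) := Module.Finite.of_restrictScalars_finite R _ _
    haveI : IsArtinianRing (B ⧸ I) :=
      letI := Ideal.Quotient.field (maximalIdeal R)
      IsArtinianRing.of_finite (R ⧸ maximalIdeal R) _
    haveI : IsLocalRing (B ⧸ I) := .of_surjective' _ Ideal.Quotient.mk_surjective
    obtain ⟨d, hd⟩ := IsArtinianRing.isNilpotent_jacobson_bot (R := B ⧸ I)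
    rw [IsLocalRing.jacobson_eq_maximalIdeal _ bot_ne_top] at hd
    refine ⟨d, le_trans (Ideal.pow_le_pow_right d.le_succ) ?_⟩
    show _ ≤ I
    rw [← Ideal.mk_ker (I := I), RingHom.ker_eq_comap_bot, ← Ideal.map_le_iff_le_comap, Ideal.map_pow,
      IsLocalRing.map_maximalIdeal_of_surjective _ Ideal.Quotient.mk_surjective, hd]
    exact le_rfl
  haveI : IsAdicComplete JX X := by
    have h1 : IsAdicComplete ((maximalIdeal R').map inR) X :=
      (IsAdicComplete.map_algebraMap_iff (maximalIdeal R') X).2 (AdicRing.isAdicComplete_of_finite (maximalIdeal R') X)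
    refine (S9604.result ((maximalIdeal R').map inR) JX 1 (N + 1) one_pos N.succ_pos ?_ ?_ X).mp h1
    · rw [pow_one, hJX, ← hX']
      exact Ideal.map_mono (((local_hom_TFAE (algebraMap R B)).out 0 2 rfl rfl).1 inferInstance)
    · rw [hJX, ← hX', ← Ideal.map_pow]
      exact Ideal.map_mono hN
  -- the maps on the tensor product
  let gA : A →ₐ[k] X :=
    { toRingHom := inB.comp (Ideal.Quotient.mk b)
      commutes' := fun c => by
        show inB (Ideal.Quotient.mk b (algebraMap k A c)) = algebraMap k X c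
        rw [Ideal.Quotient.mk_algebraMap, IsScalarTower.algebraMap_apply k R B, hRB,
          IsScalarTower.algebraMap_apply k R X]
        rfl }
  let gk : k' →ₐ[k] X :=
    { toRingHom := inR.comp MvPowerSeries.C
      commutes' := fun c => by
        show inR (MvPowerSeries.C (algebraMap k k' c)) = algebraMap k X c
        rw [← hφC, IsScalarTower.algebraMap_apply k R X]
        rfl }
  let t : S →ₐ[k] X := Algebra.TensorProduct.lift gA gk fun _ _ => Commute.all _ _
  have hcT : EGA4.cTensorIdeal k A k' = m.map (algebraMap A S) := by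
    show _ ⊔ _ = _
    rw [IsLocalRing.isField_iff_maximalIdeal_eq.1 (Field.toIsField k'), Ideal.map_bot, sup_bot_eq]; rfl
  have ht : (EGA4.cTensorIdeal k A k').map t.toRingHom ≤ JX := by
    refine ((congrArg (Ideal.map t.toRingHom) hcT).trans ((Ideal.map_map _ _).trans ?_)).le
    refine congrArg (fun f => Ideal.map f m) (RingHom.ext fun a => ?_)
    show t (a ⊗ₜ[k] (1 : k')) = inB (Ideal.Quotient.mk b a)
    rw [Algebra.TensorProduct.lift_tmul, map_one, mul_one]
    rfl
  obtain ⟨Θ, hΘ⟩ := AdicRing.exists_completion_hom (EGA4.cTensorIdeal k A k') t.toRingHom JX ht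
  have hΘA : ∀ a, Θ (algebraMap A C a) = inB (Ideal.Quotient.mk b a) := fun a => by
    rw [IsScalarTower.algebraMap_apply A S C, hΘ]
    show t (a ⊗ₜ[k] (1 : k')) = _
    rw [Algebra.TensorProduct.lift_tmul, map_one, mul_one]
    rfl
  have hΘk : ∀ c : k', Θ (algebraMap S C ((1 : A) ⊗ₜ[k] c)) = inR (MvPowerSeries.C c) := fun c => by
    rw [hΘ]
    show t ((1 : A) ⊗ₜ[k] c) = _
    rw [Algebra.TensorProduct.lift_tmul, map_one, one_mul]
    rfl
  let Θb : D →+* X := Ideal.Quotient.lift bC Θ fun z hz => RingHom.mem_ker.1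
    ((Ideal.map_le_iff_le_comap.2 fun a ha => by
      show Θ (algebraMap A C a) = 0
      rw [hΘA, Ideal.Quotient.eq_zero_iff_mem.2 ha, map_zero] : bC ≤ RingHom.ker Θ) hz)
  -- the map back
  let qB : B →+* D := Ideal.quotientMap bC (algebraMap A C) Ideal.le_comap_map
  have hqB : ∀ a, qB (Ideal.Quotient.mk b a) = Ideal.Quotient.mk bC (algebraMap A C a) := fun a => rfl
  have hqJ : ∀ i, qB (algebraMap R B (MvPowerSeries.X i)) ∈ JD := fun i => by
    obtain ⟨a, ha⟩ := Ideal.Quotient.mk_surjective (algebraMap R B (MvPowerSeries.X i))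
    have hm : algebraMap R B (MvPowerSeries.X i) ∈ maximalIdeal B :=
      ((local_hom_TFAE (algebraMap R B)).out 0 2 rfl rfl).1 inferInstance (Ideal.mem_map_of_mem _ (by
        rw [CAlgH3.maximalIdeal_mvPowerSeries_eq]; exact Ideal.subset_span ⟨i, rfl⟩))
    have ha' : a ∈ m := by
      haveI : IsLocalHom (Ideal.Quotient.mk b) := IsLocalHom.of_surjective _ Ideal.Quotient.mk_surjective
      rw [← ha, IsLocalRing.mem_maximalIdeal, mem_nonunits_iff] at hm
      exact fun h => hm (h.map _)
    rw [← ha, hqB]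
    exact Ideal.mem_map_of_mem _ (Ideal.mem_map_of_mem _ ha')
  let qk : k' →+* D := (Ideal.Quotient.mk bC).comp
    ((algebraMap S C).comp (Algebra.TensorProduct.includeRight : k' →ₐ[k] S).toRingHom)
  obtain ⟨ev, hevC, hevX⟩ := CAlgH.exists_mvPowerSeries_eval qk JD (fun i => qB (algebraMap R B (MvPowerSeries.X i))) hqJ
  have hagree : ev.comp (algebraMap R R') = qB.comp (algebraMap R B) := by
    refine mvPowerSeries_hom_ext_adic _ _ (RingHom.ext fun c => ?_) (fun i => ?_) JD fun i => ?_
    · show ev (algebraMap R R' (MvPowerSeries.C c)) = qB (algebraMap R B (MvPowerSeries.C c))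
      rw [hφC, show ev (MvPowerSeries.C (algebraMap k k' c)) = qk (algebraMap k k' c) from RingHom.congr_fun hevC _,
        show algebraMap R B (MvPowerSeries.C c) = Ideal.Quotient.mk b (algebraMap k A c) by
          rw [Ideal.Quotient.mk_algebraMap, IsScalarTower.algebraMap_apply k R B]; rfl, hqB]
      show Ideal.Quotient.mk bC (algebraMap S C ((1 : A) ⊗ₜ[k] algebraMap k k' c)) = _
      rw [IsScalarTower.algebraMap_apply A S C,
        show (1 : A) ⊗ₜ[k] algebraMap k k' c = algebraMap k S c from
          AlgHom.commutes (Algebra.TensorProduct.includeRight : k' →ₐ[k] S) c]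
      rfl
    · show ev (algebraMap R R' (MvPowerSeries.X i)) = _
      rw [hφX]; exact hevX i
    · show ev (algebraMap R R' (MvPowerSeries.X i)) ∈ JD
      rw [hφX, hevX]; exact hqJ i
  letI : Algebra R D := (qB.comp (algebraMap R B)).toAlgebra
  let evA : R' →ₐ[R] D := { toRingHom := ev, commutes' := fun r => RingHom.congr_fun hagree r }
  let qBA : B →ₐ[R] D := { toRingHom := qB, commutes' := fun _ => rfl }
  let Λ : X →ₐ[R] D := Algebra.TensorProduct.lift evA qBA fun _ _ => Commute.all _ _
  have hΛB : ∀ x, Λ (inB x) = qB x := fun x => by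
    show Λ ((1 : R') ⊗ₜ[R] x) = _
    rw [Algebra.TensorProduct.lift_tmul, map_one, one_mul]; rfl
  have hΛR : ∀ x, Λ (inR x) = ev x := fun x => by
    show Λ (x ⊗ₜ[R] (1 : B)) = _
    rw [Algebra.TensorProduct.lift_tmul, map_one, mul_one]; rfl
  have h1 : ∀ x, Θb (Λ x) = x := fun x => by
    induction x using TensorProduct.induction_on with
    | zero => simp
    | add x y hx hy => rw [map_add, map_add, hx, hy]
    | tmul r z =>
      have hr : (Θb.comp ev) = inR := by
        refine mvPowerSeries_hom_ext_adic _ _ (RingHom.ext fun c => ?_) (fun i => ?_) JX fun i => ?_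
        · show Θb (ev (MvPowerSeries.C c)) = inR (MvPowerSeries.C c)
          rw [show ev (MvPowerSeries.C c) = qk c from RingHom.congr_fun hevC c]
          exact hΘk c
        · show Θb (ev (MvPowerSeries.X i)) = inR (MvPowerSeries.X i)
          obtain ⟨a, ha⟩ := Ideal.Quotient.mk_surjective (algebraMap R B (MvPowerSeries.X i))
          rw [hevX, ← ha, hqB, ← hφX, ← hRB, ← ha]
          exact hΘA a
        · show Θb (ev (MvPowerSeries.X i)) ∈ JX
          obtain ⟨a, ha⟩ := Ideal.Quotient.mk_surjective (algebraMap R B (MvPowerSeries.X i))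
          rw [hevX, ← ha, hqB, show Θb (Ideal.Quotient.mk bC (algebraMap A C a)) = Θ (algebraMap A C a) from rfl,
            hΘA, ha, hJX]
          exact Ideal.mem_map_of_mem _ (((local_hom_TFAE (algebraMap R B)).out 0 2 rfl rfl).1 inferInstance
            (Ideal.mem_map_of_mem _ (by rw [CAlgH3.maximalIdeal_mvPowerSeries_eq]; exact Ideal.subset_span ⟨i, rfl⟩)))
      obtain ⟨a, rfl⟩ := Ideal.Quotient.mk_surjective z
      rw [show r ⊗ₜ[R] Ideal.Quotient.mk b a = inR r * inB (Ideal.Quotient.mk b a) by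
        show _ = (r ⊗ₜ[R] (1 : B)) * ((1 : R') ⊗ₜ[R] Ideal.Quotient.mk b a)
        rw [Algebra.TensorProduct.tmul_mul_tmul, mul_one, one_mul],
        map_mul, map_mul, hΛR, hΛB, hqB, ← RingHom.comp_apply, hr]
      exact congrArg _ (hΘA a)
  have hΛΘ : Λ.toRingHom.comp Θ = Ideal.Quotient.mk bC := by
    refine AdicRing.completion_hom_ext (EGA4.cTensorIdeal k A k') cTensorIdeal_fg JD (fun x => ?_) (fun x hx => ?_)
    · show Λ (Θ (algebraMap S C x)) = Ideal.Quotient.mk bC (algebraMap S C x)
      induction x using TensorProduct.induction_on with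
      | zero => simp
      | add x y hx hy => simp only [map_add, hx, hy]
      | tmul a c =>
        rw [show a ⊗ₜ[k] c = algebraMap A S a * ((1 : A) ⊗ₜ[k] c) by
          show _ = (a ⊗ₜ[k] (1 : k')) * ((1 : A) ⊗ₜ[k] c)
          rw [Algebra.TensorProduct.tmul_mul_tmul, mul_one, one_mul]]
        simp only [map_mul]
        rw [← IsScalarTower.algebraMap_apply, hΘA, hΘk, hΛB, hΛR, hqB,
          show ev (MvPowerSeries.C c) = qk c from RingHom.congr_fun hevC c]
        rfl
    · show Λ (Θ (algebraMap S C x)) ∈ JD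
      have hx' : Θ (algebraMap S C x) ∈ JX := by rw [hΘ]; exact ht (Ideal.mem_map_of_mem _ hx)
      refine (Ideal.map_le_iff_le_comap.2 fun a ha => ?_ : JX ≤ JD.comap Λ.toRingHom) hx'
      show Λ (inB (Ideal.Quotient.mk b a)) ∈ JD
      rw [hΛB, hqB]
      exact Ideal.mem_map_of_mem _ (Ideal.mem_map_of_mem _ ha)
  have h2 : ∀ d, Λ (Θb d) = d := fun d => by
    obtain ⟨c, rfl⟩ := Ideal.Quotient.mk_surjective d
    exact RingHom.congr_fun hΛΘ c
  exact ⟨RingEquiv.ofBijective Λ.toRingHom ⟨Function.LeftInverse.injective h1, Function.RightInverse.surjective h2⟩,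
    fun a => (hΛB _).trans (hqB a)⟩

/-- An étale prime stays regular in the completed base change. -/
theorem isRegularLocalRing_cTensor_of_isEtaleAt
    (hφC : ∀ c, algebraMap (MvPowerSeries (Fin n) k) (MvPowerSeries (Fin n) k') (MvPowerSeries.C c) =
      MvPowerSeries.C (algebraMap k k' c))
    (hφX : ∀ i, algebraMap (MvPowerSeries (Fin n) k) (MvPowerSeries (Fin n) k') (MvPowerSeries.X i) = MvPowerSeries.X i)
    (p : Ideal A) [p.IsPrime] (hbp : b ≤ p) (hkill : ∀ z ∈ b, ∃ c ∉ p, c * z = 0) [(p.map (Ideal.Quotient.mk b)).IsPrime]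
    [Algebra.IsEtaleAt (MvPowerSeries (Fin n) k) (p.map (Ideal.Quotient.mk b))]
    (p' : Ideal (EGA4.CTensor k A k')) [p'.IsPrime] (hp' : p'.comap (algebraMap A (EGA4.CTensor k A k')) = p) :
    IsRegularLocalRing (Localization.AtPrime p') := by
  classical
  let R := MvPowerSeries (Fin n) k
  let R' := MvPowerSeries (Fin n) k'
  let B := A ⧸ b
  let C := EGA4.CTensor k A k'
  let bC := b.map (algebraMap A C)
  let X := R' ⊗[R] B
  have hbC : bC ≤ p' := Ideal.map_le_iff_le_comap.2 (hp'.symm ▸ hbp)
  have hkill' : ∀ z ∈ bC, ∃ c ∉ p', c * z = 0 := fun z hz => by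
    induction hz using Submodule.span_induction with
    | mem z hz =>
      obtain ⟨a, ha, rfl⟩ := hz
      obtain ⟨c, hc, hca⟩ := hkill a ha
      exact ⟨algebraMap A C c, fun h => hc (hp' ▸ Ideal.mem_comap.2 h), by rw [← map_mul, hca, map_zero]⟩
    | zero => exact ⟨1, fun h => ‹p'.IsPrime›.ne_top ((Ideal.eq_top_iff_one _).2 h), mul_zero _⟩
    | add x y _ _ hx hy =>
      obtain ⟨c, hc, hcx⟩ := hx
      obtain ⟨c', hc', hcy⟩ := hy
      exact ⟨c * c', fun h => (‹p'.IsPrime›.mem_or_mem h).elim hc hc', by linear_combination c' * hcx + c * hcy⟩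
    | smul r x _ hx =>
      obtain ⟨c, hc, hcx⟩ := hx
      exact ⟨c, hc, by rw [smul_eq_mul, mul_left_comm, hcx, mul_zero]⟩
  haveI : (p'.map (Ideal.Quotient.mk bC)).IsPrime :=
    Ideal.map_isPrime_of_surjective Ideal.Quotient.mk_surjective (by rwa [Ideal.mk_ker])
  let P := p'.map (Ideal.Quotient.mk bC)
  haveI := isLocalization_quotient_of_kill bC p' hbC hkill'
  obtain ⟨e, he⟩ := exists_tensor_equiv_cTensor_quotient (k' := k') b hφC hφX
  let Q : Ideal X := P.comap e.toRingHom
  haveI : Q.IsPrime := Ideal.comap_isPrime _ _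
  haveI : IsRegularLocalRing R := (CAlgH.isRegularLocalRing_mvPowerSeries k n).1
  haveI : Algebra.FinitePresentation R B := Algebra.FinitePresentation.of_finiteType.1 inferInstance
  obtain ⟨g, hg, hgE⟩ := Algebra.exists_etale_of_isEtaleAt (R := R) (p.map (Ideal.Quotient.mk b))
  haveI := hgE
  have hgQ : (1 : R') ⊗ₜ[R] g ∉ Q := fun h => by
    obtain ⟨a, rfl⟩ := Ideal.Quotient.mk_surjective g
    apply hg
    change e ((1 : R') ⊗ₜ[R] Ideal.Quotient.mk b a) ∈ P at h
    rw [he, ← Ideal.mem_comap, Ideal.comap_map_of_surjective _ Ideal.Quotient.mk_surjective, ← RingHom.ker_eq_comap_bot,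
      Ideal.mk_ker, sup_eq_left.2 hbC, ← Ideal.mem_comap, hp'] at h
    exact Ideal.mem_map_of_mem _ h
  let F := Localization.Away ((1 : R') ⊗ₜ[R] g)
  haveI : IsRegularLocalRing R' := (CAlgH.isRegularLocalRing_mvPowerSeries k' n).1
  haveI : IsRegularRing R' := CAlgH3.isRegularRing_of_isRegularLocalRing
  haveI : IsRegularRing (R' ⊗[R] Localization.Away g) := CAlgH.isRegularRing_of_smooth R' _
  haveI : IsRegularRing F := IsRegularRing.of_ringEquiv
    (IsLocalization.Away.tensorProductEquivTMulRight R R' g (Localization.Away g)).toRingEquiv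
  have hdisj : Disjoint (Submonoid.powers ((1 : R') ⊗ₜ[R] g) : Set X) (Q : Set X) := by
    rw [Set.disjoint_left]
    rintro _ ⟨j, rfl⟩ h
    exact hgQ (Ideal.IsPrime.mem_of_pow_mem ‹Q.IsPrime› j h)
  let Q' : Ideal F := Q.map (algebraMap X F)
  haveI : Q'.IsPrime :=
    IsLocalization.isPrime_of_isPrime_disjoint (Submonoid.powers ((1 : R') ⊗ₜ[R] g)) F Q ‹_› hdisj
  have hQ' : Q'.comap (algebraMap X F) = Q :=
    IsLocalization.under_map_of_isPrime_disjoint (Submonoid.powers ((1 : R') ⊗ₜ[R] g)) F ‹_› hdisj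
  let T := Localization.AtPrime Q'
  haveI : IsLocalization.AtPrime T Q := by
    have h0 := IsLocalization.isLocalization_isLocalization_atPrime_isLocalization
      (Submonoid.powers ((1 : R') ⊗ₜ[R] g)) T Q'
    have hc : (Q'.comap (algebraMap X F)).primeCompl = Q.primeCompl := by ext z; simp [Ideal.primeCompl, hQ']
    show IsLocalization Q.primeCompl T
    rw [← hc]; exact h0
  haveI : IsRegularLocalRing T := IsRegularRing.isRegularLocalRing_localization Q'
  have hH : Q.primeCompl.map e.toMonoidHom = P.primeCompl := by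
    ext z
    constructor
    · rintro ⟨x, hx, rfl⟩
      exact fun h => hx h
    · exact fun hz => ⟨e.symm z, fun h => hz (by simpa [Q] using h), e.apply_symm_apply z⟩
  exact IsRegularLocalRing.of_ringEquiv (R := T)
    ((IsLocalization.ringEquivOfRingEquiv (M := Q.primeCompl) T (Localization.AtPrime P) e hH).trans
      (IsLocalization.algEquiv p'.primeCompl (Localization.AtPrime P) (Localization.AtPrime p')).toRingEquiv)

end Groth.Agent.CommAlg6
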