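import Groth.Agent.CommAlg6.CompletedKaehlerQuot
import Groth.Agent.CommAlg6.CTensorBasic
import Groth.Agent.S5993
import Mathlib.Algebra.TrivSqZeroExt.Basic

/-! Completed differentials of completed tensor products with a field. -/

set_option autoImplicit false
set_option linter.style.haveILetI false

universe u

open IsLocalRing TensorProduct

attribute [local instance] Algebra.TensorProduct.rightAlgebra

namespace Groth.Agent.CommAlg6

/-- Derivations extend to local rings of completions. -/
theorem exists_derivation_extend_completion {k' R L N : Type u} [CommRing k'] [CommRing R] [Algebra k' R]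
    (K : Ideal R) (hK : K.FG) [CommRing L] [Algebra (AdicCompletion K R) L] (S : Submonoid (AdicCompletion K R))
    [IsLocalization S L] [IsNoetherianRing L] [Algebra R L] [IsScalarTower R (AdicCompletion K R) L]
    [Algebra k' L] [IsScalarTower k' R L] [IsAdicComplete (K.map (algebraMap R L)) L]
    [AddCommGroup N] [Module L N] [Module.Finite L N] [Module R N] [IsScalarTower R L N] [Module k' N]
    [IsScalarTower k' L N] (δ : Derivation k' R N) :
    ∃ δ' : Derivation k' L N, ∀ r, δ' (algebraMap R L r) = δ r := by
  classical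
  letI : Module Lᵐᵒᵖ N := Module.compHom N ((RingHom.id L).fromOpposite mul_comm)
  haveI : IsCentralScalar L N := ⟨fun _ _ => rfl⟩
  let I := K.map (algebraMap R L)
  let P : Ideal (TrivSqZeroExt L N) := I.comap (TrivSqZeroExt.fstHom L L N).toRingHom
  have hop : ∀ (l : L) (n : N), MulOpposite.op l • n = l • n := fun l n => op_smul_eq_smul l n
  haveI : Module.Finite L (L × N) := inferInstance
  haveI : Module.Finite L (TrivSqZeroExt L N) := ‹Module.Finite L (L × N)›
  have h0 : IsAdicComplete I (TrivSqZeroExt L N) := AdicRing.isAdicComplete_of_finite I (TrivSqZeroExt L N)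
  have h1 : IsAdicComplete (I.map (algebraMap L (TrivSqZeroExt L N))) (TrivSqZeroExt L N) := (IsAdicComplete.map_algebraMap_iff I (TrivSqZeroExt L N)).2 h0
  have hle : I.map (algebraMap L (TrivSqZeroExt L N)) ≤ P := Ideal.map_le_iff_le_comap.2 fun i hi => by
    show TrivSqZeroExt.fst (algebraMap L (TrivSqZeroExt L N) i) ∈ I
    simpa [TrivSqZeroExt.algebraMap_eq_inl] using hi
  have hsq : P ^ 2 ≤ I.map (algebraMap L (TrivSqZeroExt L N)) := by
    rw [pow_two, Ideal.mul_le]
    intro x hx y hy
    have hxy : x * y = algebraMap L (TrivSqZeroExt L N) x.fst * y + algebraMap L (TrivSqZeroExt L N) y.fst * TrivSqZeroExt.inr x.snd := by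
      refine TrivSqZeroExt.ext ?_ ?_
      · simp [TrivSqZeroExt.algebraMap_eq_inl]
      · simp [TrivSqZeroExt.algebraMap_eq_inl, hop, add_comm]
    rw [hxy]
    exact add_mem (Ideal.mul_mem_right _ _ (Ideal.mem_map_of_mem _ hx)) (Ideal.mul_mem_right _ _ (Ideal.mem_map_of_mem _ hy))
  haveI : IsAdicComplete P (TrivSqZeroExt L N) :=
    (S9604.result (I.map (algebraMap L (TrivSqZeroExt L N))) P 1 2 one_pos two_pos (by rw [pow_one]; exact hle) hsq (TrivSqZeroExt L N)).mp h1
  let t : R →+* (TrivSqZeroExt L N) :=
    { toFun := fun r => TrivSqZeroExt.inl (algebraMap R L r) + TrivSqZeroExt.inr (δ r)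
      map_one' := TrivSqZeroExt.ext (by simp) (by simp)
      map_zero' := TrivSqZeroExt.ext (by simp) (by simp)
      map_add' := fun a b => TrivSqZeroExt.ext (by simp) (by simp)
      map_mul' := fun a b => TrivSqZeroExt.ext (by simp) (by
        simp [hop, Derivation.leibniz, algebraMap_smul]) }
  have ht : K.map t ≤ P := Ideal.map_le_iff_le_comap.2 fun r hr => by
    show TrivSqZeroExt.fst (t r) ∈ I
    simpa [t] using Ideal.mem_map_of_mem (algebraMap R L) hr
  obtain ⟨Θ, hΘ⟩ := AdicRing.exists_completion_hom K t P ht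
  have hfst : (TrivSqZeroExt.fstHom L L N).toRingHom.comp Θ = algebraMap (AdicCompletion K R) L := by
    refine AdicRing.completion_hom_ext K hK I (fun r => ?_) (fun r hr => ?_)
    · show TrivSqZeroExt.fst (Θ (algebraMap R _ r)) = _
      rw [hΘ, ← IsScalarTower.algebraMap_apply]
      simp [t]
    · show TrivSqZeroExt.fst (Θ (algebraMap R _ r)) ∈ I
      rw [hΘ]
      simpa [t] using Ideal.mem_map_of_mem (algebraMap R L) hr
  have hu : ∀ s : S, IsUnit (Θ s) := fun s => by
    rw [TrivSqZeroExt.isUnit_iff_isUnit_fst,
      show TrivSqZeroExt.fst (Θ s) = algebraMap (AdicCompletion K R) L s from RingHom.congr_fun hfst _]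
    exact IsLocalization.map_units L s
  let sec : L →+* (TrivSqZeroExt L N) := IsLocalization.lift hu
  have hsec : ∀ l, TrivSqZeroExt.fst (sec l) = l := RingHom.congr_fun
    (show (TrivSqZeroExt.fstHom L L N).toRingHom.comp sec = RingHom.id L from IsLocalization.ringHom_ext S (by
      rw [RingHom.comp_assoc, IsLocalization.lift_comp, hfst, RingHom.id_comp]))
  have hval : ∀ r, sec (algebraMap R L r) = t r := fun r => by
    rw [IsScalarTower.algebraMap_apply R (AdicCompletion K R) L, IsLocalization.lift_eq, hΘ]
  have hmul : ∀ a b, TrivSqZeroExt.snd (sec (a * b)) = a • TrivSqZeroExt.snd (sec b) + b • TrivSqZeroExt.snd (sec a) := fun a b => by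
    simp [hop, hsec]
  have hk : ∀ c : k', TrivSqZeroExt.snd (sec (algebraMap k' L c)) = 0 := fun c => by
    rw [IsScalarTower.algebraMap_apply k' R L, hval]
    simp [t]
  refine ⟨Derivation.mk'
    { toFun := fun l => TrivSqZeroExt.snd (sec l)
      map_add' := fun a b => by rw [map_add, TrivSqZeroExt.snd_add]
      map_smul' := fun c l => by
        rw [Algebra.smul_def, hmul, hk, smul_zero, add_zero, algebraMap_smul, RingHom.id_apply] }
    hmul, fun r => ?_⟩
  show TrivSqZeroExt.snd (sec (algebraMap R L r)) = δ r
  rw [hval]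
  simp [t]

/-- Base change of a derivation. -/
theorem exists_derivation_baseChange {k A B N : Type u} [CommRing k] [CommRing A] [CommRing B] [Algebra k A] [Algebra k B]
    [AddCommGroup N] [Module (A ⊗[k] B) N] [Module A N] [IsScalarTower A (A ⊗[k] B) N] [Module B N]
    [IsScalarTower B (A ⊗[k] B) N] [Module k N] [IsScalarTower k (A ⊗[k] B) N] (d : Derivation k A N) :
    ∃ δ : Derivation B (A ⊗[k] B) N, ∀ a, δ (a ⊗ₜ 1) = d a := by
  let R := A ⊗[k] B
  have hB : ∀ (b : B) (n : N), b • n = ((1 : A) ⊗ₜ[k] b) • n := fun b n => (algebraMap_smul R b n).symm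
  have hA : ∀ (a : A) (n : N), a • n = (a ⊗ₜ[k] (1 : B)) • n := fun a n => (algebraMap_smul R a n).symm
  have hk : ∀ (c : k) (n : N), c • n = algebraMap k R c • n := fun c n => (algebraMap_smul R c n).symm
  let f : R →ₗ[k] N := TensorProduct.lift
    (LinearMap.mk₂ k (fun a b => b • d a)
      (fun a a' b => by rw [map_add, smul_add])
      (fun c a b => by
        rw [Derivation.map_smul, hB, hB, hk, hk, smul_comm])
      (fun a b b' => by rw [add_smul])
      (fun c a b => by
        rw [hB, hB, hk, smul_smul, ← Algebra.smul_def, TensorProduct.tmul_smul]))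
  have hf : ∀ a b, f (a ⊗ₜ b) = b • d a := fun a b => TensorProduct.lift.tmul a b
  have hleib : ∀ x y : R, f (x * y) = x • f y + y • f x := by
    intro x y
    induction x using TensorProduct.induction_on with
    | zero => simp
    | add x x' hx hx' => rw [add_mul, map_add, hx, hx', map_add, add_smul, smul_add]; abel
    | tmul a b =>
      induction y using TensorProduct.induction_on with
      | zero => simp
      | add y y' hy hy' => rw [mul_add, map_add, hy, hy', map_add, smul_add, add_smul]; abel
      | tmul a' b' =>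
        rw [Algebra.TensorProduct.tmul_mul_tmul, hf, hf, hf, Derivation.leibniz, smul_add, hB, hB, hA, hA, hB b', hB b,
          smul_smul, smul_smul, smul_smul, smul_smul, Algebra.TensorProduct.tmul_mul_tmul,
          Algebra.TensorProduct.tmul_mul_tmul, Algebra.TensorProduct.tmul_mul_tmul, Algebra.TensorProduct.tmul_mul_tmul]
        simp [mul_comm]
  refine ⟨Derivation.mk'
    { toFun := f
      map_add' := map_add f
      map_smul' := fun b x => by
        rw [Algebra.smul_def, hleib, RingHom.id_apply, algebraMap_smul]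
        show b • f x + x • f ((1 : A) ⊗ₜ[k] b) = b • f x
        rw [hf, Derivation.map_one_eq_zero, smul_zero, smul_zero, add_zero] }
    hleib, fun a => ?_⟩
  show f (a ⊗ₜ 1) = d a
  rw [hf, one_smul]

/-- The completed differentials of a local ring of a completed tensor product with a field. -/
theorem exists_cKaehler_baseChange_equiv {k A k' : Type u} [Field k] [CommRing A] [IsNoetherianRing A] [IsLocalRing A]
    [Algebra k A] [IsAdicComplete (maximalIdeal A) A] [Module.Finite k (ResidueField A)] [Field k'] [Algebra k k']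
    (M : Ideal (EGA4.CTensor k A k')) [M.IsMaximal] :
    IsAdicComplete (maximalIdeal (Localization.AtPrime M)) (Localization.AtPrime M) ∧
      Module.Finite k' (ResidueField (Localization.AtPrime M)) ∧
      ∃ e : (Localization.AtPrime M ⊗[A] CKaehler k A) ≃ₗ[Localization.AtPrime M] CKaehler k' (Localization.AtPrime M),
        ∀ a, e (1 ⊗ₜ cD k A a) = cD k' (Localization.AtPrime M) (algebraMap A _ a) := by
  classical
  obtain ⟨hnoe, -, -, hloc⟩ := S5993.aux k A k'
  haveI := hnoe
  obtain ⟨hcplL, hff, -, -⟩ := hloc ⟨M, inferInstance⟩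
  let R := A ⊗[k] k'
  let C := EGA4.CTensor k A k'
  let L := Localization.AtPrime M
  haveI : IsAdicComplete (maximalIdeal L) L := hcplL
  haveI : Module.FaithfullyFlat A L := hff
  haveI : IsNoetherianRing L := IsLocalization.isNoetherianRing M.primeCompl L inferInstance
  have hbot : maximalIdeal k' = ⊥ := IsLocalRing.isField_iff_maximalIdeal_eq.1 (Field.toIsField k')
  haveI : IsAdicComplete (maximalIdeal k') k' := by rw [hbot]; infer_instance
  let m := maximalIdeal A
  have hcT : EGA4.cTensorIdeal k A k' = m.map (algebraMap A R) := by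
    show _ ⊔ _ = _
    rw [hbot, Ideal.map_bot, sup_bot_eq]; rfl
  let I := m.map (algebraMap A L)
  -- residue field
  haveI : Module.Finite k' (C ⧸ M) := finite_quotient_cTensor (k := k) (A := A) (B := k') M
  haveI hres : Module.Finite k' (ResidueField L) :=
    Module.Finite.equiv (AlgEquiv.ofRingEquiv (R := k') (f := IsLocalization.AtPrime.equivQuotMaximalIdeal M L)
      fun c => rfl).toLinearEquiv
  -- `m` generates an ideal of definition
  have hIle : I ≤ maximalIdeal L := by
    rw [show I = m.map (algebraMap A L) from rfl, IsScalarTower.algebraMap_eq A C L, ← Ideal.map_map,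
      ← Localization.AtPrime.map_eq_maximalIdeal]
    exact Ideal.map_mono ((map_maximalIdeal_le_jacobson (k := k) (A := A) (B := k')).trans (sInf_le ⟨bot_le, ‹M.IsMaximal›⟩))
  haveI : Module.Finite k (A ⧸ m) := ‹Module.Finite k (ResidueField A)›
  obtain ⟨Φ, hΦs, hΦk⟩ := exists_quotient_maximalIdeal (k := k) (A := A) (B := k')
  haveI : Module.Finite k' ((A ⧸ m) ⊗[k] k') := finite_right_tensor
  haveI : IsArtinianRing ((A ⧸ m) ⊗[k] k') := IsArtinianRing.of_finite k' _
  haveI : IsAdicComplete (m.map (algebraMap A C)) C := (S5993.aux k A k').2.2.1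
  haveI : IsArtinianRing (C ⧸ m.map (algebraMap A C)) :=
    ((Ideal.quotEquivOfEq hΦk.symm).trans (RingHom.quotientKerEquivOfSurjective hΦs)).symm.surjective.isArtinianRing
      (f := ((Ideal.quotEquivOfEq hΦk.symm).trans (RingHom.quotientKerEquivOfSurjective hΦs)).symm.toRingHom)
  have hCL : Function.Surjective (algebraMap C L) := surjective_algebraMap_atPrime (m.map (algebraMap A C)) M
  haveI : IsArtinianRing (L ⧸ I) := (Ideal.quotientMap_surjective (f := algebraMap C L) (I := I)
    (H := by
      show m.map (algebraMap A C) ≤ I.comap (algebraMap C L)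
      rw [← Ideal.map_le_iff_le_comap, Ideal.map_map, ← IsScalarTower.algebraMap_eq]) hCL).isArtinianRing
  haveI : Nontrivial (L ⧸ I) :=
    Ideal.Quotient.nontrivial_iff.mpr fun h => (maximalIdeal.isMaximal L).ne_top (top_le_iff.mp (h ▸ hIle))
  haveI : IsLocalRing (L ⧸ I) := .of_surjective' _ Ideal.Quotient.mk_surjective
  obtain ⟨d, hd⟩ : ∃ d, maximalIdeal L ^ (d + 1) ≤ I := by
    obtain ⟨d, hd⟩ := IsArtinianRing.isNilpotent_jacobson_bot (R := L ⧸ I)
    rw [IsLocalRing.jacobson_eq_maximalIdeal _ bot_ne_top] at hd
    refine ⟨d, le_trans (Ideal.pow_le_pow_right d.le_succ) ?_⟩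
    rw [← Ideal.mk_ker (I := I), RingHom.ker_eq_comap_bot, ← Ideal.map_le_iff_le_comap, Ideal.map_pow,
      IsLocalRing.map_maximalIdeal_of_surjective _ Ideal.Quotient.mk_surjective, hd]
    exact le_rfl
  -- the two maps
  haveI := finite_cKaehler k A
  haveI := finite_cKaehler k' L
  have hN1 : IsAdicComplete (maximalIdeal L) (CKaehler k' L) := isAdicComplete_cKaehler k' L
  have hN2 : IsAdicComplete I (CKaehler k' L) :=
    (S9604.result I (maximalIdeal L) 1 (d + 1) one_pos d.succ_pos (by rw [pow_one]; exact hIle) hd _).mpr hN1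
  haveI : IsAdicComplete m (CKaehler k' L) := (IsAdicComplete.map_algebraMap_iff m (CKaehler k' L)).1 hN2
  let δ₁ : Derivation k A (CKaehler k' L) := Derivation.mk'
    { toFun := fun a => cD k' L (algebraMap A L a)
      map_add' := fun a b => by rw [map_add, map_add]
      map_smul' := fun c a => by
        rw [RingHom.id_apply, Algebra.smul_def, map_mul, ← IsScalarTower.algebraMap_apply k A L,
          IsScalarTower.algebraMap_apply k k' L, ← Algebra.smul_def, Derivation.map_smul, algebraMap_smul] }
    fun a b => by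
      show cD k' L (algebraMap A L (a * b)) = a • cD k' L (algebraMap A L b) + b • cD k' L (algebraMap A L a)
      rw [map_mul, Derivation.leibniz, algebraMap_smul, algebraMap_smul]
  let ψ : CKaehler k A →ₗ[A] CKaehler k' L := (AdicCompletion.ofLinearEquiv m (CKaehler k' L)).symm.toLinearMap.comp
    ((AdicCompletion.map m δ₁.liftKaehlerDifferential).restrictScalars A)
  have hψ : ∀ a, ψ (cD k A a) = cD k' L (algebraMap A L a) := fun a => by
    show (AdicCompletion.ofLinearEquiv m _).symm (AdicCompletion.map m δ₁.liftKaehlerDifferential (cD k A a)) = _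
    rw [cD_apply, AdicCompletion.map_of, AdicCompletion.ofLinearEquiv_symm_of,
      Derivation.liftKaehlerDifferential_comp_D]
    rfl
  let Ψ := LinearMap.liftBaseChange L ψ
  have hΨ : ∀ a, Ψ (1 ⊗ₜ cD k A a) = cD k' L (algebraMap A L a) := fun a => by
    rw [LinearMap.liftBaseChange_tmul, one_smul, hψ]
  let N := L ⊗[A] CKaehler k A
  haveI : IsScalarTower R L N := TensorProduct.isScalarTower_left
  haveI : IsScalarTower k' L N := TensorProduct.isScalarTower_left
  haveI : IsScalarTower A R N := TensorProduct.isScalarTower_left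
  haveI : IsScalarTower k' R N := TensorProduct.isScalarTower_left
  haveI : IsScalarTower k R N := TensorProduct.isScalarTower_left
  let d₀ : Derivation k A N := ((TensorProduct.mk A L (CKaehler k A)) 1).compDer (cD k A)
  obtain ⟨δR, hδR⟩ := exists_derivation_baseChange (B := k') d₀
  have hImap : (EGA4.cTensorIdeal k A k').map (algebraMap R L) = I :=
    (congrArg (Ideal.map (algebraMap R L)) hcT).trans (by rw [Ideal.map_map, ← IsScalarTower.algebraMap_eq])
  haveI : IsAdicComplete ((EGA4.cTensorIdeal k A k').map (algebraMap R L)) L := by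
    rw [hImap]
    exact (S9604.result I (maximalIdeal L) 1 (d + 1) one_pos d.succ_pos (by rw [pow_one]; exact hIle) hd _).mpr hcplL
  obtain ⟨δL, hδL⟩ := exists_derivation_extend_completion (k' := k') (L := L) (N := N) (EGA4.cTensorIdeal k A k') cTensorIdeal_fg M.primeCompl δR
  obtain ⟨χ, hχ⟩ := exists_cKaehler_lift k' L δL
  have hinj : χ.comp Ψ = LinearMap.id := by
    refine LinearMap.ext fun x => ?_
    induction x using TensorProduct.induction_on with
    | zero => simp
    | add x y hx hy => rw [map_add, map_add, hx, hy]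
    | tmul l w =>
      have hw : (χ.comp Ψ).restrictScalars A ∘ₗ TensorProduct.mk A L (CKaehler k A) 1 = TensorProduct.mk A L _ 1 := by
        refine cKaehler_hom_ext k A fun a => ?_
        show χ (Ψ (1 ⊗ₜ cD k A a)) = _
        rw [hΨ, hχ, IsScalarTower.algebraMap_apply A R L, hδL]
        exact hδR a
      have := LinearMap.congr_fun hw w
      rw [show l ⊗ₜ[A] w = l • ((1 : L) ⊗ₜ[A] w) by rw [TensorProduct.smul_tmul', smul_eq_mul, mul_one], map_smul]
      exact congrArg (l • ·) this
  have hsurj : Function.Surjective Ψ := by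
    rw [← LinearMap.range_eq_top]
    refine eq_top_iff.2 (Submodule.le_of_le_smul_of_le_jacobson_bot (I := I) Module.Finite.fg_top
      (hIle.trans (IsLocalRing.maximalIdeal_le_jacobson _)) ?_)
    refine (span_range_cD k' L).ge.trans (Submodule.span_le.2 ?_)
    rintro _ ⟨l, rfl⟩
    obtain ⟨c, rfl⟩ := hCL l
    obtain ⟨r, hr⟩ := AdicRing.surjective_mk_algebraMap_completion (EGA4.cTensorIdeal k A k') cTensorIdeal_fg
      (Ideal.Quotient.mk _ c)
    rw [RingHom.comp_apply, Ideal.Quotient.eq] at hr
    have hrI : algebraMap C L c - algebraMap R L r ∈ I := by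
      rw [← neg_mem_iff, neg_sub, IsScalarTower.algebraMap_apply R C L r, ← map_sub]
      have h := Ideal.mem_map_of_mem (algebraMap C L) hr
      rw [Ideal.map_map] at h
      rw [← hImap, IsScalarTower.algebraMap_eq R C L]
      exact h
    have hsmul : ∀ z ∈ I, cD k' L z ∈ LinearMap.range Ψ ⊔ I • ⊤ := fun z hz => by
      induction hz using Submodule.span_induction with
      | mem z hz =>
        obtain ⟨a, -, rfl⟩ := hz
        exact Submodule.mem_sup_left ⟨_, hΨ a⟩
      | zero => simp
      | add x y _ _ hx hy => rw [map_add]; exact add_mem hx hy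
      | smul x z hz' hz =>
        rw [smul_eq_mul, Derivation.leibniz]
        exact add_mem (Submodule.smul_mem _ _ hz) (Submodule.mem_sup_right (Submodule.smul_mem_smul hz' trivial))
    have hR : ∀ x : R, cD k' L (algebraMap R L x) ∈ LinearMap.range Ψ := fun x => by
      induction x using TensorProduct.induction_on with
      | zero => simp
      | add x y hx hy => rw [map_add, map_add]; exact add_mem hx hy
      | tmul a b =>
        rw [show a ⊗ₜ[k] b = b • algebraMap A R a by
          rw [Algebra.smul_def]; show _ = ((1 : A) ⊗ₜ[k] b) * (a ⊗ₜ[k] (1 : k')); simp,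
          Algebra.smul_def, map_mul, ← IsScalarTower.algebraMap_apply k' R L, ← Algebra.smul_def, Derivation.map_smul,
          ← IsScalarTower.algebraMap_apply A R L, ← algebraMap_smul L b]
        exact Submodule.smul_mem _ _ ⟨_, hΨ a⟩
    rw [SetLike.mem_coe, ← sub_add_cancel (algebraMap C L c) (algebraMap R L r), map_add]
    exact add_mem (hsmul _ hrI) (Submodule.mem_sup_left (hR r))
  refine ⟨hcplL, hres, LinearEquiv.ofBijective Ψ
    ⟨(Function.LeftInverse.injective (g := χ) (LinearMap.congr_fun hinj)), hsurj⟩, hΨ⟩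

end Groth.Agent.CommAlg6
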