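import Groth.Agent.CommAlg6.QuotRegular
import Groth.Agent.CommAlg6.RegularLocus

/-! Lifting `(S_k)`, reducedness, equidimensionality and `(R_k)` from `A/tA` to `A`. -/

universe u

namespace Groth.Agent.CommAlg6

open IsLocalRing

variable {A : Type u} [CommRing A] [IsNoetherianRing A] [IsLocalRing A] {t : A}

theorem hasSk_of_quotient_regular (k : ℕ) (ht : t ∈ maximalIdeal A) (hreg : t ∈ nonZeroDivisors A)
    (hS : _root_.LocCoh.HasSk k (A ⧸ Ideal.span {t}) (A ⧸ Ideal.span {t})) :
    _root_.LocCoh.HasSk k A A := by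
  rw [CAlgH3.hasSk_self_iff] at hS ⊢
  intro p hp
  -- the bound at a prime containing `t`
  have key : ∀ q : Ideal A, q.IsPrime → t ∈ q → ∀ [q.IsPrime],
      ∃ D d : ℕ∞, q.height = D + 1 ∧
        _root_.LocCoh.depth (Localization.AtPrime q) (Localization.AtPrime q) = d + 1 ∧
        min (k : ℕ∞) D ≤ d := by
    intro q _ htq _
    haveI := LocCoh.isPrime_map_mk (p := Ideal.span {t}) (q := q)
      ((Ideal.span_singleton_le_iff_mem _).2 htq)
    obtain ⟨h1, h2, -⟩ := local_quotient_span q htq hreg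
    refine ⟨(q.map (Ideal.Quotient.mk (Ideal.span {t}))).height, _, ?_, h2.symm, ?_⟩
    · rw [← WithBot.coe_inj, WithBot.coe_add,
        ← IsLocalization.AtPrime.ringKrullDim_eq_height q (Localization.AtPrime q),
        ← IsLocalization.AtPrime.ringKrullDim_eq_height (q.map (Ideal.Quotient.mk (Ideal.span {t})))
          (Localization.AtPrime (q.map (Ideal.Quotient.mk (Ideal.span {t}))))]
      exact h1.symm
    · have := hS (q.map (Ideal.Quotient.mk (Ideal.span {t})))
      rw [IsLocalization.AtPrime.ringKrullDim_eq_height (q.map (Ideal.Quotient.mk (Ideal.span {t})))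
        (Localization.AtPrime (q.map (Ideal.Quotient.mk (Ideal.span {t})))),
        ← WithBot.coe_natCast, ← WithBot.coe_min, WithBot.coe_le_coe] at this
      exact this
  rw [IsLocalization.AtPrime.ringKrullDim_eq_height p (Localization.AtPrime p),
    ← WithBot.coe_natCast, ← WithBot.coe_min, WithBot.coe_le_coe]
  by_cases htp : t ∈ p
  · obtain ⟨D, d, hD, hd, hle⟩ := key p hp htp
    rw [hD, hd]
    calc min (k : ℕ∞) (D + 1) ≤ min ((k : ℕ∞) + 1) (D + 1) := min_le_min_right _ le_self_add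
      _ = min (k : ℕ∞) D + 1 := (min_add_add_right _ _ _)
      _ ≤ d + 1 := add_le_add hle le_rfl
  · obtain ⟨q, hq, hpq, htq, hq1⟩ := exists_hq_eq_one p ht htp
    haveI := hq
    obtain ⟨D, d, hD, hd, hle⟩ := key q hq htq
    have h1 := LocCoh.depth_le_depth_add_hq A p q hpq.le
    rw [hq1, CAlgH3.depth_congr (CAlgH3.localizedModuleSelf q),
      CAlgH3.depth_congr (CAlgH3.localizedModuleSelf p), hd,
      ENat.add_le_add_iff_right ENat.one_ne_top] at h1
    have h2 : p.height + 1 ≤ D + 1 :=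
      hD ▸ Ideal.height_add_one_le_of_lt_of_isPrime hpq
    rw [ENat.add_le_add_iff_right ENat.one_ne_top] at h2
    exact (min_le_min_left _ h2).trans (hle.trans h1)

theorem isReduced_of_quotient_regular (ht : t ∈ maximalIdeal A) (hreg : t ∈ nonZeroDivisors A)
    [IsReduced (A ⧸ Ideal.span {t})] : IsReduced A := by
  have hle : nilradical A ≤ Ideal.span {t} • nilradical A := by
    intro x hx
    have hx' : Ideal.Quotient.mk (Ideal.span {t}) x = 0 :=
      IsNilpotent.eq_zero ((mem_nilradical.1 hx).map _)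
    obtain ⟨y, rfl⟩ := Ideal.mem_span_singleton'.1 (Ideal.Quotient.eq_zero_iff_mem.1 hx')
    rw [mul_comm, ← smul_eq_mul]
    refine Submodule.smul_mem_smul (Ideal.mem_span_singleton_self t) ?_
    obtain ⟨n, hn⟩ := mem_nilradical.1 hx
    refine mem_nilradical.2 ⟨n, ?_⟩
    rw [mul_pow] at hn
    exact mem_nonZeroDivisors_iff_right.1 (pow_mem hreg n) _ hn
  have hbot := Submodule.eq_bot_of_le_smul_of_le_jacobson_bot (Ideal.span {t}) (nilradical A)
    (IsNoetherian.noetherian _) hle (by
      rw [IsLocalRing.jacobson_eq_maximalIdeal ⊥ bot_ne_top]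
      exact (Ideal.span_singleton_le_iff_mem _).2 ht)
  exact nilradical_eq_bot_iff.1 hbot

theorem exists_minimal_above (ht : t ∈ maximalIdeal A) (hreg : t ∈ nonZeroDivisors A)
    [IsReduced (A ⧸ Ideal.span {t})] {P : Ideal A} (hP : P ∈ minimalPrimes A) :
    ∃ Q : Ideal A, Q.IsPrime ∧ P < Q ∧ t ∈ Q ∧
      Q.map (Ideal.Quotient.mk (Ideal.span {t})) ∈ minimalPrimes (A ⧸ Ideal.span {t}) := by
  have hass : P ∈ associatedPrimes A A := by
    apply Module.associatedPrimes.minimalPrimes_annihilator_subset_associatedPrimes A A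
    rwa [Module.annihilator_eq_bot.2 (inferInstance : FaithfulSMul A A)]
  obtain ⟨Q, hQ, hPQ, htQ⟩ := exists_associatedPrime_quotient ht hreg hass
  obtain ⟨hQp, x, hx⟩ := isAssociatedPrime_iff.1 hQ
  haveI := hQp
  haveI := hP.1.1
  have hspan : Ideal.span {t} ≤ Q := (Ideal.span_singleton_le_iff_mem _).2 htQ
  haveI := LocCoh.isPrime_map_mk hspan
  have htP : t ∉ P := fun h => Set.disjoint_left.mp
    (Ideal.disjoint_nonZeroDivisors_of_mem_minimalPrimes hP) h hreg
  refine ⟨Q, hQp, lt_of_le_of_ne hPQ fun e => htP (e ▸ htQ), htQ, ?_⟩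
  have hx0 : x ≠ 0 := fun h => hQp.ne_top ((Ideal.eq_top_iff_one _).2 (by
    rw [hx, Submodule.mem_colon_singleton, Submodule.mem_bot, h, smul_zero]))
  obtain ⟨P', hP', hxP'⟩ : ∃ P' ∈ minimalPrimes (A ⧸ Ideal.span {t}), x ∉ P' := by
    by_contra hcon
    push Not at hcon
    have hmem : x ∈ sInf (minimalPrimes (A ⧸ Ideal.span {t})) := Submodule.mem_sInf.2 hcon
    rw [minimalPrimes, Ideal.sInf_minimalPrimes] at hmem
    exact hx0 (by simpa [nilradical_eq_zero] using (show x ∈ nilradical (A ⧸ Ideal.span {t}) from hmem))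
  haveI := hP'.1.1
  have hle : Q.map (Ideal.Quotient.mk (Ideal.span {t})) ≤ P' := by
    rw [Ideal.map_le_iff_le_comap]
    intro a ha
    rw [hx, Submodule.mem_colon_singleton, Submodule.mem_bot, Algebra.smul_def] at ha
    exact (hP'.1.1.mem_or_mem (show Ideal.Quotient.mk _ a * x ∈ P' by
      rw [show Ideal.Quotient.mk _ a * x = 0 from ha]; exact P'.zero_mem)).resolve_right hxP'
  have := hP'.2 ⟨inferInstance, bot_le⟩ hle
  rwa [le_antisymm hle this]

theorem isEquidim_of_quotient_regular (ht : t ∈ maximalIdeal A) (hreg : t ∈ nonZeroDivisors A)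
    [IsReduced (A ⧸ Ideal.span {t})] (heq : EGA4.IsEquidim (A ⧸ Ideal.span {t})) :
    EGA4.IsEquidim A := by
  intro P hP
  haveI := hP.1.1
  obtain ⟨Q, hQp, hPQ, htQ, hmin⟩ := exists_minimal_above ht hreg hP
  haveI := hQp
  refine le_antisymm (ringKrullDim_quotient_le P) ?_
  have hreg' : IsSMulRegular A t := fun a b hab =>
    (mul_cancel_left_mem_nonZeroDivisors hreg).1 hab
  rw [← ringKrullDim_quotient_span_singleton_succ_eq_ringKrullDim hreg' ht, ← heq _ hmin,
    ringKrullDim_eq_of_ringEquiv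
      (DoubleQuot.quotQuotEquivQuotOfLE ((Ideal.span_singleton_le_iff_mem _).2 htQ))]
  exact CAlgH3.ringKrullDim_quotient_add_one_le hPQ

theorem hasRk_of_quotient_regular (k : ℕ) (hcat : CAlg.IsCatenary A) (he : EGA4.IsEquidim A)
    (ht : t ∈ maximalIdeal A) (hreg : t ∈ nonZeroDivisors A)
    (hR : _root_.LocCoh.HasRk k (A ⧸ Ideal.span {t})) : _root_.LocCoh.HasRk k A := by
  intro p hp hpk
  have key : ∀ q : Ideal A, q.IsPrime → t ∈ q → q.height ≤ (k : ℕ∞) + 1 → ∀ [q.IsPrime],
      IsRegularLocalRing (Localization.AtPrime q) := by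
    intro q _ htq hq _
    haveI := LocCoh.isPrime_map_mk (p := Ideal.span {t}) (q := q)
      ((Ideal.span_singleton_le_iff_mem _).2 htq)
    obtain ⟨h1, -, h3⟩ := local_quotient_span q htq hreg
    refine h3 (hR _ ?_)
    rw [IsLocalization.AtPrime.ringKrullDim_eq_height q (Localization.AtPrime q),
      IsLocalization.AtPrime.ringKrullDim_eq_height (q.map (Ideal.Quotient.mk (Ideal.span {t})))
        (Localization.AtPrime (q.map (Ideal.Quotient.mk (Ideal.span {t})))),
      ← WithBot.coe_one, ← WithBot.coe_add, WithBot.coe_inj] at h1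
    rw [← ENat.add_le_add_iff_right ENat.one_ne_top, h1]
    exact hq
  by_cases htp : t ∈ p
  · exact key p hp htp (hpk.trans le_self_add)
  · obtain ⟨q, hq, hpq, htq, hq1⟩ := exists_hq_eq_one p ht htp
    haveI := hq
    have hh := height_add_hq_eq hcat he hpq.le
    rw [hq1] at hh
    have := key q hq htq (by rw [← hh]; exact add_le_add hpk le_rfl)
    exact regLocus_stableUnderGeneralization
      ((PrimeSpectrum.le_iff_specializes ⟨p, hp⟩ ⟨q, hq⟩).1 hpq.le) this

end Groth.Agent.CommAlg6
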