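import Mathlib.AlgebraicGeometry.Noetherian
import Mathlib.Topology.KrullDimension
import Mathlib.Topology.Constructible
import Mathlib.Topology.LocallyClosed
import Mathlib.RingTheory.Ideal.KrullsHeightTheorem

/-! Points whose singleton is locally closed. -/

universe u

open AlgebraicGeometry Topology TopologicalSpace

namespace Groth.Agent.CommAlg6

theorem isMaximal_of_isLocallyClosed_singleton {R : Type u} [CommRing R] [IsNoetherianRing R]
    {p q : PrimeSpectrum R} (hp : IsLocallyClosed ({p} : Set (PrimeSpectrum R))) (hpq : p < q) :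
    q.asIdeal.IsMaximal := by
  classical
  obtain ⟨U, Z, hU, hZ, hUZ⟩ := hp
  have hp' : p ∈ U ∩ Z := hUZ ▸ rfl
  obtain ⟨_, ⟨f, rfl⟩, hpf, hfU⟩ :=
    PrimeSpectrum.isTopologicalBasis_basic_opens.mem_nhds_iff.1 (hU.mem_nhds hp'.1)
  have hf : f ∉ p.asIdeal := by simpa using hpf
  have hall : ∀ q' : PrimeSpectrum R, p < q' → f ∈ q'.asIdeal := by
    intro q' hq'
    by_contra hcon
    have h1 : q' ∈ Z := ((PrimeSpectrum.le_iff_specializes p q').1 hq'.le).mem_closed hZ hp'.2
    have h2 : q' ∈ U := hfU (by simpa using hcon)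
    have : q' = p := by
      have : q' ∈ ({p} : Set (PrimeSpectrum R)) := hUZ ▸ ⟨h2, h1⟩
      exact this
    exact hq'.ne this.symm
  by_contra hmax
  obtain ⟨M, hM, hqM⟩ := q.asIdeal.exists_le_maximal q.isPrime.ne_top
  have hqM' : q.asIdeal < M := lt_of_le_of_ne hqM (fun h => hmax (h ▸ hM))
  set T := (p.asIdeal ⊔ Ideal.span {f}).minimalPrimes
  have hT : T.Finite := Ideal.finite_minimalPrimes_of_isNoetherianRing R _
  have hnot : ∀ t ∈ T, ¬ M ≤ t := by
    intro t ht hMt
    haveI := ht.1.1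
    have hle : p.asIdeal ⊔ Ideal.span {f} ≤ q.asIdeal :=
      sup_le hpq.le ((Ideal.span_singleton_le_iff_mem _).2 (hall q hpq))
    exact hqM'.not_ge (hMt.trans (ht.2 ⟨q.isPrime, hle⟩ (hqM.trans hMt)))
  obtain ⟨g, hgM, hg⟩ : ∃ g ∈ M, ∀ t ∈ T, g ∉ t := by
    by_contra hcon
    push Not at hcon
    have hsub : (M : Set R) ⊆ ⋃ t ∈ (hT.toFinset : Set (Ideal R)), (id t : Ideal R) := by
      intro y hy
      obtain ⟨t, ht, hyt⟩ := hcon y hy
      exact Set.mem_biUnion (by simpa using ht) hyt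
    obtain ⟨t, ht, hle⟩ := (M.subset_union_prime (s := hT.toFinset) (f := id) ⊥ ⊥
      (fun t ht _ _ => (hT.mem_toFinset.1 ht).1.1)).1 hsub
    exact hnot t (hT.mem_toFinset.1 ht) hle
  haveI : IsDomain (R ⧸ p.asIdeal) := inferInstance
  let mk := Ideal.Quotient.mk p.asIdeal
  have hgp : g ∉ p.asIdeal := by
    intro hgp
    obtain ⟨t, ht, -⟩ := Ideal.exists_minimalPrimes_le (I := p.asIdeal ⊔ Ideal.span {f}) (J := q.asIdeal)
      (sup_le hpq.le ((Ideal.span_singleton_le_iff_mem _).2 (hall q hpq)))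
    exact hg t ht (ht.1.2 (Ideal.mem_sup_left hgp))
  have hker : ∀ J : Ideal R, p.asIdeal ≤ J → (J.map mk).comap mk = J := by
    intro J hJ
    rw [Ideal.comap_map_of_surjective _ Ideal.Quotient.mk_surjective, sup_eq_left]
    intro x hx
    exact hJ (Ideal.Quotient.eq_zero_iff_mem.1 hx)
  have hgtop : p.asIdeal ⊔ Ideal.span {g} ≤ M :=
    sup_le ((show p.asIdeal ≤ q.asIdeal from hpq.le).trans hqM) ((Ideal.span_singleton_le_iff_mem _).2 hgM)
  obtain ⟨Q, hQ, hQM⟩ := Ideal.exists_minimalPrimes_le hgtop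
  haveI : Q.IsPrime := hQ.1.1
  have hpQ : p.asIdeal ≤ Q := le_sup_left.trans hQ.1.2
  have hgQ : g ∈ Q := hQ.1.2 (Ideal.mem_sup_right (Ideal.mem_span_singleton_self g))
  have hpQ' : p < (⟨Q, inferInstance⟩ : PrimeSpectrum R) :=
    lt_of_le_of_ne hpQ (fun h => hgp (show g ∈ p.asIdeal by rw [h]; exact hgQ))
  obtain ⟨t, ht, htQ⟩ := Ideal.exists_minimalPrimes_le (I := p.asIdeal ⊔ Ideal.span {f}) (J := Q)
    (sup_le hpQ ((Ideal.span_singleton_le_iff_mem _).2 (hall ⟨Q, inferInstance⟩ hpQ')))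
  haveI : t.IsPrime := ht.1.1
  have hpt : p.asIdeal ≤ t := le_sup_left.trans ht.1.2
  refine hg t ht ?_
  suffices hQt : Q ≤ t from hQt hgQ
  have hQm : Q.map mk ∈ (Ideal.span {mk g}).minimalPrimes := by
    haveI : (Q.map mk).IsPrime :=
      Ideal.map_isPrime_of_surjective Ideal.Quotient.mk_surjective (by rwa [Ideal.mk_ker])
    refine ⟨⟨inferInstance, (Ideal.span_singleton_le_iff_mem _).2 (Ideal.mem_map_of_mem _ hgQ)⟩, ?_⟩
    rintro P ⟨hP, hgP⟩ hPQ
    haveI := hP
    have h1 : p.asIdeal ⊔ Ideal.span {g} ≤ P.comap mk :=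
      sup_le (fun x hx => by simp [mk, Ideal.Quotient.eq_zero_iff_mem.2 hx])
        ((Ideal.span_singleton_le_iff_mem _).2 (hgP (Ideal.mem_span_singleton_self _)))
    have h2 : P.comap mk ≤ Q := by rw [← hker Q hpQ]; exact Ideal.comap_mono hPQ
    have := hQ.2 ⟨inferInstance, h1⟩ h2
    rw [← Ideal.map_comap_of_surjective mk Ideal.Quotient.mk_surjective P]
    exact Ideal.map_mono this
  haveI : (Q.map mk).IsPrime := hQm.1.1
  have h1 : (Q.map mk).height ≤ 1 :=
    Ideal.height_le_one_of_isPrincipal_of_mem_minimalPrimes (Ideal.span {mk g}) _ hQm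
  by_contra hQt
  haveI : (t.map mk).IsPrime :=
    Ideal.map_isPrime_of_surjective Ideal.Quotient.mk_surjective (by rwa [Ideal.mk_ker])
  have hlt : t.map mk < Q.map mk := lt_of_le_of_ne (Ideal.map_mono htQ) fun h =>
    hQt (by rw [← hker Q hpQ, ← h, hker t hpt])
  have hlt0 : (⊥ : Ideal (R ⧸ p.asIdeal)) < t.map mk := by
    refine bot_lt_iff_ne_bot.2 fun h => hf ?_
    have hft : mk f ∈ t.map mk :=
      Ideal.mem_map_of_mem _ (ht.1.2 (Ideal.mem_sup_right (Ideal.mem_span_singleton_self f)))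
    rw [h, Ideal.mem_bot] at hft
    exact Ideal.Quotient.eq_zero_iff_mem.1 hft
  haveI : (⊥ : Ideal (R ⧸ p.asIdeal)).IsPrime := Ideal.isPrime_bot
  haveI : (t.map mk).FiniteHeight := Ideal.finiteHeight_of_le (Ideal.map_mono htQ) (Ideal.IsPrime.ne_top ‹_›)
  have h2 := Ideal.height_strict_mono_of_isPrime hlt
  have h3 := Ideal.height_strict_mono_of_isPrime hlt0
  have h4 : (1 : ℕ∞) ≤ (t.map mk).height := Order.one_le_iff_pos.2 (lt_of_le_of_lt bot_le h3)
  exact absurd (lt_of_le_of_lt h4 h2) (not_lt.2 h1)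

theorem exists_isOpenEmbedding_mem_range {X : Scheme.{u}} (x : X) :
    ∃ (R : Type u) (_ : CommRing R) (j : PrimeSpectrum R → X),
      IsOpenEmbedding j ∧ x ∈ Set.range j ∧ (IsLocallyNoetherian X → IsNoetherianRing R) := by
  obtain ⟨U, hU, hxU, -⟩ := exists_isAffineOpen_mem_and_subset (x := x) (U := ⊤) trivial
  refine ⟨Γ(X, U), inferInstance, fun p => hU.fromSpec.base p, hU.fromSpec.isOpenEmbedding, ?_, ?_⟩
  · have := hU.range_fromSpec
    rw [← SetLike.mem_coe, ← this] at hxU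
    exact hxU
  · intro h
    exact h.component_noetherian ⟨U, hU⟩

theorem isClosed_of_mem_closure {X : Scheme.{u}} [IsLocallyNoetherian X] {x y : X}
    (hx : IsLocallyClosed ({x} : Set X)) (hy : y ∈ closure ({x} : Set X)) (hne : y ≠ x) :
    IsClosed ({y} : Set X) := by
  refine closure_subset_iff_isClosed.1 fun y' hy' => ?_
  obtain ⟨R, _, j, hj, ⟨q', rfl⟩, hN⟩ := exists_isOpenEmbedding_mem_range (X := X) y'
  haveI := hN inferInstance
  have hyy' : y ⤳ j q' := specializes_iff_mem_closure.2 hy'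
  have hxy : x ⤳ y := specializes_iff_mem_closure.2 hy
  obtain ⟨q, rfl⟩ := hyy'.mem_open hj.isOpen_range ⟨q', rfl⟩
  obtain ⟨p, rfl⟩ := hxy.mem_open hj.isOpen_range ⟨q, rfl⟩
  rw [hj.isInducing.specializes_iff, ← PrimeSpectrum.le_iff_specializes] at hxy hyy'
  have hp : IsLocallyClosed ({p} : Set (PrimeSpectrum R)) := by
    have := hx.preimage hj.continuous
    rwa [show j ⁻¹' {j p} = {p} by ext; simp [hj.injective.eq_iff]] at this
  have hlt : p < q := lt_of_le_of_ne hxy fun h => hne (by rw [h])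
  have hmax := isMaximal_of_isLocallyClosed_singleton hp hlt
  have : q = q' := PrimeSpectrum.ext (hmax.eq_of_le q'.isPrime.ne_top hyy')
  simp [this]

theorem exists_isLocallyClosed_singleton_of_isConstructible {R : Type u} [CommRing R]
    {s : Set (PrimeSpectrum R)} (hs : IsConstructible s) :
    s.Nonempty → ∃ x ∈ s, IsLocallyClosed ({x} : Set (PrimeSpectrum R)) := by
  induction s, hs using IsConstructible.induction_of_isTopologicalBasis
      (fun f : R => (PrimeSpectrum.basicOpen f : Set (PrimeSpectrum R))) PrimeSpectrum.isTopologicalBasis_basic_opens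
      PrimeSpectrum.isCompact_basicOpen with
  | sdiff i s hs =>
    intro hne
    set W := (⋃ j ∈ s, (PrimeSpectrum.basicOpen j : Set (PrimeSpectrum R)))
    have hW : IsOpen W := isOpen_biUnion fun j _ => (PrimeSpectrum.basicOpen j).2
    set C := (PrimeSpectrum.basicOpen i : Set (PrimeSpectrum R)) \ W with hC
    have hcompact : IsCompact C := (PrimeSpectrum.isCompact_basicOpen i).diff hW
    haveI : CompactSpace C := isCompact_iff_compactSpace.1 hcompact
    haveI : Nonempty C := hne.to_subtype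
    obtain ⟨x, -, hx⟩ := isClosed_univ.exists_closed_singleton (S := (Set.univ : Set C)) Set.univ_nonempty
    refine ⟨x, x.2, ?_⟩
    have hlc : IsLocallyClosed C := ⟨_, Wᶜ, (PrimeSpectrum.basicOpen i).2, hW.isClosed_compl, rfl⟩
    have := hx.isLocallyClosed.image Topology.IsInducing.subtypeVal (by rw [Subtype.range_coe]; exact hlc)
    simpa using this
  | union s hs t ht h1 h2 =>
    rintro ⟨x, hx | hx⟩
    · obtain ⟨y, hy, h⟩ := h1 ⟨x, hx⟩
      exact ⟨y, Or.inl hy, h⟩
    · obtain ⟨y, hy, h⟩ := h2 ⟨x, hx⟩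
      exact ⟨y, Or.inr hy, h⟩

theorem exists_isLocallyClosed_singleton {X : Scheme.{u}} {E : Set X}
    (hE : IsLocallyConstructible E) (hne : E.Nonempty) :
    ∃ x ∈ E, IsLocallyClosed ({x} : Set X) := by
  obtain ⟨x, hx⟩ := hne
  obtain ⟨R, _, j, hj, ⟨p, rfl⟩, -⟩ := exists_isOpenEmbedding_mem_range (X := X) x
  obtain ⟨y, hy, hyl⟩ := exists_isLocallyClosed_singleton_of_isConstructible
    (hE.preimage_of_isOpenEmbedding hj).isConstructible ⟨p, hx⟩
  refine ⟨j y, hy, ?_⟩
  simpa using hyl.image hj.isInducing hj.isOpen_range.isLocallyClosed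

theorem exists_isClosed_singleton_mem {X : Scheme.{u}} [IsLocallyNoetherian X] {Z : Set X}
    (hZ : IsClosed Z) (hne : Z.Nonempty) : ∃ x ∈ Z, IsClosed ({x} : Set X) := by
  obtain ⟨z, hz⟩ := hne
  obtain ⟨R, _, j, hj, ⟨p, rfl⟩, -⟩ := exists_isOpenEmbedding_mem_range (X := X) z
  obtain ⟨y, hy, hyc⟩ := (hZ.preimage hj.continuous).exists_closed_singleton ⟨p, hz⟩
  have hlc : IsLocallyClosed ({j y} : Set X) := by
    simpa using hyc.isLocallyClosed.image hj.isInducing hj.isOpen_range.isLocallyClosed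
  by_cases hc : IsClosed ({j y} : Set X)
  · exact ⟨_, hy, hc⟩
  · obtain ⟨w, hw, hwne⟩ : ∃ w ∈ closure ({j y} : Set X), w ≠ j y := by
      by_contra hcon
      push Not at hcon
      exact hc (closure_subset_iff_isClosed.1 fun w hw => hcon w hw)
    exact ⟨w, hZ.closure_subset_iff.2 (Set.singleton_subset_iff.2 hy) hw, isClosed_of_mem_closure hlc hw hwne⟩

theorem topologicalKrullDim_closure_le_one {X : Scheme.{u}} [IsLocallyNoetherian X] {x : X}
    (hx : IsLocallyClosed ({x} : Set X)) :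
    topologicalKrullDim (closure ({x} : Set X)) ≤ 1 := by
  haveI : QuasiSober (closure ({x} : Set X)) := isClosed_closure.isClosedEmbedding_subtypeVal.quasiSober
  refine Order.krullDim_le_one_iff.2 fun Z => ?_
  obtain ⟨z, hz⟩ := QuasiSober.sober Z.isIrreducible Z.isClosed
  by_cases hzx : (z : X) = x
  · right
    intro Z' _ w _
    change w ∈ (Z : Set (closure ({x} : Set X)))
    rw [← hz.def]
    rw [← specializes_iff_mem_closure, subtype_specializes_iff, hzx]
    exact specializes_iff_mem_closure.2 w.2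
  · left
    intro Z' hle w hw
    have hcl := isClosed_of_mem_closure hx z.2 hzx
    obtain ⟨v, hv⟩ := Z'.isIrreducible.nonempty
    have key : ∀ u, u ∈ (Z : Set (closure ({x} : Set X))) → u = z := by
      intro u hu
      rw [← hz.def, ← specializes_iff_mem_closure, subtype_specializes_iff] at hu
      exact Subtype.ext (hu.mem_closed hcl rfl)
    change w ∈ (Z' : Set (closure ({x} : Set X)))
    rw [key w hw, ← key v (hle hv)]
    exact hv

end Groth.Agent.CommAlg6
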