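import Groth.Agent.CommAlg6.InsepModel
import Groth.Agent.CAlgH.CompleteLocal
import Groth.Agent.CAlgH.NagataComplete
import Groth.Agent.CAlgH.PFamily
import Groth.Agent.S2617
import Groth.Agent.CAlgH3.RegularHom

/-! Complete Noetherian local rings are J-2. -/

set_option autoImplicit false
set_option linter.style.haveILetI false

universe u

open IsLocalRing

namespace Groth.Agent.CommAlg6

theorem goodFamily_series (p : ℕ) (hp : p.Prime) (n : ℕ) (Λ : Type u) [CommRing Λ] [IsDomain Λ]
    (hΛ : IsField Λ ∨ CAlg.IsCohenRing Λ) [CharP (MvPowerSeries (Fin n) Λ) p] :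
    Groth.Agent.CAlgH.GoodFamily p (MvPowerSeries (Fin n) Λ) := by
  haveI : Fact p.Prime := ⟨hp⟩
  have hinj : Function.Injective (MvPowerSeries.C (σ := Fin n) (R := Λ)) := fun a b h => by
    simpa using congrArg (MvPowerSeries.coeff 0) h
  haveI hpΛ : CharP Λ p := (RingHom.charP_iff _ hinj p).2 inferInstance
  rcases hΛ with hF | hC
  · letI := hF.toField
    exact Groth.Agent.CAlgH.goodFamily_mvPowerSeries p (Groth.Agent.CAlgH.goodFamily_field p Λ)
  · obtain ⟨_, _, _, q, hq, hm⟩ := hC
    exfalso
    have hp0 : ((p : ℕ) : Λ) = 0 := CharP.cast_eq_zero Λ p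
    have hqm : (q : Λ) ∈ maximalIdeal Λ := hm ▸ Ideal.mem_span_singleton_self _
    rcases eq_or_ne p q with rfl | hne
    · rw [hp0, Ideal.span_singleton_eq_bot.2 rfl] at hm
      exact IsDiscreteValuationRing.not_a_field Λ hm
    · obtain ⟨a, b, hab⟩ := ((Nat.coprime_primes hp hq).2 hne).cast (R := Λ)
      exact (maximalIdeal.isMaximal Λ).ne_top ((Ideal.eq_top_iff_one _).2
        (hab ▸ Ideal.add_mem _ (hp0 ▸ Ideal.mul_mem_left _ a (Ideal.zero_mem _))
          (Ideal.mul_mem_left _ b hqm)))

/-- A domain finite over a complete Noetherian local ring is regular near its generic point. -/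
theorem regGeneric_of_finite_complete (A : Type u) [CommRing A] [IsNoetherianRing A] [IsLocalRing A]
    [IsAdicComplete (maximalIdeal A) A] (A' : Type u) [CommRing A'] [IsDomain A'] [Algebra A A']
    [Module.Finite A A'] : RegGeneric A' := by
  let P := RingHom.ker (algebraMap A A')
  haveI : P.IsPrime := RingHom.ker_isPrime _
  let A0 := A ⧸ P
  haveI : IsLocalRing A0 := IsLocalRing.of_surjective' (Ideal.Quotient.mk P) Ideal.Quotient.mk_surjective
  haveI : IsAdicComplete (maximalIdeal A0) A0 := Groth.Agent.CAlgH.isAdicComplete_quotient P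
  obtain ⟨Λ, _, n, f, hreg, hΛ, hinj, hfin, -⟩ :=
    Groth.Agent.CAlgH.exists_finite_injective_mvPowerSeries A0
  haveI := Groth.Agent.CAlgH3.isDomain_of_isRegularLocalRing Λ
  haveI := (Groth.Agent.CAlgH.isRegularLocalRing_mvPowerSeries Λ n).1
  haveI := Groth.Agent.CAlgH3.isDomain_of_isRegularLocalRing (MvPowerSeries (Fin n) Λ)
  haveI : IsRegularRing (MvPowerSeries (Fin n) Λ) := Groth.Agent.CAlgH3.isRegularRing_of_isRegularLocalRing
  let g : A0 →+* A' := RingHom.kerLift (algebraMap A A')
  have hg : g.Finite := by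
    refine RingHom.Finite.of_comp_finite (f := Ideal.Quotient.mk P) ?_
    rw [show g.comp (Ideal.Quotient.mk P) = algebraMap A A' from RingHom.ext fun _ => rfl]
    exact RingHom.finite_algebraMap.2 inferInstance
  letI : Algebra (MvPowerSeries (Fin n) Λ) A' := (g.comp f).toAlgebra
  haveI : Module.Finite (MvPowerSeries (Fin n) Λ) A' := hg.comp hfin
  exact regGeneric_of_finite (MvPowerSeries (Fin n) Λ) A'
    ((RingHom.kerLift_injective _).comp hinj) fun p hp _ => goodFamily_series p hp n Λ hΛ

/-- Complete Noetherian local rings are J-2. -/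
theorem isJ2_of_complete_local (A : Type u) [CommRing A] [IsNoetherianRing A] [IsLocalRing A]
    [IsAdicComplete (maximalIdeal A) A] : EGA4.IsJ2 A :=
  (Groth.Agent.S2617.result A).2 fun A' _ _ _ hfin => by
    haveI := hfin
    exact regGeneric_of_finite_complete A A'

end Groth.Agent.CommAlg6
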