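import Groth.Agent.CommAlg6.CTensorBasic
import Groth.Agent.CAlgH.PowerSeriesEval
import Groth.Agent.CAlgH3.CompleteHom
import Mathlib.RingTheory.Kaehler.Basic
import Mathlib.RingTheory.AdicCompletion.Completeness
import Mathlib.RingTheory.LocalRing.Module
import Mathlib.RingTheory.MvPowerSeries.Derivative

/-! The completed module of differentials of a complete local algebra over a field. -/

set_option autoImplicit false
set_option linter.style.haveILetI false

universe u

open IsLocalRing TensorProduct

namespace Groth.Agent.CommAlg6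

/-- The completion of the module of differentials. -/
abbrev CKaehler (k A : Type u) [CommRing k] [CommRing A] [IsLocalRing A] [Algebra k A] : Type u :=
  AdicCompletion (maximalIdeal A) (KaehlerDifferential k A)

/-- The differential into the completion. -/
noncomputable def cD (k A : Type u) [CommRing k] [CommRing A] [IsLocalRing A] [Algebra k A] :
    Derivation k A (CKaehler k A) :=
  (AdicCompletion.of (maximalIdeal A) (KaehlerDifferential k A)).compDer (KaehlerDifferential.D k A)

theorem cD_apply (k A : Type u) [CommRing k] [CommRing A] [IsLocalRing A] [Algebra k A] (a : A) :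
    cD k A a = AdicCompletion.of (maximalIdeal A) (KaehlerDifferential k A) (KaehlerDifferential.D k A a) :=
  rfl

section

variable (k A : Type u) [Field k] [CommRing A] [IsLocalRing A] [IsNoetherianRing A] [Algebra k A]
  [Module.Finite k (ResidueField A)]

/-- The differentials are generated modulo the maximal ideal by finitely many exact ones. -/
theorem exists_finset_sup_smul_eq_top :
    ∃ s : Finset A, Submodule.span A (KaehlerDifferential.D k A '' (s : Set A)) ⊔
      maximalIdeal A • (⊤ : Submodule A (KaehlerDifferential k A)) = ⊤ := by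
  classical
  haveI := finite_quotient_pow_maximalIdeal (k := k) (A := A) 2
  obtain ⟨n, v, hv⟩ := Module.Finite.exists_fin (R := k) (M := A ⧸ maximalIdeal A ^ 2)
  choose w hw using fun i => Ideal.Quotient.mk_surjective (v i)
  refine ⟨Finset.univ.image w, eq_top_iff.2 ((KaehlerDifferential.span_range_derivation k A).ge.trans (Submodule.span_le.2 ?_))⟩
  rintro _ ⟨a, rfl⟩
  have ha : Ideal.Quotient.mk (maximalIdeal A ^ 2) a ∈ Submodule.span k (Set.range v) := hv ▸ Submodule.mem_top
  obtain ⟨c, hc⟩ := (Submodule.mem_span_range_iff_exists_fun k).1 ha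
  have hz : a - ∑ i, c i • w i ∈ maximalIdeal A ^ 2 := by
    rw [← Ideal.Quotient.eq, ← hc, map_sum]
    refine Finset.sum_congr rfl fun i _ => ?_
    rw [Algebra.smul_def, Algebra.smul_def, map_mul, hw]
    rfl
  have hsq : ∀ z ∈ maximalIdeal A ^ 2, KaehlerDifferential.D k A z ∈
      maximalIdeal A • (⊤ : Submodule A (KaehlerDifferential k A)) := fun z hz => by
    rw [pow_two] at hz
    refine Submodule.mul_induction_on hz (fun x hx y hy => ?_) fun x y hx hy => ?_
    · rw [Derivation.leibniz]
      exact add_mem (Submodule.smul_mem_smul hx trivial) (Submodule.smul_mem_smul hy trivial)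
    · rw [map_add]; exact add_mem hx hy
  rw [SetLike.mem_coe, show a = ∑ i, c i • w i + (a - ∑ i, c i • w i) by abel, map_add, map_sum]
  refine Submodule.add_mem_sup (Submodule.sum_mem _ fun i _ => ?_) (hsq _ hz)
  rw [Derivation.map_smul, ← algebraMap_smul A (c i)]
  exact Submodule.smul_mem _ _ (Submodule.subset_span ⟨w i, by simp, rfl⟩)

variable [IsAdicComplete (maximalIdeal A) A]

omit [Module.Finite k (ResidueField A)] in
theorem isAdicComplete_cKaehler : IsAdicComplete (maximalIdeal A) (CKaehler k A) :=
  AdicCompletion.isAdicComplete (IsNoetherian.noetherian (maximalIdeal A))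

theorem exists_finset_cD_sup_smul_eq_top :
    ∃ s : Finset A, Submodule.span A (cD k A '' (s : Set A)) ⊔
      maximalIdeal A • (⊤ : Submodule A (CKaehler k A)) = ⊤ := by
  obtain ⟨s, hs⟩ := exists_finset_sup_smul_eq_top k A
  refine ⟨s, eq_top_iff.2 fun x _ => ?_⟩
  obtain ⟨y, hy⟩ := AdicCompletion.eval_surjective (maximalIdeal A) (KaehlerDifferential k A) 1
    (AdicCompletion.eval (maximalIdeal A) (KaehlerDifferential k A) 1 x)
  obtain ⟨w, hw⟩ := Submodule.Quotient.mk_surjective _
    (AdicCompletion.eval (maximalIdeal A) (KaehlerDifferential k A) 1 x)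
  have hdiff : x - AdicCompletion.of (maximalIdeal A) (KaehlerDifferential k A) w ∈
      maximalIdeal A ^ 1 • (⊤ : Submodule A (CKaehler k A)) := by
    rw [AdicCompletion.pow_smul_top_eq_ker_eval (IsNoetherian.noetherian (maximalIdeal A)), LinearMap.mem_ker,
      map_sub, AdicCompletion.eval_of, ← hw, Submodule.mkQ_apply, sub_self]
  rw [pow_one] at hdiff
  have hof : AdicCompletion.of (maximalIdeal A) (KaehlerDifferential k A) w ∈
      Submodule.span A (cD k A '' (s : Set A)) ⊔ maximalIdeal A • (⊤ : Submodule A (CKaehler k A)) := by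
    have h1 : AdicCompletion.of (maximalIdeal A) (KaehlerDifferential k A) w ∈
        (Submodule.span A (KaehlerDifferential.D k A '' (s : Set A)) ⊔
          maximalIdeal A • ⊤).map (AdicCompletion.of (maximalIdeal A) (KaehlerDifferential k A)) :=
      Submodule.mem_map_of_mem (hs.ge Submodule.mem_top)
    rw [Submodule.map_sup, Submodule.map_span, ← Set.image_comp, Submodule.map_smul''] at h1
    exact SetLike.le_def.1 (sup_le_sup_left (Submodule.smul_mono le_rfl le_top) _) h1
  rw [← sub_add_cancel x (AdicCompletion.of (maximalIdeal A) (KaehlerDifferential k A) w)]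
  exact add_mem (Submodule.mem_sup_right hdiff) hof

theorem finite_cKaehler : Module.Finite A (CKaehler k A) := by
  obtain ⟨s, hs⟩ := exists_finset_cD_sup_smul_eq_top k A
  haveI := isAdicComplete_cKaehler k A
  refine AdicRing.finite_of_finite_quotient (I := maximalIdeal A) (CKaehler k A) ?_
  classical
  refine ⟨⟨(s.image fun a => Submodule.mkQ _ (cD k A a)), eq_top_iff.2 fun y _ => ?_⟩⟩
  obtain ⟨x, rfl⟩ := Submodule.mkQ_surjective _ y
  obtain ⟨a, ha, b, hb, rfl⟩ := Submodule.mem_sup.1 (hs.ge (Submodule.mem_top (x := x)))
  rw [map_add, show Submodule.mkQ _ b = 0 from (Submodule.Quotient.mk_eq_zero _).2 hb, add_zero, Finset.coe_image,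
    ← Function.comp_def (Submodule.mkQ _) (cD k A), Set.image_comp, ← Submodule.map_span]
  exact Submodule.mem_map_of_mem ha

/-- The completed differentials are generated by exact ones. -/
theorem span_range_cD : Submodule.span A (Set.range (cD k A)) = ⊤ := by
  obtain ⟨s, hs⟩ := exists_finset_cD_sup_smul_eq_top k A
  haveI := finite_cKaehler k A
  refine eq_top_iff.2 (Submodule.le_of_le_smul_of_le_jacobson_bot (I := maximalIdeal A) Module.Finite.fg_top
    (IsLocalRing.maximalIdeal_le_jacobson _) ?_)
  exact hs.ge.trans (sup_le_sup (Submodule.span_mono (Set.image_subset_range _ _)) le_rfl)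

theorem cKaehler_hom_ext {N : Type*} [AddCommGroup N] [Module A N] {f g : CKaehler k A →ₗ[A] N}
    (h : ∀ a, f (cD k A a) = g (cD k A a)) : f = g :=
  LinearMap.ext_on_range (span_range_cD k A) h

omit [Module.Finite k (ResidueField A)] in
/-- A derivation into a finite module factors through the completed differentials. -/
theorem exists_cKaehler_lift {N : Type u} [AddCommGroup N] [Module k N] [Module A N] [IsScalarTower k A N]
    [Module.Finite A N] (δ : Derivation k A N) :
    ∃ ψ : CKaehler k A →ₗ[A] N, ∀ a, ψ (cD k A a) = δ a := by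
  haveI := AdicRing.isAdicComplete_of_finite (maximalIdeal A) N
  refine ⟨(AdicCompletion.ofLinearEquiv (maximalIdeal A) N).symm.toLinearMap.comp
    ((AdicCompletion.map (maximalIdeal A) δ.liftKaehlerDifferential).restrictScalars A), fun a => ?_⟩
  show (AdicCompletion.ofLinearEquiv (maximalIdeal A) N).symm
    (AdicCompletion.map (maximalIdeal A) δ.liftKaehlerDifferential (cD k A a)) = δ a
  rw [cD_apply, AdicCompletion.map_of, AdicCompletion.ofLinearEquiv_symm_of,
    Derivation.liftKaehlerDifferential_comp_D]

end

/-- A derivation on power series killing the variables vanishes, if the target is separated. -/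
theorem derivation_eq_zero_mvPowerSeries {k N : Type u} [Field k] {d : ℕ} [AddCommGroup N] [Module k N]
    [Module (MvPowerSeries (Fin d) k) N] [IsScalarTower k (MvPowerSeries (Fin d) k) N]
    [IsHausdorff (maximalIdeal (MvPowerSeries (Fin d) k)) N]
    (δ : Derivation k (MvPowerSeries (Fin d) k) N) (h : ∀ i, δ (MvPowerSeries.X i) = 0)
    (r : MvPowerSeries (Fin d) k) : δ r = 0 := by
  classical
  let R := MvPowerSeries (Fin d) k
  have key : ∀ (n : ℕ) (r : R), δ r ∈ maximalIdeal R ^ n • (⊤ : Submodule R N) := by
    intro n
    induction n with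
    | zero => intro r; rw [pow_zero, Ideal.one_eq_top, Submodule.top_smul]; trivial
    | succ n ih =>
      intro r
      have h0 : r - MvPowerSeries.C (MvPowerSeries.constantCoeff r) ∈ maximalIdeal R := by
        rw [IsLocalRing.mem_maximalIdeal, mem_nonunits_iff, MvPowerSeries.isUnit_iff_constantCoeff, map_sub,
          MvPowerSeries.constantCoeff_C, sub_self]
        exact not_isUnit_zero
      rw [CAlgH3.maximalIdeal_mvPowerSeries_eq, Ideal.mem_span_range_iff_exists_fun] at h0
      obtain ⟨c, hc⟩ := h0
      rw [show r = MvPowerSeries.C (MvPowerSeries.constantCoeff r) + ∑ i, c i * MvPowerSeries.X i from by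
          rw [hc, add_sub_cancel], map_add, show δ (MvPowerSeries.C (MvPowerSeries.constantCoeff r)) = 0 from
          δ.map_algebraMap _, zero_add, map_sum]
      refine Submodule.sum_mem _ fun i _ => ?_
      rw [Derivation.leibniz, h, smul_zero, zero_add, pow_succ', Submodule.mul_smul]
      refine Submodule.smul_mem_smul ?_ (ih (c i))
      rw [CAlgH3.maximalIdeal_mvPowerSeries_eq]
      exact Ideal.subset_span ⟨i, rfl⟩
  exact IsHausdorff.haus (I := maximalIdeal R) inferInstance _ fun n => SModEq.zero.2 (key n r)

section Generators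

variable {A M : Type u} [CommRing A] [AddCommGroup M] [Module A M] (p : Ideal A) [p.IsPrime] (s : Set M)

/-- Generators after localizing at a prime. -/
theorem span_localized_eq_top_iff :
    Submodule.span (Localization.AtPrime p) (LocalizedModule.mkLinearMap p.primeCompl M '' s) = ⊤ ↔
      ∀ x : M, ∃ c ∉ p, c • x ∈ Submodule.span A s := by
  constructor
  · intro h x
    have hx : LocalizedModule.mkLinearMap p.primeCompl M x ∈
        Submodule.span (Localization.AtPrime p) (LocalizedModule.mkLinearMap p.primeCompl M '' s) :=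
      h ▸ Submodule.mem_top
    rw [← Submodule.localized'_span (Localization.AtPrime p) p.primeCompl, Submodule.mem_localized'] at hx
    obtain ⟨m, hm, t, ht⟩ := hx
    rw [IsLocalizedModule.mk'_eq_iff, Submonoid.smul_def, ← map_smul] at ht
    obtain ⟨c, hc⟩ := IsLocalizedModule.exists_of_eq (S := p.primeCompl) ht
    refine ⟨(c : A) * t, (c * t).2, ?_⟩
    rw [mul_smul]
    rw [Submonoid.smul_def, Submonoid.smul_def] at hc
    rw [← hc]
    exact Submodule.smul_mem _ _ hm
  · intro h
    rw [← Submodule.localized'_span (Localization.AtPrime p) p.primeCompl]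
    refine eq_top_iff.2 fun y _ => ?_
    obtain ⟨⟨x, t⟩, rfl⟩ := IsLocalizedModule.mk'_surjective p.primeCompl (LocalizedModule.mkLinearMap p.primeCompl M) y
    obtain ⟨c, hc, hcx⟩ := h x
    refine (Submodule.mem_localized' _ _ _ _ _).2 ⟨c • x, hcx, ⟨c, hc⟩ * t, ?_⟩
    exact IsLocalizedModule.mk'_cancel_left _ x ⟨c, hc⟩ t

/-- Generators in the fibre. -/
theorem span_fibre_eq_top_iff [Module.Finite A M] :
    Submodule.span p.ResidueField (TensorProduct.mk A p.ResidueField M 1 '' s) = ⊤ ↔
      ∀ x : M, ∃ c ∉ p, c • x ∈ Submodule.span A s := by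
  constructor
  · intro h
    let P : Submodule A M := Submodule.span A s
    have hsub : Subsingleton (p.ResidueField ⊗[A] (M ⧸ P)) := by
      let f := AlgebraTensorModule.lTensor p.ResidueField p.ResidueField P.mkQ
      have hsurj : Function.Surjective f := LinearMap.lTensor_surjective _ P.mkQ_surjective
      refine ⟨fun a b => ?_⟩
      suffices hz : ∀ w, w = (0 : p.ResidueField ⊗[A] (M ⧸ P)) from (hz a).trans (hz b).symm
      intro w
      obtain ⟨w, rfl⟩ := hsurj w
      have hw : w ∈ Submodule.span p.ResidueField (TensorProduct.mk A p.ResidueField M 1 '' s) :=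
        h ▸ Submodule.mem_top
      refine (Submodule.span_le.2 ?_ : _ ≤ LinearMap.ker f) hw
      rintro _ ⟨m, hm, rfl⟩
      show (1 : p.ResidueField) ⊗ₜ[A] P.mkQ m = 0
      rw [show P.mkQ m = 0 from (Submodule.Quotient.mk_eq_zero _).2 (Submodule.subset_span hm), TensorProduct.tmul_zero]
    intro x
    have hnot : (⟨p, inferInstance⟩ : PrimeSpectrum A) ∉ Module.support A (M ⧸ P) := by
      rw [Module.mem_support_iff_nontrivial_residueField_tensorProduct, not_nontrivial_iff_subsingleton]
      exact hsub
    obtain ⟨c, hc, hcx⟩ := Module.notMem_support_iff'.1 hnot (P.mkQ x)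
    exact ⟨c, hc, (Submodule.Quotient.mk_eq_zero _).1 hcx⟩
  · intro h
    refine eq_top_iff.2 fun w _ => ?_
    induction w using TensorProduct.induction_on with
    | zero => exact zero_mem _
    | add a b ha hb => exact add_mem (ha trivial) (hb trivial)
    | tmul r x =>
      obtain ⟨c, hc, hcx⟩ := h x
      have hc0 : algebraMap A p.ResidueField c ≠ 0 := fun h0 => hc ((Ideal.algebraMap_residueField_eq_zero).1 h0)
      have h1 : TensorProduct.mk A p.ResidueField M 1 (c • x) ∈
          (Submodule.span A s).map (TensorProduct.mk A p.ResidueField M 1) := Submodule.mem_map_of_mem hcx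
      rw [Submodule.map_span] at h1
      have h2 := Submodule.span_le_restrictScalars A p.ResidueField _ h1
      rw [Submodule.restrictScalars_mem, map_smul, ← algebraMap_smul p.ResidueField c] at h2
      rw [Submodule.smul_mem_iff _ hc0] at h2
      rw [show r ⊗ₜ[A] x = r • ((1 : p.ResidueField) ⊗ₜ[A] x) by rw [TensorProduct.smul_tmul', smul_eq_mul, mul_one]]
      exact Submodule.smul_mem _ r h2

end Generators

end Groth.Agent.CommAlg6
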