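import Groth.Agent.CommAlg6.CompletedKaehlerUnits
import Groth.Agent.CommAlg6.PowerSeriesBase
import Groth.Agent.EGA41Lib.RegularJacobson
import Groth.Agent.CAlgH.AdicSmoothGeom
import Groth.Agent.CAlgH.RegularSmooth
import Groth.Agent.FEtFF.UnramifiedGeomUnibranch
import Groth.Agent.FEtFF.NormalGeomUnibranch
import Groth.Agent.FlatLocal.FlatAt
import Groth.Agent.S9829
import Mathlib.RingTheory.Etale.Locus

/-! Finite maps from power series that are étale at a prime. -/

set_option autoImplicit false
set_option linter.style.haveILetI false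

universe u

open IsLocalRing TensorProduct

namespace Groth.Agent.CommAlg6

theorem isGeometricallyRegular_mvPowerSeries_field (k : Type u) [Field k] (n : ℕ) :
    CAlg.IsGeometricallyRegular k (MvPowerSeries (Fin n) k) := by
  intro k' _ _ hk'
  haveI := hk'
  haveI : IsRegularRing (MvPowerSeries (Fin n) k') := EGA41Lib.isRegularRing_mvPowerSeries k' n
  exact IsRegularRing.of_ringEquiv (mvPowerSeriesBaseChangeEquiv (R := k) (R' := k') (σ := Fin n)).toRingEquiv.symm

variable (k A : Type u) [Field k] [CommRing A] [IsLocalRing A] [IsNoetherianRing A] [Algebra k A]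
  [IsAdicComplete (maximalIdeal A) A] (p : Ideal A) [p.IsPrime] {m : ℕ}
  [Algebra (MvPowerSeries (Fin m) k) A] [IsScalarTower k (MvPowerSeries (Fin m) k) A]
  [Module.Finite (MvPowerSeries (Fin m) k) A]

omit [IsAdicComplete (maximalIdeal A) A] in
theorem isGeometricallyRegular_of_isEtaleAt [hp : Algebra.IsEtaleAt (MvPowerSeries (Fin m) k) p] :
    CAlg.IsGeometricallyRegular k (Localization.AtPrime p) := by
  let R := MvPowerSeries (Fin m) k
  haveI : IsRegularLocalRing R := (CAlgH.isRegularLocalRing_mvPowerSeries k m).1
  haveI : IsNoetherianRing R := inferInstance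
  haveI : Algebra.FinitePresentation R A := Algebra.FinitePresentation.of_finiteType.1 inferInstance
  obtain ⟨f, hf, hF⟩ := Algebra.exists_etale_of_isEtaleAt (R := R) p
  haveI := hF
  let F := Localization.Away f
  have hreg : CAlg.IsGeometricallyRegular k F :=
    CAlgH.isGeometricallyRegular_of_smooth k R F (isGeometricallyRegular_mvPowerSeries_field k m)
  have hdisj : Disjoint (Submonoid.powers f : Set A) (p : Set A) := by
    rw [Set.disjoint_left]
    rintro _ ⟨n, rfl⟩ h
    exact hf (Ideal.IsPrime.mem_of_pow_mem ‹p.IsPrime› n h)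
  let p' : Ideal F := p.map (algebraMap A F)
  haveI : p'.IsPrime := IsLocalization.isPrime_of_isPrime_disjoint (Submonoid.powers f) F p ‹_› hdisj
  have hp' : p'.comap (algebraMap A F) = p :=
    IsLocalization.under_map_of_isPrime_disjoint (Submonoid.powers f) F ‹_› hdisj
  let T := Localization.AtPrime p'
  haveI : IsLocalization.AtPrime T p := by
    have h0 := IsLocalization.isLocalization_isLocalization_atPrime_isLocalization (Submonoid.powers f) T p'
    have hc : (p'.comap (algebraMap A F)).primeCompl = p.primeCompl := by ext z; simp [Ideal.primeCompl, hp']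
    show IsLocalization p.primeCompl T
    rw [← hc]; exact h0
  have hT : CAlg.IsGeometricallyRegular k T := CAlgH.AdicSmooth.isGeometricallyRegular_localization k F hreg p'.primeCompl T
  intro k' _ _ hk'
  haveI := hT k' hk'
  exact IsRegularRing.of_ringEquiv (Algebra.TensorProduct.congr (AlgEquiv.refl : k' ≃ₐ[k'] k')
    ((IsLocalization.algEquiv p.primeCompl T (Localization.AtPrime p)).restrictScalars k)).toRingEquiv

omit [IsLocalRing A] [IsAdicComplete (maximalIdeal A) A] in
theorem isEtaleAt_of_isUnramifiedAt [Algebra.IsUnramifiedAt (MvPowerSeries (Fin m) k) p] (q : Ideal A) [q.IsPrime]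
    (hqp : q ≤ p) (hdim : ringKrullDim (A ⧸ q) = m) :
    Algebra.IsEtaleAt (MvPowerSeries (Fin m) k) p := by
  let R := MvPowerSeries (Fin m) k
  haveI hR : IsRegularLocalRing R := (CAlgH.isRegularLocalRing_mvPowerSeries k m).1
  haveI : IsNoetherianRing R := inferInstance
  haveI : IsDomain R := CAlgH3.isDomain_of_isRegularLocalRing R
  haveI : IsIntegrallyClosed R := Groth.Agent.S9829.result R
  haveI : Algebra.IsIntegral R A := Algebra.IsIntegral.of_finite R A
  have hbot : q.comap (algebraMap R A) = ⊥ := by
    by_contra hne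
    let P := q.comap (algebraMap R A)
    haveI : IsLocalRing (R ⧸ (⊥ : Ideal R)) :=
      IsLocalRing.of_surjective' (Ideal.Quotient.mk ⊥) Ideal.Quotient.mk_surjective
    haveI : IsLocalRing (R ⧸ P) :=
      haveI : P.IsPrime := Ideal.comap_isPrime _ _
      IsLocalRing.of_surjective' (Ideal.Quotient.mk P) Ideal.Quotient.mk_surjective
    haveI : P.IsPrime := Ideal.comap_isPrime _ _
    have h1 := Groth.Agent.CAlgH3.ringKrullDim_quotient_add_one_le (p := (⊥ : Ideal R)) (q := P)
      (bot_lt_iff_ne_bot.2 hne)
    rw [ringKrullDim_eq_of_ringEquiv (RingEquiv.quotientBot R)] at h1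
    have h2 : ringKrullDim (A ⧸ q) ≤ ringKrullDim (R ⧸ P) := by
      haveI : q.LiesOver P := ⟨rfl⟩
      haveI : Algebra.IsIntegral R (A ⧸ q) := Algebra.IsIntegral.of_finite R (A ⧸ q)
      haveI : Algebra.IsIntegral (R ⧸ P) (A ⧸ q) := Algebra.IsIntegral.tower_top R
      exact Order.krullDim_le_of_strictMono _ (DimLib.strictMono_comap_of_isIntegral (R := R ⧸ P) (S := A ⧸ q))
    have h3 := (add_le_add_left (hdim ▸ h2) 1).trans (h1.trans (ringKrullDim_mvPowerSeries_field k m))
    exact absurd h3 (by norm_cast; omega)
  let P := p.comap (algebraMap R A)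
  haveI : P.IsPrime := Ideal.comap_isPrime _ _
  let L := Localization.AtPrime P
  let T := Localization.AtPrime p
  haveI : p.LiesOver P := ⟨rfl⟩
  letI := Localization.AtPrime.algebraOfLiesOver P p
  haveI : IsDomain L := IsLocalization.isDomain_localization P.primeCompl_le_nonZeroDivisors
  haveI : IsIntegrallyClosed L := isIntegrallyClosed_of_isLocalization _ P.primeCompl P.primeCompl_le_nonZeroDivisors
  have hinj : Function.Injective (algebraMap L T) := by
    rw [injective_iff_map_eq_zero]
    intro x hx
    obtain ⟨⟨r, s⟩, rfl⟩ := IsLocalization.mk'_surjective P.primeCompl x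
    have h0 : algebraMap A T (algebraMap R A r) = 0 := by
      rw [← IsScalarTower.algebraMap_apply R A T, IsScalarTower.algebraMap_apply R L T,
        ← IsLocalization.mk'_spec L r s, map_mul, hx, zero_mul]
    obtain ⟨c, hc⟩ := (IsLocalization.map_eq_zero_iff p.primeCompl T _).1 h0
    have hr : algebraMap R A r ∈ q :=
      ((‹q.IsPrime›.mem_or_mem (x := (c : A)) (y := algebraMap R A r)) (by rw [hc]; exact q.zero_mem)).resolve_left
        fun h => c.2 (hqp h)
    have hr0 : r = 0 := by
      rw [← Ideal.mem_bot, ← hbot]; exact hr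
    simp [hr0]
  haveI : Module.Flat L T := FEtFF.flat_atPrime_of_unramified_of_injective (A := R) (L := L) (B := A) (T := T)
    P (FEtFF.isGeomUnibranch_of_normal L) p rfl hinj
  haveI : Module.Flat R L := IsLocalization.flat L P.primeCompl
  haveI : Module.Flat R T := Module.Flat.trans R L T
  haveI : Algebra.FinitePresentation R A := Algebra.FinitePresentation.of_finiteType.1 inferInstance
  exact FlatLocal.isEtaleAt_of_flatAt p

variable [Module.Finite k (ResidueField A)] [IsLocalHom (algebraMap (MvPowerSeries (Fin m) k) A)]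

theorem free_of_isEtaleAt [hp : Algebra.IsEtaleAt (MvPowerSeries (Fin m) k) p] :
    Module.Free (Localization.AtPrime p) (LocalizedModule p.primeCompl (CKaehler k A)) ∧
      Module.finrank (Localization.AtPrime p) (LocalizedModule p.primeCompl (CKaehler k A)) = m := by
  classical
  let R := MvPowerSeries (Fin m) k
  let T := Localization.AtPrime p
  haveI : Algebra.FormallyEtale R T := hp
  let δR : Derivation k R (Fin m → T) := Derivation.mk'
    { toFun := fun r i => algebraMap R T (MvPowerSeries.pderiv k i r)
      map_add' := fun a b => funext fun i => by simp only [map_add, Pi.add_apply]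
      map_smul' := fun c a => funext fun i => by
        simp only [Derivation.map_smul, Pi.smul_apply, RingHom.id_apply]
        rw [Algebra.smul_def, map_mul, ← IsScalarTower.algebraMap_apply, Algebra.smul_def] }
    fun a b => funext fun i => by
      show algebraMap R T (MvPowerSeries.pderiv k i (a * b)) = _
      rw [Derivation.leibniz, map_add, smul_eq_mul, smul_eq_mul, map_mul, map_mul]
      simp [Algebra.smul_def]
  let ext : KaehlerDifferential k T →ₗ[T] Fin m → T :=
    (δR.liftKaehlerDifferential.liftBaseChange T).comp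
      (KaehlerDifferential.tensorKaehlerEquivOfFormallyEtale k R T).symm.toLinearMap
  let dT : Derivation k T (Fin m → T) := ext.compDer (KaehlerDifferential.D k T)
  have hdT : ∀ r : R, dT (algebraMap R T r) = δR r := fun r => by
    show ext (KaehlerDifferential.D k T (algebraMap R T r)) = _
    have h : KaehlerDifferential.tensorKaehlerEquivOfFormallyEtale k R T
        (1 ⊗ₜ KaehlerDifferential.D k R r) = KaehlerDifferential.D k T (algebraMap R T r) := by
      simp
    rw [← h]
    show δR.liftKaehlerDifferential.liftBaseChange T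
      ((KaehlerDifferential.tensorKaehlerEquivOfFormallyEtale k R T).symm _) = _
    rw [LinearEquiv.symm_apply_apply, LinearMap.liftBaseChange_tmul, one_smul, Derivation.liftKaehlerDifferential_comp_D]
  obtain ⟨d₀, s, hs⟩ := Module.Finite.exists_fin (R := R) (M := A)
  let W : Submodule A (Fin m → T) :=
    Submodule.span A (Set.range (fun i => (Pi.single i 1 : Fin m → T)) ∪ Set.range fun j => dT (algebraMap A T (s j)))
  have hδR : ∀ r, δR r ∈ W := fun r => by
    rw [show δR r = ∑ i, algebraMap R A (MvPowerSeries.pderiv k i r) • (Pi.single i 1 : Fin m → T) from funext fun j => by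
      simp [δR, Finset.sum_apply, Pi.single_apply, Algebra.smul_def, ← IsScalarTower.algebraMap_apply]]
    exact Submodule.sum_mem _ fun i _ => Submodule.smul_mem _ _ (Submodule.subset_span (Set.mem_union_left _ ⟨i, rfl⟩))
  have hW : ∀ a : A, dT (algebraMap A T a) ∈ W := fun a => by
    have ha : a ∈ Submodule.span R (Set.range s) := hs ▸ Submodule.mem_top
    obtain ⟨c, rfl⟩ := (Submodule.mem_span_range_iff_exists_fun R).1 ha
    rw [map_sum, map_sum]
    refine Submodule.sum_mem _ fun j _ => ?_
    rw [Algebra.smul_def, map_mul, Derivation.leibniz]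
    refine add_mem ?_ ?_
    · rw [algebraMap_smul T (algebraMap R A (c j))]
      exact Submodule.smul_mem _ _ (Submodule.subset_span (Set.mem_union_right _ ⟨j, rfl⟩))
    · rw [algebraMap_smul T (s j), ← IsScalarTower.algebraMap_apply R A T, hdT]
      exact Submodule.smul_mem _ _ (hδR _)
  haveI : Module.Finite A W := Module.Finite.iff_fg.2
    (Submodule.fg_span ((Set.finite_range _).union (Set.finite_range _)))
  let δ : Derivation k A W := Derivation.mk'
    { toFun := fun a => ⟨dT (algebraMap A T a), hW a⟩
      map_add' := fun a b => Subtype.ext (by simp)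
      map_smul' := fun c a => Subtype.ext (by
        show dT (algebraMap A T (c • a)) = c • dT (algebraMap A T a)
        rw [← Derivation.map_smul, Algebra.smul_def, map_mul, ← IsScalarTower.algebraMap_apply, Algebra.smul_def]) }
    fun a b => Subtype.ext (by
      show dT (algebraMap A T (a * b)) = a • dT (algebraMap A T b) + b • dT (algebraMap A T a)
      rw [map_mul, Derivation.leibniz, algebraMap_smul, algebraMap_smul])
  obtain ⟨ψ, hψ⟩ := exists_cKaehler_lift k A δ
  have hu : ∀ x : p.primeCompl, IsUnit (algebraMap A (Module.End A (Fin m → T)) x) := fun x => by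
    rw [Module.End.isUnit_iff]
    obtain ⟨v, hv⟩ := IsLocalization.map_units T x
    have heq : ∀ w : Fin m → T, algebraMap A (Module.End A (Fin m → T)) x w = (v : T) • w := fun w => by
      rw [Module.algebraMap_end_apply, hv, algebraMap_smul]
    refine ⟨fun a b hab => ?_, fun w => ⟨((v⁻¹ : Tˣ) : T) • w, by rw [heq, smul_smul, Units.mul_inv, one_smul]⟩⟩
    rw [heq, heq] at hab
    have := congrArg (fun z => ((v⁻¹ : Tˣ) : T) • z) hab
    simpa [smul_smul] using this
  let Ψ₀ := IsLocalizedModule.lift p.primeCompl (LocalizedModule.mkLinearMap p.primeCompl (CKaehler k A))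
    (W.subtype.comp ψ) hu
  let Ψ : LocalizedModule p.primeCompl (CKaehler k A) →ₗ[T] Fin m → T :=
    Ψ₀.extendScalarsOfIsLocalization p.primeCompl T
  let g : Fin m → LocalizedModule p.primeCompl (CKaehler k A) := fun i =>
    LocalizedModule.mkLinearMap p.primeCompl (CKaehler k A) (cD k A (algebraMap R A (MvPowerSeries.X i)))
  have hspan : Submodule.span T (Set.range g) = ⊤ :=
    (isUnramifiedAt_iff_span_localized k A p).1 (inferInstanceAs (Algebra.FormallyUnramified R T))
  have hΨ : ∀ i, Ψ (g i) = (Pi.single i 1 : Fin m → T) := fun i => by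
    show Ψ₀ (LocalizedModule.mkLinearMap p.primeCompl (CKaehler k A) _) = _
    rw [IsLocalizedModule.lift_apply, LinearMap.comp_apply, hψ]
    show dT (algebraMap A T (algebraMap R A (MvPowerSeries.X i))) = _
    rw [← IsScalarTower.algebraMap_apply R A T, hdT]
    funext j
    show algebraMap R T (MvPowerSeries.pderiv k j (MvPowerSeries.X i)) = _
    rw [MvPowerSeries.pderiv_X]
    simp only [Pi.single_apply]
    split_ifs with h1 h2 <;> simp_all
  have hli : LinearIndependent T g := LinearIndependent.of_comp Ψ (by
    rw [show Ψ ∘ g = Pi.basisFun T (Fin m) from funext fun i => (hΨ i).trans (Pi.basisFun_apply T (Fin m) i).symm]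
    exact (Pi.basisFun T (Fin m)).linearIndependent)
  let B := Module.Basis.mk hli hspan.ge
  exact ⟨Module.Free.of_basis B, by rw [Module.finrank_eq_card_basis B, Fintype.card_fin]⟩

end Groth.Agent.CommAlg6
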