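import Groth.Agent.CommAlg6.CompletedKaehlerEtale
import Groth.Agent.CommAlg6.RegularLocus

/-! Completed differentials and quotients. -/

set_option autoImplicit false
set_option linter.style.haveILetI false

universe u

open IsLocalRing TensorProduct

namespace Groth.Agent.CommAlg6

/-- A combination after localization comes from one before. -/
theorem exists_smul_mem_span_of_mem_span {A M N : Type u} [CommRing A] [AddCommGroup M] [Module A M]
    (S : Submonoid A) (T : Type u) [CommRing T] [Algebra A T] [IsLocalization S T] [AddCommGroup N] [Module A N]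
    [Module T N] [IsScalarTower A T N] (f : M →ₗ[A] N) [IsLocalizedModule S f] (s : Set M) (x : M)
    (hx : f x ∈ Submodule.span T (f '' s)) : ∃ c ∈ S, c • x ∈ Submodule.span A s := by
  rw [← Submodule.localized'_span T S, Submodule.mem_localized'] at hx
  obtain ⟨m, hm, t, ht⟩ := hx
  rw [IsLocalizedModule.mk'_eq_iff, Submonoid.smul_def, ← map_smul] at ht
  obtain ⟨c, hc⟩ := IsLocalizedModule.exists_of_eq (S := S) ht
  refine ⟨(c : A) * t, (c * t).2, ?_⟩
  rw [mul_smul]
  rw [Submonoid.smul_def, Submonoid.smul_def] at hc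
  rw [← hc]
  exact Submodule.smul_mem _ _ hm

/-- A quotient which does not change the localization. -/
theorem isLocalization_quotient_of_kill {A : Type u} [CommRing A] (q P : Ideal A) [P.IsPrime] (hqP : q ≤ P)
    (hkill : ∀ z ∈ q, ∃ c ∉ P, c * z = 0) [(P.map (Ideal.Quotient.mk q)).IsPrime] :
    IsLocalization P.primeCompl (Localization.AtPrime (P.map (Ideal.Quotient.mk q))) := by
  let Pb := P.map (Ideal.Quotient.mk q)
  let T := Localization.AtPrime Pb
  have hmem : ∀ a : A, Ideal.Quotient.mk q a ∈ Pb ↔ a ∈ P := fun a => by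
    rw [← Ideal.mem_comap, Ideal.comap_map_of_surjective _ Ideal.Quotient.mk_surjective, ← RingHom.ker_eq_comap_bot,
      Ideal.mk_ker, sup_eq_left.2 hqP]
  exact
    { map_units := fun c => by
        rw [IsScalarTower.algebraMap_apply A (A ⧸ q) T]
        exact IsLocalization.map_units T (⟨Ideal.Quotient.mk q c, fun h' => c.2 ((hmem _).1 h')⟩ : Pb.primeCompl)
      surj := fun z => by
        obtain ⟨⟨b, s⟩, hbs⟩ := IsLocalization.surj Pb.primeCompl z
        obtain ⟨a, rfl⟩ := Ideal.Quotient.mk_surjective b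
        obtain ⟨t, ht⟩ := Ideal.Quotient.mk_surjective (s : A ⧸ q)
        refine ⟨(a, ⟨t, fun h' => s.2 (ht ▸ (hmem t).2 h')⟩), ?_⟩
        show z * algebraMap A T t = algebraMap A T a
        rw [IsScalarTower.algebraMap_apply A (A ⧸ q) T, IsScalarTower.algebraMap_apply A (A ⧸ q) T a,
          Ideal.Quotient.algebraMap_eq, ht]
        exact hbs
      exists_of_eq := fun {a b} hab => by
        rw [IsScalarTower.algebraMap_apply A (A ⧸ q) T, IsScalarTower.algebraMap_apply A (A ⧸ q) T b] at hab
        obtain ⟨c, hc⟩ := IsLocalization.exists_of_eq (M := Pb.primeCompl) hab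
        obtain ⟨c', hc'⟩ := Ideal.Quotient.mk_surjective (c : A ⧸ q)
        rw [← hc', Ideal.Quotient.algebraMap_eq, ← map_mul, ← map_mul, Ideal.Quotient.eq, ← mul_sub] at hc
        obtain ⟨e, he, he0⟩ := hkill _ hc
        refine ⟨⟨e, he⟩ * ⟨c', fun h' => c.2 (hc' ▸ (hmem c').2 h')⟩, ?_⟩
        show e * c' * a = e * c' * b
        linear_combination he0 }

variable (k A : Type u) [Field k] [CommRing A] [IsLocalRing A] [IsNoetherianRing A] [Algebra k A]
  [IsAdicComplete (maximalIdeal A) A] [Module.Finite k (ResidueField A)] (q : Ideal A)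

theorem finite_residueField_quotient [IsLocalRing (A ⧸ q)] : Module.Finite k (ResidueField (A ⧸ q)) := by
  haveI : IsLocalHom (algebraMap A (A ⧸ q)) :=
    IsLocalHom.of_surjective (Ideal.Quotient.mk q) Ideal.Quotient.mk_surjective
  haveI : Module.Finite (ResidueField A) (ResidueField (A ⧸ q)) := inferInstance
  exact Module.Finite.trans (ResidueField A) _

/-- The map to the completed differentials of a quotient, with its kernel. -/
theorem exists_quotient_cKaehler_map [IsLocalRing (A ⧸ q)] :
    ∃ ψ : CKaehler k A →ₗ[A] CKaehler k (A ⧸ q), (∀ a, ψ (cD k A a) = cD k (A ⧸ q) (Ideal.Quotient.mk q a)) ∧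
      Function.Surjective ψ ∧
      LinearMap.ker ψ ≤ q • ⊤ ⊔ Submodule.span A (cD k A '' (q : Set A)) := by
  haveI := CAlgH.isAdicComplete_quotient q
  haveI := finite_residueField_quotient k A q
  haveI := finite_cKaehler k A
  haveI := finite_cKaehler k (A ⧸ q)
  haveI : Module.Finite A (CKaehler k (A ⧸ q)) := Module.Finite.trans (A ⧸ q) _
  let δ : Derivation k A (CKaehler k (A ⧸ q)) := Derivation.mk'
    { toFun := fun a => cD k (A ⧸ q) (Ideal.Quotient.mk q a)
      map_add' := fun a b => by rw [map_add, map_add]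
      map_smul' := fun c a => by
        rw [RingHom.id_apply, ← Derivation.map_smul, Algebra.smul_def, map_mul, Ideal.Quotient.mk_algebraMap,
          ← Algebra.smul_def] }
    fun a b => by
      show cD k (A ⧸ q) (Ideal.Quotient.mk q (a * b)) =
        a • cD k (A ⧸ q) (Ideal.Quotient.mk q b) + b • cD k (A ⧸ q) (Ideal.Quotient.mk q a)
      rw [map_mul, Derivation.leibniz, ← algebraMap_smul (A ⧸ q) a, ← algebraMap_smul (A ⧸ q) b]
      rfl
  obtain ⟨ψ, hψ'⟩ := exists_cKaehler_lift k A δ
  have hψ : ∀ a, ψ (cD k A a) = cD k (A ⧸ q) (Ideal.Quotient.mk q a) := hψ'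
  let K : Submodule A (CKaehler k A) := q • ⊤ ⊔ Submodule.span A (cD k A '' (q : Set A))
  let Q := CKaehler k A ⧸ K
  have hkill : Module.IsTorsionBySet A Q q := fun x a => by
    obtain ⟨x, rfl⟩ := K.mkQ_surjective x
    rw [← map_smul, Submodule.mkQ_apply, Submodule.Quotient.mk_eq_zero]
    exact Submodule.mem_sup_left (Submodule.smul_mem_smul a.2 trivial)
  letI : Module (A ⧸ q) Q := hkill.module
  haveI : IsScalarTower A (A ⧸ q) Q := hkill.isScalarTower
  haveI : IsScalarTower k (A ⧸ q) Q := .of_algebraMap_smul fun c x => by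
    rw [IsScalarTower.algebraMap_apply k A (A ⧸ q), algebraMap_smul, algebraMap_smul]
  haveI : Module.Finite (A ⧸ q) Q := Module.Finite.of_restrictScalars_finite A (A ⧸ q) Q
  have hwd : ∀ a b, Ideal.Quotient.mk q a = Ideal.Quotient.mk q b → K.mkQ (cD k A a) = K.mkQ (cD k A b) := fun a b h => by
    rw [← sub_eq_zero, ← map_sub, ← map_sub, Submodule.mkQ_apply, Submodule.Quotient.mk_eq_zero]
    exact Submodule.mem_sup_right (Submodule.subset_span ⟨_, Ideal.Quotient.eq.1 h, rfl⟩)
  let sec : A ⧸ q → A := Function.surjInv Ideal.Quotient.mk_surjective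
  have hsec : ∀ b, Ideal.Quotient.mk q (sec b) = b := Function.surjInv_eq Ideal.Quotient.mk_surjective
  let δB : Derivation k (A ⧸ q) Q := Derivation.mk'
    { toFun := fun b => K.mkQ (cD k A (sec b))
      map_add' := fun a b => by
        rw [← map_add, ← map_add]
        exact hwd _ _ (by rw [map_add, hsec, hsec, hsec])
      map_smul' := fun c b => by
        rw [RingHom.id_apply, hwd (sec (c • b)) (c • sec b)
          (by rw [hsec, Algebra.smul_def, Algebra.smul_def, map_mul, Ideal.Quotient.mk_algebraMap, hsec]),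
          Derivation.map_smul, ← algebraMap_smul A c, map_smul, algebraMap_smul] }
    fun a b => by
      show K.mkQ (cD k A (sec (a * b))) = a • K.mkQ (cD k A (sec b)) + b • K.mkQ (cD k A (sec a))
      rw [hwd (sec (a * b)) (sec a * sec b) (by rw [map_mul, hsec, hsec, hsec]), Derivation.leibniz, map_add,
        map_smul, map_smul, ← algebraMap_smul (A ⧸ q) (sec a), ← algebraMap_smul (A ⧸ q) (sec b)]
      rw [Ideal.Quotient.algebraMap_eq, hsec, hsec]
  obtain ⟨θ, hθ⟩ := exists_cKaehler_lift k (A ⧸ q) δB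
  have hcomp : (θ.restrictScalars A).comp ψ = K.mkQ := cKaehler_hom_ext k A fun a => by
    rw [LinearMap.comp_apply, hψ]
    show θ (cD k (A ⧸ q) (Ideal.Quotient.mk q a)) = _
    rw [hθ]
    exact hwd _ _ (hsec _)
  refine ⟨ψ, hψ, ?_, fun x hx => ?_⟩
  · intro y
    suffices h : ∀ z ∈ Submodule.span (A ⧸ q) (Set.range (cD k (A ⧸ q))), z ∈ LinearMap.range ψ from
      h y ((span_range_cD k (A ⧸ q)).ge trivial)
    intro z hz
    induction hz using Submodule.span_induction with
    | mem z hz =>
      obtain ⟨b, rfl⟩ := hz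
      exact ⟨cD k A (sec b), by rw [hψ, hsec]⟩
    | zero => exact zero_mem _
    | add a b _ _ ha hb => exact add_mem ha hb
    | smul c z _ hz =>
      obtain ⟨a, rfl⟩ := Ideal.Quotient.mk_surjective c
      rw [← Ideal.Quotient.algebraMap_eq, algebraMap_smul]
      exact Submodule.smul_mem _ _ hz
  · rw [← Submodule.Quotient.mk_eq_zero]
    show K.mkQ x = 0
    rw [← hcomp, LinearMap.comp_apply, LinearMap.mem_ker.1 hx, map_zero]

/-- Generators at a prime from parameters and from generators for the quotient. -/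
theorem exists_generators_of_quotient [q.IsPrime] [IsLocalRing (A ⧸ q)] {d : ℕ} (x : Fin d → A) (hx : ∀ i, x i ∈ q)
    (hxq : ∀ z ∈ q, ∃ c ∉ q, c * z ∈ Ideal.span (Set.range x)) {e : ℕ} (y : Fin e → CKaehler k (A ⧸ q))
    (hy : ∀ w, ∃ c ≠ (0 : A ⧸ q), c • w ∈ Submodule.span (A ⧸ q) (Set.range y)) :
    ∃ y' : Fin e → CKaehler k A, ∀ w, ∃ c ∉ q,
      c • w ∈ Submodule.span A (Set.range (Fin.append (fun i => cD k A (x i)) y')) := by
  classical
  haveI := finite_cKaehler k A
  obtain ⟨ψ, -, hsurj, hker⟩ := exists_quotient_cKaehler_map k A q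
  choose y' hy' using fun i => hsurj (y i)
  refine ⟨y', (span_fibre_eq_top_iff q _).1 (eq_top_iff.2 ?_)⟩
  let ι := TensorProduct.mk A q.ResidueField (CKaehler k A) 1
  let S : Submodule q.ResidueField (q.ResidueField ⊗[A] CKaehler k A) :=
    Submodule.span q.ResidueField (ι '' Set.range (Fin.append (fun i => cD k A (x i)) y'))
  have hq0 : ∀ a ∈ q, algebraMap A q.ResidueField a = 0 := fun a ha => Ideal.algebraMap_residueField_eq_zero.2 ha
  have hne : ∀ c ∉ q, algebraMap A q.ResidueField c ≠ 0 := fun c hc h => hc (Ideal.algebraMap_residueField_eq_zero.1 h)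
  have hsmul : ∀ (a : A) z, ι (a • z) = algebraMap A q.ResidueField a • ι z := fun a z => by
    rw [map_smul, algebraMap_smul]
  have hdx : ∀ z ∈ q, ι (cD k A z) ∈ S := fun z hz => by
    obtain ⟨c, hc, hcz⟩ := hxq z hz
    obtain ⟨a, ha⟩ := Ideal.mem_span_range_iff_exists_fun.1 hcz
    have h1 : ι (cD k A (c * z)) ∈ S := by
      rw [← ha, map_sum, map_sum]
      refine Submodule.sum_mem _ fun i _ => ?_
      rw [Derivation.leibniz, map_add, hsmul, hsmul, hq0 _ (hx i), zero_smul, add_zero]
      exact Submodule.smul_mem _ _ (Submodule.subset_span ⟨_, ⟨Fin.castAdd e i, Fin.append_left _ _ i⟩, rfl⟩)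
    rw [Derivation.leibniz, map_add, hsmul, hsmul, hq0 _ hz, zero_smul, add_zero,
      Submodule.smul_mem_iff _ (hne c hc)] at h1
    exact h1
  have hK : ∀ z ∈ q • ⊤ ⊔ Submodule.span A (cD k A '' (q : Set A)), ι z ∈ S := by
    intro z hz
    have h1 : q • ⊤ ⊔ Submodule.span A (cD k A '' (q : Set A)) ≤ (S.restrictScalars A).comap ι := by
      refine sup_le (Submodule.smul_le.2 fun a ha w _ => ?_) (Submodule.span_le.2 ?_)
      · show ι (a • w) ∈ S
        rw [hsmul, hq0 a ha, zero_smul]; exact zero_mem _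
      · rintro _ ⟨w, hw, rfl⟩
        exact hdx w hw
    exact h1 hz
  have hall : ∀ w, ι w ∈ S := fun w => by
    obtain ⟨c, hc, hcw⟩ := hy (ψ w)
    obtain ⟨c, rfl⟩ := Ideal.Quotient.mk_surjective c
    have hc' : c ∉ q := fun h => hc (Ideal.Quotient.eq_zero_iff_mem.2 h)
    obtain ⟨a, ha⟩ := (Submodule.mem_span_range_iff_exists_fun (A ⧸ q)).1 hcw
    choose a' ha' using fun i => Ideal.Quotient.mk_surjective (a i)
    have h0 : c • w - ∑ i, a' i • y' i ∈ LinearMap.ker ψ := by
      rw [LinearMap.mem_ker, map_sub, map_smul, map_sum, sub_eq_zero, ← algebraMap_smul (A ⧸ q) c,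
        Ideal.Quotient.algebraMap_eq, ← ha]
      refine Finset.sum_congr rfl fun i _ => ?_
      rw [map_smul, hy', ← algebraMap_smul (A ⧸ q) (a' i), Ideal.Quotient.algebraMap_eq, ha']
    have h2 := hK _ (hker h0)
    rw [map_sub, map_sum] at h2
    have h3 : ∑ i, ι (a' i • y' i) ∈ S := Submodule.sum_mem _ fun i _ => by
      rw [hsmul]
      exact Submodule.smul_mem _ _ (Submodule.subset_span ⟨_, ⟨Fin.natAdd d i, Fin.append_right _ _ i⟩, rfl⟩)
    have h4 := add_mem h2 h3
    rw [sub_add_cancel, hsmul, Submodule.smul_mem_iff _ (hne c hc')] at h4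
    exact h4
  intro z _
  induction z using TensorProduct.induction_on with
  | zero => exact zero_mem _
  | add a b ha hb => exact add_mem (ha trivial) (hb trivial)
  | tmul r w =>
    rw [show r ⊗ₜ[A] w = r • ι w by
      show r ⊗ₜ[A] w = r • ((1 : q.ResidueField) ⊗ₜ[A] w)
      rw [TensorProduct.smul_tmul', smul_eq_mul, mul_one]]
    exact Submodule.smul_mem _ r (hall w)

/-- Freeness passes from a quotient which does not change the localization. -/
theorem free_of_quotient [IsLocalRing (A ⧸ q)] (P : Ideal A) [P.IsPrime] (hqP : q ≤ P)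
    (hkill : ∀ z ∈ q, ∃ c ∉ P, c * z = 0) [(P.map (Ideal.Quotient.mk q)).IsPrime] (n : ℕ)
    (h : Module.Free (Localization.AtPrime (P.map (Ideal.Quotient.mk q)))
        (LocalizedModule (P.map (Ideal.Quotient.mk q)).primeCompl (CKaehler k (A ⧸ q))) ∧
      Module.finrank (Localization.AtPrime (P.map (Ideal.Quotient.mk q)))
        (LocalizedModule (P.map (Ideal.Quotient.mk q)).primeCompl (CKaehler k (A ⧸ q))) = n) :
    Module.Free (Localization.AtPrime P) (LocalizedModule P.primeCompl (CKaehler k A)) ∧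
      Module.finrank (Localization.AtPrime P) (LocalizedModule P.primeCompl (CKaehler k A)) = n := by
  classical
  haveI := CAlgH.isAdicComplete_quotient q
  haveI := finite_residueField_quotient k A q
  haveI := finite_cKaehler k A
  haveI := finite_cKaehler k (A ⧸ q)
  haveI := h.1
  let Pb := P.map (Ideal.Quotient.mk q)
  let T := Localization.AtPrime Pb
  let MB := LocalizedModule Pb.primeCompl (CKaehler k (A ⧸ q))
  have hmem : ∀ a : A, Ideal.Quotient.mk q a ∈ Pb ↔ a ∈ P := fun a => by
    rw [← Ideal.mem_comap, Ideal.comap_map_of_surjective _ Ideal.Quotient.mk_surjective, ← RingHom.ker_eq_comap_bot,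
      Ideal.mk_ker, sup_eq_left.2 hqP]
  haveI hloc : IsLocalization P.primeCompl T := isLocalization_quotient_of_kill q P hqP hkill
  obtain ⟨ψ, hψ, hsurj, hker⟩ := exists_quotient_cKaehler_map k A q
  let b := Module.finBasisOfFinrankEq T MB h.2
  let eB : MB ≃ₗ[A] Fin n → T := b.equivFun.restrictScalars A
  let f : CKaehler k A →ₗ[A] Fin n → T :=
    eB.toLinearMap.comp ((LocalizedModule.mkLinearMap Pb.primeCompl (CKaehler k (A ⧸ q))).restrictScalars A ∘ₗ ψ)
  have hkK : ∀ w ∈ LinearMap.ker ψ, ∃ c ∉ P, c • w = 0 := fun w hw => by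
    let Z : Submodule A (CKaehler k A) :=
      { carrier := {w | ∃ c ∉ P, c • w = 0}
        add_mem' := fun {a b} ⟨c, hc, hca⟩ ⟨c', hc', hcb⟩ => ⟨c * c',
          fun h' => (‹P.IsPrime›.mem_or_mem h').elim hc hc', by
            rw [smul_add, mul_comm c c', mul_smul, hca, smul_zero, zero_add, mul_comm c' c, mul_smul, hcb, smul_zero]⟩
        zero_mem' := ⟨1, fun h' => ‹P.IsPrime›.ne_top ((Ideal.eq_top_iff_one P).2 h'), smul_zero _⟩
        smul_mem' := fun r {a} ⟨c, hc, hca⟩ => ⟨c, hc, by rw [smul_comm, hca, smul_zero]⟩ }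
    have hle : q • ⊤ ⊔ Submodule.span A (cD k A '' (q : Set A)) ≤ Z := by
      refine sup_le (Submodule.smul_le.2 fun a ha w _ => ?_) (Submodule.span_le.2 ?_)
      · obtain ⟨c, hc, hca⟩ := hkill a ha
        exact ⟨c, hc, by rw [← mul_smul, hca, zero_smul]⟩
      · rintro _ ⟨a, ha, rfl⟩
        obtain ⟨c, hc, hca⟩ := hkill a ha
        refine ⟨c * c, fun h' => (‹P.IsPrime›.mem_or_mem h').elim hc hc, ?_⟩
        have h0 : c • cD k A a + a • cD k A c = 0 := by rw [← Derivation.leibniz, hca, map_zero]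
        have h1 := congrArg (fun z => c • z) h0
        simp only [smul_add, ← mul_smul, hca, zero_smul, add_zero, smul_zero] at h1
        exact h1
    exact hle (hker hw)
  have hu : ∀ (c : A), c ∉ P → IsUnit (algebraMap A T c) := fun c hc => IsLocalization.map_units T (⟨c, hc⟩ : P.primeCompl)
  haveI hfloc : IsLocalizedModule P.primeCompl f :=
    { map_units := fun c => by
        rw [Module.End.isUnit_iff]
        obtain ⟨v, hv⟩ := hu c c.2
        have heq : ∀ w : Fin n → T, algebraMap A (Module.End A (Fin n → T)) c w = (v : T) • w := fun w => by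
          rw [Module.algebraMap_end_apply, hv, algebraMap_smul]
        refine ⟨fun a b hab => ?_, fun w => ⟨((v⁻¹ : Tˣ) : T) • w, by rw [heq, smul_smul, Units.mul_inv, one_smul]⟩⟩
        rw [heq, heq] at hab
        have := congrArg (fun z => ((v⁻¹ : Tˣ) : T) • z) hab
        simpa [smul_smul] using this
      surj := fun z => by
        obtain ⟨⟨w, s⟩, hws⟩ := IsLocalizedModule.surj Pb.primeCompl
          (LocalizedModule.mkLinearMap Pb.primeCompl (CKaehler k (A ⧸ q))) (eB.symm z)
        obtain ⟨w, rfl⟩ := hsurj w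
        obtain ⟨t, ht⟩ := Ideal.Quotient.mk_surjective (s : A ⧸ q)
        refine ⟨(w, ⟨t, fun h' => s.2 (ht ▸ (hmem t).2 h')⟩), ?_⟩
        show t • z = eB (LocalizedModule.mkLinearMap Pb.primeCompl (CKaehler k (A ⧸ q)) (ψ w))
        rw [← hws, Submonoid.smul_def, ← ht, ← Ideal.Quotient.algebraMap_eq, algebraMap_smul, map_smul,
          LinearEquiv.apply_symm_apply]
      exists_of_eq := fun {a b} hab => by
        obtain ⟨c, hc⟩ := IsLocalizedModule.exists_of_eq (S := Pb.primeCompl)
          (f := LocalizedModule.mkLinearMap Pb.primeCompl (CKaehler k (A ⧸ q))) (eB.injective hab)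
        obtain ⟨t, ht⟩ := Ideal.Quotient.mk_surjective (c : A ⧸ q)
        rw [Submonoid.smul_def, Submonoid.smul_def, ← ht, ← Ideal.Quotient.algebraMap_eq, algebraMap_smul,
          algebraMap_smul, ← map_smul, ← map_smul] at hc
        obtain ⟨e, he, he0⟩ := hkK (t • a - t • b) (by rw [LinearMap.mem_ker, map_sub, hc, sub_self])
        refine ⟨⟨e, he⟩ * ⟨t, fun h' => c.2 (ht ▸ (hmem t).2 h')⟩, ?_⟩
        show (e * t) • a = (e * t) • b
        rw [← sub_eq_zero, mul_smul, mul_smul, ← smul_sub, he0] }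
  let eA : Localization.AtPrime P ≃ₗ[A] T := (IsLocalization.algEquiv P.primeCompl (Localization.AtPrime P) T).toLinearEquiv
  let e : LocalizedModule P.primeCompl (CKaehler k A) ≃ₗ[A] Fin n → Localization.AtPrime P :=
    (IsLocalizedModule.iso P.primeCompl f).trans (LinearEquiv.piCongrRight fun _ => eA.symm)
  let e' := LinearEquiv.extendScalarsOfIsLocalization P.primeCompl (Localization.AtPrime P) e
  exact ⟨Module.Free.of_equiv e'.symm, by rw [e'.finrank_eq, Module.finrank_fin_fun]⟩

end Groth.Agent.CommAlg6
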