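import Groth.Agent.CommAlg6.PowerSeriesKaehler

/-! Differentials and imperfection of fraction fields of complete local domains. -/

set_option autoImplicit false
set_option linter.style.haveILetI false

universe u

open IsLocalRing TensorProduct

namespace Groth.Agent.CommAlg6

/-- Noether normalization of a complete local domain. -/
theorem exists_mvPowerSeries_algebra_injective (k C : Type u) [Field k] [CommRing C] [IsDomain C] [IsNoetherianRing C]
    [IsLocalRing C] [Algebra k C] [IsAdicComplete (maximalIdeal C) C] [Module.Finite k (ResidueField C)] (n : ℕ)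
    (hn : ringKrullDim C = n) :
    ∃ φ : MvPowerSeries (Fin n) k →+* C, φ.comp MvPowerSeries.C = algebraMap k C ∧ φ.Finite ∧
      Function.Injective φ ∧ IsLocalHom φ := by
  classical
  obtain ⟨m, t, hm, ht, hart⟩ := CAlgH.exists_sop C
  obtain rfl : m = n := by rw [hn] at hm; exact_mod_cast hm.symm
  obtain ⟨N, hN⟩ : ∃ N, maximalIdeal C ^ N ≤ Ideal.span (Set.range t) := by
    haveI := hart
    refine Ideal.exists_pow_le_of_le_radical_of_fg ?_ (IsNoetherian.noetherian _)
    rw [Ideal.radical_eq_sInf]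
    refine le_sInf fun P ⟨hP, hPp⟩ => ?_
    haveI := hPp
    haveI : (P.map (Ideal.Quotient.mk (Ideal.span (Set.range t)))).IsPrime :=
      Ideal.map_isPrime_of_surjective Ideal.Quotient.mk_surjective (by rw [Ideal.mk_ker]; exact hP)
    haveI : (P.map (Ideal.Quotient.mk (Ideal.span (Set.range t)))).IsMaximal := IsArtinianRing.isMaximal_of_isPrime _
    have hc := Ideal.comap_isMaximal_of_surjective (Ideal.Quotient.mk (Ideal.span (Set.range t)))
      Ideal.Quotient.mk_surjective (K := P.map (Ideal.Quotient.mk _))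
    rw [Ideal.comap_map_of_surjective _ Ideal.Quotient.mk_surjective, ← RingHom.ker_eq_comap_bot, Ideal.mk_ker,
      sup_eq_left.2 hP] at hc
    exact (eq_maximalIdeal hc).ge
  obtain ⟨φ, hC, -, hfin, hloc⟩ := exists_mvPowerSeries_algebra k C t ht N hN
  exact ⟨φ, hC, hfin, CAlgH.injective_mvPowerSeries_hom φ hfin (by rw [ringKrullDim_eq_zero_of_field, zero_add, hm]), hloc⟩

/-- A lower bound for the cokernel of a composite with an injective map. -/
theorem rank_coker_comp_ge {L : Type u} [Field L] {X V W Q₁ Q₂ Z : Type u} [AddCommGroup X] [Module L X]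
    [AddCommGroup V] [Module L V] [AddCommGroup W] [Module L W] [AddCommGroup Q₁] [Module L Q₁]
    [AddCommGroup Q₂] [Module L Q₂] [AddCommGroup Z] [Module L Z]
    (f : X →ₗ[L] V) (g : V →ₗ[L] W) (q : V →ₗ[L] Q₁) (q₂ : W →ₗ[L] Q₂) (pW : W →ₗ[L] Z)
    (hf : Function.Injective f) (hqf : ∀ z, q (f z) = 0) (hq : Function.Surjective q)
    (h₂ : Function.Exact g q₂) (hq₂ : Function.Surjective q₂) (h₃ : Function.Exact (g ∘ₗ f) pW)
    (hpW : Function.Surjective pW)
    [Module.Finite L Q₁] [Module.Finite L (LinearMap.ker g)] [Module.Finite L Q₂]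
    (hle : Module.finrank L (LinearMap.ker g) ≤ Module.finrank L Q₂) :
    Module.Finite L (LinearMap.ker (g ∘ₗ f)) ∧
      (Module.finrank L Q₁ : Cardinal.{u}) + Module.rank L (LinearMap.ker (g ∘ₗ f)) ≤ Module.rank L Z := by
  let U := LinearMap.ker q
  let P := Submodule.map g U
  haveI : Module.Finite L (LinearMap.ker U.subtype) := by rw [Submodule.ker_subtype]; infer_instance
  have he₃ : Function.Exact (g ∘ₗ U.subtype) P.mkQ := by
    rw [LinearMap.exact_iff, Submodule.ker_mkQ, LinearMap.range_comp, Submodule.range_subtype]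
  obtain ⟨hN, hQ, heq⟩ := EGA41Lib.index_comp U.subtype g q q₂ P.mkQ (LinearMap.exact_subtype_ker_map q) hq
    h₂ hq₂ he₃ P.mkQ_surjective
  haveI := hN
  haveI := hQ
  let j : LinearMap.ker (g ∘ₗ f) →ₗ[L] LinearMap.ker (g ∘ₗ U.subtype) :=
    { toFun := fun z => ⟨⟨f z.1, hqf _⟩, z.2⟩
      map_add' := fun a b => Subtype.ext (Subtype.ext (map_add f _ _))
      map_smul' := fun a b => Subtype.ext (Subtype.ext (map_smul f _ _)) }
  have hj : Function.Injective j := fun a b h => Subtype.ext (hf (congrArg (fun z => z.1.1) h))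
  haveI : Module.Finite L (LinearMap.ker (g ∘ₗ f)) := Module.Finite.of_injective j hj
  refine ⟨inferInstance, ?_⟩
  have hkle : LinearMap.ker pW ≤ LinearMap.ker P.mkQ := by
    intro w hw
    obtain ⟨x, rfl⟩ := (h₃ w).1 hw
    rw [LinearMap.mem_ker, Submodule.mkQ_apply, Submodule.Quotient.mk_eq_zero]
    exact ⟨f x, hqf x, rfl⟩
  let σ : Z →ₗ[L] W ⧸ P :=
    (LinearMap.ker pW).liftQ P.mkQ hkle ∘ₗ (pW.quotKerEquivOfSurjective hpW).symm.toLinearMap
  have hσ : Function.Surjective σ := by
    intro y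
    obtain ⟨w, rfl⟩ := P.mkQ_surjective y
    refine ⟨pW w, ?_⟩
    show Submodule.liftQ _ P.mkQ hkle ((pW.quotKerEquivOfSurjective hpW).symm
      ((pW.quotKerEquivOfSurjective hpW) (Submodule.Quotient.mk w))) = _
    rw [LinearEquiv.symm_apply_apply]
    rfl
  have h1 : (Module.finrank L (W ⧸ P) : Cardinal.{u}) ≤ Module.rank L Z := by
    rw [Module.finrank_eq_rank]
    exact LinearMap.rank_le_of_surjective σ hσ
  refine le_trans ?_ h1
  rw [← Module.finrank_eq_rank L (LinearMap.ker (g ∘ₗ f))]
  have h2 := LinearMap.finrank_le_finrank_of_injective hj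
  rw [Submodule.ker_subtype, finrank_bot] at heq
  exact_mod_cast (by omega : Module.finrank L Q₁ + Module.finrank L (LinearMap.ker (g ∘ₗ f)) ≤
    Module.finrank L (W ⧸ P))

/-- The imperfection module and the differentials of a finite extension of a separable field. -/
theorem imperfection_of_finite_extension {k L₀ L : Type u} [Field k] [Field L₀] [Field L] [Algebra k L₀]
    [Algebra L₀ L] [Algebra k L] [IsScalarTower k L₀ L] [FiniteDimensional L₀ L] (n : ℕ)
    (hinj : Function.Injective (KaehlerDifferential.mapBaseChange ℤ k L₀))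
    (hsurj : ∃ f : Ω[L₀⁄k] →ₗ[L₀] (Fin n → L₀), Function.Surjective f) :
    Module.Finite L (LinearMap.ker (KaehlerDifferential.mapBaseChange ℤ k L)) ∧
      (n : Cardinal.{u}) + Module.rank L (LinearMap.ker (KaehlerDifferential.mapBaseChange ℤ k L)) ≤
        Module.rank L Ω[L⁄k] := by
  classical
  obtain ⟨f₁, hf₁⟩ := hsurj
  obtain ⟨d, -, -, hΥfin, hΥle, -⟩ := EGA41Lib.exists_indexProp ℤ L₀ L
  haveI : Module.Finite L (LinearMap.ker (KaehlerDifferential.mapBaseChange ℤ L₀ L)) := hΥfin
  haveI : Module.Finite L Ω[L⁄L₀] := by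
    obtain ⟨d', -, h1, -⟩ := EGA41Lib.exists_indexProp ℤ L₀ L
    exact h1
  let c := AlgebraTensorModule.cancelBaseChange k L₀ L L Ω[k⁄ℤ]
  let m := KaehlerDifferential.mapBaseChange ℤ k L₀
  let f : L ⊗[k] Ω[k⁄ℤ] →ₗ[L] L ⊗[L₀] Ω[L₀⁄ℤ] := m.baseChange L ∘ₗ c.symm.toLinearMap
  let g := KaehlerDifferential.mapBaseChange ℤ L₀ L
  have hgf : g ∘ₗ f = KaehlerDifferential.mapBaseChange ℤ k L := by
    refine LinearMap.restrictScalars_injective k (TensorProduct.ext' fun l ω => ?_)
    have hω : ω ∈ Submodule.span k (Set.range (KaehlerDifferential.D ℤ k)) := by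
      rw [KaehlerDifferential.span_range_derivation]; trivial
    induction hω using Submodule.span_induction generalizing l with
    | mem x hx =>
      obtain ⟨a, rfl⟩ := hx
      simp [f, g, c, m, ← IsScalarTower.algebraMap_apply k L₀ L]
    | zero => simp
    | add x y _ _ hx hy => simp only [TensorProduct.tmul_add, map_add, hx l, hy l]
    | smul a x _ hx => rw [← TensorProduct.smul_tmul]; exact hx (a • l)
  have hfinj : Function.Injective f :=
    (Module.Flat.lTensor_preserves_injective_linearMap m hinj).comp c.symm.injective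
  -- a finite-dimensional quotient of the relative differentials
  let q : L ⊗[L₀] Ω[L₀⁄ℤ] →ₗ[L] L ⊗[L₀] (Fin n → L₀) :=
    (f₁.restrictScalars L₀ ∘ₗ KaehlerDifferential.map ℤ k L₀ L₀).baseChange L
  have hq : Function.Surjective q :=
    LinearMap.lTensor_surjective L (hf₁.comp (KaehlerDifferential.map_surjective ℤ k L₀))
  have hqf : ∀ z, q (f z) = 0 := fun z => by
    show q (m.baseChange L (c.symm z)) = 0
    induction c.symm z using TensorProduct.induction_on with
    | zero => simp
    | add a b ha hb => rw [map_add, map_add, ha, hb, add_zero]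
    | tmul l x =>
      show l ⊗ₜ[L₀] f₁ (KaehlerDifferential.map ℤ k L₀ L₀ (m x)) = 0
      rw [(KaehlerDifferential.exact_mapBaseChange_map ℤ k L₀).apply_apply_eq_zero x, map_zero, TensorProduct.tmul_zero]
  have h3 : Module.finrank L (LinearMap.ker g) ≤ Module.finrank L Ω[L⁄L₀] := by
    have : Module.finrank L (EGA41.imperfection ℤ L₀ L) + d ≤ Module.finrank L Ω[L⁄L₀] := hΥle
    exact le_of_add_le_left this
  have h₃ : Function.Exact (g ∘ₗ f) (KaehlerDifferential.map ℤ k L L) := by
    rw [hgf]; exact KaehlerDifferential.exact_mapBaseChange_map ℤ k L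
  obtain ⟨hfin, hle⟩ := rank_coker_comp_ge f g q (KaehlerDifferential.map ℤ L₀ L L)
    (KaehlerDifferential.map ℤ k L L) hfinj hqf hq (KaehlerDifferential.exact_mapBaseChange_map ℤ L₀ L)
    (KaehlerDifferential.map_surjective ℤ L₀ L) h₃ (KaehlerDifferential.map_surjective ℤ k L) h3
  rw [hgf] at hfin hle
  rw [Module.finrank_baseChange, Module.finrank_fin_fun] at hle
  exact ⟨hfin, hle⟩

/-- The dimension formula when the Frobenius is finite. -/
theorem finrank_kaehler_of_finite_extension (p : ℕ) [Fact p.Prime] {k L₀ L : Type u} [Field k] [CharP k p]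
    [Field L₀] [Field L] [Algebra k L₀] [Algebra L₀ L] [Algebra k L] [IsScalarTower k L₀ L]
    [FiniteDimensional L₀ L] (n : ℕ) (hinj : Function.Injective (KaehlerDifferential.mapBaseChange ℤ k L₀))
    [Module.Finite L₀ Ω[L₀⁄k]] (hn : Module.finrank L₀ Ω[L₀⁄k] = n) :
    Module.Finite L Ω[L⁄k] ∧
      Module.finrank L Ω[L⁄k] = n + Module.finrank L (LinearMap.ker (KaehlerDifferential.mapBaseChange ℤ k L)) := by
  haveI : CharP L₀ p := charP_of_injective_algebraMap (algebraMap k L₀).injective p
  have hbot : EGA41.imperfection ℤ k L₀ = ⊥ := LinearMap.ker_eq_bot.2 hinj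
  haveI : Module.Finite L₀ (EGA41.imperfection ℤ k L₀) := by rw [hbot]; infer_instance
  obtain ⟨d, hd, h1, h2, -, h4⟩ := EGA41Lib.exists_indexProp ℤ L₀ L
  haveI := h1
  haveI := h2
  obtain ⟨g1, g2, g3⟩ := EGA41Lib.index_tower ℤ k L₀ L
  have hd0 : d = 0 := by
    have h0 : Algebra.trdeg L₀ L = 0 := trdeg_eq_zero
    rw [h0] at hd
    exact_mod_cast hd.symm
  have h5 := h4 (fun q hq _ r => ⟨(r : L₀), by
    haveI := Fact.mk hq
    rw [show algebraMap ℤ L₀ r = (r : L₀) from eq_intCast _ r]
    exact map_intCast (frobenius L₀ q) r⟩)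
  rw [hbot, finrank_bot, hn] at g3
  refine ⟨g1, ?_⟩
  have : Module.finrank L (EGA41.imperfection ℤ k L) = Module.finrank L (LinearMap.ker (KaehlerDifferential.mapBaseChange ℤ k L)) := rfl
  omega

end Groth.Agent.CommAlg6
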