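import Groth.Agent.CommAlg6.CompletedKaehlerRank
import Mathlib.RingTheory.Unramified.Locus

/-! Parameters whose differentials generate the completed differentials at a prime. -/

set_option autoImplicit false
set_option linter.style.haveILetI false

universe u

open IsLocalRing TensorProduct

namespace Groth.Agent.CommAlg6

variable (k A : Type u) [Field k] [CommRing A] [IsLocalRing A] [IsNoetherianRing A] [Algebra k A]
  [Module.Finite k (ResidueField A)] [IsAdicComplete (maximalIdeal A) A] (p : Ideal A) [p.IsPrime]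

/-- The class of an exact differential in the fibre at `p`. -/
noncomputable abbrev dFibre (a : A) : p.ResidueField ⊗[A] CKaehler k A :=
  TensorProduct.mk A p.ResidueField (CKaehler k A) 1 (cD k A a)

omit [IsNoetherianRing A] [Module.Finite k (ResidueField A)] [IsAdicComplete (maximalIdeal A) A] in
theorem dFibre_mul (a b : A) :
    dFibre k A p (a * b) = algebraMap A p.ResidueField a • dFibre k A p b +
      algebraMap A p.ResidueField b • dFibre k A p a := by
  rw [dFibre, Derivation.leibniz, map_add, map_smul, map_smul, algebraMap_smul, algebraMap_smul]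

/-- A unit multiple of a parameter off `p` has differential outside a given proper subspace. -/
theorem exists_unit_dFibre_notMem (S : Submodule p.ResidueField (p.ResidueField ⊗[A] CKaehler k A)) (hS : S ≠ ⊤)
    {x : A} (hx : x ∈ maximalIdeal A) (hxp : x ∉ p) : ∃ u : Aˣ, dFibre k A p ((u : A) * x) ∉ S := by
  by_cases h0 : dFibre k A p x ∈ S
  swap
  · exact ⟨1, by simpa using h0⟩
  have hx0 : algebraMap A p.ResidueField x ≠ 0 := fun h => hxp (Ideal.algebraMap_residueField_eq_zero.1 h)
  obtain ⟨z, hzm, hz⟩ : ∃ z ∈ maximalIdeal A, dFibre k A p z ∉ S := by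
    by_contra hcon
    push Not at hcon
    refine hS (eq_top_iff.2 ?_)
    haveI := finite_cKaehler k A
    refine ((span_fibre_eq_top_iff p (Set.range (cD k A))).2 fun w => ⟨1, fun h1 => ‹p.IsPrime›.ne_top
      ((Ideal.eq_top_iff_one p).2 h1), (span_range_cD k A).ge Submodule.mem_top⟩).ge.trans (Submodule.span_le.2 ?_)
    rintro _ ⟨_, ⟨a, rfl⟩, rfl⟩
    have h1 := hcon _ (Ideal.mul_mem_left _ a hx)
    rw [dFibre_mul, add_comm] at h1
    rw [Submodule.add_mem_iff_left _ (Submodule.smul_mem _ _ h0), Submodule.smul_mem_iff _ hx0] at h1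
    exact h1
  refine ⟨((IsLocalRing.notMem_maximalIdeal (x := 1 + z)).1 fun h =>
    (maximalIdeal.isMaximal A).ne_top ((Ideal.eq_top_iff_one _).2 (by simpa using sub_mem h hzm))).unit, ?_⟩
  rw [IsUnit.unit_spec, dFibre_mul,
    Submodule.add_mem_iff_right _ (Submodule.smul_mem _ _ h0), Submodule.smul_mem_iff _ hx0]
  rw [dFibre, map_add, Derivation.map_one_eq_zero, zero_add]
  exact hz

/-- Unit multiples of enough parameters off `p` generate the fibre of the completed differentials. -/
theorem exists_units_span_fibre : ∀ (m : ℕ) (x : Fin m → A), (∀ i, x i ∈ maximalIdeal A ∧ x i ∉ p) →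
    ∃ u : Fin m → Aˣ, min m (Module.finrank p.ResidueField (p.ResidueField ⊗[A] CKaehler k A)) ≤
      Module.finrank p.ResidueField
        (Submodule.span p.ResidueField (Set.range fun i => dFibre k A p ((u i : A) * x i))) := by
  intro m
  haveI := finite_cKaehler k A
  induction m with
  | zero => exact fun x _ => ⟨fun i => i.elim0, by simp⟩
  | succ m ih =>
    intro x hx
    obtain ⟨u, hu⟩ := ih (fun i => x i.castSucc) fun i => hx _
    let S := Submodule.span p.ResidueField (Set.range fun i => dFibre k A p ((u i : A) * x i.castSucc))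
    have hsub : ∀ u₀ : Aˣ, S ≤ Submodule.span p.ResidueField
        (Set.range fun i : Fin (m + 1) => dFibre k A p (((Fin.snoc u u₀ : Fin (m + 1) → Aˣ) i : A) * x i)) := fun u₀ => by
      refine Submodule.span_mono ?_
      rintro _ ⟨i, rfl⟩
      exact ⟨i.castSucc, by simp only [Fin.snoc_castSucc]⟩
    by_cases hS : S = ⊤
    · refine ⟨Fin.snoc u 1, (min_le_right _ _).trans ?_⟩
      rw [eq_top_iff.2 (hS.ge.trans (hsub 1)), finrank_top]
    · obtain ⟨u₀, hu₀⟩ := exists_unit_dFibre_notMem k A p S hS (hx (Fin.last m)).1 (hx (Fin.last m)).2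
      refine ⟨Fin.snoc u u₀, ?_⟩
      have hlt : S < Submodule.span p.ResidueField
          (Set.range fun i : Fin (m + 1) => dFibre k A p (((Fin.snoc u u₀ : Fin (m + 1) → Aˣ) i : A) * x i)) :=
        lt_of_le_of_ne (hsub u₀) fun h => hu₀ (h ▸ Submodule.subset_span ⟨Fin.last m, by simp only [Fin.snoc_last]⟩)
      have h1 := Submodule.finrank_lt_finrank_of_lt hlt
      have h2 : min (m + 1) (Module.finrank p.ResidueField (p.ResidueField ⊗[A] CKaehler k A)) ≤
          min m (Module.finrank p.ResidueField (p.ResidueField ⊗[A] CKaehler k A)) + 1 := by omega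
      exact h2.trans ((Nat.add_le_add_right hu 1).trans h1)

/-- With enough parameters the fibre is spanned. -/
theorem exists_units_span_fibre_eq_top (m : ℕ) (x : Fin m → A) (hx : ∀ i, x i ∈ maximalIdeal A ∧ x i ∉ p)
    (hm : Module.finrank p.ResidueField (p.ResidueField ⊗[A] CKaehler k A) ≤ m) :
    ∃ u : Fin m → Aˣ, ∀ y : CKaehler k A, ∃ c ∉ p,
      c • y ∈ Submodule.span A (Set.range fun i => cD k A ((u i : A) * x i)) := by
  haveI := finite_cKaehler k A
  obtain ⟨u, hu⟩ := exists_units_span_fibre k A p m x hx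
  refine ⟨u, (span_fibre_eq_top_iff p _).1 ?_⟩
  rw [← Set.range_comp]
  refine Submodule.eq_top_of_finrank_eq (le_antisymm (Submodule.finrank_le _) ?_)
  exact ((min_eq_right hm).ge.trans hu)

omit [Module.Finite k (ResidueField A)] [IsAdicComplete (maximalIdeal A) A] in
/-- Systems of parameters avoiding a non-maximal prime. -/
theorem exists_parameters_notMem (hp : p ≠ maximalIdeal A) (m : ℕ) (hm : ringKrullDim A ≤ m) :
    ∃ x : Fin m → A, (∀ i, x i ∈ maximalIdeal A ∧ x i ∉ p) ∧ ∃ N, maximalIdeal A ^ N ≤ Ideal.span (Set.range x) := by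
  classical
  obtain ⟨y, hym, hyp⟩ : ∃ y ∈ maximalIdeal A, y ∉ p :=
    Set.not_subset.1 fun h => hp (le_antisymm (le_maximalIdeal ‹p.IsPrime›.ne_top) h)
  obtain ⟨n, a, hn, ha, hart⟩ := CAlgH.exists_sop A
  have hnm : n ≤ m := by rw [hn] at hm; exact_mod_cast hm
  obtain ⟨N, hN⟩ : ∃ N, maximalIdeal A ^ N ≤ Ideal.span (Set.range a) := by
    haveI := hart
    refine Ideal.exists_pow_le_of_le_radical_of_fg ?_ (IsNoetherian.noetherian _)
    rw [Ideal.radical_eq_sInf]
    refine le_sInf fun P ⟨hP, hPp⟩ => ?_
    haveI := hPp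
    haveI : (P.map (Ideal.Quotient.mk (Ideal.span (Set.range a)))).IsPrime :=
      Ideal.map_isPrime_of_surjective Ideal.Quotient.mk_surjective (by rw [Ideal.mk_ker]; exact hP)
    haveI : (P.map (Ideal.Quotient.mk (Ideal.span (Set.range a)))).IsMaximal := IsArtinianRing.isMaximal_of_isPrime _
    have hc := Ideal.comap_isMaximal_of_surjective (Ideal.Quotient.mk (Ideal.span (Set.range a)))
      Ideal.Quotient.mk_surjective (K := P.map (Ideal.Quotient.mk _))
    rw [Ideal.comap_map_of_surjective _ Ideal.Quotient.mk_surjective, ← RingHom.ker_eq_comap_bot, Ideal.mk_ker,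
      sup_eq_left.2 hP] at hc
    exact (eq_maximalIdeal hc).ge
  let x : Fin m → A := fun i =>
    if h : i.1 < n then (if a ⟨i.1, h⟩ ∈ p then a ⟨i.1, h⟩ + y ^ (N + 1) else a ⟨i.1, h⟩) else y
  refine ⟨x, fun i => ?_, N, hN.trans ?_⟩
  · simp only [x]
    split_ifs with h h'
    · exact ⟨add_mem (ha _) (Ideal.pow_mem_of_mem _ hym _ N.succ_pos), fun h2 =>
        hyp (‹p.IsPrime›.mem_of_pow_mem _ ((Submodule.add_mem_iff_right _ h').1 h2))⟩
    · exact ⟨ha _, h'⟩
    · exact ⟨hym, hyp⟩
  · have hle : Ideal.span (Set.range a) ≤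
        Ideal.span (Set.range x) ⊔ maximalIdeal A • Ideal.span (Set.range a) := by
      rw [Ideal.span_le]
      rintro _ ⟨j, rfl⟩
      have hy : y ^ (N + 1) ∈ maximalIdeal A • Ideal.span (Set.range a) := by
        rw [pow_succ']
        exact Submodule.smul_mem_smul hym (hN (Ideal.pow_mem_pow hym N))
      have hxj : x ⟨j.1, j.2.trans_le hnm⟩ - a j ∈ maximalIdeal A • Ideal.span (Set.range a) := by
        simp only [x, dif_pos j.2, Fin.eta]
        split_ifs
        · simpa using hy
        · simp
      rw [SetLike.mem_coe, show a j = x ⟨j.1, j.2.trans_le hnm⟩ - (x ⟨j.1, j.2.trans_le hnm⟩ - a j) by abel]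
      exact sub_mem (Submodule.mem_sup_left (Ideal.subset_span ⟨_, rfl⟩)) (Submodule.mem_sup_right hxj)
    exact Submodule.le_of_le_smul_of_le_jacobson_bot (IsNoetherian.noetherian _)
      (IsLocalRing.maximalIdeal_le_jacobson _) hle

omit [IsAdicComplete (maximalIdeal A) A] [Module.Finite k (ResidueField A)] in
theorem exists_notMem_smul_of_subsingleton {M N : Type u} [AddCommGroup M] [Module A M] [AddCommGroup N] [Module A N]
    (f : M →ₗ[A] N) [IsLocalizedModule p.primeCompl f] (h : Subsingleton N) (x : M) : ∃ c ∉ p, c • x = 0 := by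
  obtain ⟨c, hc⟩ := (IsLocalizedModule.eq_zero_iff p.primeCompl f).1 (Subsingleton.elim (f x) 0)
  exact ⟨c, c.2, hc⟩

/-- For a finite local map from power series, unramified at `p` means that the differentials of the
variables generate the completed differentials at `p`. -/
theorem isUnramifiedAt_iff_generates {m : ℕ} [Algebra (MvPowerSeries (Fin m) k) A]
    [IsScalarTower k (MvPowerSeries (Fin m) k) A] [Module.Finite (MvPowerSeries (Fin m) k) A]
    [IsLocalHom (algebraMap (MvPowerSeries (Fin m) k) A)] :
    Algebra.IsUnramifiedAt (MvPowerSeries (Fin m) k) p ↔ ∀ y : CKaehler k A, ∃ c ∉ p, c • y ∈ Submodule.span A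
      (Set.range fun i => cD k A (algebraMap (MvPowerSeries (Fin m) k) A (MvPowerSeries.X i))) := by
  let R := MvPowerSeries (Fin m) k
  let P : Submodule A (CKaehler k A) :=
    Submodule.span A (Set.range fun i => cD k A (algebraMap R A (MvPowerSeries.X i)))
  let f := KaehlerDifferential.map R R A (Localization.AtPrime p)
  constructor
  · intro hun y
    haveI := hun
    let Q := CKaehler k A ⧸ P
    haveI := finite_cKaehler k A
    haveI : IsScalarTower k R Q := .of_algebraMap_smul fun c w => by
      rw [← algebraMap_smul A (algebraMap k R c) w, ← IsScalarTower.algebraMap_apply k R A, algebraMap_smul]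
    have hmem : ∀ (n : ℕ) (w : Q), w ∈ maximalIdeal R ^ n • (⊤ : Submodule R Q) →
        w ∈ maximalIdeal A ^ n • (⊤ : Submodule A Q) := fun n w hw => by
      induction hw using Submodule.smul_induction_on' with
      | smul r hr z _ =>
        rw [← algebraMap_smul A r z]
        refine Submodule.smul_mem_smul ?_ trivial
        exact Ideal.le_comap_pow (algebraMap R A) n
          (Ideal.pow_right_mono (fun a ha => map_nonunit (algebraMap R A) a ha) n hr)
      | add a _ b _ ha hb => exact add_mem ha hb
    haveI : IsHausdorff (maximalIdeal A) Q :=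
      IsHausdorff.of_le_jacobson (M := Q) (maximalIdeal A) (IsLocalRing.maximalIdeal_le_jacobson _)
    haveI : IsHausdorff (maximalIdeal R) Q := ⟨fun w hw =>
      IsHausdorff.haus (I := maximalIdeal A) inferInstance w fun n => SModEq.zero.2 (hmem n w (SModEq.zero.1 (hw n)))⟩
    let δ : Derivation k A Q := P.mkQ.compDer (cD k A)
    let δR : Derivation k R Q := Derivation.mk'
      { toFun := fun r => δ (algebraMap R A r)
        map_add' := fun a b => by rw [map_add, map_add]
        map_smul' := fun c r => by
          rw [Algebra.smul_def, map_mul, ← IsScalarTower.algebraMap_apply, ← Algebra.smul_def, Derivation.map_smul,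
            RingHom.id_apply] }
      fun a b => by
        show δ (algebraMap R A (a * b)) = a • δ (algebraMap R A b) + b • δ (algebraMap R A a)
        rw [map_mul, Derivation.leibniz, algebraMap_smul, algebraMap_smul]
    have hzero : ∀ r : R, δ (algebraMap R A r) = 0 := fun r =>
      derivation_eq_zero_mvPowerSeries δR (fun i => (Submodule.Quotient.mk_eq_zero P).2
        (Submodule.subset_span ⟨i, rfl⟩)) r
    let δ' : Derivation R A Q := Derivation.mk'
      { toFun := δ
        map_add' := fun a b => map_add δ a b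
        map_smul' := fun r a => by
          rw [Algebra.smul_def, Derivation.leibniz, hzero, smul_zero, add_zero, RingHom.id_apply, algebraMap_smul] }
      fun a b => δ.leibniz a b
    have hsurj : Function.Surjective δ'.liftKaehlerDifferential := by
      rw [← LinearMap.range_eq_top, eq_top_iff]
      intro z _
      obtain ⟨z, rfl⟩ := P.mkQ_surjective z
      induction ((span_range_cD k A).ge (Submodule.mem_top (x := z))) using Submodule.span_induction with
      | mem z hz =>
        obtain ⟨a, rfl⟩ := hz
        exact ⟨KaehlerDifferential.D R A a, δ'.liftKaehlerDifferential_comp_D a⟩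
      | zero => rw [map_zero]; exact zero_mem _
      | add a b _ _ ha hb => rw [map_add]; exact add_mem (ha trivial) (hb trivial)
      | smul c a _ ha => rw [map_smul]; exact Submodule.smul_mem _ _ (ha trivial)
    obtain ⟨ω, hω⟩ := hsurj (P.mkQ y)
    obtain ⟨c, hc, hcω⟩ := exists_notMem_smul_of_subsingleton A p f
      (Algebra.FormallyUnramified.subsingleton_kaehlerDifferential) ω
    refine ⟨c, hc, (Submodule.Quotient.mk_eq_zero P).1 ?_⟩
    show P.mkQ (c • y) = 0
    rw [map_smul, ← hω, ← map_smul, hcω, map_zero]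
  · intro h
    obtain ⟨ψ, hψ⟩ := exists_cKaehler_lift k A ((KaehlerDifferential.D R A).restrictScalars k)
    have hP : P ≤ LinearMap.ker ψ := Submodule.span_le.2 (by
      rintro _ ⟨i, rfl⟩
      exact (hψ _).trans ((KaehlerDifferential.D R A).map_algebraMap _))
    have hker : ∀ ω : Ω[A⁄R], ∃ c ∉ p, c • ω = 0 := fun ω => by
      obtain ⟨y, rfl⟩ : ω ∈ LinearMap.range ψ := by
        induction ((KaehlerDifferential.span_range_derivation R A).ge (Submodule.mem_top (x := ω)))
          using Submodule.span_induction with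
        | mem z hz => obtain ⟨a, rfl⟩ := hz; exact ⟨cD k A a, hψ a⟩
        | zero => exact zero_mem _
        | add a b _ _ ha hb => exact add_mem ha hb
        | smul c a _ ha => exact Submodule.smul_mem _ _ ha
      obtain ⟨c, hc, hcy⟩ := h y
      exact ⟨c, hc, by rw [← map_smul]; exact LinearMap.mem_ker.1 (hP hcy)⟩
    refine ⟨⟨fun a b => ?_⟩⟩
    suffices hz : ∀ w, w = (0 : Ω[Localization.AtPrime p⁄R]) from (hz a).trans (hz b).symm
    intro w
    obtain ⟨⟨ω, s⟩, rfl⟩ := IsLocalizedModule.mk'_surjective p.primeCompl f w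
    obtain ⟨c, hc, hcω⟩ := hker ω
    show IsLocalizedModule.mk' f ω s = 0
    rw [IsLocalizedModule.mk'_eq_zero, IsLocalizedModule.eq_zero_iff p.primeCompl]
    exact ⟨⟨c, hc⟩, hcω⟩

theorem exists_generators_fibre :
    ∃ g : Fin (Module.finrank p.ResidueField (p.ResidueField ⊗[A] CKaehler k A)) → CKaehler k A,
      ∀ y, ∃ c ∉ p, c • y ∈ Submodule.span A (Set.range g) := by
  haveI := finite_cKaehler k A
  have htop : Submodule.span p.ResidueField (TensorProduct.mk A p.ResidueField (CKaehler k A) 1 '' Set.univ) = ⊤ :=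
    (span_fibre_eq_top_iff p _).2 fun y => ⟨1, fun h1 => ‹p.IsPrime›.ne_top ((Ideal.eq_top_iff_one p).2 h1),
      Submodule.subset_span trivial⟩
  obtain ⟨b, hb, hspan, hli⟩ := exists_linearIndependent p.ResidueField
    (TensorProduct.mk A p.ResidueField (CKaehler k A) 1 '' Set.univ)
  rw [htop] at hspan
  let B := Module.Basis.mk hli (by rw [Subtype.range_coe, hspan])
  haveI : Finite b := Module.Finite.finite_basis B
  let e : Fin (Module.finrank p.ResidueField (p.ResidueField ⊗[A] CKaehler k A)) ≃ b :=
    (finCongr (by rw [Module.finrank_eq_nat_card_basis B])).trans (Finite.equivFin b).symm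
  choose g hg using fun i => hb (e i).2
  refine ⟨g, (span_fibre_eq_top_iff p _).1 (eq_top_iff.2 (hspan.ge.trans (Submodule.span_mono ?_)))⟩
  intro z hz
  refine ⟨g (e.symm ⟨z, hz⟩), ⟨_, rfl⟩, ?_⟩
  rw [(hg _).2, e.apply_symm_apply]

omit [Module.Finite k (ResidueField A)] [IsAdicComplete (maximalIdeal A) A] in
theorem exists_lift_of_localized_generators {ι : Type} (s : ι → LocalizedModule p.primeCompl (CKaehler k A))
    (hs : Submodule.span (Localization.AtPrime p) (Set.range s) = ⊤) :
    ∃ g : ι → CKaehler k A, ∀ y, ∃ c ∉ p, c • y ∈ Submodule.span A (Set.range g) := by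
  choose xt hxt using fun i =>
    IsLocalizedModule.mk'_surjective p.primeCompl (LocalizedModule.mkLinearMap p.primeCompl (CKaehler k A)) (s i)
  refine ⟨fun i => (xt i).1, (span_localized_eq_top_iff p _).1 (eq_top_iff.2 (hs.ge.trans (Submodule.span_le.2 ?_)))⟩
  rintro _ ⟨i, rfl⟩
  rw [← Submodule.localized'_span (Localization.AtPrime p) p.primeCompl, ← hxt i]
  exact (Submodule.mem_localized' _ _ _ _ _).2 ⟨_, Submodule.subset_span ⟨i, rfl⟩, _, rfl⟩

theorem finrank_fibre_le_of_generates {m : ℕ} (g : Fin m → CKaehler k A)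
    (hg : ∀ y, ∃ c ∉ p, c • y ∈ Submodule.span A (Set.range g)) :
    Module.finrank p.ResidueField (p.ResidueField ⊗[A] CKaehler k A) ≤ m := by
  haveI := finite_cKaehler k A
  have h := (span_fibre_eq_top_iff p (Set.range g)).2 hg
  rw [← Set.range_comp] at h
  have h1 := finrank_range_le_card (R := p.ResidueField) (b := (TensorProduct.mk A p.ResidueField (CKaehler k A) 1) ∘ g)
  rw [Set.finrank, h, finrank_top, Fintype.card_fin] at h1
  exact h1

theorem isUnramifiedAt_iff_span_localized {m : ℕ} [Algebra (MvPowerSeries (Fin m) k) A]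
    [IsScalarTower k (MvPowerSeries (Fin m) k) A] [Module.Finite (MvPowerSeries (Fin m) k) A]
    [IsLocalHom (algebraMap (MvPowerSeries (Fin m) k) A)] :
    Algebra.IsUnramifiedAt (MvPowerSeries (Fin m) k) p ↔ Submodule.span (Localization.AtPrime p)
      (Set.range fun i => LocalizedModule.mkLinearMap p.primeCompl (CKaehler k A)
        (cD k A (algebraMap (MvPowerSeries (Fin m) k) A (MvPowerSeries.X i)))) = ⊤ := by
  rw [isUnramifiedAt_iff_generates, ← span_localized_eq_top_iff, ← Set.range_comp]
  rfl

end Groth.Agent.CommAlg6
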