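import Groth.Agent.CommAlg6.CompletedKaehlerQuot
import Groth.Agent.CommAlg6.ImperfectionDim
import Groth.Agent.S5055

/-! Completed differentials at regular primes, over perfect fields. -/

set_option autoImplicit false
set_option linter.style.haveILetI false

universe u

open IsLocalRing TensorProduct

namespace Groth.Agent.CommAlg6

theorem subsingleton_kaehler_perfectField (k : Type u) [Field k] [PerfectField k] (p : ℕ) [Fact p.Prime] [CharP k p] :
    Subsingleton Ω[k⁄ℤ] := by
  haveI : PerfectRing k p := PerfectField.toPerfectRing p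
  refine subsingleton_of_forall_eq 0 fun w => ?_
  have hw : w ∈ Submodule.span k (Set.range (KaehlerDifferential.D ℤ k)) := by
    rw [KaehlerDifferential.span_range_derivation]; trivial
  refine (Submodule.mem_bot k).1 ((Submodule.span_le.2 ?_ : _ ≤ (⊥ : Submodule k Ω[k⁄ℤ])) hw)
  rintro _ ⟨x, rfl⟩
  obtain ⟨y, rfl⟩ := (frobeniusEquiv k p).surjective x
  rw [SetLike.mem_coe, Submodule.mem_bot, frobeniusEquiv_apply, frobenius_def, Derivation.leibniz_pow,
    ← Nat.cast_smul_eq_nsmul k p, CharP.cast_eq_zero, zero_smul]

/-- Over a perfect field, the completed differentials of a complete local domain need `dim` generators generically. -/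
theorem exists_generators_bot (k D : Type u) [Field k] [PerfectField k] [CommRing D] [IsDomain D] [IsLocalRing D]
    [IsNoetherianRing D] [Algebra k D] [IsAdicComplete (maximalIdeal D) D] [Module.Finite k (ResidueField D)]
    (n : ℕ) (hn : ringKrullDim D = n) :
    ∃ g : Fin n → CKaehler k D, ∀ w, ∃ c ≠ (0 : D), c • w ∈ Submodule.span D (Set.range g) := by
  classical
  obtain ⟨φ, hC, hfin, hinj, hloc⟩ := exists_mvPowerSeries_algebra_injective k D n hn
  let R := MvPowerSeries (Fin n) k
  haveI : IsRegularLocalRing R := (CAlgH.isRegularLocalRing_mvPowerSeries k n).1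
  haveI : IsDomain R := CAlgH3.isDomain_of_isRegularLocalRing R
  letI : Algebra R D := φ.toAlgebra
  haveI : IsScalarTower k R D := .of_algebraMap_eq fun c => (RingHom.congr_fun hC c).symm
  haveI : Module.Finite R D := hfin
  haveI : IsLocalHom (algebraMap R D) := hloc
  haveI : FaithfulSMul R D := (faithfulSMul_iff_algebraMap_injective R D).2 hinj
  let L := FractionRing D
  letI : Algebra (FractionRing R) L := FractionRing.liftAlgebra R L
  haveI : IsScalarTower R (FractionRing R) L := FractionRing.isScalarTower_liftAlgebra R L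
  haveI : IsScalarTower k (FractionRing R) L := .of_algebraMap_eq fun c => by
    rw [IsScalarTower.algebraMap_apply k R (FractionRing R), ← IsScalarTower.algebraMap_apply R (FractionRing R) L,
      ← IsScalarTower.algebraMap_apply k R L]
  haveI : FiniteDimensional (FractionRing R) L := inferInstance
  obtain _ | ⟨p, hp, hpk⟩ := CharP.exists' k
  · -- characteristic zero: unramified at the generic point
    haveI : CharZero R := charZero_of_injective_algebraMap (algebraMap k R).injective
    haveI : CharZero (FractionRing R) := charZero_of_injective_algebraMap (IsFractionRing.injective R _)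
    haveI : Algebra.IsSeparable (FractionRing R) L := inferInstance
    haveI : Algebra.FormallyUnramified R (FractionRing R) :=
      Algebra.FormallyUnramified.of_isLocalization (nonZeroDivisors R)
    haveI : Algebra.FormallyUnramified (FractionRing R) L := Algebra.FormallyUnramified.of_isSeparable _ L
    haveI : Algebra.FormallyUnramified R L := Algebra.FormallyUnramified.comp R (FractionRing R) L
    haveI : IsLocalization (⊥ : Ideal D).primeCompl L := by
      rw [show (⊥ : Ideal D).primeCompl = nonZeroDivisors D by
        ext x; simp [Ideal.primeCompl, mem_nonZeroDivisors_iff_ne_zero]]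
      infer_instance
    haveI : Algebra.IsUnramifiedAt R (⊥ : Ideal D) := Algebra.FormallyUnramified.of_equiv
      ((IsLocalization.algEquiv (⊥ : Ideal D).primeCompl L (Localization.AtPrime (⊥ : Ideal D))).restrictScalars R)
    refine ⟨fun i => cD k D (algebraMap R D (MvPowerSeries.X i)), fun w => ?_⟩
    obtain ⟨c, hc, h⟩ := (isUnramifiedAt_iff_generates k D (⊥ : Ideal D) (m := n)).1 inferInstance w
    exact ⟨c, fun h0 => hc (by simp [h0]), h⟩
  · haveI := hp
    haveI := hpk
    have hk : (frobenius k p).Finite :=
      haveI : PerfectRing k p := PerfectField.toPerfectRing p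
      RingHom.Finite.of_surjective _ (frobeniusEquiv k p).surjective
    haveI : Module.Finite D Ω[D⁄k] := finite_kaehler_of_finite_mvPowerSeries k n p hk D
    obtain ⟨hfL, hnL⟩ := finrank_kaehler_fractionRing k n p hk (FractionRing R)
    haveI := hfL
    obtain ⟨hfin', hrank⟩ := finrank_kaehler_of_finite_extension p (L₀ := FractionRing R) (L := L) n
      (injective_mapBaseChange_fractionRing k n (FractionRing R)) hnL
    haveI := hfin'
    haveI := subsingleton_kaehler_perfectField k p
    haveI : Subsingleton (L ⊗[k] Ω[k⁄ℤ]) := subsingleton_of_forall_eq 0 fun w => by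
      induction w using TensorProduct.induction_on with
      | zero => rfl
      | tmul a b => rw [Subsingleton.elim b 0, TensorProduct.tmul_zero]
      | add a b ha hb => rw [ha, hb, add_zero]
    have h0 : Module.finrank L (LinearMap.ker (KaehlerDifferential.mapBaseChange ℤ k L)) = 0 :=
      Module.finrank_zero_of_subsingleton
    replace hrank : Module.finrank L Ω[L⁄k] = n := hrank.trans (Nat.add_eq_left.2 (@Module.finrank_zero_of_subsingleton L _ _ _ _ _ ⟨fun a b => Subtype.ext (Subsingleton.elim _ _)⟩))
    let f := KaehlerDifferential.map k k D L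
    have hspan : Submodule.span L (Set.range (f ∘ KaehlerDifferential.D k D)) = ⊤ :=
      KaehlerDifferential.span_range_map_derivation_of_isLocalization k D L (nonZeroDivisors D)
    obtain ⟨b, hb, hbspan, hli⟩ := exists_linearIndependent L (Set.range (f ∘ KaehlerDifferential.D k D))
    rw [hspan] at hbspan
    let B := Module.Basis.mk hli (by rw [Subtype.range_coe, hbspan])
    haveI : Finite b := Module.Finite.finite_basis B
    let e : Fin n ≃ b := (finCongr (by rw [← hrank, Module.finrank_eq_nat_card_basis B])).trans (Finite.equivFin b).symm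
    choose a ha using fun i => hb (e i).2
    refine ⟨fun i => cD k D (a i), fun w => ?_⟩
    obtain ⟨ω, rfl⟩ : w ∈ LinearMap.range (AdicCompletion.of (maximalIdeal D) Ω[D⁄k]) := by
      refine (span_range_cD k D).ge.trans (Submodule.span_le.2 ?_) (Submodule.mem_top (x := w))
      rintro _ ⟨x, rfl⟩
      exact ⟨_, rfl⟩
    have hω : f ω ∈ Submodule.span L (f '' Set.range fun i => KaehlerDifferential.D k D (a i)) := by
      rw [← Set.range_comp, show Submodule.span L (Set.range (f ∘ fun i => KaehlerDifferential.D k D (a i))) = ⊤ from ?_]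
      · trivial
      refine eq_top_iff.2 (hbspan.ge.trans (Submodule.span_mono fun z hz => ⟨e.symm ⟨z, hz⟩, ?_⟩))
      exact (ha _).trans (by rw [e.apply_symm_apply])
    obtain ⟨c, hc, hcω⟩ := exists_smul_mem_span_of_mem_span (nonZeroDivisors D) L f _ ω hω
    refine ⟨c, nonZeroDivisors.ne_zero hc, ?_⟩
    have h2 := Submodule.mem_map_of_mem (f := AdicCompletion.of (maximalIdeal D) Ω[D⁄k]) hcω
    rw [map_smul, Submodule.map_span, ← Set.range_comp] at h2
    exact h2

/-- Over a perfect field, the completed differentials of a complete local domain at a regular prime are free. -/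
theorem free_of_regular_of_perfect_domain (k B : Type u) [Field k] [PerfectField k] [CommRing B] [IsDomain B]
    [IsLocalRing B] [IsNoetherianRing B] [Algebra k B] [IsAdicComplete (maximalIdeal B) B]
    [Module.Finite k (ResidueField B)] (n : ℕ) (hn : ringKrullDim B = n) (P : Ideal B) [P.IsPrime]
    (hreg : IsRegularLocalRing (Localization.AtPrime P)) :
    Module.Free (Localization.AtPrime P) (LocalizedModule P.primeCompl (CKaehler k B)) ∧
      Module.finrank (Localization.AtPrime P) (LocalizedModule P.primeCompl (CKaehler k B)) = n := by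
  classical
  haveI := hreg
  haveI : IsLocalRing (B ⧸ P) := IsLocalRing.of_surjective' (Ideal.Quotient.mk P) Ideal.Quotient.mk_surjective
  haveI := CAlgH.isAdicComplete_quotient P
  haveI := finite_residueField_quotient k B P
  let T := Localization.AtPrime P
  -- parameters
  have hsf := IsRegularLocalRing.spanFinrank_maximalIdeal (R := T)
  obtain ⟨gens, hcard, hgens⟩ := Submodule.FG.exists_span_finset_card_eq_spanFinrank (IsNoetherian.noetherian (maximalIdeal T))
  let d := gens.card
  have hxs : ∀ i : Fin d, ∃ x ∈ P, ∃ u : T, IsUnit u ∧ algebraMap B T x = u * (gens.equivFin.symm i : T) := fun i => by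
    obtain ⟨⟨b, s⟩, hbs⟩ := IsLocalization.surj P.primeCompl (gens.equivFin.symm i : T)
    have hm : (gens.equivFin.symm i : T) ∈ maximalIdeal T := hgens ▸ Submodule.subset_span (gens.equivFin.symm i).2
    refine ⟨b, ?_, algebraMap B T s, IsLocalization.map_units T s, by rw [← hbs, mul_comm]⟩
    rw [← IsLocalization.AtPrime.to_map_mem_maximal_iff T P, ← hbs]
    exact Ideal.mul_mem_right _ _ hm
  choose x hxP u hu hxu using hxs
  have hgen : ∀ z ∈ P, ∃ c ∉ P, c * z ∈ Ideal.span (Set.range x) := fun z hz => by
    have hzT : algebraMap B T z ∈ (Ideal.span (Set.range x)).map (algebraMap B T) := by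
      have h1 : algebraMap B T z ∈ maximalIdeal T := (IsLocalization.AtPrime.to_map_mem_maximal_iff T P z).2 hz
      rw [← hgens] at h1
      refine (Submodule.span_le.2 ?_ : Submodule.span T (gens : Set T) ≤ _) h1
      intro g hg
      rw [SetLike.mem_coe, ← Ideal.unit_mul_mem_iff_mem _ (hu (gens.equivFin ⟨g, hg⟩))]
      have := hxu (gens.equivFin ⟨g, hg⟩)
      rw [Equiv.symm_apply_apply] at this
      rw [← this]
      exact Ideal.mem_map_of_mem _ (Ideal.subset_span ⟨_, rfl⟩)
    obtain ⟨⟨⟨y, hy⟩, s⟩, hys⟩ := (IsLocalization.mem_map_algebraMap_iff P.primeCompl T).1 hzT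
    rw [← map_mul] at hys
    obtain ⟨c, hc⟩ := IsLocalization.exists_of_eq (M := P.primeCompl) hys
    refine ⟨(c : B) * s, (c * s).2, ?_⟩
    rw [mul_assoc, mul_comm (s : B) z, hc]
    exact Ideal.mul_mem_left _ _ hy
  obtain ⟨e, he⟩ : ∃ e : ℕ, ringKrullDim (B ⧸ P) = e := by
    refine ⟨(maximalIdeal (B ⧸ P)).height.toNat, ?_⟩
    rw [← IsLocalRing.maximalIdeal_height_eq_ringKrullDim]
    exact_mod_cast (ENat.coe_toNat (Ideal.height_ne_top (maximalIdeal.isMaximal _).ne_top)).symm
  obtain ⟨y, hy⟩ := exists_generators_bot k (B ⧸ P) e he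
  obtain ⟨y', hg⟩ := exists_generators_of_quotient k B P x hxP hgen y hy
  let g := Fin.append (fun i => cD k B (x i)) y'
  have hle : d + e ≤ n := by
    have h1 : (d : WithBot ℕ∞) = (P.height : WithBot ℕ∞) := by
      rw [← IsLocalization.AtPrime.ringKrullDim_eq_height P T, ← hsf]
      exact_mod_cast hcard
    have h2 := height_add_ringKrullDim_quotient_le P
    rw [← h1, he, hn] at h2
    exact_mod_cast h2
  by_cases hP : P = maximalIdeal B
  · -- at the closed point
    have hspanx : Ideal.span (Set.range x) = maximalIdeal B := by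
      refine le_antisymm (Ideal.span_le.2 (by rintro _ ⟨i, rfl⟩; exact hP ▸ hxP i)) fun z hz => ?_
      obtain ⟨c, hc, hcz⟩ := hgen z (hP.symm ▸ hz)
      exact (Ideal.unit_mul_mem_iff_mem _ ((IsLocalRing.notMem_maximalIdeal).1 (hP ▸ hc))).1 hcz
    have he0 : e = 0 := by
      have hPmax : P.IsMaximal := hP ▸ maximalIdeal.isMaximal B
      letI := Ideal.Quotient.field P
      rw [ringKrullDim_eq_zero_of_field] at he
      exact_mod_cast he.symm
    subst he0
    have hdn : d = n := by
      have h1 : (d : WithBot ℕ∞) = (P.height : WithBot ℕ∞) := by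
        rw [← IsLocalization.AtPrime.ringKrullDim_eq_height P T, ← hsf]
        exact_mod_cast hcard
      have h2 : (P.height : WithBot ℕ∞) = n := by rw [hP, IsLocalRing.maximalIdeal_height_eq_ringKrullDim, hn]
      rw [h2] at h1
      exact_mod_cast h1
    obtain ⟨φ, hC, hX, hfin, hloc⟩ := exists_mvPowerSeries_algebra k B x (fun i => hP ▸ hxP i) 1
      (by rw [pow_one, hspanx])
    letI : Algebra (MvPowerSeries (Fin d) k) B := φ.toAlgebra
    haveI : IsScalarTower k (MvPowerSeries (Fin d) k) B := .of_algebraMap_eq fun c => (RingHom.congr_fun hC c).symm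
    haveI : Module.Finite (MvPowerSeries (Fin d) k) B := hfin
    haveI : IsLocalHom (algebraMap (MvPowerSeries (Fin d) k) B) := hloc
    haveI : Algebra.IsUnramifiedAt (MvPowerSeries (Fin d) k) P := (isUnramifiedAt_iff_generates k B P).2 fun w => by
      obtain ⟨c, hc, hcw⟩ := hg w
      refine ⟨c, hc, Submodule.span_mono ?_ hcw⟩
      rintro _ ⟨i, rfl⟩
      refine Fin.addCases (fun j => ⟨j, ?_⟩) (fun j => j.elim0) i
      show cD k B (φ (MvPowerSeries.X j)) = _
      rw [hX, Fin.append_left]
    haveI := isEtaleAt_of_isUnramifiedAt k B P (⊥ : Ideal B) bot_le (m := d)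
      (by rw [ringKrullDim_eq_of_ringEquiv (RingEquiv.quotientBot B), hn, hdn])
    have h := free_of_isEtaleAt k B P (m := d)
    rwa [hdn] at h
  · have hgen' : ∃ s : Fin n → LocalizedModule P.primeCompl (CKaehler k B),
        Submodule.span (Localization.AtPrime P) (Set.range s) = ⊤ := by
      let g' : Fin n → CKaehler k B := fun i => if h : i.1 < d + e then g ⟨i.1, h⟩ else 0
      refine ⟨LocalizedModule.mkLinearMap P.primeCompl (CKaehler k B) ∘ g', ?_⟩
      rw [Set.range_comp, span_localized_eq_top_iff]
      intro w
      obtain ⟨c, hc, hcw⟩ := hg w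
      refine ⟨c, hc, Submodule.span_mono ?_ hcw⟩
      rintro _ ⟨i, rfl⟩
      exact ⟨⟨i.1, lt_of_lt_of_le i.2 hle⟩, by simp [g', g]⟩
    have hq : ∃ q ∈ minimalPrimes B, q ≤ P ∧ ringKrullDim (B ⧸ q) = n := by
      refine ⟨⊥, ?_, bot_le, by rw [ringKrullDim_eq_of_ringEquiv (RingEquiv.quotientBot B), hn]⟩
      rw [IsDomain.minimalPrimes_eq_singleton_bot]
      rfl
    exact (Groth.Agent.S5055.result k B n hn P hP hq hgen').1

end Groth.Agent.CommAlg6
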