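import Groth.Agent.CommAlg6.CompletedKaehlerRegular
import Groth.Agent.CommAlg6.AdicSmoothFree
import Groth.Agent.CommAlg6.GeomRedJapanese
import Groth.Agent.CAlgH.AdicSmoothGeom
import Groth.Agent.CAlgH.RegularHom
import Groth.Agent.AdicRing.Basic
import Groth.Agent.EGA41Lib.FieldSeparableSmooth

/-! Completed differentials at regular primes of complete local algebras which need not be domains. -/

set_option autoImplicit false
set_option linter.style.haveILetI false

universe u

open IsLocalRing TensorProduct

namespace Groth.Agent.CommAlg6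

/-- At a prime with a domain as local ring, the minimal prime below dies. -/
theorem exists_kill_of_minimalPrime {A : Type u} [CommRing A] (P : Ideal A) [P.IsPrime]
    [IsDomain (Localization.AtPrime P)] (q : Ideal A) (hq : q ∈ minimalPrimes A) (hqP : q ≤ P) :
    ∀ z ∈ q, ∃ c ∉ P, c * z = 0 := by
  intro z hz
  let T := Localization.AtPrime P
  have hle : (⊥ : Ideal T).comap (algebraMap A T) ≤ q := fun x hx => by
    haveI : q.IsPrime := hq.1.1
    obtain ⟨c, hc⟩ := (IsLocalization.map_eq_zero_iff P.primeCompl T x).1 hx
    exact (‹q.IsPrime›.mem_or_mem (hc ▸ q.zero_mem : (c : A) * x ∈ q)).resolve_left fun h => c.2 (hqP h)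
  have hz' : z ∈ (⊥ : Ideal T).comap (algebraMap A T) := hq.2 ⟨Ideal.comap_isPrime _ _, bot_le⟩ hle hz
  obtain ⟨c, hc⟩ := (IsLocalization.map_eq_zero_iff P.primeCompl T z).1 hz'
  exact ⟨c, c.2, hc⟩

/-- Over a perfect field, the completed differentials at a regular prime are free of the expected rank. -/
theorem free_of_regular_of_perfect (k A : Type u) [Field k] [PerfectField k] [CommRing A] [IsLocalRing A]
    [IsNoetherianRing A] [Algebra k A] [IsAdicComplete (maximalIdeal A) A] [Module.Finite k (ResidueField A)]
    (P : Ideal A) [P.IsPrime] (hreg : IsRegularLocalRing (Localization.AtPrime P))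
    (q : Ideal A) (hq : q ∈ minimalPrimes A) (hqP : q ≤ P) (n : ℕ) (hn : ringKrullDim (A ⧸ q) = n) :
    Module.Free (Localization.AtPrime P) (LocalizedModule P.primeCompl (CKaehler k A)) ∧
      Module.finrank (Localization.AtPrime P) (LocalizedModule P.primeCompl (CKaehler k A)) = n := by
  haveI := hreg
  haveI : IsDomain (Localization.AtPrime P) := CAlgH3.isDomain_of_isRegularLocalRing _
  haveI : q.IsPrime := hq.1.1
  have hkill := exists_kill_of_minimalPrime P q hq hqP
  haveI : IsLocalRing (A ⧸ q) := IsLocalRing.of_surjective' (Ideal.Quotient.mk q) Ideal.Quotient.mk_surjective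
  haveI := CAlgH.isAdicComplete_quotient q
  haveI := finite_residueField_quotient k A q
  haveI : (P.map (Ideal.Quotient.mk q)).IsPrime :=
    Ideal.map_isPrime_of_surjective Ideal.Quotient.mk_surjective (by rwa [Ideal.mk_ker])
  haveI := isLocalization_quotient_of_kill q P hqP hkill
  have hreg' : IsRegularLocalRing (Localization.AtPrime (P.map (Ideal.Quotient.mk q))) :=
    IsRegularLocalRing.of_ringEquiv (R := Localization.AtPrime P)
      (IsLocalization.algEquiv P.primeCompl (Localization.AtPrime P) _).toRingEquiv
  exact free_of_quotient k A q P hqP hkill n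
    (free_of_regular_of_perfect_domain k (A ⧸ q) n hn (P.map (Ideal.Quotient.mk q)) hreg')

theorem finrank_ker_mapBaseChange_eq_zero (k L : Type u) [Field k] [Field L] [Algebra k L]
    [Algebra.IsGeometricallyReduced k L] :
    Module.finrank L (LinearMap.ker (KaehlerDifferential.mapBaseChange ℤ k L)) = 0 := by
  rw [LinearMap.ker_eq_bot.2 (EGA41Lib.injective_mapBaseChange_of_isGeometricallyReduced ℤ k L), finrank_bot]

/-- The completed differentials at a geometrically regular prime, when the differentials are finite. -/
theorem free_of_geomRegular_charP (p : ℕ) [Fact p.Prime] (k A : Type u) [Field k] [CharP k p]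
    (hk : (frobenius k p).Finite) [CommRing A] [IsLocalRing A] [IsNoetherianRing A] [Algebra k A]
    [IsAdicComplete (maximalIdeal A) A] [Module.Finite k (ResidueField A)]
    (P : Ideal A) [P.IsPrime] (hP : CAlg.IsGeometricallyRegular k (Localization.AtPrime P))
    (q : Ideal A) (hq : q ∈ minimalPrimes A) (hqP : q ≤ P) (n : ℕ) (hn : ringKrullDim (A ⧸ q) = n) :
    Module.Free (Localization.AtPrime P) (LocalizedModule P.primeCompl (CKaehler k A)) ∧
      Module.finrank (Localization.AtPrime P) (LocalizedModule P.primeCompl (CKaehler k A)) = n := by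
  classical
  let T := Localization.AtPrime P
  haveI : IsNoetherianRing T := IsLocalization.isNoetherianRing P.primeCompl T inferInstance
  haveI : IsRegularLocalRing T := by
    haveI := CAlgH.isRegularRing_of_isGeometricallyRegular hP
    haveI := IsRegularRing.isRegularLocalRing_localization (R := T) (maximalIdeal T)
    exact IsRegularLocalRing.of_ringEquiv (R := Localization.AtPrime (maximalIdeal T))
      (IsLocalization.atUnits T (maximalIdeal T).primeCompl
        (fun x hx => IsLocalRing.notMem_maximalIdeal.1 hx)).toRingEquiv.symm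
  haveI : IsDomain T := CAlgH3.isDomain_of_isRegularLocalRing _
  haveI : q.IsPrime := hq.1.1
  -- finiteness
  obtain ⟨s, hs⟩ := (IsNoetherian.noetherian (maximalIdeal A) : (maximalIdeal A).FG)
  obtain ⟨x, hx⟩ : ∃ x : Fin s.card → A, Set.range x = s :=
    ⟨fun i => s.equivFin.symm i, by
      ext a; exact ⟨fun ⟨i, hi⟩ => hi ▸ (s.equivFin.symm i).2, fun ha => ⟨s.equivFin ⟨a, ha⟩, by simp⟩⟩⟩
  obtain ⟨φ, hC, -, hfin, hloc⟩ := exists_mvPowerSeries_algebra k A x
    (fun i => hs ▸ Submodule.subset_span (hx ▸ Set.mem_range_self i)) 1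
    (by rw [pow_one, hx]; exact hs.ge)
  letI : Algebra (MvPowerSeries (Fin s.card) k) A := φ.toAlgebra
  haveI : IsScalarTower k (MvPowerSeries (Fin s.card) k) A := .of_algebraMap_eq fun c => (RingHom.congr_fun hC c).symm
  haveI : Module.Finite (MvPowerSeries (Fin s.card) k) A := hfin
  haveI : Module.Finite A Ω[A⁄k] := finite_kaehler_of_finite_mvPowerSeries k s.card p hk A
  haveI : Module.Finite T Ω[T⁄k] := Module.Finite.of_isLocalizedModule P.primeCompl (KaehlerDifferential.map k k A T)
  haveI : Module.Free T Ω[T⁄k] :=
    free_kaehler_of_adicFormallySmooth k T (CAlgH.AdicSmooth.of_isGeometricallyRegular hP)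
  haveI : IsAdicComplete (maximalIdeal A) Ω[A⁄k] := AdicRing.isAdicComplete_of_finite (maximalIdeal A) Ω[A⁄k]
  let e0 : LocalizedModule P.primeCompl (CKaehler k A) ≃ₗ[A] Ω[T⁄k] :=
    (IsLocalizedModule.mapEquiv P.primeCompl (LocalizedModule.mkLinearMap P.primeCompl (CKaehler k A))
      (LocalizedModule.mkLinearMap P.primeCompl Ω[A⁄k]) (Localization.AtPrime P)
      (AdicCompletion.ofLinearEquiv (maximalIdeal A) Ω[A⁄k]).symm).restrictScalars A ≪≫ₗ
    IsLocalizedModule.iso P.primeCompl (KaehlerDifferential.map k k A T)
  let e := LinearEquiv.extendScalarsOfIsLocalization P.primeCompl T e0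
  refine ⟨Module.Free.of_equiv e.symm, ?_⟩
  rw [e.finrank_eq]
  -- the generic point
  have hkill := exists_kill_of_minimalPrime P q hq hqP
  haveI : IsLocalRing (A ⧸ q) := IsLocalRing.of_surjective' (Ideal.Quotient.mk q) Ideal.Quotient.mk_surjective
  haveI := CAlgH.isAdicComplete_quotient q
  haveI := finite_residueField_quotient k A q
  let D := A ⧸ q
  obtain ⟨θ, hC', hfin', hinj, -⟩ := exists_mvPowerSeries_algebra_injective k D n hn
  let R := MvPowerSeries (Fin n) k
  haveI : IsRegularLocalRing R := (CAlgH.isRegularLocalRing_mvPowerSeries k n).1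
  haveI : IsDomain R := CAlgH3.isDomain_of_isRegularLocalRing R
  letI : Algebra R D := θ.toAlgebra
  haveI : IsScalarTower k R D := .of_algebraMap_eq fun c => (RingHom.congr_fun hC' c).symm
  haveI : Module.Finite R D := hfin'
  haveI : FaithfulSMul R D := (faithfulSMul_iff_algebraMap_injective R D).2 hinj
  let L := FractionRing D
  letI : Algebra (FractionRing R) L := FractionRing.liftAlgebra R L
  haveI : IsScalarTower R (FractionRing R) L := FractionRing.isScalarTower_liftAlgebra R L
  haveI : IsScalarTower k (FractionRing R) L := .of_algebraMap_eq fun c => by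
    rw [IsScalarTower.algebraMap_apply k R (FractionRing R), ← IsScalarTower.algebraMap_apply R (FractionRing R) L,
      ← IsScalarTower.algebraMap_apply k R L]
  haveI : FiniteDimensional (FractionRing R) L := inferInstance
  obtain ⟨hfL, hnL⟩ := finrank_kaehler_fractionRing k n p hk (FractionRing R)
  haveI := hfL
  obtain ⟨hfin2, hrank⟩ := finrank_kaehler_of_finite_extension p (L₀ := FractionRing R) (L := L) n
    (injective_mapBaseChange_fractionRing k n (FractionRing R)) hnL
  haveI := hfin2
  -- `L` is the fraction field of `T`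
  have hu : ∀ c : P.primeCompl, IsUnit (algebraMap A L c) := fun c => IsUnit.mk0 _ fun h => by
    rw [IsScalarTower.algebraMap_apply A D L, map_eq_zero_iff _ (IsFractionRing.injective D L),
      Ideal.Quotient.algebraMap_eq, Ideal.Quotient.eq_zero_iff_mem] at h
    exact c.2 (hqP h)
  letI : Algebra T L := (IsLocalization.lift (M := P.primeCompl) hu).toAlgebra
  haveI : IsScalarTower A T L := .of_algebraMap_eq fun a => (IsLocalization.lift_eq hu a).symm
  haveI : IsScalarTower k T L := .of_algebraMap_eq fun c => by
    rw [IsScalarTower.algebraMap_apply k A L, IsScalarTower.algebraMap_apply A T L, ← IsScalarTower.algebraMap_apply k A T]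
  haveI : FaithfulSMul T L := (faithfulSMul_iff_algebraMap_injective T L).2 <| (injective_iff_map_eq_zero _).2 fun z hz => by
    obtain ⟨⟨a, c⟩, hac⟩ := IsLocalization.surj P.primeCompl z
    have h : algebraMap A L a = 0 := by
      rw [IsScalarTower.algebraMap_apply A T L, ← hac, map_mul, hz, zero_mul]
    rw [IsScalarTower.algebraMap_apply A D L, map_eq_zero_iff _ (IsFractionRing.injective D L),
      Ideal.Quotient.algebraMap_eq, Ideal.Quotient.eq_zero_iff_mem] at h
    obtain ⟨d, hd, hd0⟩ := hkill a h
    have h0 : algebraMap A T a = 0 := (IsLocalization.map_eq_zero_iff P.primeCompl T a).2 ⟨⟨d, hd⟩, hd0⟩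
    rw [h0] at hac
    exact (IsLocalization.map_units T c).mul_left_eq_zero.1 hac
  haveI : IsFractionRing T L := IsFractionRing.of_field T L fun z => by
    obtain ⟨a, b, -, rfl⟩ := IsFractionRing.div_surjective D z
    obtain ⟨a, rfl⟩ := Ideal.Quotient.mk_surjective a
    obtain ⟨b, rfl⟩ := Ideal.Quotient.mk_surjective b
    refine ⟨algebraMap A T a, algebraMap A T b, ?_⟩
    rw [← IsScalarTower.algebraMap_apply A T L, ← IsScalarTower.algebraMap_apply A T L,
      IsScalarTower.algebraMap_apply A D L, IsScalarTower.algebraMap_apply A D L b, Ideal.Quotient.algebraMap_eq]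
  haveI := isGeometricallyReduced_of_isGeometricallyRegular k L
    (CAlgH.AdicSmooth.isGeometricallyRegular_localization k T hP (nonZeroDivisors T) L)
  have h1 : Module.finrank L Ω[L⁄k] = n := hrank.trans (Nat.add_eq_left.2 (finrank_ker_mapBaseChange_eq_zero k L))
  have hb : IsBaseChange L (KaehlerDifferential.map k k T L) :=
    (isLocalizedModule_iff_isBaseChange (nonZeroDivisors T) L _).1 inferInstance
  rw [← h1, ← hb.equiv.finrank_eq, Module.finrank_baseChange]

end Groth.Agent.CommAlg6
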