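import Groth.Agent.CommAlg6.FibreAt
import Mathlib.FieldTheory.IntermediateField.Adjoin.Algebra
import Mathlib.RingTheory.Nilpotent.GeometricallyReduced

/-! Fibres of a composite over finite extensions of residue fields of the base. -/

universe u

open TensorProduct IsLocalRing

namespace Groth.Agent.CommAlg6

/-- A field algebra over `A` which is finite over the residue field of a prime of `A`. -/
def IsResFinite (A K : Type u) [CommRing A] [Field K] [Algebra A K] : Prop :=
  ∃ (p : Ideal A) (_ : p.IsPrime) (_ : Algebra p.ResidueField K),
    IsScalarTower A p.ResidueField K ∧ Module.Finite p.ResidueField K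

theorem isResFinite_residueField {A : Type u} [CommRing A] (p : Ideal A) [p.IsPrime] :
    IsResFinite A p.ResidueField :=
  ⟨p, inferInstance, inferInstance, inferInstance, inferInstance⟩

theorem IsResFinite.essFiniteType {A K : Type u} [CommRing A] [Field K] [Algebra A K]
    (h : IsResFinite A K) : Algebra.EssFiniteType A K := by
  obtain ⟨p, _, _, _, _⟩ := h
  exact Algebra.EssFiniteType.comp A p.ResidueField K

section

variable {A B : Type u} [CommRing A] [CommRing B] [Algebra A B]

theorem IsResFinite.isNoetherianRing [IsNoetherianRing B] {K : Type u} [Field K] [Algebra A K]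
    (h : IsResFinite A K) : IsNoetherianRing (B ⊗[A] K) := by
  obtain ⟨p, _, _, _, _⟩ := h
  haveI : IsNoetherianRing (p.ResidueField ⊗[A] B) := isNoetherianRing_fiber p
  haveI : IsNoetherianRing ((p.ResidueField ⊗[A] B) ⊗[p.ResidueField] K) :=
    Algebra.FiniteType.isNoetherianRing (p.ResidueField ⊗[A] B) _
  exact isNoetherianRing_of_ringEquiv _
    (((Algebra.TensorProduct.comm p.ResidueField (p.ResidueField ⊗[A] B) K).toRingEquiv.trans
      (Algebra.TensorProduct.cancelBaseChange A p.ResidueField K K B).toRingEquiv).trans
      (Algebra.TensorProduct.comm A K B).toRingEquiv)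

/-- The residue fields of `B ⊗_A K` are finite over those of `B`. -/
theorem IsResFinite.residueField {K : Type u} [Field K] [Algebra A K] (h : IsResFinite A K)
    (P : Ideal (B ⊗[A] K)) [P.IsPrime] : IsResFinite B P.ResidueField := by
  haveI := h.essFiniteType
  obtain ⟨p, _, _, _, _⟩ := h
  let T := B ⊗[A] K
  let L := P.ResidueField
  let q : Ideal B := P.comap (algebraMap B T)
  let g : q.ResidueField →ₐ[B] L := Ideal.ResidueField.mapₐ q P (Algebra.ofId B T) rfl
  letI : Algebra q.ResidueField L := g.toRingHom.toAlgebra
  haveI : IsScalarTower B q.ResidueField L := .of_algebraMap_eq fun x => (g.commutes x).symm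
  haveI : Algebra.EssFiniteType B L := Algebra.EssFiniteType.comp B T L
  haveI : Algebra.EssFiniteType q.ResidueField L := Algebra.EssFiniteType.of_comp B _ _
  refine ⟨q, inferInstance, inferInstance, inferInstance, ?_⟩
  haveI : Algebra.IsAlgebraic q.ResidueField L := by
    let S : IntermediateField q.ResidueField L := algebraicClosure q.ResidueField L
    have hB : ∀ b : B, algebraMap B L b ∈ S := fun b => by
      rw [IsScalarTower.algebraMap_apply B q.ResidueField L]; exact S.algebraMap_mem _
    let κ : K →+* L := (algebraMap T L).comp
      (Algebra.TensorProduct.includeRight : K →ₐ[A] T).toRingHom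
    let κ₀ : p.ResidueField →+* L := κ.comp (algebraMap p.ResidueField K)
    have hκA : ∀ a : A, κ₀ (algebraMap A p.ResidueField a) = algebraMap B L (algebraMap A B a) :=
      fun a => by
        simp only [κ₀, κ, RingHom.comp_apply, ← IsScalarTower.algebraMap_apply A p.ResidueField K,
          AlgHom.toRingHom_eq_coe, RingHom.coe_coe, AlgHom.commutes]
        rw [IsScalarTower.algebraMap_apply B T L, ← IsScalarTower.algebraMap_apply A B T]
    have hp : ∀ x : p.ResidueField, κ₀ x ∈ S := fun x => by
      obtain ⟨a, s, hs, rfl⟩ := IsFractionRing.div_surjective (A := A ⧸ p) x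
      obtain ⟨a, rfl⟩ := Ideal.Quotient.mk_surjective a
      obtain ⟨s, rfl⟩ := Ideal.Quotient.mk_surjective s
      rw [map_div₀]
      exact S.div_mem (by rw [show algebraMap (A ⧸ p) p.ResidueField (Ideal.Quotient.mk p a) =
          algebraMap A p.ResidueField a from rfl, hκA]; exact hB _)
        (by rw [show algebraMap (A ⧸ p) p.ResidueField (Ideal.Quotient.mk p s) =
          algebraMap A p.ResidueField s from rfl, hκA]; exact hB _)
    have hK : ∀ x : K, κ x ∈ S := fun x => by
      obtain ⟨f, hf, hfx⟩ := Algebra.IsIntegral.isIntegral (R := p.ResidueField) x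
      have hx : IsIntegral S (κ x) := by
        refine ⟨f.map (κ₀.codRestrict S hp), hf.map _, ?_⟩
        rw [Polynomial.eval₂_map]
        have := congrArg κ hfx
        rwa [Polynomial.hom_eval₂, map_zero] at this
      rw [mem_algebraicClosure_iff]
      exact (isIntegral_trans (R := q.ResidueField) (A := S) _ hx).isAlgebraic
    have hT : ∀ t : T, algebraMap T L t ∈ S := fun t => by
      induction t using TensorProduct.induction_on with
      | zero => rw [map_zero]; exact S.zero_mem
      | tmul b x =>
        rw [show b ⊗ₜ[A] x = algebraMap B T b * (Algebra.TensorProduct.includeRight x : T) by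
          simp [Algebra.TensorProduct.algebraMap_apply, T], map_mul,
          ← IsScalarTower.algebraMap_apply B T L]
        exact S.mul_mem (hB b) (hK x)
      | add x y hx hy => rw [map_add]; exact S.add_mem hx hy
    refine ⟨fun z => mem_algebraicClosure_iff.1 ?_⟩
    obtain ⟨a, s, hs, rfl⟩ := IsFractionRing.div_surjective (A := T ⧸ P) z
    obtain ⟨a, rfl⟩ := Ideal.Quotient.mk_surjective a
    obtain ⟨s, rfl⟩ := Ideal.Quotient.mk_surjective s
    exact S.div_mem (hT a) (hT s)
  exact Algebra.finite_of_essFiniteType_of_isAlgebraic

end

end Groth.Agent.CommAlg6
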