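import Groth.Agent.CommAlg6.GeomFib

/-! Fibres of a localisation of a homomorphism. -/

universe u

open TensorProduct

namespace Groth.Agent.CommAlg6

variable {A B A' B' : Type u} [CommRing A] [CommRing B] [CommRing A'] [CommRing B']
variable [Algebra A B] [Algebra A A'] [Algebra B B'] [Algebra A' B'] [Algebra A B']
variable [IsScalarTower A A' B'] [IsScalarTower A B B']

omit [Algebra A B] [Algebra B B'] [Algebra A' B'] [Algebra A B'] [IsScalarTower A A' B']
  [IsScalarTower A B B'] in
theorem IsResFinite.of_isLocalization (S : Submonoid A) [IsLocalization S A'] {K : Type u} [Field K]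
    [Algebra A' K] [Algebra A K] [IsScalarTower A A' K] (h : IsResFinite A' K) : IsResFinite A K := by
  obtain ⟨p', _, _, _, _⟩ := h
  let p := p'.comap (algebraMap A A')
  let g : p.ResidueField →ₐ[A] p'.ResidueField :=
    Ideal.ResidueField.mapₐ p p' (Algebra.ofId A A') rfl
  have hg : Function.Surjective g :=
    ((RingHom.surjectiveOnStalks_of_isLocalization S A').residueFieldMap_bijective p p' rfl).2
  letI : Algebra p.ResidueField p'.ResidueField := g.toRingHom.toAlgebra
  haveI : Module.Finite p.ResidueField p'.ResidueField :=
    Module.Finite.of_surjective (Algebra.linearMap p.ResidueField p'.ResidueField) hg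
  letI : Algebra p.ResidueField K := Algebra.compHom K (algebraMap p.ResidueField p'.ResidueField)
  haveI : IsScalarTower p.ResidueField p'.ResidueField K := .of_algebraMap_eq fun _ => rfl
  haveI : IsScalarTower A p.ResidueField K := .of_algebraMap_eq fun a => by
    show algebraMap A K a = algebraMap p'.ResidueField K (g (algebraMap A p.ResidueField a))
    rw [g.commutes, IsScalarTower.algebraMap_apply A A' K,
      IsScalarTower.algebraMap_apply A' p'.ResidueField K,
      ← IsScalarTower.algebraMap_apply A A' p'.ResidueField]
  exact ⟨p, inferInstance, inferInstance, inferInstance,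
    Module.Finite.trans p'.ResidueField K⟩

variable (S : Submonoid A) [IsLocalization S A'] [IsLocalization (Algebra.algebraMapSubmonoid B S) B']

include S in
theorem flat_of_isLocalization [Module.Flat A B] : Module.Flat A' B' := by
  haveI : Algebra.IsPushout A A' B B' := (Algebra.isPushout_of_isLocalization S A' B B').symm
  exact Module.Flat.of_linearEquiv (Algebra.IsPushout.equiv A A' B B').toLinearEquiv.symm

include S in
/-- `K ⊗_{S⁻¹A} S⁻¹B ≅ K ⊗_A B`. -/
theorem tensor_localization_equiv (K : Type u) [CommRing K] [Algebra A' K] [Algebra A K]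
    [IsScalarTower A A' K] : Nonempty (K ⊗[A'] B' ≃+* K ⊗[A] B) := by
  haveI : Algebra.IsPushout A A' B B' := (Algebra.isPushout_of_isLocalization S A' B B').symm
  exact ⟨(Algebra.TensorProduct.congr (AlgEquiv.refl (R := A') (A₁ := K))
    (Algebra.IsPushout.equiv A A' B B').symm).toRingEquiv.trans
    (Algebra.TensorProduct.cancelBaseChange A A' K K B).toRingEquiv⟩

end Groth.Agent.CommAlg6
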