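import Groth.Agent.CommAlg6.GeomFib
import Groth.Agent.CommAlg6.FieldExtGen

/-! Serre conditions under finitely generated field extensions. -/

universe u

open IsLocalRing TensorProduct

namespace Groth.Agent.CommAlg6

variable {G G' : Type u} [CommRing G] [CommRing G'] [IsNoetherianRing G] [IsNoetherianRing G']
variable [Algebra G G'] [Module.Flat G G']

theorem hasSk_of_regular_fibres (h : ∀ (p : Ideal G) [p.IsPrime], IsRegularRing (p.Fiber G')) (n : ℕ)
    (hG : _root_.LocCoh.HasSk n G G) : _root_.LocCoh.HasSk n G' G' :=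
  hasSk_of_base_and_fibres (A := G) n hG
    ((forall_hasSk_fiber_iff n).1 fun p _ => haveI := h p; isCMRing_of_isRegularRing n)

theorem hasRk_of_regular_fibres (h : ∀ (p : Ideal G) [p.IsPrime], IsRegularRing (p.Fiber G')) (k : ℕ)
    (hG : _root_.LocCoh.HasRk k G) : _root_.LocCoh.HasRk k G' :=
  hasRk_of_base_and_fibres (A := G) k hG
    (fib_regular_of_hasRk_fiber k fun p _ => isRegularRing_iff_forall_hasRk.1 (h p) k)

omit G G' in
theorem isNoetherianRing_field_tensor (k K S : Type u) [Field k] [Field K] [Algebra k K]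
    [Algebra.EssFiniteType k K] [CommRing S] [Algebra k S] [IsNoetherianRing S] :
    IsNoetherianRing (K ⊗[k] S) := by
  haveI : IsNoetherianRing (S ⊗[k] K) := Algebra.EssFiniteType.isNoetherianRing S (S ⊗[k] K)
  exact isNoetherianRing_of_ringEquiv _ (Algebra.TensorProduct.comm k S K).toRingEquiv

omit G G' in
theorem isNoetherianRing_field_tensor_left (k K S : Type u) [Field k] [Field K] [Algebra k K]
    [Algebra.EssFiniteType k K] [CommRing S] [Algebra k S] [IsNoetherianRing S] :
    IsNoetherianRing (S ⊗[k] K) :=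
  Algebra.EssFiniteType.isNoetherianRing S (S ⊗[k] K)

omit G G' in
/-- It suffices to test a condition on finite purely inseparable extensions, as soon as it passes
along flat maps with regular fibres and descends along faithfully flat ones. -/
theorem field_ext_induction
    (P : ∀ (R : Type u) [CommRing R], Prop)
    (hiso : ∀ (R R' : Type u) [CommRing R] [CommRing R'] [IsNoetherianRing R], (R ≃+* R') → P R → P R')
    (hasc : ∀ (R R' : Type u) [CommRing R] [CommRing R'] [IsNoetherianRing R] [IsNoetherianRing R']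
      [Algebra R R'] [Module.Flat R R'],
      (∀ (p : Ideal R) [p.IsPrime], IsRegularRing (p.Fiber R')) → P R → P R')
    (hdesc : ∀ (R R' : Type u) [CommRing R] [CommRing R'] [IsNoetherianRing R] [IsNoetherianRing R']
      [Algebra R R'] [Module.FaithfullyFlat R R'], P R' → P R)
    (k K S : Type u) [Field k] [Field K] [Algebra k K] [Algebra.EssFiniteType k K]
    [CommRing S] [Algebra k S] [IsNoetherianRing S]
    (h : ∀ (k' : Type u) [Field k'] [Algebra k k'], Module.Finite k k' → IsPurelyInseparable k k' →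
      P (k' ⊗[k] S)) :
    P (K ⊗[k] S) := by
  obtain ⟨k', L, _, _, _, _, _, _, _, _, _, hpi, _, hreg⟩ :=
    exists_purelyInseparable_regular_tensor k K
  haveI := isNoetherianRing_field_tensor k k' S
  haveI := isNoetherianRing_field_tensor k K S
  let T := k' ⊗[k] S
  haveI := isNoetherianRing_field_tensor_left k' L T
  have h1 : P (T ⊗[k'] L) := hasc T (T ⊗[k'] L) (fun p _ => by
    haveI : IsRegularRing (p.ResidueField ⊗[k'] L) := by
      haveI := hreg p.ResidueField
      exact IsRegularRing.of_ringEquiv (Algebra.TensorProduct.comm k' L p.ResidueField).toRingEquiv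
    exact IsRegularRing.of_ringEquiv (R := p.ResidueField ⊗[k'] L)
      (Algebra.TensorProduct.cancelBaseChange k' T T p.ResidueField L).toRingEquiv.symm)
    (h k' inferInstance hpi)
  haveI : Algebra.EssFiniteType k L := Algebra.EssFiniteType.comp k k' L
  haveI := isNoetherianRing_field_tensor k L S
  haveI : Algebra.EssFiniteType K L := Algebra.EssFiniteType.of_comp k K L
  let U := K ⊗[k] S
  haveI := isNoetherianRing_field_tensor_left K L U
  refine hdesc U (U ⊗[K] L) (hiso (T ⊗[k'] L) _ ?_ h1)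
  exact ((Algebra.TensorProduct.comm k' T L).toRingEquiv.trans
    (Algebra.TensorProduct.cancelBaseChange k k' L L S).toRingEquiv).trans
    ((Algebra.TensorProduct.cancelBaseChange k K L L S).toRingEquiv.symm.trans
      (Algebra.TensorProduct.comm K L U).toRingEquiv)

omit G G' in
theorem hasSk_field_ext (k K S : Type u) [Field k] [Field K] [Algebra k K] [Algebra.EssFiniteType k K]
    [CommRing S] [Algebra k S] [IsNoetherianRing S] (n : ℕ)
    (h : ∀ (k' : Type u) [Field k'] [Algebra k k'], Module.Finite k k' → IsPurelyInseparable k k' →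
      _root_.LocCoh.HasSk n (k' ⊗[k] S) (k' ⊗[k] S)) :
    _root_.LocCoh.HasSk n (K ⊗[k] S) (K ⊗[k] S) :=
  field_ext_induction (fun R _ => _root_.LocCoh.HasSk n R R)
    (fun _ _ _ _ _ e h => hasSk_of_ringEquiv e h)
    (fun _ _ _ _ _ _ _ _ hp h => hasSk_of_regular_fibres hp n h)
    (fun _ R' _ _ _ _ _ _ h => hasSk_descend (B := R') n h) k K S h

omit G G' in
theorem hasRk_field_ext (k K S : Type u) [Field k] [Field K] [Algebra k K] [Algebra.EssFiniteType k K]
    [CommRing S] [Algebra k S] [IsNoetherianRing S] (j : ℕ)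
    (h : ∀ (k' : Type u) [Field k'] [Algebra k k'], Module.Finite k k' → IsPurelyInseparable k k' →
      _root_.LocCoh.HasRk j (k' ⊗[k] S)) :
    _root_.LocCoh.HasRk j (K ⊗[k] S) :=
  field_ext_induction (fun R _ => _root_.LocCoh.HasRk j R)
    (fun _ _ _ _ _ e h => hasRk_of_ringEquiv e h)
    (fun _ _ _ _ _ _ _ _ hp h => hasRk_of_regular_fibres hp j h)
    (fun _ R' _ _ _ _ _ _ h => hasRk_descend (B := R') j h) k K S h

omit G G' in
theorem isNormalRing_field_ext (k K S : Type u) [Field k] [Field K] [Algebra k K] [Algebra.EssFiniteType k K]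
    [CommRing S] [Algebra k S] [IsNoetherianRing S]
    (h : ∀ (k' : Type u) [Field k'] [Algebra k k'], Module.Finite k k' → IsPurelyInseparable k k' →
      EGA4.IsNormalRing (k' ⊗[k] S)) :
    EGA4.IsNormalRing (K ⊗[k] S) := by
  haveI := isNoetherianRing_field_tensor k K S
  rw [isNormalRing_iff_R1_S2]
  refine ⟨hasRk_field_ext k K S 1 fun k' _ _ hf hp => ?_,
    hasSk_field_ext k K S 2 fun k' _ _ hf hp => ?_⟩
  · haveI := isNoetherianRing_field_tensor k k' S
    exact (isNormalRing_iff_R1_S2.1 (h k' hf hp)).1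
  · haveI := isNoetherianRing_field_tensor k k' S
    exact (isNormalRing_iff_R1_S2.1 (h k' hf hp)).2

omit G G' in
/-- Every prime of `K ⊗_k S` (Noetherian) is extended from `K₀ ⊗_k S` for a finitely generated
subextension `K₀`. -/
theorem exists_fg_subfield_prime (k K S : Type u) [Field k] [Field K] [Algebra k K] [CommRing S]
    [Algebra k S] [IsNoetherianRing S] [IsNoetherianRing (K ⊗[k] S)] (Q : Ideal (K ⊗[k] S))
    [Q.IsPrime] :
    ∃ (K₀ : IntermediateField k K) (_ : Algebra.EssFiniteType k K₀)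
      (_ : Algebra (K₀ ⊗[k] S) (K ⊗[k] S)), Module.Flat (K₀ ⊗[k] S) (K ⊗[k] S) ∧
      IsField (EGA4.FibLocRing (K₀ ⊗[k] S) (K ⊗[k] S) Q) := by
  classical
  obtain ⟨T, hT'⟩ := IsNoetherian.noetherian Q
  obtain ⟨M', hM', hT⟩ :=
    TensorProduct.exists_finite_submodule_left_of_setFinite (T : Set (K ⊗[k] S)) T.finite_toSet
  obtain ⟨g, hg⟩ := Module.Finite.iff_fg.mp hM'
  let K0 := IntermediateField.adjoin k (g : Set K)
  haveI : Algebra.EssFiniteType k K0 :=
    IntermediateField.essFiniteType_iff.mpr (IntermediateField.fg_adjoin_finset g)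
  let f := (Algebra.TensorProduct.map (IsScalarTower.toAlgHom k K0 K) (AlgHom.id k S)).toRingHom
  letI : Algebra (K0 ⊗[k] S) (K ⊗[k] S) := f.toAlgebra
  refine ⟨K0, inferInstance, inferInstance,
    RingHom.flat_algebraMap_iff.mp (CAlgH.flat_map_field_aux k K0 K S), ?_⟩
  have hle : M' ≤ K0.toSubalgebra.toSubmodule := by
    rw [← hg]; exact Submodule.span_le.mpr (IntermediateField.subset_adjoin k _)
  have hf : ∀ z : M' ⊗[k] S, f (LinearMap.rTensor S (Submodule.inclusion hle) z) =
      LinearMap.rTensor S M'.subtype z := by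
    intro z
    induction z using TensorProduct.induction_on with
    | zero => simp
    | add a b ha hb => simp only [map_add, ha, hb]
    | tmul a b => rfl
  have hQ : (Q.comap f).map f = Q := by
    refine le_antisymm Ideal.map_comap_le ?_
    rw [← hT']
    refine Submodule.span_le.2 fun t ht => ?_
    obtain ⟨y, hy⟩ := hT ht
    refine (hy ▸ hf y) ▸ Ideal.mem_map_of_mem f ?_
    rw [Ideal.mem_comap, hf y, hy, hT']
    rw [← hT']
    exact Submodule.subset_span ht
  have hmax : ((Q.comap f).map ((algebraMap (K ⊗[k] S) (Localization.AtPrime Q)).comp f)).IsMaximal := by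
    rw [← Ideal.map_map, hQ, Localization.AtPrime.map_eq_maximalIdeal]
    infer_instance
  exact (Ideal.Quotient.maximal_ideal_iff_isField_quotient _).1 hmax

omit G G' in
theorem hasSk_tensor_field (k K S : Type u) [Field k] [Field K] [Algebra k K] [CommRing S]
    [Algebra k S] [IsNoetherianRing S] [IsNoetherianRing (K ⊗[k] S)] (n : ℕ)
    (h : ∀ (k' : Type u) [Field k'] [Algebra k k'], Module.Finite k k' → IsPurelyInseparable k k' →
      _root_.LocCoh.HasSk n (k' ⊗[k] S) (k' ⊗[k] S)) :
    _root_.LocCoh.HasSk n (K ⊗[k] S) (K ⊗[k] S) := by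
  rw [CAlgH3.hasSk_self_iff]
  intro Q _
  obtain ⟨K0, _, _, _, hfld⟩ := exists_fg_subfield_prime k K S Q
  haveI := isNoetherianRing_field_tensor k K0 S
  haveI : IsRegularRing (EGA4.FibLocRing (K0 ⊗[k] S) (K ⊗[k] S) Q) := by
    letI := hfld.toField
    exact inferInstance
  obtain ⟨h1, h2, -, -⟩ := local_fibre (A := K0 ⊗[k] S) Q
  have hd : ringKrullDim (EGA4.FibLocRing (K0 ⊗[k] S) (K ⊗[k] S) Q) = 0 :=
    ringKrullDim_eq_zero_of_isField hfld
  rw [h1, hd, add_zero, h2]
  refine ((CAlgH3.hasSk_self_iff n).1 (hasSk_field_ext k K0 S n h) _).trans ?_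
  exact WithBot.coe_le_coe.2 le_self_add

omit G G' in
theorem hasRk_tensor_field (k K S : Type u) [Field k] [Field K] [Algebra k K] [CommRing S]
    [Algebra k S] [IsNoetherianRing S] [IsNoetherianRing (K ⊗[k] S)] (j : ℕ)
    (h : ∀ (k' : Type u) [Field k'] [Algebra k k'], Module.Finite k k' → IsPurelyInseparable k k' →
      _root_.LocCoh.HasRk j (k' ⊗[k] S)) :
    _root_.LocCoh.HasRk j (K ⊗[k] S) := by
  intro Q _ hQ
  obtain ⟨K0, _, _, _, hfld⟩ := exists_fg_subfield_prime k K S Q
  haveI := isNoetherianRing_field_tensor k K0 S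
  refine regular_of_base_and_fibre (A := K0 ⊗[k] S) j Q hQ
    (hasRk_field_ext k K0 S j h _) fun _ => ?_
  haveI : IsLocalRing (EGA4.FibLocRing (K0 ⊗[k] S) (K ⊗[k] S) Q) := isLocalRing_fibLocRing Q
  letI := hfld.toField
  exact inferInstance

omit G G' in
theorem isNormalRing_tensor_field (k K S : Type u) [Field k] [Field K] [Algebra k K] [CommRing S]
    [Algebra k S] [IsNoetherianRing S] [IsNoetherianRing (K ⊗[k] S)]
    (h : ∀ (k' : Type u) [Field k'] [Algebra k k'], Module.Finite k k' → IsPurelyInseparable k k' →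
      EGA4.IsNormalRing (k' ⊗[k] S)) :
    EGA4.IsNormalRing (K ⊗[k] S) := by
  rw [isNormalRing_iff_R1_S2]
  refine ⟨hasRk_tensor_field k K S 1 fun k' _ _ hf hp => ?_,
    hasSk_tensor_field k K S 2 fun k' _ _ hf hp => ?_⟩
  · haveI := isNoetherianRing_field_tensor k k' S
    exact (isNormalRing_iff_R1_S2.1 (h k' hf hp)).1
  · haveI := isNoetherianRing_field_tensor k k' S
    exact (isNormalRing_iff_R1_S2.1 (h k' hf hp)).2

end Groth.Agent.CommAlg6
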