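import Groth.Agent.CommAlg6.GeomFib
import Groth.Agent.CAlgH.GRingFiniteFree

/-! Regular homomorphisms tested on finite domains. -/

set_option autoImplicit false
set_option linter.style.haveILetI false

universe u

open TensorProduct IsLocalRing

namespace Groth.Agent.CommAlg6.FormalFibreCriterion

theorem isRegularLocalRing_of_regular_localization {D S : Type u} [CommRing D] [CommRing S] [Algebra D S]
    (M : Submonoid D) [IsLocalization M S] [IsRegularRing S] (q : Ideal D) [q.IsPrime]
    (hd : Disjoint (M : Set D) (q : Set D)) : IsRegularLocalRing (Localization.AtPrime q) := by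
  let Q := q.map (algebraMap D S)
  haveI : Q.IsPrime := IsLocalization.isPrime_of_isPrime_disjoint M _ q inferInstance hd
  have hc : Q.comap (algebraMap D S) = q := IsLocalization.comap_map_of_isPrime_disjoint M _ inferInstance hd
  haveI := IsLocalization.isLocalization_isLocalization_atPrime_isLocalization M (Localization.AtPrime Q) Q
  haveI : IsLocalization.AtPrime (Localization.AtPrime Q) q := by
    unfold IsLocalization.AtPrime; simp only [← hc]; assumption
  haveI : IsRegularLocalRing (Localization.AtPrime Q) := IsRegularRing.isRegularLocalRing_localization Q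
  exact IsRegularLocalRing.of_ringEquiv (R := Localization.AtPrime Q)
    (IsLocalization.algEquiv q.primeCompl (Localization.AtPrime Q) (Localization.AtPrime q)).toRingEquiv

variable (A C : Type u) [CommRing A] [CommRing C] [Algebra A C]

theorem regular_generic_of_isRegularHom [IsNoetherianRing A] (h : CAlg.IsRegularHom A C) (B : Type u) [CommRing B]
    [IsDomain B] [Algebra A B] [Module.Finite A B] (q : Ideal (B ⊗[A] C)) [q.IsPrime]
    (hq : q.comap (algebraMap B (B ⊗[A] C)) = ⊥) : IsRegularLocalRing (Localization.AtPrime q) := by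
  let K := FractionRing B
  haveI : Algebra.EssFiniteType A K :=
    haveI := Algebra.EssFiniteType.of_isLocalization K (nonZeroDivisors B)
    Algebra.EssFiniteType.comp A B K
  haveI := CAlgH.isRegularRing_field_tensor h K
  haveI : IsRegularRing ((B ⊗[A] C) ⊗[B] K) := IsRegularRing.of_ringEquiv (R := K ⊗[A] C)
    ((Algebra.TensorProduct.comm B (B ⊗[A] C) K).toRingEquiv.trans
      (Algebra.TensorProduct.cancelBaseChange A B K K C).toRingEquiv).symm
  refine isRegularLocalRing_of_regular_localization (S := (B ⊗[A] C) ⊗[B] K)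
    (Algebra.algebraMapSubmonoid (B ⊗[A] C) (nonZeroDivisors B)) q (Set.disjoint_left.2 ?_)
  rintro _ ⟨b, hb, rfl⟩ hbq
  exact nonZeroDivisors.ne_zero hb ((Submodule.mem_bot _).1 (hq ▸ hbq : b ∈ (⊥ : Ideal B)))

theorem isRegularRing_of_generic [IsNoetherianRing A] [IsNoetherianRing C]
    (h : ∀ (B : Type u) [CommRing B] [IsDomain B] [Algebra A B] [Module.Finite A B] (q : Ideal (B ⊗[A] C)) [q.IsPrime],
      q.comap (algebraMap B (B ⊗[A] C)) = ⊥ → IsRegularLocalRing (Localization.AtPrime q))
    (p : Ideal A) [p.IsPrime] (K : Type u) [Field K] [Algebra p.ResidueField K] [Module.Finite p.ResidueField K]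
    [Algebra A K] [IsScalarTower A p.ResidueField K] : IsRegularRing (K ⊗[A] C) := by
  classical
  haveI : Algebra.EssFiniteType A K := Algebra.EssFiniteType.comp A p.ResidueField K
  haveI : IsNoetherianRing (C ⊗[A] K) := Algebra.EssFiniteType.isNoetherianRing C _
  haveI : IsNoetherianRing (K ⊗[A] C) :=
    isNoetherianRing_of_ringEquiv _ (Algebra.TensorProduct.comm A C K).toRingEquiv
  obtain ⟨G, hG⟩ := (inferInstance : Module.Finite p.ResidueField K).fg_top
  have hκ : ∀ c : p.ResidueField, ∃ a s : A, s ∉ p ∧ c * algebraMap A _ s = algebraMap A _ a := by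
    intro c
    obtain ⟨a, s, hs, rfl⟩ := IsFractionRing.div_surjective (A := A ⧸ p) c
    obtain ⟨a, rfl⟩ := Ideal.Quotient.mk_surjective a
    obtain ⟨s, rfl⟩ := Ideal.Quotient.mk_surjective s
    refine ⟨a, s, fun hsp => nonZeroDivisors.ne_zero hs (Ideal.Quotient.eq_zero_iff_mem.2 hsp), ?_⟩
    exact div_mul_cancel₀ _ (IsFractionRing.to_map_ne_zero_of_mem_nonZeroDivisors hs)
  have hne : ∀ s : A, s ∉ p → algebraMap A K s ≠ 0 := fun s hs => by
    rw [IsScalarTower.algebraMap_apply A p.ResidueField K, map_ne_zero]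
    exact fun h0 => hs (by rwa [← Ideal.ker_algebraMap_residueField p])
  -- integral multiples
  have hint : ∀ g : K, ∃ s : A, s ∉ p ∧ IsIntegral A (algebraMap A K s * g) := by
    intro g
    obtain ⟨f, hf, hfg⟩ := (Algebra.IsIntegral.isIntegral (R := p.ResidueField) g)
    letI : Algebra (A ⧸ p) K := ((algebraMap p.ResidueField K).comp (algebraMap (A ⧸ p) p.ResidueField)).toAlgebra
    haveI : IsScalarTower (A ⧸ p) p.ResidueField K := .of_algebraMap_eq fun _ => rfl
    haveI : IsScalarTower A (A ⧸ p) K := .of_algebraMap_eq fun a => by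
      rw [IsScalarTower.algebraMap_apply A p.ResidueField K, IsScalarTower.algebraMap_apply A (A ⧸ p) p.ResidueField]
      rfl
    obtain ⟨⟨s, hs⟩, hsg⟩ := IsIntegral.exists_multiple_integral_of_isLocalization (R := A ⧸ p) (Rₘ := p.ResidueField)
      (nonZeroDivisors (A ⧸ p)) g ⟨f, hf, hfg⟩
    obtain ⟨s, rfl⟩ := Ideal.Quotient.mk_surjective s
    refine ⟨s, fun hsp => nonZeroDivisors.ne_zero hs (Ideal.Quotient.eq_zero_iff_mem.2 hsp), ?_⟩
    have h1 : IsIntegral A ((Ideal.Quotient.mk p s : A ⧸ p) • g) := isIntegral_trans (A := A ⧸ p) _ hsg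
    rw [Algebra.smul_def] at h1
    rwa [IsScalarTower.algebraMap_apply A (A ⧸ p) K]
  choose σ hσ hσi using hint
  let B := Algebra.adjoin A ((fun g => algebraMap A K (σ g) * g) '' (G : Set K))
  haveI : Module.Finite A B := Module.Finite.iff_fg.2 <| fg_adjoin_of_finite (G.finite_toSet.image _) (by
    rintro _ ⟨g, -, rfl⟩; exact hσi g)
  haveI : IsFractionRing B K := IsFractionRing.of_field _ _ fun z => by
    have hz : z ∈ Submodule.span p.ResidueField (G : Set K) := hG ▸ Submodule.mem_top
    suffices ∃ r s : B, (s : K) ≠ 0 ∧ z * (s : K) = r by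
      obtain ⟨r, s, hs, hz⟩ := this
      exact ⟨r, s, by show z = (r : K) / (s : K); rw [eq_div_iff hs, hz]⟩
    induction hz using Submodule.span_induction with
    | mem g hg =>
      exact ⟨⟨algebraMap A K (σ g) * g, Algebra.subset_adjoin ⟨g, hg, rfl⟩⟩, algebraMap A B (σ g),
        hne _ (hσ g), mul_comm _ _⟩
    | zero => exact ⟨0, 1, one_ne_zero, by simp⟩
    | add u v _ _ hu hv =>
      obtain ⟨r, s, hs, h1⟩ := hu
      obtain ⟨r', s', hs', h2⟩ := hv
      exact ⟨r * s' + r' * s, s * s', by push_cast; exact mul_ne_zero hs hs', by push_cast; rw [← h1, ← h2]; ring⟩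
    | smul c u _ hu =>
      obtain ⟨r, s, hs, h1⟩ := hu
      obtain ⟨a, t, ht, hct⟩ := hκ c
      refine ⟨algebraMap A B a * r, algebraMap A B t * s, ?_, ?_⟩
      · push_cast; exact mul_ne_zero (hne t ht) hs
      · push_cast
        have h3 := congrArg (algebraMap p.ResidueField K) hct
        rw [map_mul, ← IsScalarTower.algebraMap_apply, ← IsScalarTower.algebraMap_apply] at h3
        rw [← h1, Algebra.smul_def, ← h3]
        show _ * u * (algebraMap A K t * (s : K)) = _
        ring
  let D := B ⊗[A] C
  let e : D ⊗[B] K ≃+* K ⊗[A] C := (Algebra.TensorProduct.comm B D K).toRingEquiv.trans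
    (Algebra.TensorProduct.cancelBaseChange A B K K C).toRingEquiv
  haveI : IsNoetherianRing (D ⊗[B] K) := isNoetherianRing_of_ringEquiv _ e.symm
  suffices IsRegularRing (D ⊗[B] K) from haveI := this; IsRegularRing.of_ringEquiv (R := D ⊗[B] K) e
  refine isRegularRing_iff.mpr fun Q _ => ?_
  let M := Algebra.algebraMapSubmonoid D (nonZeroDivisors B)
  let q := Q.comap (algebraMap D (D ⊗[B] K))
  have hdis : ∀ m ∈ M, m ∉ q := fun m hm hmq =>
    Ideal.IsPrime.ne_top ‹Q.IsPrime› (Ideal.eq_top_of_isUnit_mem _ hmq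
      (IsLocalization.map_units (D ⊗[B] K) (⟨m, hm⟩ : M)))
  have hq : q.comap (algebraMap B D) = ⊥ := eq_bot_iff.2 fun b hb => by
    by_contra hb0
    exact hdis _ ⟨b, mem_nonZeroDivisors_of_ne_zero (fun h0 => hb0 ((Submodule.mem_bot _).2 h0)), rfl⟩ hb
  haveI := h B q hq
  haveI := IsLocalization.isLocalization_isLocalization_atPrime_isLocalization M (Localization.AtPrime Q) Q
  haveI : IsLocalization.AtPrime (Localization.AtPrime Q) q := ‹_›
  exact IsRegularLocalRing.of_ringEquiv (R := Localization.AtPrime q)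
    (IsLocalization.algEquiv q.primeCompl (Localization.AtPrime q) (Localization.AtPrime Q)).toRingEquiv

/-- A flat homomorphism is regular iff the generic fibres over all finite domains are regular. -/
theorem isRegularHom_iff [IsNoetherianRing A] [IsNoetherianRing C] [Module.Flat A C] :
    CAlg.IsRegularHom A C ↔
      ∀ (B : Type u) [CommRing B] [IsDomain B] [Algebra A B] [Module.Finite A B] (q : Ideal (B ⊗[A] C)) [q.IsPrime],
        q.comap (algebraMap B (B ⊗[A] C)) = ⊥ → IsRegularLocalRing (Localization.AtPrime q) := by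
  refine ⟨fun h B _ _ _ _ q _ hq => regular_generic_of_isRegularHom A C h B q hq,
    fun h => ⟨inferInstance, fun p _ => ⟨isNoetherianRing_fiber (B := C) p, ?_⟩⟩⟩
  intro k' _ _ hk
  letI : Algebra A k' := ((algebraMap p.ResidueField k').comp (algebraMap A p.ResidueField)).toAlgebra
  haveI : IsScalarTower A p.ResidueField k' := .of_algebraMap_eq fun _ => rfl
  haveI := hk
  haveI := isRegularRing_of_generic A C h p k'
  exact IsRegularRing.of_ringEquiv (R := k' ⊗[A] C)
    (Algebra.TensorProduct.cancelBaseChange A p.ResidueField k' k' C).toRingEquiv.symm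

end Groth.Agent.CommAlg6.FormalFibreCriterion
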