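import Groth.Agent.CommAlg6.CTensorFieldEtale
import Groth.Agent.CommAlg6.CTensorFieldKaehler
import Groth.Agent.CommAlg6.CompletedKaehlerRegularGen
import Groth.Agent.CommAlg6.CompletionEquidim
import Groth.Agent.S3847
import Groth.Agent.S3850
import Groth.Agent.S5055

/-! Generators of the completed differentials and regularity in completed base changes. -/

set_option autoImplicit false
set_option linter.style.haveILetI false

universe u

open IsLocalRing TensorProduct

attribute [local instance] Algebra.TensorProduct.rightAlgebra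

namespace Groth.Agent.CommAlg6

variable (k A : Type u) [Field k] [CommRing A] [IsLocalRing A] [IsNoetherianRing A] [Algebra k A]
  [IsAdicComplete (maximalIdeal A) A] [Module.Finite k (ResidueField A)] (p : Ideal A) [p.IsPrime] (n : ℕ)

/-- The consequences of having as many generators as the dimension of the components. -/
theorem free_and_etale_of_generators (hp : p ≠ maximalIdeal A)
    (hn₁ : ∀ q ∈ minimalPrimes A, q ≤ p → ringKrullDim (A ⧸ q) ≤ n)
    (hn₂ : ∃ q ∈ minimalPrimes A, q ≤ p ∧ ringKrullDim (A ⧸ q) = n)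
    (g : Fin n → CKaehler k A) (hg : ∀ w, ∃ c ∉ p, c • w ∈ Submodule.span A (Set.range g)) :
    (Module.Free (Localization.AtPrime p) (LocalizedModule p.primeCompl (CKaehler k A)) ∧
        Module.finrank (Localization.AtPrime p) (LocalizedModule p.primeCompl (CKaehler k A)) = n) ∧
      CAlg.IsGeometricallyRegular k (Localization.AtPrime p) ∧
      ∀ (k' : Type u) [Field k'] [Algebra k k'] (p' : Ideal (EGA4.CTensor k A k')) [p'.IsPrime],
        p'.comap (algebraMap A (EGA4.CTensor k A k')) = p → IsRegularLocalRing (Localization.AtPrime p') := by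
  classical
  let T := Localization.AtPrime p
  let b : Ideal A := RingHom.ker (algebraMap A T)
  have hkill : ∀ z ∈ b, ∃ c ∉ p, c * z = 0 := fun z hz => by
    obtain ⟨c, hc⟩ := (IsLocalization.map_eq_zero_iff p.primeCompl T z).1 hz
    exact ⟨c, c.2, hc⟩
  have hbq : ∀ q ∈ minimalPrimes A, q ≤ p → b ≤ q := fun q hq hqp z hz => by
    obtain ⟨c, hc, hcz⟩ := hkill z hz
    exact (hq.1.1.mem_or_mem (hcz ▸ q.zero_mem : c * z ∈ q)).resolve_left fun h => hc (hqp h)
  obtain ⟨q, hq, hqp, hqn⟩ := hn₂
  haveI : q.IsPrime := hq.1.1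
  have hbp : b ≤ p := (hbq q hq hqp).trans hqp
  have hbtop : b ≠ ⊤ := fun h => ‹p.IsPrime›.ne_top (top_le_iff.1 (h ▸ hbp))
  haveI : Nontrivial (A ⧸ b) := Ideal.Quotient.nontrivial_iff.2 hbtop
  haveI : IsLocalRing (A ⧸ b) := IsLocalRing.of_surjective' (Ideal.Quotient.mk b) Ideal.Quotient.mk_surjective
  haveI := CAlgH.isAdicComplete_quotient b
  haveI := finite_residueField_quotient k A b
  have hdim : ringKrullDim (A ⧸ b) = n := by
    refine le_antisymm ?_ (hqn ▸ ringKrullDim_le_of_surjective (Ideal.Quotient.factor (hbq q hq hqp))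
      (Ideal.Quotient.factor_surjective _))
    obtain ⟨Q, hQ, hQd⟩ := exists_minimal_ringKrullDim_eq hbtop
    haveI := hQ.1.1
    have hQp : Q ≤ p := by
      intro c hc
      by_contra hcp
      haveI : (Q.map (Ideal.Quotient.mk b)).IsPrime :=
        Ideal.map_isPrime_of_surjective Ideal.Quotient.mk_surjective (by rw [Ideal.mk_ker]; exact hQ.1.2)
      have hmin : Q.map (Ideal.Quotient.mk b) ∈ minimalPrimes (A ⧸ b) := by
        refine ⟨⟨inferInstance, bot_le⟩, fun P hP hle => Ideal.map_le_iff_le_comap.2 (hQ.2 ⟨(haveI := hP.1; Ideal.comap_isPrime _ P), ?_⟩ ?_)⟩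
        · intro z hz
          rw [Ideal.mem_comap, Ideal.Quotient.eq_zero_iff_mem.2 hz]; exact P.zero_mem
        · refine (Ideal.comap_mono hle).trans (le_of_eq ?_)
          rw [Ideal.comap_map_of_surjective _ Ideal.Quotient.mk_surjective, ← RingHom.ker_eq_comap_bot, Ideal.mk_ker,
            sup_eq_left.2 hQ.1.2]
      refine Set.disjoint_left.1 (Ideal.disjoint_nonZeroDivisors_of_mem_minimalPrimes hmin)
        (Ideal.mem_map_of_mem _ hc) ?_
      refine mem_nonZeroDivisors_iff_right.2 ?_
      intro z hz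
      obtain ⟨z, rfl⟩ := Ideal.Quotient.mk_surjective z
      rw [← map_mul, Ideal.Quotient.eq_zero_iff_mem] at hz
      obtain ⟨d, hd, hdz⟩ := hkill _ hz
      rw [Ideal.Quotient.eq_zero_iff_mem]
      exact (IsLocalization.map_eq_zero_iff p.primeCompl T z).2
        ⟨⟨d * c, fun h => (‹p.IsPrime›.mem_or_mem h).elim hd hcp⟩, by
          show d * c * z = 0
          linear_combination hdz⟩
    obtain ⟨q', hq', hq'Q⟩ := Ideal.exists_minimalPrimes_le (bot_le : (⊥ : Ideal A) ≤ Q)
    rw [← hQd]
    exact (ringKrullDim_le_of_surjective (Ideal.Quotient.factor hq'Q) (Ideal.Quotient.factor_surjective _)).trans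
      (hn₁ q' hq' (hq'Q.trans hQp))
  let pb := p.map (Ideal.Quotient.mk b)
  haveI : pb.IsPrime := Ideal.map_isPrime_of_surjective Ideal.Quotient.mk_surjective (by rwa [Ideal.mk_ker])
  have hmem : ∀ a : A, Ideal.Quotient.mk b a ∈ pb ↔ a ∈ p := fun a => by
    rw [← Ideal.mem_comap, Ideal.comap_map_of_surjective _ Ideal.Quotient.mk_surjective, ← RingHom.ker_eq_comap_bot,
      Ideal.mk_ker, sup_eq_left.2 hbp]
  have hpb : pb ≠ maximalIdeal (A ⧸ b) := fun h => hp ((IsLocalRing.le_maximalIdeal ‹p.IsPrime›.ne_top).antisymm fun a ha =>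
    (hmem a).1 (h ▸ (IsLocalRing.map_maximalIdeal_of_surjective (Ideal.Quotient.mk b) Ideal.Quotient.mk_surjective).le
      (Ideal.mem_map_of_mem _ ha)))
  have hqb : ∃ qb ∈ minimalPrimes (A ⧸ b), qb ≤ pb ∧ ringKrullDim ((A ⧸ b) ⧸ qb) = n := by
    haveI : (q.map (Ideal.Quotient.mk b)).IsPrime :=
      Ideal.map_isPrime_of_surjective Ideal.Quotient.mk_surjective (by rw [Ideal.mk_ker]; exact hbq q hq hqp)
    refine ⟨q.map (Ideal.Quotient.mk b), ⟨⟨inferInstance, bot_le⟩, fun P hP hle =>
      Ideal.map_le_iff_le_comap.2 (hq.2 ⟨(haveI := hP.1; Ideal.comap_isPrime _ P), bot_le⟩ ?_)⟩, Ideal.map_mono hqp, ?_⟩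
    · refine (Ideal.comap_mono hle).trans (le_of_eq ?_)
      rw [Ideal.comap_map_of_surjective _ Ideal.Quotient.mk_surjective, ← RingHom.ker_eq_comap_bot, Ideal.mk_ker,
        sup_eq_left.2 (hbq q hq hqp)]
    · rw [ringKrullDim_eq_of_ringEquiv (DoubleQuot.quotQuotEquivQuotOfLE (hbq q hq hqp)), hqn]
  obtain ⟨ψ, -, hψ, -⟩ := exists_quotient_cKaehler_map k A b
  have hgen : ∃ s : Fin n → LocalizedModule pb.primeCompl (CKaehler k (A ⧸ b)),
      Submodule.span (Localization.AtPrime pb) (Set.range s) = ⊤ := by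
    refine ⟨LocalizedModule.mkLinearMap pb.primeCompl (CKaehler k (A ⧸ b)) ∘ (ψ ∘ g), ?_⟩
    rw [Set.range_comp, span_localized_eq_top_iff]
    intro w
    obtain ⟨w, rfl⟩ := hψ w
    obtain ⟨c, hc, hcw⟩ := hg w
    refine ⟨Ideal.Quotient.mk b c, fun h => hc ((hmem c).1 h), ?_⟩
    have h1 := Submodule.mem_map_of_mem (f := ψ) hcw
    rw [Submodule.map_span, ← Set.range_comp, map_smul] at h1
    rw [← Ideal.Quotient.algebraMap_eq, algebraMap_smul]
    exact Submodule.span_le_restrictScalars A (A ⧸ b) _ h1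
  obtain ⟨hfree, hgeo⟩ := Groth.Agent.S5055.result k (A ⧸ b) n hdim pb hpb hqb hgen
  haveI hloc := isLocalization_quotient_of_kill b p hbp hkill
  refine ⟨free_of_quotient k A b p hbp hkill n hfree, ?_, ?_⟩
  · intro k₁ _ _ hk₁
    haveI := hgeo k₁ hk₁
    exact IsRegularRing.of_ringEquiv (Algebra.TensorProduct.congr (AlgEquiv.refl : k₁ ≃ₐ[k₁] k₁)
      ((IsLocalization.algEquiv p.primeCompl (Localization.AtPrime pb) T).restrictScalars k)).toRingEquiv
  · intro k' _ _ p' _ hp'
    obtain ⟨algB, towB, hlB, hfB, hetB⟩ := (Groth.Agent.S3850.result k (A ⧸ b) n hdim pb hpb hqb).1 hfree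
    haveI := hlB
    haveI := hfB
    haveI := hetB
    letI : Algebra (MvPowerSeries (Fin n) k) (MvPowerSeries (Fin n) k') :=
      (MvPowerSeries.map (algebraMap k k')).toAlgebra
    exact isRegularLocalRing_cTensor_of_isEtaleAt (n := n) b (fun c => MvPowerSeries.map_C _ c)
      (fun i => MvPowerSeries.map_X _ i) p hbp hkill p' hp'

/-- A regular point of a base change to a perfect field bounds the generators. -/
theorem exists_generators_of_regular_baseChange (hn₁ : ∀ q ∈ minimalPrimes A, q ≤ p → ringKrullDim (A ⧸ q) ≤ n)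
    (k' : Type u) [Field k'] [Algebra k k'] [PerfectField k'] (p' : Ideal (EGA4.CTensor k A k')) [p'.IsPrime]
    (hp' : p'.comap (algebraMap A (EGA4.CTensor k A k')) = p)
    (hreg : IsRegularLocalRing (Localization.AtPrime p')) :
    ∃ g : Fin n → CKaehler k A, ∀ w, ∃ c ∉ p, c • w ∈ Submodule.span A (Set.range g) := by
  classical
  let C := EGA4.CTensor k A k'
  haveI := (S5993.aux k A k').1
  obtain ⟨M, hM, hp'M⟩ := Ideal.exists_le_maximal p' ‹p'.IsPrime›.ne_top
  haveI := hM
  obtain ⟨hcpl, hres, e, -⟩ := exists_cKaehler_baseChange_equiv (k := k) (A := A) (k' := k') M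
  let L := Localization.AtPrime M
  haveI := hcpl
  haveI := hres
  haveI : IsNoetherianRing L := IsLocalization.isNoetherianRing M.primeCompl L inferInstance
  obtain ⟨-, hff, hdimL, -⟩ := (S5993.aux k A k').2.2.2 ⟨M, hM⟩
  haveI : Module.FaithfullyFlat A L := hff
  have hdisj : Disjoint (M.primeCompl : Set C) (p' : Set C) := Set.disjoint_left.2 fun x hx h => hx (hp'M h)
  let P := p'.map (algebraMap C L)
  haveI : P.IsPrime := IsLocalization.isPrime_of_isPrime_disjoint M.primeCompl L p' ‹_› hdisj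
  have hPC : P.comap (algebraMap C L) = p' := IsLocalization.under_map_of_isPrime_disjoint M.primeCompl L ‹_› hdisj
  have hPA : P.comap (algebraMap A L) = p := by
    rw [IsScalarTower.algebraMap_eq A C L, ← Ideal.comap_comap, hPC, hp']
  let TP := Localization.AtPrime P
  haveI : IsLocalization.AtPrime TP p' := by
    have h0 := IsLocalization.isLocalization_isLocalization_atPrime_isLocalization M.primeCompl TP P
    have hc : (P.comap (algebraMap C L)).primeCompl = p'.primeCompl := Submonoid.ext fun z =>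
      not_congr (by rw [hPC])
    show IsLocalization p'.primeCompl TP
    rw [← hc]; exact h0
  have hregP : IsRegularLocalRing TP :=
    haveI := hreg
    IsRegularLocalRing.of_ringEquiv (R := Localization.AtPrime p')
      (IsLocalization.algEquiv p'.primeCompl (Localization.AtPrime p') TP).toRingEquiv
  obtain ⟨Q, hQ, hQP⟩ := Ideal.exists_minimalPrimes_le (bot_le : (⊥ : Ideal L) ≤ P)
  haveI := hQ.1.1
  obtain ⟨r, hr⟩ : ∃ r : ℕ, ringKrullDim (L ⧸ Q) = r := by
    haveI : IsLocalRing (L ⧸ Q) := IsLocalRing.of_surjective' (Ideal.Quotient.mk Q) Ideal.Quotient.mk_surjective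
    refine ⟨(maximalIdeal (L ⧸ Q)).height.toNat, ?_⟩
    rw [← IsLocalRing.maximalIdeal_height_eq_ringKrullDim]
    exact_mod_cast (ENat.coe_toNat (Ideal.height_ne_top (maximalIdeal.isMaximal _).ne_top)).symm
  obtain ⟨hfree, hrank⟩ := free_of_regular_of_perfect k' L P hregP Q hQ hQP r hr
  -- `r ≤ n`
  have hrn : r ≤ n := by
    have hQ' : Q ∈ ((⊥ : Ideal A).map (algebraMap A L)).minimalPrimes := by rwa [Ideal.map_bot]
    obtain ⟨hqmin, -⟩ := under_mem_minimalPrimes (B := L) (⊥ : Ideal A) hQ'
    have hqp : Q.under A ≤ p := hPA ▸ Ideal.comap_mono hQP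
    haveI : IsLocalHom (algebraMap A L) := by
      refine ((local_hom_TFAE (algebraMap A L)).out 0 2 rfl rfl).2 (IsLocalRing.le_maximalIdeal fun h => ?_)
      exact (maximalIdeal.isMaximal A).ne_top (by
        rw [← Ideal.comap_map_eq_self_of_faithfullyFlat (B := L) (maximalIdeal A), h, Ideal.comap_top])
    have h0 : ringKrullDim (EGA4.FibRing A L) = 0 := by
      have hnt : (maximalIdeal A).map (algebraMap A L) ≤ maximalIdeal L := map_maximalIdeal_le
      haveI : Nontrivial (EGA4.FibRing A L) :=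
        Ideal.Quotient.nontrivial_iff.mpr fun h => (maximalIdeal.isMaximal L).ne_top (top_le_iff.mp (h ▸ hnt))
      haveI : IsLocalRing (EGA4.FibRing A L) := .of_surjective' _ Ideal.Quotient.mk_surjective
      haveI : (maximalIdeal L).LiesOver (maximalIdeal A) := ⟨(under_eq_maximalIdeal (A := A) hnt).symm⟩
      have h := Ideal.height_eq_height_add_of_liesOver_of_hasGoingDown (maximalIdeal A) (maximalIdeal L)
      rw [IsLocalRing.map_maximalIdeal_of_surjective _ Ideal.Quotient.mk_surjective] at h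
      have h1 : (maximalIdeal L).height = (maximalIdeal A).height := by
        rw [← maximalIdeal_height_eq_ringKrullDim, ← maximalIdeal_height_eq_ringKrullDim] at hdimL
        exact_mod_cast hdimL
      rw [h1] at h
      rw [← maximalIdeal_height_eq_ringKrullDim]
      have h2 := WithTop.add_left_cancel (Ideal.height_ne_top (maximalIdeal.isMaximal A).ne_top)
        (h.symm.trans (add_zero _).symm)
      rw [show (maximalIdeal (EGA4.FibRing A L)).height = 0 from h2]
      rfl
    haveI := hqmin.1.1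
    have h1 : ringKrullDim (L ⧸ Q) ≤ ringKrullDim (A ⧸ Q.under A) := by
      rw [← ringKrullDim_quotient_map_eq (B := L) h0 hqmin.1.1.ne_top]
      exact ringKrullDim_le_of_surjective (Ideal.Quotient.factor Ideal.map_comap_le) (Ideal.Quotient.factor_surjective _)
    rw [hr] at h1
    exact_mod_cast h1.trans (hn₁ _ hqmin hqp)
  -- compare the fibres
  haveI := finite_cKaehler k A
  let κ := p.ResidueField
  let κ' := P.ResidueField
  haveI : P.LiesOver p := ⟨hPA.symm⟩
  haveI := hfree
  have hfib : Module.finrank κ' (κ' ⊗[L] CKaehler k' L) = r := by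
    let E : κ' ⊗[L] CKaehler k' L ≃ₗ[κ'] κ' ⊗[TP] LocalizedModule P.primeCompl (CKaehler k' L) :=
      (AlgebraTensorModule.cancelBaseChange L TP κ' κ' (CKaehler k' L)).symm ≪≫ₗ
        AlgebraTensorModule.congr (LinearEquiv.refl κ' κ') (LocalizedModule.equivTensorProduct P.primeCompl (CKaehler k' L)).symm
    rw [E.finrank_eq, Module.finrank_baseChange, hrank]
  have hfibA : Module.finrank κ (κ ⊗[A] CKaehler k A) = r := by
    letI : Algebra (Localization.AtPrime p) TP := Localization.AtPrime.algebraOfLiesOver p P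
    let E : κ' ⊗[L] CKaehler k' L ≃ₗ[κ'] κ' ⊗[κ] (κ ⊗[A] CKaehler k A) :=
      AlgebraTensorModule.congr (LinearEquiv.refl κ' κ') e.symm ≪≫ₗ
        AlgebraTensorModule.cancelBaseChange A L κ' κ' (CKaehler k A) ≪≫ₗ
        (AlgebraTensorModule.cancelBaseChange A κ κ' κ' (CKaehler k A)).symm
    rw [← hfib, E.finrank_eq]
    exact Module.finrank_baseChange.symm
  -- generators
  obtain ⟨s, hs, hscard⟩ : ∃ s : Fin r → CKaehler k A,
      Submodule.span κ (TensorProduct.mk A κ (CKaehler k A) 1 '' Set.range s) = ⊤ ∧ True := by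
    have hspan : Submodule.span κ (Set.range (TensorProduct.mk A κ (CKaehler k A) 1)) = ⊤ := by
      refine eq_top_iff.2 fun z _ => ?_
      induction z using TensorProduct.induction_on with
      | zero => exact zero_mem _
      | add x y hx hy => exact add_mem (hx trivial) (hy trivial)
      | tmul c w =>
        rw [show c ⊗ₜ[A] w = c • ((1 : κ) ⊗ₜ[A] w) by rw [TensorProduct.smul_tmul', smul_eq_mul, mul_one]]
        exact Submodule.smul_mem _ c (Submodule.subset_span ⟨w, rfl⟩)
    obtain ⟨bs, hbs, hbspan, hli⟩ := exists_linearIndependent κ (Set.range (TensorProduct.mk A κ (CKaehler k A) 1))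
    rw [hspan] at hbspan
    let B := Module.Basis.mk hli (by rw [Subtype.range_coe, hbspan])
    haveI : Finite bs := Module.Finite.finite_basis B
    let ee : Fin r ≃ bs := (finCongr (by rw [← hfibA, Module.finrank_eq_nat_card_basis B])).trans (Finite.equivFin bs).symm
    choose s hs using fun i => hbs (ee i).2
    refine ⟨s, eq_top_iff.2 (hbspan.ge.trans (Submodule.span_mono fun z hz => ⟨s (ee.symm ⟨z, hz⟩), ⟨_, rfl⟩, ?_⟩)), trivial⟩
    exact (hs _).trans (by rw [ee.apply_symm_apply])
  let g : Fin n → CKaehler k A := fun i => if h : i.1 < r then s ⟨i.1, h⟩ else 0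
  refine ⟨g, fun w => ?_⟩
  obtain ⟨c, hc, hcw⟩ := (span_fibre_eq_top_iff p _).1 hs w
  refine ⟨c, hc, Submodule.span_mono ?_ hcw⟩
  rintro _ ⟨i, rfl⟩
  exact ⟨⟨i.1, lt_of_lt_of_le i.2 hrn⟩, by simp [g]⟩

/-- Primes lift to the completed base change. -/
theorem exists_prime_cTensor (k' : Type u) [Field k'] [Algebra k k'] :
    ∃ (p' : Ideal (EGA4.CTensor k A k')) (_ : p'.IsPrime), p'.comap (algebraMap A (EGA4.CTensor k A k')) = p := by
  let C := EGA4.CTensor k A k'
  haveI := (S5993.aux k A k').1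
  haveI : Module.Finite k (A ⧸ maximalIdeal A) := ‹Module.Finite k (ResidueField A)›
  obtain ⟨Φ, -, -⟩ := exists_quotient_maximalIdeal (k := k) (A := A) (B := k')
  haveI : Nontrivial ((A ⧸ maximalIdeal A) ⊗[k] k') :=
    (Algebra.TensorProduct.includeRight_injective (A := A ⧸ maximalIdeal A) (B := k')
      (algebraMap k (A ⧸ maximalIdeal A)).injective).nontrivial
  haveI : Nontrivial C := Φ.domain_nontrivial
  obtain ⟨M, hM⟩ := Ideal.exists_maximal C
  obtain ⟨-, hff, -, -⟩ := (S5993.aux k A k').2.2.2 ⟨M, hM⟩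
  haveI : Module.FaithfullyFlat A (Localization.AtPrime M) := hff
  obtain ⟨Q, hQ⟩ := PrimeSpectrum.comap_surjective_of_faithfullyFlat (A := A) (B := Localization.AtPrime M) ⟨p, inferInstance⟩
  refine ⟨Q.asIdeal.comap (algebraMap C _), Ideal.comap_isPrime _ _, ?_⟩
  rw [Ideal.comap_comap, ← IsScalarTower.algebraMap_eq]
  exact congrArg PrimeSpectrum.asIdeal hQ

end Groth.Agent.CommAlg6
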