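import Groth.Agent.CommAlg6.CatenaryHeight
import Groth.Agent.CommAlg6.FibreAt
import Groth.Agent.S2663

/-! In a catenary `(S₂)` Noetherian ring the length of a chain from a minimal prime to a prime does
not depend on the minimal prime. -/

set_option autoImplicit false
set_option linter.style.haveILetI false

universe u

open IsLocalRing

namespace Groth.Agent.CommAlg6

open LocCoh (hq)

/-- Equidimensionality at every prime of a catenary `(S₂)` ring. -/
theorem hq_eq_of_hasS2 {D : Type u} [CommRing D] [IsNoetherianRing D] (hcat : CAlg.IsCatenary D)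
    (hS : _root_.LocCoh.HasSk 2 D D) :
    ∀ (n : ℕ) (r q q' : Ideal D) [r.IsPrime], r.height ≤ n → q ∈ minimalPrimes D → q' ∈ minimalPrimes D →
      q ≤ r → q' ≤ r → hq q r = hq q' r := by
  classical
  intro n
  induction n with
  | zero =>
    intro r q q' _ hr hq' hq'' hle hle'
    haveI := hq'.1.1
    haveI := hq''.1.1
    have h1 : hq q r ≤ 0 := (hq_le_height hle).trans hr
    have h2 : hq q' r ≤ 0 := (hq_le_height hle').trans hr
    rw [nonpos_iff_eq_zero.1 h1, nonpos_iff_eq_zero.1 h2]
  | succ n ih =>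
    intro r q q' _ hr hq0 hq0' hle hle'
    haveI := hq0.1.1
    haveI := hq0'.1.1
    by_cases hn : r.height ≤ n
    · exact ih r q q' hn hq0 hq0' hle hle'
    have hrn : r.height = ((n + 1 : ℕ) : ℕ∞) := le_antisymm hr (by
      rw [Nat.cast_succ]
      exact Order.add_one_le_of_lt (not_le.1 hn))
    have hpos : ∀ p : Ideal D, p ∈ minimalPrimes D → p ≤ r → p < r := fun p hp hpr => by
      refine lt_of_le_of_ne hpr fun he => ?_
      subst he
      haveI := hp.1.1
      rw [Ideal.height_eq_zero_iff.2 hp] at hrn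
      exact n.succ_ne_zero (by exact_mod_cast hrn.symm)
    rcases Nat.eq_zero_or_pos n with rfl | hn1
    · have key : ∀ p : Ideal D, p ∈ minimalPrimes D → p ≤ r → hq p r = 1 := fun p hp hpr => by
        haveI := hp.1.1
        exact le_antisymm ((hq_le_height hpr).trans (by rw [hrn]; simp)) (LocCoh.one_le_map_height_of_not_le (hpos p hp hpr))
      rw [key q hq0 hle, key q' hq0' hle']
    by_contra hne
    let L := Localization.AtPrime r
    haveI : IsNoetherianRing L := IsLocalization.isNoetherianRing r.primeCompl L inferInstance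
    haveI : ConnectedSpace (PrimeSpectrum L) :=
      { toPreconnectedSpace := ⟨fun U V hU hV hUV ⟨x, _, hxU⟩ ⟨y, _, hyV⟩ => by
          rcases hUV (Set.mem_univ (closedPoint L)) with hm | hm
          · exact ⟨y, Set.mem_univ y, (specializes_closedPoint y).mem_open hU hm, hyV⟩
          · exact ⟨x, Set.mem_univ x, hxU, (specializes_closedPoint x).mem_open hV hm⟩⟩
        toNonempty := ⟨closedPoint L⟩ }
    have hdep : ∀ (p : Ideal L) [p.IsPrime], maximalIdeal L ≤ p →
        (2 : ℕ∞) ≤ _root_.LocCoh.depth (Localization.AtPrime p) (Localization.AtPrime p) := by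
      intro p _ hp
      obtain rfl : p = maximalIdeal L := (le_maximalIdeal (Ideal.IsPrime.ne_top ‹_›)).antisymm hp
      have h := (CAlgH3.hasSk_self_iff 2).1 (CAlgH3.hasSk_localization (W := r.primeCompl) (S := L) hS) (maximalIdeal L)
      rw [IsLocalization.AtPrime.ringKrullDim_eq_height (maximalIdeal L) (Localization.AtPrime (maximalIdeal L)),
        maximalIdeal_height_eq_ringKrullDim, IsLocalization.AtPrime.ringKrullDim_eq_height r L, hrn] at h
      rw [← WithBot.coe_natCast, ← WithBot.coe_min, WithBot.coe_le_coe] at h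
      refine le_trans (le_min le_rfl ?_) h
      exact_mod_cast (show 2 ≤ n + 1 by omega)
    have hconn := Groth.Agent.S2663.result L (maximalIdeal L) hdep
    let Z : (Ideal D → Prop) → Set (PrimeSpectrum L) := fun f =>
      ⋃ p ∈ {p : Ideal D | p ∈ minimalPrimes D ∧ p ≤ r ∧ f p},
        PrimeSpectrum.zeroLocus ((p.map (algebraMap D L) : Ideal L) : Set L)
    have hclosed : ∀ f, IsClosed (Z f) := fun f =>
      ((minimalPrimes.finite_of_isNoetherianRing D).subset fun p hp => hp.1).isClosed_biUnion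
        fun p _ => PrimeSpectrum.isClosed_zeroLocus _
    let f : Ideal D → Prop := fun p => hq p r = hq q r
    have hpt : ∀ (p : Ideal D), p ∈ minimalPrimes D → p ≤ r → ∃ x : PrimeSpectrum L,
        x ∈ PrimeSpectrum.zeroLocus ((p.map (algebraMap D L) : Ideal L) : Set L) ∧
          x ∈ (PrimeSpectrum.zeroLocus (maximalIdeal L : Set L))ᶜ := fun p hp hpr => by
      haveI := hp.1.1
      haveI : (p.map (algebraMap D L)).IsPrime :=
        IsLocalization.isPrime_of_isPrime_disjoint r.primeCompl L p ‹_›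
          (Set.disjoint_left.2 fun x hx hxp => hx (hpr hxp))
      refine ⟨⟨p.map (algebraMap D L), inferInstance⟩, Set.Subset.refl _, fun hm => ?_⟩
      have h1 : (p.map (algebraMap D L)).comap (algebraMap D L) = p :=
        IsLocalization.comap_map_of_isPrime_disjoint r.primeCompl L ‹_›
          (Set.disjoint_left.2 fun x hx hxp => hx (hpr hxp))
      have h2 := Ideal.comap_mono (f := algebraMap D L) (SetLike.coe_subset_coe.1 hm)
      rw [h1] at h2
      exact (hpos p hp hpr).not_ge ((IsLocalization.AtPrime.comap_maximalIdeal L r).ge.trans h2)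
    obtain ⟨x, hx1, hx2⟩ := hpt q hq0 hle
    obtain ⟨y, hy1, hy2⟩ := hpt q' hq0' hle'
    have hcover : (PrimeSpectrum.zeroLocus (maximalIdeal L : Set L))ᶜ ⊆ Z f ∪ Z (fun p => ¬ f p) := by
      intro P _
      obtain ⟨p, hp, hpP⟩ := Ideal.exists_minimalPrimes_le (bot_le : (⊥ : Ideal D) ≤ P.asIdeal.comap (algebraMap D L))
      have hpr : p ≤ r := hpP.trans ((Ideal.comap_mono (le_maximalIdeal P.2.ne_top)).trans
        (IsLocalization.AtPrime.comap_maximalIdeal L r).le)
      have hz : P ∈ PrimeSpectrum.zeroLocus ((p.map (algebraMap D L) : Ideal L) : Set L) :=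
        SetLike.coe_subset_coe.2 (Ideal.map_le_iff_le_comap.2 hpP)
      by_cases hf : f p
      · exact Or.inl (Set.mem_biUnion ⟨hp, hpr, hf⟩ hz)
      · exact Or.inr (Set.mem_biUnion ⟨hp, hpr, hf⟩ hz)
    obtain ⟨P, hP, hP1, hP2⟩ := isPreconnected_closed_iff.1 hconn _ _ (hclosed f) (hclosed _) hcover
      ⟨x, hx2, Set.mem_biUnion ⟨hq0, hle, rfl⟩ hx1⟩
      ⟨y, hy2, Set.mem_biUnion ⟨hq0', hle', fun h => hne h.symm⟩ hy1⟩
    simp only [Z, Set.mem_iUnion, Set.mem_setOf_eq, exists_prop] at hP1 hP2
    obtain ⟨p, ⟨hp, hpr, hfp⟩, hpP⟩ := hP1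
    obtain ⟨p', ⟨hp', hp'r, hfp'⟩, hp'P⟩ := hP2
    let s := P.asIdeal.comap (algebraMap D L)
    haveI : s.IsPrime := Ideal.IsPrime.comap _
    have hsr : s < r := by
      refine lt_of_le_of_ne ?_ fun he => hP ?_
      · exact (Ideal.comap_mono (le_maximalIdeal P.2.ne_top)).trans
          (IsLocalization.AtPrime.comap_maximalIdeal L r).le
      · refine SetLike.coe_subset_coe.2 ?_
        rw [← Localization.AtPrime.map_eq_maximalIdeal, Ideal.map_le_iff_le_comap]
        exact he.ge
    have hps : p ≤ s := Ideal.map_le_iff_le_comap.1 (SetLike.coe_subset_coe.1 hpP)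
    have hp's : p' ≤ s := Ideal.map_le_iff_le_comap.1 (SetLike.coe_subset_coe.1 hp'P)
    haveI := hp.1.1
    haveI := hp'.1.1
    have hsn : s.height ≤ n := by
      have h := Ideal.height_add_one_le_of_lt_of_isPrime hsr
      rw [hrn, Nat.cast_succ, ENat.add_le_add_iff_right ENat.one_ne_top] at h
      exact h
    apply hfp'
    show hq p' r = hq q r
    rw [← hfp, ← hq_add_eq hcat hp's hsr.le, ← hq_add_eq hcat hps hsr.le, ih s p' p hsn hp' hp hp's hps]

/-- Heights are additive in catenary `(S₂)` rings. -/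
theorem height_add_hq_of_hasS2 {D : Type u} [CommRing D] [IsNoetherianRing D] (hcat : CAlg.IsCatenary D)
    (hS : _root_.LocCoh.HasSk 2 D D) {q Q : Ideal D} [q.IsPrime] [Q.IsPrime] (h : q ≤ Q) :
    q.height + hq q Q = Q.height := by
  obtain ⟨p, hp, hpq, hpe⟩ := exists_minimalPrimes_hq_eq_height q
  obtain ⟨p', hp', hp'Q, hp'e⟩ := exists_minimalPrimes_hq_eq_height Q
  haveI := hp.1.1
  obtain ⟨N, hN⟩ := ENat.ne_top_iff_exists.1 Q.height_ne_top_of_isPrime
  rw [← hpe, hq_add_eq hcat hpq h, ← hp'e]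
  exact hq_eq_of_hasS2 hcat hS N Q p p' hN.ge hp hp' (hpq.trans h) hp'Q

end Groth.Agent.CommAlg6
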