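import Groth.Agent.CommAlg6.GeomRedFibres
import Groth.Agent.CommAlg6.S2Equidim
import Groth.Agent.CommAlg6.GeomNormalBase
import Groth.Agent.CommAlg6.ExcellentBasic
import Groth.Agent.CAlgH.AdicSmoothRegular
import Groth.Agent.CAlgH.GRingFiniteType
import Groth.Agent.CAlgH.GRingMaximal
import Groth.Agent.CAlgMisc2.CatenaryLocal
import Groth.Agent.CommAlg6.CompletionMap

/-! Flat local algebras over G-rings with geometrically normal closed fibre. -/

set_option autoImplicit false
set_option linter.style.haveILetI false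

universe u

open IsLocalRing TensorProduct

namespace Groth.Agent.CommAlg6

attribute [local instance] isLocalRing_fibLocRing

/-- All fibres off the generic point are geometrically normal. -/
def NormalOffGeneric (C D : Type u) [CommRing C] [CommRing D] [Algebra C D] : Prop :=
  ∀ (K : Type u) [Field K] [Algebra C K], IsResFinite C K → RingHom.ker (algebraMap C K) ≠ ⊥ →
    EGA4.IsNormalRing (K ⊗[C] D)

theorem ker_of_isResFinite_residue {C : Type u} [CommRing C] (P : Ideal C) [P.IsPrime] :
    RingHom.ker (algebraMap C P.ResidueField) = P := Ideal.ker_algebraMap_residueField P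

theorem isNormal_fiber_of_offGeneric {C D : Type u} [CommRing C] [CommRing D] [Algebra C D]
    (h : NormalOffGeneric C D) (P : Ideal C) [P.IsPrime] (hP : P ≠ ⊥) : EGA4.IsNormalRing (P.Fiber D) :=
  h P.ResidueField (isResFinite_residueField P) (by rwa [ker_of_isResFinite_residue])

/-- Serre's conditions at the fibre local rings off the generic point. -/
theorem fibLocRing_R1_S2 {C D : Type u} [CommRing C] [CommRing D] [IsNoetherianRing D] [Algebra C D]
    (h : NormalOffGeneric C D) (q : Ideal D) [q.IsPrime] (hq : q.comap (algebraMap C D) ≠ ⊥) :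
    (ringKrullDim (EGA4.FibLocRing C D q) ≤ ((1 : ℕ∞) : WithBot ℕ∞) →
        IsRegularLocalRing (EGA4.FibLocRing C D q)) ∧
      min ((2 : ℕ) : WithBot ℕ∞) (ringKrullDim (EGA4.FibLocRing C D q)) ≤
        ((_root_.LocCoh.depth (EGA4.FibLocRing C D q) (EGA4.FibLocRing C D q) : ℕ∞) : WithBot ℕ∞) := by
  obtain ⟨Q, hQ, ⟨e⟩⟩ := exists_fiber_prime (A := C) q
  haveI := isNoetherianRing_fiber (B := D) (q.comap (algebraMap C D))
  obtain ⟨hR, hS⟩ := isNormalRing_iff_R1_S2.1 (isNormal_fiber_of_offGeneric h _ hq)
  refine ⟨fun hd => ?_, ?_⟩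
  · haveI := hR Q (by
      rw [← WithBot.coe_le_coe, ← IsLocalization.AtPrime.ringKrullDim_eq_height Q (Localization.AtPrime Q),
        ringKrullDim_eq_of_ringEquiv e]
      exact hd)
    exact IsRegularLocalRing.of_ringEquiv (R := Localization.AtPrime Q) e
  · have h2 := (CAlgH3.hasSk_self_iff 2).1 hS Q
    rwa [ringKrullDim_eq_of_ringEquiv e, CAlgH3.depth_ringEquiv e] at h2

theorem isRegularRing_of_hasRk_one {R : Type u} [CommRing R] [IsNoetherianRing R]
    (h : _root_.LocCoh.HasRk 1 R) (hd : ringKrullDim R ≤ 0) : IsRegularRing R := by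
  rw [isRegularRing_iff_forall_hasRk]
  intro k p hp _
  refine h p ?_
  rw [← WithBot.coe_le_coe]
  exact Ideal.height_le_ringKrullDim_of_isPrime.trans (hd.trans (WithBot.coe_le_coe.2 zero_le_one))

/-- The fibre of a finite extension of the closed point, localized. -/
theorem isNormal_localized_fibre {C D C' D' : Type u} [CommRing C] [CommRing D] [IsNoetherianRing D] [Algebra C D] [CommRing C']
    [Algebra C C'] (P : Ideal C) [P.IsPrime] [IsLocalization.AtPrime C' P] [CommRing D'] [IsNoetherianRing D']
    [Algebra D D'] (W : Submonoid D) [IsLocalization W D'] [Algebra C' D'] [Algebra C D'] [IsScalarTower C C' D']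
    [IsScalarTower C D D'] (h : NormalOffGeneric C D) (hP : P ≠ ⊥) (K : Type u) [Field K] [Algebra C' K]
    (hK : IsResFinite C' K) (hker : ∀ x ∈ P, algebraMap C' K (algebraMap C C' x) = 0) :
    EGA4.IsNormalRing (K ⊗[C'] D') := by
  letI : Algebra C K := ((algebraMap C' K).comp (algebraMap C C')).toAlgebra
  haveI : IsScalarTower C C' K := .of_algebraMap_eq fun _ => rfl
  have hK' : IsResFinite C K := hK.of_isLocalization P.primeCompl
  have hn : EGA4.IsNormalRing (K ⊗[C] D) := h K hK' fun hbot => hP (eq_bot_iff.2 fun x hx => by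
    have : x ∈ RingHom.ker (algebraMap C K) := hker x hx
    rwa [hbot] at this)
  letI : Algebra (K ⊗[C] D) (K ⊗[C] D') :=
    (Algebra.TensorProduct.map (AlgHom.id C K) (IsScalarTower.toAlgHom C D D')).toAlgebra
  haveI : IsScalarTower K (K ⊗[C] D) (K ⊗[C] D') :=
    @IsScalarTower.of_algebraMap_eq K (K ⊗[C] D) (K ⊗[C] D') _ _ _ _ _ _ fun x => by
      show x ⊗ₜ[C] (1 : D') = Algebra.TensorProduct.map (AlgHom.id C K) (IsScalarTower.toAlgHom C D D') (x ⊗ₜ[C] (1 : D))
      simp
  haveI := IsLocalization.tensorProduct_tensorProduct_right C K W D'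
    (RingHom.ext fun x => by simp [RingHom.algebraMap_toAlgebra]; try rfl)
  haveI := isNoetherianRing_resFinite (A := C) (B := D) hK'
  haveI : IsNoetherianRing (K ⊗[C] D') := isNoetherianRing_resFinite (A := C) (B := D') hK'
  have hn' : EGA4.IsNormalRing (K ⊗[C] D') := by
    rw [isNormalRing_iff_R1_S2] at hn ⊢
    exact ⟨CAlgH3.hasRk_localization (W := W.map (Algebra.TensorProduct.includeRight (R := C) (A := K))) hn.1,
      CAlgH3.hasSk_localization (W := W.map (Algebra.TensorProduct.includeRight (R := C) (A := K))) hn.2⟩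
  exact isNormalRing_of_ringEquiv (IsLocalization.algebraTensorEquiv P.primeCompl C' K D').toRingEquiv.symm hn'

/-- A point of the generic fibre generalizing a point with zero-dimensional fibre is regular. -/
theorem regular_of_local_fibre_dim_zero {C' D' : Type u} [CommRing C'] [IsDomain C'] [IsLocalRing C'] [IsNoetherianRing C']
    [CommRing D'] [IsLocalRing D'] [IsNoetherianRing D'] [Algebra C' D'] [IsLocalHom (algebraMap C' D')] [Module.Flat C' D']
    (hC : CAlg.IsRegularHom C' (EGA4.Cpl C'))
    (h : ∀ (K : Type u) [Field K] [Algebra C' K], IsResFinite C' K → (∀ x ∈ maximalIdeal C', algebraMap C' K x = 0) →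
      EGA4.IsNormalRing (K ⊗[C'] D'))
    (h0 : ringKrullDim (D' ⧸ (maximalIdeal C').map (algebraMap C' D')) ≤ 0)
    (q : Ideal D') [q.IsPrime] (hq : q.comap (algebraMap C' D') = ⊥) :
    IsRegularLocalRing (Localization.AtPrime q) := by
  let k := (maximalIdeal C').ResidueField
  let F := (maximalIdeal C').Fiber D'
  have hα : Function.Surjective (algebraMap C' k) := Ideal.algebraMap_residueField_surjective _
  have hF0 : ringKrullDim F ≤ 0 := by
    refine le_of_eq_of_le ?_ h0
    have hker := CAlgH.AdicSmooth.ker_includeRight_of_surjective C' k D' hα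
    rw [CAlgH.AdicSmooth.ker_algebraMap_closedResidue] at hker
    exact (ringKrullDim_eq_of_ringEquiv ((Ideal.quotEquivOfEq hker.symm).trans
      (RingHom.quotientKerEquivOfSurjective
        (CAlgH.AdicSmooth.includeRight_surjective_of_surjective C' k D' hα)))).symm
  have hgeo : CAlg.IsGeometricallyRegular k F := by
    intro K _ _ hK
    haveI := hK
    letI : Algebra C' K := ((algebraMap k K).comp (algebraMap C' k)).toAlgebra
    haveI : IsScalarTower C' k K := .of_algebraMap_eq fun _ => rfl
    have hres : IsResFinite C' K := ⟨maximalIdeal C', inferInstance, inferInstance, inferInstance, hK⟩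
    let e : K ⊗[k] F ≃+* K ⊗[C'] D' := (Algebra.TensorProduct.cancelBaseChange C' k K K D').toRingEquiv
    have hn : EGA4.IsNormalRing (K ⊗[C'] D') := h K hres fun x hx => by
      show algebraMap k K (algebraMap C' k x) = 0
      rw [← ker_of_isResFinite_residue (maximalIdeal C'), RingHom.mem_ker] at hx
      rw [hx, map_zero]
    haveI := isNoetherianRing_resFinite (A := C') (B := D') hres
    haveI : IsNoetherianRing (K ⊗[k] F) := isNoetherianRing_of_ringEquiv _ e.symm
    letI : Algebra F (K ⊗[k] F) := Algebra.TensorProduct.rightAlgebra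
    haveI : Module.Finite F (K ⊗[k] F) := Module.Finite.equiv (Algebra.TensorProduct.commRight k F K).toLinearEquiv
    haveI : Algebra.IsIntegral F (K ⊗[k] F) := Algebra.IsIntegral.of_finite F _
    refine isRegularRing_of_hasRk_one (isNormalRing_iff_R1_S2.1 (isNormalRing_of_ringEquiv e.symm hn)).1 ?_
    exact (Order.krullDim_le_of_strictMono _ (DimLib.strictMono_comap_of_isIntegral (R := F) (S := K ⊗[k] F))).trans hF0
  have hreg : CAlg.IsRegularHom C' D' :=
    CAlgH.AdicSmooth.isRegularHom_of_adicSmooth hC (CAlgH.AdicSmooth.flat_fibre_iff.mp ⟨inferInstance, hgeo⟩)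
  haveI := isRegularRing_resFinite hreg ((⊥ : Ideal C').ResidueField) (isResFinite_residueField ⊥)
  haveI : IsRegularLocalRing (EGA4.FibLocRing C' D' q) := by
    obtain ⟨Q, hQ, ⟨e⟩⟩ := exists_fiber_prime (A := C') q
    haveI : IsRegularRing ((q.comap (algebraMap C' D')).Fiber D') :=
      isRegularRing_resFinite hreg _ (isResFinite_residueField _)
    exact IsRegularLocalRing.of_ringEquiv (R := Localization.AtPrime Q) e
  refine (local_fibre (A := C') q).2.2.2 ?_ inferInstance
  haveI : IsDomain (Localization.AtPrime (q.comap (algebraMap C' D'))) :=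
    IsLocalization.isDomain_localization (Ideal.primeCompl_le_nonZeroDivisors _)
  have hdim : ringKrullDim (Localization.AtPrime (q.comap (algebraMap C' D'))) = 0 := by
    rw [IsLocalization.AtPrime.ringKrullDim_eq_height (q.comap (algebraMap C' D'))
      (Localization.AtPrime (q.comap (algebraMap C' D')))]
    have : (q.comap (algebraMap C' D')).height = 0 := Ideal.height_eq_zero_iff.2 (by
      rw [IsDomain.minimalPrimes_eq_singleton_bot]; exact hq)
    rw [this]; rfl
  haveI : Ring.KrullDimLE 0 (Localization.AtPrime (q.comap (algebraMap C' D'))) :=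
    Ring.krullDimLE_iff.2 hdim.le
  letI : Field (Localization.AtPrime (q.comap (algebraMap C' D'))) :=
    (Ring.KrullDimLE.isField_of_isReduced (R := Localization.AtPrime (q.comap (algebraMap C' D')))).toField
  infer_instance

theorem regular_congr {R : Type u} [CommRing R] (p q : Ideal R) [p.IsPrime] [q.IsPrime] (h : p = q)
    (hp : IsRegularLocalRing (Localization.AtPrime p)) : IsRegularLocalRing (Localization.AtPrime q) := by
  subst h
  exact hp

/-- A point of the generic fibre generalizing a point with zero-dimensional fibre is regular. -/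
theorem regular_of_specializes_fibre_dim_zero {C D : Type u} [CommRing C] [IsDomain C] [CommRing D] [IsNoetherianRing D]
    [Algebra C D] [Module.Flat C D] (hG : CAlg.IsGRing C) (h : NormalOffGeneric C D) (q Q : Ideal D) [q.IsPrime] [Q.IsPrime]
    (hqQ : q ≤ Q) (hq : q.comap (algebraMap C D) = ⊥) (hQ : Q.comap (algebraMap C D) ≠ ⊥)
    (h0 : ringKrullDim (EGA4.FibLocRing C D Q) ≤ 0) : IsRegularLocalRing (Localization.AtPrime q) := by
  haveI := hG.1
  let P := Q.comap (algebraMap C D)
  haveI : Q.LiesOver P := ⟨rfl⟩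
  letI := Localization.AtPrime.algebraOfLiesOver P Q
  haveI : IsLocalHom (algebraMap (Localization.AtPrime P) (Localization.AtPrime Q)) :=
    Localization.isLocalHom_localRingHom P Q (algebraMap C D) Ideal.LiesOver.over
  haveI : Module.Flat (Localization.AtPrime P) (Localization.AtPrime Q) := inferInstance
  haveI : IsNoetherianRing (Localization.AtPrime P) :=
    IsLocalization.isNoetherianRing P.primeCompl (Localization.AtPrime P) inferInstance
  haveI : IsNoetherianRing (Localization.AtPrime Q) :=
    IsLocalization.isNoetherianRing Q.primeCompl (Localization.AtPrime Q) inferInstance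
  haveI : IsDomain (Localization.AtPrime P) := IsLocalization.isDomain_localization P.primeCompl_le_nonZeroDivisors
  have hdis : Disjoint (Q.primeCompl : Set D) (q : Set D) :=
    Set.disjoint_left.2 fun x hx hxq => hx (hqQ hxq)
  let q1 := q.map (algebraMap D (Localization.AtPrime Q))
  haveI : q1.IsPrime := IsLocalization.isPrime_of_isPrime_disjoint Q.primeCompl (Localization.AtPrime Q) q ‹_› hdis
  have hq1 : q1.comap (algebraMap D (Localization.AtPrime Q)) = q :=
    IsLocalization.comap_map_of_isPrime_disjoint Q.primeCompl (Localization.AtPrime Q) ‹_› hdis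
  have hdim : ringKrullDim (Localization.AtPrime Q ⧸
      (maximalIdeal (Localization.AtPrime P)).map (algebraMap (Localization.AtPrime P) (Localization.AtPrime Q))) ≤ 0 := by
    refine le_of_eq_of_le (ringKrullDim_eq_of_ringEquiv (Ideal.quotEquivOfEq ?_)) h0
    rw [← Localization.AtPrime.map_eq_maximalIdeal, Ideal.map_map, ← IsScalarTower.algebraMap_eq]
  have hq1' : q1.comap (algebraMap (Localization.AtPrime P) (Localization.AtPrime Q)) = ⊥ := by
    have hc : (q1.comap (algebraMap (Localization.AtPrime P) (Localization.AtPrime Q))).comap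
        (algebraMap C (Localization.AtPrime P)) = ⊥ := by
      rw [Ideal.comap_comap, ← IsScalarTower.algebraMap_eq, IsScalarTower.algebraMap_eq C D (Localization.AtPrime Q),
        ← Ideal.comap_comap, hq1, hq]
    exact (IsLocalization.map_comap P.primeCompl (Localization.AtPrime P) _).symm.trans
      ((congrArg (Ideal.map (algebraMap C (Localization.AtPrime P))) hc).trans Ideal.map_bot)
  haveI := regular_of_local_fibre_dim_zero (C' := Localization.AtPrime P) (D' := Localization.AtPrime Q) (hG.2 P)
    (fun K _ _ hK hker => isNormal_localized_fibre P Q.primeCompl h hQ K hK fun x hx => hker _ (by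
      rw [← Localization.AtPrime.map_eq_maximalIdeal]; exact Ideal.mem_map_of_mem _ hx)) hdim q1 hq1'
  have e := IsLocalization.localizationLocalizationAtPrimeIsoLocalization Q.primeCompl q1
  have : IsRegularLocalRing (Localization.AtPrime (q1.comap (algebraMap D (Localization.AtPrime Q)))) :=
    IsRegularLocalRing.of_ringEquiv (R := Localization.AtPrime q1) e.symm.toRingEquiv
  exact regular_congr _ q hq1 this

/-- Arithmetic of depths along an immediate specialization. -/
theorem sk_gap {a b dA dF dq h : ℕ∞} (hA : min ((2 : ℕ) : ℕ∞) a ≤ dA) (hB : min ((2 : ℕ) : ℕ∞) b ≤ dF)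
    (hd : dA + dF ≤ dq + 1) (hh : h + 1 ≤ a + b) (ha : a ≠ 0) (hb : b ≠ 0) :
    min ((2 : ℕ) : ℕ∞) h ≤ dq := by
  rcases le_or_gt ((2 : ℕ) : ℕ∞) dq with h2 | h2
  · exact (min_le_left _ _).trans h2
  obtain ⟨d, rfl⟩ := ENat.ne_top_iff_exists.1 (ne_top_of_lt h2)
  rw [Nat.cast_lt] at h2
  obtain ⟨x, rfl⟩ := ENat.ne_top_iff_exists.1 (show dA ≠ ⊤ by rintro rfl; rw [top_add, top_le_iff] at hd; exact absurd hd (by exact_mod_cast ENat.natCast_ne_top (d + 1)))
  obtain ⟨y, rfl⟩ := ENat.ne_top_iff_exists.1 (show dF ≠ ⊤ by rintro rfl; rw [add_top, top_le_iff] at hd; exact absurd hd (by exact_mod_cast ENat.natCast_ne_top (d + 1)))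
  have hd' : x + y ≤ d + 1 := by exact_mod_cast hd
  have key : ∀ (c : ℕ∞) (z : ℕ), min ((2 : ℕ) : ℕ∞) c ≤ z → c ≠ 0 → 1 ≤ z ∧ (z ≤ 1 → c = 1) := fun c z hc hc0 => by
    induction c using ENat.recTopCoe with
    | top =>
      rw [min_top_right, Nat.cast_le] at hc
      omega
    | coe n =>
      rw [Nat.cast_ne_zero] at hc0
      rcases min_le_iff.1 hc with hc | hc <;> rw [Nat.cast_le] at hc <;>
        exact ⟨by omega, fun h => by exact_mod_cast (by omega : n = 1)⟩
  obtain ⟨hx, hx1⟩ := key a x hA ha
  obtain ⟨hy, hy1⟩ := key b y hB hb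
  obtain rfl := hx1 (by omega)
  obtain rfl := hy1 (by omega)
  refine (min_le_right _ _).trans ?_
  have : h ≤ 1 := (ENat.add_le_add_iff_right ENat.one_ne_top).1 hh
  exact this.trans (by exact_mod_cast (by omega : 1 ≤ d))

theorem le_one_of_add_le {a b : ℕ∞} (h : a + b ≤ 1 + 1) (hb : b ≠ 0) : a ≤ 1 := by
  have h1 : (1 : ℕ∞) ≤ b := Order.one_le_iff_pos.2 (pos_iff_ne_zero.2 hb)
  exact (ENat.add_le_add_iff_right ENat.one_ne_top).1 ((add_le_add le_rfl h1).trans h)

set_option maxHeartbeats 800000 in
/-- Normality from normal fibres off the generic point, over a normal G-ring domain. -/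
theorem isNormal_of_normal_base {C D : Type u} [CommRing C] [IsDomain C] [IsIntegrallyClosed C] [IsLocalRing C]
    [CommRing D] [IsLocalRing D] [IsNoetherianRing D] [Algebra C D] [IsLocalHom (algebraMap C D)] [Module.Flat C D]
    (hG : CAlg.IsGRing C) (hcat : CAlg.IsCatenary D) (hF : ¬ IsField C) (h : NormalOffGeneric C D) :
    EGA4.IsNormalRing D := by
  haveI := hG.1
  obtain ⟨t, htm, ht0⟩ : ∃ t ∈ maximalIdeal C, t ≠ 0 :=
    (Submodule.ne_bot_iff _).1 (fun h => hF (IsLocalRing.isField_iff_maximalIdeal_eq.2 h))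
  have htB : algebraMap C D t ∈ maximalIdeal D :=
    (IsLocalRing.mem_maximalIdeal _).2 fun h => htm (isUnit_of_map_unit _ t h)
  have hbase : ∀ (P : Ideal C) [P.IsPrime],
      (ringKrullDim (Localization.AtPrime P) ≤ ((1 : ℕ∞) : WithBot ℕ∞) → IsRegularLocalRing (Localization.AtPrime P)) ∧
        min ((2 : ℕ) : WithBot ℕ∞) (ringKrullDim (Localization.AtPrime P)) ≤
          ((_root_.LocCoh.depth (Localization.AtPrime P) (Localization.AtPrime P) : ℕ∞) : WithBot ℕ∞) := fun P _ => by
    haveI : IsDomain (Localization.AtPrime P) := IsLocalization.isDomain_localization P.primeCompl_le_nonZeroDivisors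
    haveI : IsIntegrallyClosed (Localization.AtPrime P) :=
      isIntegrallyClosed_of_isLocalization _ P.primeCompl P.primeCompl_le_nonZeroDivisors
    haveI : IsNoetherianRing (Localization.AtPrime P) := IsLocalization.isNoetherianRing P.primeCompl _ inferInstance
    exact normal_iff_dim_depth
  -- a specialization of a point of the generic fibre
  have hspec : ∀ (q : Ideal D) [q.IsPrime], q.comap (algebraMap C D) = ⊥ →
      ∃ (Q : Ideal D) (_ : Q.IsPrime), q < Q ∧ LocCoh.hq q Q = 1 ∧ Q.comap (algebraMap C D) ≠ ⊥ := fun q _ hq => by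
    obtain ⟨Q, hQ, hlt, htQ, h1⟩ := exists_hq_eq_one q htB fun hh => ht0 (by
      have : t ∈ q.comap (algebraMap C D) := hh
      rwa [hq] at this)
    exact ⟨Q, hQ, hlt, h1, fun hh => ht0 (by
      have : t ∈ Q.comap (algebraMap C D) := htQ
      rwa [hh] at this)⟩
  have hS2 : _root_.LocCoh.HasSk 2 D D := by
    rw [CAlgH3.hasSk_self_iff]
    intro q _
    obtain ⟨h1, h2, -, -⟩ := local_fibre (A := C) q
    by_cases hq : q.comap (algebraMap C D) = ⊥
    · obtain ⟨Q, hQ, hlt, hqQ, hQ0⟩ := hspec q hq
      obtain ⟨hd, hdep, -, -⟩ := local_fibre (A := C) Q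
      obtain ⟨b, hb⟩ := exists_dim_eq (EGA4.FibLocRing C D Q)
      by_cases hb0 : b = 0
      · haveI := regular_of_specializes_fibre_dim_zero hG h q Q hlt.le hq hQ0 (by rw [hb, hb0]; rfl)
        haveI : IsRegularRing (Localization.AtPrime q) := CAlgH3.isRegularRing_of_isRegularLocalRing
        exact (hasSk_atPrime_iff 2 q).1 (isCMRing_of_isRegularRing 2) q le_rfl
      have hdd := LocCoh.depth_le_depth_add_hq D q Q hlt.le
      rw [CAlgH3.depth_congr (CAlgH3.localizedModuleSelf q), CAlgH3.depth_congr (CAlgH3.localizedModuleSelf Q),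
        hdep, hqQ] at hdd
      obtain ⟨a, ha⟩ := exists_dim_eq (Localization.AtPrime (Q.comap (algebraMap C D)))
      have hA := (hbase (Q.comap (algebraMap C D))).2
      have hB := (fibLocRing_R1_S2 h Q hQ0).2
      rw [ha, ← WithBot.coe_natCast, ← WithBot.coe_min, WithBot.coe_le_coe] at hA
      rw [hb, ← WithBot.coe_natCast, ← WithBot.coe_min, WithBot.coe_le_coe] at hB
      have hht : q.height + 1 ≤ a + b := by
        have h3 := Ideal.height_add_one_le_of_lt_of_isPrime hlt
        rw [ha, hb, IsLocalization.AtPrime.ringKrullDim_eq_height Q (Localization.AtPrime Q), ← WithBot.coe_add,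
          WithBot.coe_inj] at hd
        rwa [hd] at h3
      have ha0 : a ≠ 0 := by
        rintro rfl
        apply hQ0
        rw [IsLocalization.AtPrime.ringKrullDim_eq_height (Q.comap (algebraMap C D))
          (Localization.AtPrime (Q.comap (algebraMap C D))), WithBot.coe_inj] at ha
        have := Ideal.height_eq_zero_iff.1 ha
        rwa [IsDomain.minimalPrimes_eq_singleton_bot, Set.mem_singleton_iff] at this
      rw [IsLocalization.AtPrime.ringKrullDim_eq_height q (Localization.AtPrime q), ← WithBot.coe_natCast,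
        ← WithBot.coe_min, WithBot.coe_le_coe]
      exact sk_gap hA hB hdd hht ha0 hb0
    · obtain ⟨a, ha⟩ := exists_dim_eq (Localization.AtPrime (q.comap (algebraMap C D)))
      obtain ⟨b, hb⟩ := exists_dim_eq (EGA4.FibLocRing C D q)
      rw [h2]
      exact sk_add ha hb h1 (hbase _).2 (fibLocRing_R1_S2 h q hq).2
  rw [isNormalRing_iff_R1_S2]
  refine ⟨fun q _ hq1 => ?_, hS2⟩
  by_cases hq : q.comap (algebraMap C D) = ⊥
  · obtain ⟨Q, hQ, hlt, hqQ, hQ0⟩ := hspec q hq
    obtain ⟨hd, -, -, hreg⟩ := local_fibre (A := C) Q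
    obtain ⟨b, hb⟩ := exists_dim_eq (EGA4.FibLocRing C D Q)
    by_cases hb0 : b = 0
    · exact regular_of_specializes_fibre_dim_zero hG h q Q hlt.le hq hQ0 (by rw [hb, hb0]; rfl)
    obtain ⟨a, ha⟩ := exists_dim_eq (Localization.AtPrime (Q.comap (algebraMap C D)))
    have hsum := height_add_hq_of_hasS2 hcat hS2 hlt.le
    rw [hqQ] at hsum
    rw [ha, hb, IsLocalization.AtPrime.ringKrullDim_eq_height Q (Localization.AtPrime Q), ← WithBot.coe_add,
      WithBot.coe_inj, ← hsum] at hd
    have ha0 : a ≠ 0 := by
      rintro rfl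
      apply hQ0
      rw [IsLocalization.AtPrime.ringKrullDim_eq_height (Q.comap (algebraMap C D))
        (Localization.AtPrime (Q.comap (algebraMap C D))), WithBot.coe_inj] at ha
      have := Ideal.height_eq_zero_iff.1 ha
      rwa [IsDomain.minimalPrimes_eq_singleton_bot, Set.mem_singleton_iff] at this
    have hle : a + b ≤ 1 + 1 := hd ▸ add_le_add hq1 le_rfl
    haveI : IsRegularLocalRing (Localization.AtPrime Q) := hreg
      ((hbase _).1 (by rw [ha, WithBot.coe_le_coe]; exact le_one_of_add_le hle hb0))
      ((fibLocRing_R1_S2 h Q hQ0).1 (by rw [hb, WithBot.coe_le_coe]; exact le_one_of_add_le (add_comm a b ▸ hle) ha0))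
    exact regLocus_stableUnderGeneralization
      ((PrimeSpectrum.le_iff_specializes ⟨q, ‹_›⟩ ⟨Q, hQ⟩).1 hlt.le) ‹IsRegularLocalRing (Localization.AtPrime Q)›
  · exact regular_of_base_and_fibre (A := C) 1 q hq1 (fun hh => (hbase _).1 (by
      rw [IsLocalization.AtPrime.ringKrullDim_eq_height (q.comap (algebraMap C D))
        (Localization.AtPrime (q.comap (algebraMap C D)))]
      exact WithBot.coe_le_coe.2 hh)) (fibLocRing_R1_S2 h q hq).1

/-- The closed fibre stays normal after finite field extensions. -/
def NormClosed (A B : Type u) [CommRing A] [CommRing B] [Algebra A B] : Prop :=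
  ∀ (L : Type u) [Field L] [Algebra A L], Module.Finite A L → EGA4.IsNormalRing (L ⊗[A] B)

theorem isNoetherianRing_tensor_finite {A B L : Type u} [CommRing A] [CommRing B] [IsNoetherianRing B] [CommRing L]
    [Algebra A B] [Algebra A L] (h : Module.Finite A L) : IsNoetherianRing (L ⊗[A] B) := by
  haveI := h
  haveI : IsNoetherianRing (B ⊗[A] L) := IsNoetherianRing.of_finite B _
  exact isNoetherianRing_of_ringEquiv _ (Algebra.TensorProduct.comm A B L).toRingEquiv

theorem isNormalRing_of_isLocalization {R S : Type u} [CommRing R] [CommRing S] [IsNoetherianRing R] [Algebra R S]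
    (W : Submonoid R) [IsLocalization W S] (h : EGA4.IsNormalRing R) : EGA4.IsNormalRing S := by
  haveI := IsLocalization.isNoetherianRing W S inferInstance
  rw [isNormalRing_iff_R1_S2] at h ⊢
  exact ⟨CAlgH3.hasRk_localization (W := W) h.1, CAlgH3.hasSk_localization (W := W) h.2⟩

theorem regular_at_of_localization {R : Type u} [CommRing R] [IsNoetherianRing R] (M : Ideal R) [M.IsPrime] {p : Ideal R} [p.IsPrime]
    (hpM : p ≤ M) (hp : p.height ≤ ((1 : ℕ) : ℕ∞)) (h : _root_.LocCoh.HasRk 1 (Localization.AtPrime M)) :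
    IsRegularLocalRing (Localization.AtPrime p) := by
  have hdis : Disjoint (M.primeCompl : Set R) (p : Set R) := Set.disjoint_left.2 fun x hx hxp => hx (hpM hxp)
  let p1 := p.map (algebraMap R (Localization.AtPrime M))
  haveI : p1.IsPrime := IsLocalization.isPrime_of_isPrime_disjoint M.primeCompl _ p ‹_› hdis
  have hp1 : p1.comap (algebraMap R (Localization.AtPrime M)) = p :=
    IsLocalization.comap_map_of_isPrime_disjoint M.primeCompl _ ‹_› hdis
  haveI := h p1 (by rw [← IsLocalization.height_under M.primeCompl p1, Ideal.under_def, hp1]; exact hp)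
  have e := IsLocalization.localizationLocalizationAtPrimeIsoLocalization M.primeCompl p1
  exact regular_congr _ p hp1 (IsRegularLocalRing.of_ringEquiv (R := Localization.AtPrime p1) e.symm.toRingEquiv)

theorem isNormalRing_of_maximal {R : Type u} [CommRing R] [IsNoetherianRing R]
    (h : ∀ (M : Ideal R), [M.IsMaximal] → EGA4.IsNormalRing (Localization.AtPrime M)) : EGA4.IsNormalRing R := by
  rw [isNormalRing_iff_R1_S2]
  refine ⟨fun p _ hp => ?_, (CAlgH3.hasSk_self_iff 2).2 fun p _ => ?_⟩
  all_goals
    obtain ⟨M, hM, hpM⟩ := Ideal.exists_le_maximal p (Ideal.IsPrime.ne_top ‹_›)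
    haveI : IsNoetherianRing (Localization.AtPrime M) := IsLocalization.isNoetherianRing M.primeCompl _ inferInstance
    obtain ⟨hR, hS⟩ := isNormalRing_iff_R1_S2.1 (@h M hM)
  · exact regular_at_of_localization M hpM hp hR
  · exact (hasSk_atPrime_iff 2 M).1 hS p hpM

/-- The closed fibre condition passes to the localizations of a finite base change. -/
theorem normClosed_localization {A A' B C D : Type u} [CommRing A] [CommRing A'] [CommRing B] [Algebra A A']
    [Algebra A B] [Module.Finite A A'] [CommRing C] [IsLocalRing C] [CommRing D] [Algebra A' C]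
    (n : Ideal A') [n.IsMaximal] [IsLocalization.AtPrime C n]
    (M : Ideal (A' ⊗[A] B)) [M.IsPrime] [Algebra (A' ⊗[A] B) D] [IsLocalization.AtPrime D M]
    [Algebra A' D] [IsScalarTower A' (A' ⊗[A] B) D] [Algebra C D] [IsScalarTower A' C D]
    [IsNoetherianRing B] (hred : NormClosed A B) : NormClosed C D := by
  intro L _ _ hL
  haveI := hL
  letI : Algebra A' L := ((algebraMap C L).comp (algebraMap A' C)).toAlgebra
  haveI : IsScalarTower A' C L := .of_algebraMap_eq fun _ => rfl
  haveI : Module.Finite A' L := finite_of_finite_atPrime (C := C) n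
  letI : Algebra A L := ((algebraMap A' L).comp (algebraMap A A')).toAlgebra
  haveI : IsScalarTower A A' L := .of_algebraMap_eq fun _ => rfl
  have hn := isNormalRing_of_ringEquiv
    (Algebra.TensorProduct.cancelBaseChange A A' L L B).toRingEquiv.symm (hred L (Module.Finite.trans A' L))
  letI : Algebra (L ⊗[A'] (A' ⊗[A] B)) (L ⊗[A'] D) :=
    (Algebra.TensorProduct.map (AlgHom.id A' L) (IsScalarTower.toAlgHom A' (A' ⊗[A] B) D)).toAlgebra
  haveI : IsScalarTower L (L ⊗[A'] (A' ⊗[A] B)) (L ⊗[A'] D) :=
    @IsScalarTower.of_algebraMap_eq L (L ⊗[A'] (A' ⊗[A] B)) (L ⊗[A'] D) _ _ _ _ _ _ fun x => by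
      show x ⊗ₜ[A'] (1 : D) = Algebra.TensorProduct.map (AlgHom.id A' L) (IsScalarTower.toAlgHom A' (A' ⊗[A] B) D) (x ⊗ₜ[A'] (1 : (A' ⊗[A] B)))
      simp
  haveI := IsLocalization.tensorProduct_tensorProduct_right A' L M.primeCompl D
    (RingHom.ext fun x => by simp [RingHom.algebraMap_toAlgebra]; try rfl)
  haveI : IsNoetherianRing (L ⊗[A] B) := isNoetherianRing_tensor_finite (Module.Finite.trans A' L)
  haveI : IsNoetherianRing (L ⊗[A'] (A' ⊗[A] B)) :=
    isNoetherianRing_of_ringEquiv _ (Algebra.TensorProduct.cancelBaseChange A A' L L B).toRingEquiv.symm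
  exact isNormalRing_of_ringEquiv (IsLocalization.algebraTensorEquiv n.primeCompl C L D).toRingEquiv.symm
    (isNormalRing_of_isLocalization (M.primeCompl.map (Algebra.TensorProduct.includeRight (R := A') (A := L))) hn)

/-- The inductive step at a normal local domain. -/
theorem isNormal_of_ih {C D : Type u} [CommRing C] [IsDomain C] [IsIntegrallyClosed C] [IsLocalRing C]
    [IsNoetherianRing C] [CommRing D] [IsLocalRing D] [IsNoetherianRing D] [Algebra C D]
    [IsLocalHom (algebraMap C D)] [Module.Flat C D] (d : ℕ)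
    (ih : ∀ m < d, ∀ (A B : Type u) [CommRing A] [IsLocalRing A] [CommRing B] [IsLocalRing B] [IsNoetherianRing B]
      [Algebra A B] [IsLocalHom (algebraMap A B)] [Module.Flat A B],
      CAlg.IsNagata A → CAlg.IsGRing A → CAlg.IsUniversallyCatenary B → NormClosed A B → ∀ (p : Ideal A) [p.IsPrime],
      ringKrullDim (A ⧸ p) ≤ ((m : ℕ∞) : WithBot ℕ∞) →
      ∀ (K : Type u) [Field K] [Algebra A K] [Algebra p.ResidueField K] [IsScalarTower A p.ResidueField K]
        [FiniteDimensional p.ResidueField K], EGA4.IsNormalRing (K ⊗[A] B))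
    (hNC : CAlg.IsNagata C) (hGC : CAlg.IsGRing C) (hU : CAlg.IsUniversallyCatenary D) (hredC : NormClosed C D)
    (hdimC : ringKrullDim C ≤ ((d : ℕ∞) : WithBot ℕ∞)) : EGA4.IsNormalRing D := by
  by_cases hF : IsField C
  · have hbot : maximalIdeal C = ⊥ := IsLocalRing.isField_iff_maximalIdeal_eq.1 hF
    letI := hF.toField
    haveI : Module.Finite C (maximalIdeal C).ResidueField := Module.Finite.of_surjective
      (Algebra.linearMap C (maximalIdeal C).ResidueField) (Ideal.algebraMap_residueField_surjective (maximalIdeal C))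
    have hbij : Function.Bijective (algebraMap C (maximalIdeal C).ResidueField) :=
      ⟨(RingHom.injective_iff_ker_eq_bot _).2 ((Ideal.ker_algebraMap_residueField _).trans hbot),
        Ideal.algebraMap_residueField_surjective (maximalIdeal C)⟩
    exact isNormalRing_of_ringEquiv ((Algebra.TensorProduct.congr (AlgEquiv.ofBijective (Algebra.ofId C _) hbij).symm
      AlgEquiv.refl).toRingEquiv.trans (Algebra.TensorProduct.lid C D).toRingEquiv) (hredC _ inferInstance)
  refine isNormal_of_normal_base hGC (hU.2 D inferInstance) hF fun K _ _ hK hker => ?_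
  obtain ⟨P, hP, _, _, _⟩ := hK
  have hPk : RingHom.ker (algebraMap C K) = P := by
    rw [IsScalarTower.algebraMap_eq C P.ResidueField K, RingHom.ker_comp_of_injective _ (algebraMap P.ResidueField K).injective,
      Ideal.ker_algebraMap_residueField]
  rw [hPk] at hker
  haveI : IsLocalRing (C ⧸ P) := IsLocalRing.of_surjective' (Ideal.Quotient.mk P) Ideal.Quotient.mk_surjective
  obtain ⟨e, he⟩ := exists_nat_ringKrullDim_eq (C ⧸ P)
  have hlt : e < d := by
    haveI : IsLocalRing (C ⧸ (⊥ : Ideal C)) :=
      IsLocalRing.of_surjective' (Ideal.Quotient.mk ⊥) Ideal.Quotient.mk_surjective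
    have h1 := (Groth.Agent.CAlgH3.ringKrullDim_quotient_add_one_le
      (p := (⊥ : Ideal C)) (q := P) (bot_lt_iff_ne_bot.2 hker)).trans
      ((ringKrullDim_eq_of_ringEquiv (RingEquiv.quotientBot C)).le.trans hdimC)
    rw [he, ← WithBot.coe_one, ← WithBot.coe_add, WithBot.coe_le_coe, ← Nat.cast_one, ← Nat.cast_add,
      Nat.cast_le] at h1
    omega
  exact ih e hlt C D hNC hGC hU hredC P he.le K

set_option maxHeartbeats 1600000 in
set_option synthInstance.maxHeartbeats 100000 in
/-- All fibres are geometrically normal once the closed one is. -/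
theorem isNormal_tensor_resFinite : ∀ (d : ℕ) (A B : Type u) [CommRing A] [IsLocalRing A] [CommRing B]
    [IsLocalRing B] [IsNoetherianRing B] [Algebra A B] [IsLocalHom (algebraMap A B)] [Module.Flat A B],
    CAlg.IsNagata A → CAlg.IsGRing A → CAlg.IsUniversallyCatenary B → NormClosed A B → ∀ (p : Ideal A) [p.IsPrime],
    ringKrullDim (A ⧸ p) ≤ ((d : ℕ∞) : WithBot ℕ∞) →
    ∀ (K : Type u) [Field K] [Algebra A K] [Algebra p.ResidueField K] [IsScalarTower A p.ResidueField K]
      [FiniteDimensional p.ResidueField K], EGA4.IsNormalRing (K ⊗[A] B) := by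
  intro d
  induction d using Nat.strong_induction_on with | _ d ih =>
  intro A B _ _ _ _ _ _ _ _ hN hG hU hred p _ hd K _ _ _ _ _
  haveI := hN.1
  let k := p.ResidueField
  letI : Algebra (A ⧸ p) K := ((algebraMap k K).comp (algebraMap (A ⧸ p) k)).toAlgebra
  haveI : IsScalarTower (A ⧸ p) k K := .of_algebraMap_eq fun _ => rfl
  haveI : IsScalarTower A (A ⧸ p) K := .of_algebraMap_eq fun a => by
    show _ = algebraMap k K (algebraMap (A ⧸ p) k (algebraMap A (A ⧸ p) a))
    rw [← IsScalarTower.algebraMap_apply A (A ⧸ p) k, ← IsScalarTower.algebraMap_apply A k K]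
  let A' := integralClosure (A ⧸ p) K
  letI : CommRing A' := A'.toCommRing
  haveI : Module.Finite (A ⧸ p) A' := Groth.Agent.CAlgH.isN2_apply (hN.2 p) k K
  haveI : IsFractionRing A' K := IsIntegralClosure.isFractionRing_of_finite_extension (A ⧸ p) k K A'
  haveI : IsIntegrallyClosed A' := integralClosure.isIntegrallyClosedOfFiniteExtension k
  haveI : Module.Finite A A' := Module.Finite.trans (A ⧸ p) A'
  haveI : Algebra.IsIntegral A A' := Algebra.IsIntegral.of_finite A A'
  haveI : IsNoetherianRing A' := IsNoetherianRing.of_finite A A'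
  have hdimA' : ringKrullDim A' ≤ ((d : ℕ∞) : WithBot ℕ∞) := by
    refine (Order.krullDim_le_of_strictMono _ (DimLib.strictMono_comap_of_isIntegral (R := A ⧸ p) (S := A'))).trans hd
  let T := A' ⊗[A] B
  letI : Algebra B T := Algebra.TensorProduct.rightAlgebra
  haveI : Module.Finite B T := Module.Finite.equiv (Algebra.TensorProduct.commRight A B A').toLinearEquiv
  haveI : IsNoetherianRing T := IsNoetherianRing.of_finite B T
  haveI : Algebra.IsIntegral B T := Algebra.IsIntegral.of_finite B T
  haveI : Algebra.FiniteType B T := inferInstance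
  have hU' : CAlg.IsUniversallyCatenary T := isUniversallyCatenary_of_finiteType B T hU
  have hT : EGA4.IsNormalRing T := by
    refine isNormalRing_of_maximal fun M hM => ?_
    let n := M.under A'
    haveI : M.LiesOver n := ⟨rfl⟩
    haveI hn : n.IsMaximal := by
      refine Ideal.isMaximal_of_isIntegral_of_isMaximal_comap (R := A) n ?_
      have h1 : M.comap (algebraMap B T) = maximalIdeal B :=
        IsLocalRing.eq_maximalIdeal (Ideal.isMaximal_comap_of_isIntegral_of_isMaximal M)
      have h2 : n.comap (algebraMap A A') = maximalIdeal A := by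
        show (M.comap (algebraMap A' T)).comap (algebraMap A A') = _
        rw [Ideal.comap_comap, ← IsScalarTower.algebraMap_eq A A' T,
          show algebraMap A T = (algebraMap B T).comp (algebraMap A B) from
            (Algebra.TensorProduct.includeRight : B →ₐ[A] A' ⊗[A] B).comp_algebraMap.symm,
          ← Ideal.comap_comap, h1]
        exact ((IsLocalRing.local_hom_TFAE (algebraMap A B)).out 0 4).1 ‹_›
      rw [h2]; exact maximalIdeal.isMaximal A
    letI := Localization.AtPrime.algebraOfLiesOver n M
    haveI : IsLocalHom (algebraMap (Localization.AtPrime n) (Localization.AtPrime M)) :=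
      Localization.isLocalHom_localRingHom n M (algebraMap A' T) Ideal.LiesOver.over
    haveI : Module.Flat (Localization.AtPrime n) (Localization.AtPrime M) := inferInstance
    haveI : IsNoetherianRing (Localization.AtPrime n) := IsLocalization.isNoetherianRing n.primeCompl (Localization.AtPrime n) inferInstance
    haveI : IsNoetherianRing (Localization.AtPrime M) := IsLocalization.isNoetherianRing M.primeCompl (Localization.AtPrime M) inferInstance
    haveI : IsDomain (Localization.AtPrime n) := IsLocalization.isDomain_localization n.primeCompl_le_nonZeroDivisors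
    haveI : IsIntegrallyClosed (Localization.AtPrime n) :=
      isIntegrallyClosed_of_isLocalization _ n.primeCompl n.primeCompl_le_nonZeroDivisors
    have hNC : CAlg.IsNagata (Localization.AtPrime n) := Groth.Agent.S4710.result A' (Groth.Agent.CAlgH.isNagata_of_finite hN) n.primeCompl
    have hredC : NormClosed (Localization.AtPrime n) (Localization.AtPrime M) :=
      normClosed_localization n M hred
    have hGC : CAlg.IsGRing (Localization.AtPrime n) :=
      CAlgH.isGRing_localization n.primeCompl _ (CAlgH.isGRing_of_finiteType A hG A')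
    have hUC : CAlg.IsUniversallyCatenary (Localization.AtPrime M) :=
      CAlgMisc2.isUniversallyCatenary_localization M.primeCompl _ hU'
    have hdimC : ringKrullDim (Localization.AtPrime n) ≤ ((d : ℕ∞) : WithBot ℕ∞) := by
      rw [IsLocalization.AtPrime.ringKrullDim_eq_height n (Localization.AtPrime n)]
      exact Ideal.height_le_ringKrullDim_of_isPrime.trans hdimA'
    exact isNormal_of_ih (C := (Localization.AtPrime n)) d ih hNC hGC hUC hredC hdimC
  -- the fibre is a localization of `T`
  have hTc : EGA4.IsNormalRing (B ⊗[A] A') :=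
    isNormalRing_of_ringEquiv (Algebra.TensorProduct.comm A A' B).toRingEquiv hT
  letI : Algebra (B ⊗[A] A') (B ⊗[A] K) :=
    (Algebra.TensorProduct.map (AlgHom.id A B) (IsScalarTower.toAlgHom A A' K)).toAlgebra
  haveI : IsScalarTower B (B ⊗[A] A') (B ⊗[A] K) :=
    @IsScalarTower.of_algebraMap_eq B (B ⊗[A] A') (B ⊗[A] K) _ _ _ _ _ _ fun x => by
      show x ⊗ₜ[A] (1 : K) = Algebra.TensorProduct.map (AlgHom.id A B) (IsScalarTower.toAlgHom A A' K) (x ⊗ₜ[A] (1 : A'))
      simp
  haveI := IsLocalization.tensorProduct_tensorProduct_right A B (nonZeroDivisors A') K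
    (RingHom.ext fun x => by simp [RingHom.algebraMap_toAlgebra])
  haveI : IsNoetherianRing (B ⊗[A] A') := isNoetherianRing_of_ringEquiv _ (Algebra.TensorProduct.comm A A' B).toRingEquiv
  exact isNormalRing_of_ringEquiv (Algebra.TensorProduct.comm A B K).toRingEquiv
    (isNormalRing_of_isLocalization
      ((nonZeroDivisors A').map (Algebra.TensorProduct.includeRight (R := A) (A := B))) hTc)

/-- A flat local algebra over a G-ring with geometrically normal closed fibre is normal. -/
theorem geomNormal_fibres_of_closed (A B : Type u) [CommRing A] [IsNoetherianRing A] [IsLocalRing A] [CommRing B]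
    [IsLocalRing B] [IsNoetherianRing B] [Algebra A B] [IsLocalHom (algebraMap A B)] [Module.Flat A B]
    (hN : CAlg.IsNagata A) (hG : CAlg.IsGRing A) (hU : CAlg.IsUniversallyCatenary B) (hred : NormClosed A B) :
    EGA4.IsNormalHom A B := by
  refine ⟨inferInstance, geomNormal_fibres_iff.2 ?_⟩
  rintro K _ _ ⟨p, _, _, _, _⟩
  haveI : IsLocalRing (A ⧸ p) := IsLocalRing.of_surjective' (Ideal.Quotient.mk p) Ideal.Quotient.mk_surjective
  obtain ⟨d, hd⟩ := exists_nat_ringKrullDim_eq (A ⧸ p)
  exact isNormal_tensor_resFinite d A B hN hG hU hred p hd.le K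

theorem normClosed_of_isGeomNormal (A B : Type u) [CommRing A] [IsLocalRing A] [CommRing B] [Algebra A B]
    (h : EGA4.IsGeomNormal (maximalIdeal A).ResidueField ((maximalIdeal A).Fiber B)) : NormClosed A B := by
  intro L _ _ hL
  haveI := hL
  let k := (maximalIdeal A).ResidueField
  haveI : Algebra.IsIntegral A L := Algebra.IsIntegral.of_finite A L
  have hker : RingHom.ker (algebraMap A L) = maximalIdeal A :=
    IsLocalRing.eq_maximalIdeal (by
      rw [RingHom.ker_eq_comap_bot]
      exact Ideal.isMaximal_comap_of_isIntegral_of_isMaximal (⊥ : Ideal L))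
  letI : Algebra k L := (Ideal.ResidueField.lift (maximalIdeal A) (algebraMap A L) hker.ge
    fun x hx => isUnit_iff_ne_zero.mpr fun h0 => hx (hker ▸ h0)).toAlgebra
  haveI : IsScalarTower A k L :=
    .of_algebraMap_eq fun x => (Ideal.ResidueField.lift_algebraMap _ _ _ _ x).symm
  haveI : Module.Finite k L := Module.Finite.of_restrictScalars_finite A k L
  exact isNormalRing_of_ringEquiv (Algebra.TensorProduct.cancelBaseChange A k L L B).toRingEquiv
    (h L inferInstance)

/-- The closed fibre condition over the completion of the base. -/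
theorem normClosed_completion {A C : Type u} [CommRing A] [IsLocalRing A] [IsNoetherianRing A] [CommRing C] [Algebra A C]
    [Algebra (EGA4.Cpl A) C] [IsScalarTower A (EGA4.Cpl A) C] (h : NormClosed A C) : NormClosed (EGA4.Cpl A) C := by
  intro L _ _ hL
  haveI := hL
  letI : Algebra A L := ((algebraMap (EGA4.Cpl A) L).comp (algebraMap A (EGA4.Cpl A))).toAlgebra
  haveI : IsScalarTower A (EGA4.Cpl A) L := .of_algebraMap_eq fun _ => rfl
  haveI : Algebra.IsIntegral (EGA4.Cpl A) L := Algebra.IsIntegral.of_finite _ L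
  have hker : RingHom.ker (algebraMap (EGA4.Cpl A) L) = maximalIdeal (EGA4.Cpl A) := IsLocalRing.eq_maximalIdeal (by
    rw [RingHom.ker_eq_comap_bot]
    exact Ideal.isMaximal_comap_of_isIntegral_of_isMaximal (⊥ : Ideal L))
  have hres : ∀ r : EGA4.Cpl A, ∃ a : A, r - algebraMap A (EGA4.Cpl A) a ∈ maximalIdeal (EGA4.Cpl A) :=
    CAlgH.exists_sub_algebraMap_mem A
  have hsurj : ∀ r : EGA4.Cpl A, ∃ a : A, algebraMap A L a = algebraMap (EGA4.Cpl A) L r := fun r => by
    obtain ⟨a, ha⟩ := hres r
    rw [← hker, RingHom.mem_ker, map_sub, sub_eq_zero] at ha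
    exact ⟨a, ha.symm⟩
  haveI : Module.Finite A L := by
    obtain ⟨g, hg⟩ := Module.Finite.fg_top (R := EGA4.Cpl A) (M := L)
    refine ⟨⟨g, eq_top_iff.2 fun l _ => ?_⟩⟩
    have hl : l ∈ Submodule.span (EGA4.Cpl A) (g : Set L) := hg ▸ Submodule.mem_top
    induction hl using Submodule.span_induction with
    | mem x hx => exact Submodule.subset_span hx
    | zero => exact zero_mem _
    | add x y _ _ hx hy => exact add_mem (hx trivial) (hy trivial)
    | smul c x _ hx =>
      obtain ⟨a, ha⟩ := hsurj c
      rw [show c • x = a • x by rw [Algebra.smul_def, Algebra.smul_def, ha]]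
      exact Submodule.smul_mem _ _ (hx trivial)
  haveI : TensorProduct.CompatibleSMul A (EGA4.Cpl A) L C := ⟨fun r l c => by
    have h0 : ∀ e ∈ maximalIdeal (EGA4.Cpl A), ∀ c : C, l ⊗ₜ[A] (e • c) = 0 := fun e he => by
      rw [AdicCompletion.maximalIdeal_eq_map] at he
      refine Submodule.span_induction (p := fun e _ => ∀ c : C, l ⊗ₜ[A] (e • c) = 0) ?_ (fun c => by simp)
        (fun _ _ _ _ h1 h2 c => by rw [add_smul, tmul_add, h1, h2, add_zero])
        (fun a e _ h1 c => by rw [smul_eq_mul, mul_comm, mul_smul, h1]) he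
      rintro _ ⟨x, hx, rfl⟩ c
      have hx' : algebraMap A L x = 0 := by
        rw [IsScalarTower.algebraMap_apply A (EGA4.Cpl A) L, ← RingHom.mem_ker, hker, AdicCompletion.maximalIdeal_eq_map]
        exact Ideal.mem_map_of_mem _ hx
      rw [algebraMap_smul, ← smul_tmul, Algebra.smul_def, hx', zero_mul, zero_tmul]
    obtain ⟨a, ha⟩ := hres r
    have h1 : (r - algebraMap A (EGA4.Cpl A) a) • l = 0 := by
      rw [Algebra.smul_def, RingHom.mem_ker.1 (hker.ge ha), zero_mul]
    rw [sub_smul, sub_eq_zero] at h1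
    have h2 := h0 _ ha c
    rw [sub_smul, tmul_sub, sub_eq_zero] at h2
    rw [h1, h2, algebraMap_smul, algebraMap_smul, smul_tmul]⟩
  exact isNormalRing_of_ringEquiv (Algebra.TensorProduct.equivOfCompatibleSMul A (EGA4.Cpl A) (EGA4.Cpl A) L C).toRingEquiv.symm
    (h L inferInstance)

/-- Normal homomorphisms compose. -/
theorem isNormalHom_comp {A B C : Type u} [CommRing A] [CommRing B] [CommRing C] [Algebra A B] [Algebra B C]
    [Algebra A C] [IsScalarTower A B C] [IsNoetherianRing B] [IsNoetherianRing C]
    (h : EGA4.IsNormalHom A B) (h' : EGA4.IsNormalHom B C) : EGA4.IsNormalHom A C := by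
  haveI := h.1
  haveI := h'.1
  refine ⟨Module.Flat.trans A B C, geomNormal_fibres_iff.2 fun K _ _ hK => ?_⟩
  haveI := isNoetherianRing_resFinite (B := B) hK
  haveI := isNoetherianRing_resFinite (B := C) hK
  obtain ⟨hR, hS⟩ := isNormalRing_iff_R1_S2.1 (geomNormal_fibres_iff.1 h.2 K hK)
  refine isNormalRing_iff_R1_S2.2 ⟨hasRk_fibre_comp 1 hK hR fun L _ _ hL => ?_, hasSk_fibre_comp 2 hK hS fun L _ _ hL => ?_⟩
  all_goals haveI := isNoetherianRing_resFinite (B := C) hL
  · exact (isNormalRing_iff_R1_S2.1 (geomNormal_fibres_iff.1 h'.2 L hL)).1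
  · exact (isNormalRing_iff_R1_S2.1 (geomNormal_fibres_iff.1 h'.2 L hL)).2

/-- Normality of the fibres descends along faithfully flat extensions. -/
theorem isNormalHom_descend {A B C : Type u} [CommRing A] [CommRing B] [CommRing C] [Algebra A B] [Algebra B C]
    [Algebra A C] [IsScalarTower A B C] [IsNoetherianRing B] [IsNoetherianRing C] [Module.Flat A B]
    [Module.FaithfullyFlat B C] (h : EGA4.IsNormalHom A C) : EGA4.IsNormalHom A B := by
  refine ⟨inferInstance, geomNormal_fibres_iff.2 fun K _ _ hK => ?_⟩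
  haveI := isNoetherianRing_resFinite (B := B) hK
  haveI := isNoetherianRing_resFinite (B := C) hK
  obtain ⟨hR, hS⟩ := isNormalRing_iff_R1_S2.1 (geomNormal_fibres_iff.1 h.2 K hK)
  exact isNormalRing_iff_R1_S2.2 ⟨hasRk_fibre_descend (C := C) 1 hK hR, hasSk_fibre_descend (C := C) 2 hK hS⟩

end Groth.Agent.CommAlg6
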