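import Groth.Agent.CommAlg6.GeomFib
import Groth.Agent.CommAlg6.FibreLocalization
import Groth.Agent.CommAlg6.QuotRegular
import Groth.Agent.CommAlg6.CatenaryLift
import Groth.Agent.CommAlg6.CodepthOpen
import Groth.Agent.CommAlg6.GeomRedJapanese
import Groth.Agent.CAlgH.AnalyticallyUnramified
import Groth.Agent.CAlgH.NagataFiniteType
import Groth.Agent.DimLib.Algebra

/-! Flat algebras over Nagata local rings with geometrically reduced closed fibre. -/

set_option autoImplicit false
set_option linter.style.haveILetI false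

universe u

open IsLocalRing TensorProduct

namespace Groth.Agent.CommAlg6

attribute [local instance] isLocalRing_fibLocRing

theorem isReduced_of_isLocalization {R S : Type u} [CommRing R] [CommRing S] [Algebra R S] (M : Submonoid R)
    [IsLocalization M S] [IsReduced R] : IsReduced S :=
  isReduced_localizationPreserves M S inferInstance

/-- Regular elements on `C/(t)` stay regular after a flat extension. -/
theorem mem_span_of_flat {C B : Type u} [CommRing C] [CommRing B] [Algebra C B] [Module.Flat C B] {t s : C}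
    (hs : IsSMulRegular (C ⧸ Ideal.span {t}) s) {z : B}
    (hz : algebraMap C B s * z ∈ Ideal.span {algebraMap C B t}) : z ∈ Ideal.span {algebraMap C B t} := by
  let I : Ideal C := Ideal.span {t}
  have hinj : Function.Injective ((LinearMap.lsmul C (C ⧸ I) s).lTensor B) :=
    Module.Flat.lTensor_preserves_injective_linearMap _ hs
  have heq : ∀ w : B ⊗[C] (C ⧸ I), (LinearMap.lsmul C (C ⧸ I) s).lTensor B w = s • w := fun w => by
    induction w using TensorProduct.induction_on with
    | zero => simp
    | tmul a b => rw [LinearMap.lTensor_tmul, LinearMap.lsmul_apply, TensorProduct.tmul_smul]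
    | add a b ha hb => rw [map_add, ha, hb, smul_add]
  have hmem : ∀ w : B, w ∈ Ideal.span {algebraMap C B t} ↔ w ∈ (I • ⊤ : Submodule C B) := fun w => by
    rw [Ideal.smul_top_eq_map, Ideal.map_span, Set.image_singleton]
    rfl
  rw [hmem] at hz ⊢
  rw [← Submodule.Quotient.mk_eq_zero] at hz ⊢
  have e := TensorProduct.tensorQuotEquivQuotSMul B I
  rw [← e.symm.map_eq_zero_iff]
  apply hinj
  rw [map_zero, heq, ← map_smul, ← Submodule.Quotient.mk_smul]
  simp only [Algebra.smul_def, hz, map_zero]

/-- Over a normal local domain, reducedness follows from the fibres off the generic point. -/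
theorem isReduced_of_normal_base {C B : Type u} [CommRing C] [IsDomain C] [IsIntegrallyClosed C]
    [IsLocalRing C] [IsNoetherianRing C] [CommRing B] [IsLocalRing B] [IsNoetherianRing B] [Algebra C B]
    [IsLocalHom (algebraMap C B)] [Module.Flat C B]
    (hclosed : IsReduced ((maximalIdeal C).ResidueField ⊗[C] B))
    (hP : ∀ (P : Ideal C) [P.IsPrime], P ≠ ⊥ → IsReduced (P.Fiber B)) : IsReduced B := by
  by_cases hF : IsField C
  · letI := hF.toField
    haveI := hclosed
    have hker : RingHom.ker (algebraMap C (maximalIdeal C).ResidueField) = ⊥ := by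
      rw [Ideal.ker_algebraMap_residueField]
      exact (Ideal.eq_bot_or_top _).resolve_right (maximalIdeal.isMaximal C).ne_top
    exact isReduced_of_injective
      (Algebra.TensorProduct.includeRight : B →ₐ[C] (maximalIdeal C).ResidueField ⊗[C] B)
      (Algebra.TensorProduct.includeRight_injective ((RingHom.injective_iff_ker_eq_bot _).2 hker))
  refine ⟨fun x hx => ?_⟩
  by_contra hx0
  obtain ⟨q, hq, hxq⟩ := exists_le_isAssociatedPrime_of_isNoetherianRing B x hx0
  obtain ⟨t, htm, ht0⟩ : ∃ t ∈ maximalIdeal C, t ≠ 0 :=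
    (Submodule.ne_bot_iff _).1 (fun h => hF (IsLocalRing.isField_iff_maximalIdeal_eq.2 h))
  have htB : algebraMap C B t ∈ maximalIdeal B :=
    (IsLocalRing.mem_maximalIdeal _).2 fun h => htm (isUnit_of_map_unit _ t h)
  have hregt : ∀ a : C, a ≠ 0 → algebraMap C B a ∈ nonZeroDivisors B := fun a ha => by
    have hr : IsSMulRegular B a := Module.Flat.isSMulRegular_of_isRegular (IsRegular.of_ne_zero ha)
    rw [mem_nonZeroDivisors_iff_right]
    intro z hz
    refine hr (show a • z = a • 0 from ?_)
    rw [smul_zero, Algebra.smul_def, mul_comm, hz]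
  obtain ⟨Q, hQ, hqQ, htQ⟩ := exists_associatedPrime_quotient htB (hregt t ht0) hq
  obtain ⟨hQp, z, hzQ⟩ := isAssociatedPrime_iff.1 hQ
  haveI := hQp
  let P := Q.comap (algebraMap C B)
  obtain ⟨P0, hP0, hPP0⟩ : ∃ P0, IsAssociatedPrime P0 (C ⧸ Ideal.span {t}) ∧ P ≤ P0 := by
    by_contra hcon
    push Not at hcon
    have hfin := associatedPrimes.finite C (C ⧸ Ideal.span {t})
    have hnot : ¬ (P : Set C) ⊆ ⋃ P0 ∈ associatedPrimes C (C ⧸ Ideal.span {t}), (P0 : Set C) := by
      intro hsub
      obtain ⟨P0, hP0, hle⟩ := (Ideal.subset_union_prime_finite hfin (f := fun i => i) ⊥ ⊥ fun i hi _ _ => hi.isPrime).1 hsub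
      exact hcon P0 hP0 hle
    rw [biUnion_associatedPrimes_eq_compl_regular, Set.not_subset] at hnot
    obtain ⟨s, hsP, hs⟩ := hnot
    simp only [Set.mem_compl_iff, not_not] at hs
    obtain ⟨w, rfl⟩ := Ideal.Quotient.mk_surjective z
    have hw : algebraMap C B s * w ∈ Ideal.span {algebraMap C B t} := by
      have h1 : algebraMap C B s ∈ Q := hsP
      rw [hzQ, Submodule.mem_colon_singleton, Submodule.mem_bot, Algebra.smul_def,
        Ideal.Quotient.algebraMap_eq, ← map_mul, Ideal.Quotient.eq_zero_iff_mem] at h1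
      exact h1
    have hw0 := Ideal.Quotient.eq_zero_iff_mem.2 (mem_span_of_flat hs hw)
    apply hQp.ne_top
    rw [Ideal.eq_top_iff_one, hzQ, hw0, Submodule.mem_colon_singleton, Submodule.mem_bot, smul_zero]
  haveI := hP0.isPrime
  obtain ⟨a, haP, s, hs, hsb⟩ := Groth.Agent.CAlgH.goodPrime_of_isAssociatedPrime ht0 hP0
  have htP : t ∈ P := htQ
  have hmin : P0 ∈ (Ideal.span {a}).minimalPrimes := by
    refine ⟨⟨inferInstance, (Ideal.span_singleton_le_iff_mem _).2 haP⟩, fun P' hP' hle b hb => ?_⟩
    haveI := hP'.1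
    obtain ⟨c, hc⟩ := hsb b hb
    refine (Ideal.IsPrime.mem_or_mem inferInstance (show s * b ∈ P' from ?_)).resolve_left fun h => hs (hle h)
    rw [hc]
    exact P'.mul_mem_right c (hP'.2 (Ideal.mem_span_singleton_self a))
  have h1 : P0.height ≤ 1 := Ideal.height_le_one_of_isPrincipal_of_mem_minimalPrimes _ P0 hmin
  have h2 : 1 ≤ P.height := by
    rw [Order.one_le_iff_pos, pos_iff_ne_zero]
    intro h0
    have h := Ideal.height_eq_zero_iff.mp h0
    rw [IsDomain.minimalPrimes_eq_singleton_bot, Set.mem_singleton_iff] at h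
    exact ht0 (Ideal.mem_bot.1 (h ▸ htP))
  haveI : P.FiniteHeight := ⟨Or.inr P.height_ne_top_of_isPrime⟩
  have hPeq : P = P0 := Ideal.eq_of_le_of_height_le P hPP0 (h1.trans h2)
  have ha : a ∈ P := hPeq ▸ haP
  have ha0 : a ≠ 0 := fun ha0 => by
    obtain ⟨c, hc⟩ := hsb t (hPeq ▸ htP)
    rw [ha0, zero_mul, mul_eq_zero] at hc
    exact hc.elim (fun h => hs (h ▸ P0.zero_mem)) ht0
  -- the local ring at `Q`
  let BQ := Localization.AtPrime Q
  haveI : IsNoetherianRing BQ := IsLocalization.isNoetherianRing Q.primeCompl BQ inferInstance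
  haveI : IsReduced (EGA4.FibLocRing C B Q) := by
    obtain ⟨Q', _, ⟨e⟩⟩ := exists_fiber_prime (A := C) Q
    haveI := hP P fun h => ht0 (Ideal.mem_bot.1 (h ▸ htP))
    exact isReduced_of_injective e.symm.toRingHom e.symm.injective
  have hmap : P.map (algebraMap C BQ) = Ideal.span {algebraMap C BQ a} := by
    refine le_antisymm (Ideal.map_le_iff_le_comap.2 fun b hb => ?_)
      ((Ideal.span_singleton_le_iff_mem _).2 (Ideal.mem_map_of_mem _ ha))
    obtain ⟨c, hc⟩ := hsb b (hPP0 hb)
    have hu : IsUnit (algebraMap C BQ s) := by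
      rw [IsScalarTower.algebraMap_apply C B BQ]
      exact IsLocalization.map_units BQ (⟨algebraMap C B s, fun h => hs (hPP0 h)⟩ : Q.primeCompl)
    rw [Ideal.mem_comap, ← Ideal.unit_mul_mem_iff_mem _ hu, ← map_mul, hc, map_mul]
    exact Ideal.mul_mem_right _ _ (Ideal.mem_span_singleton_self _)
  haveI : IsReduced (BQ ⧸ Ideal.span {algebraMap C BQ a}) :=
    isReduced_of_injective (Ideal.quotEquivOfEq hmap).symm.toRingHom (Ideal.quotEquivOfEq hmap).symm.injective
  have hamax : algebraMap C BQ a ∈ maximalIdeal BQ := by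
    rw [IsScalarTower.algebraMap_apply C B BQ, IsLocalization.AtPrime.to_map_mem_maximal_iff BQ Q]
    exact ha
  have hareg : algebraMap C BQ a ∈ nonZeroDivisors BQ := by
    rw [IsScalarTower.algebraMap_apply C B BQ]
    exact IsLocalization.map_nonZeroDivisors_le Q.primeCompl BQ
      (Submonoid.mem_map_of_mem _ (hregt a ha0))
  haveI : IsReduced BQ := isReduced_of_quotient_regular hamax hareg
  obtain ⟨u, hu⟩ := (IsLocalization.map_eq_zero_iff Q.primeCompl BQ x).1 (hx.map (algebraMap B BQ)).eq_zero
  refine u.2 (hqQ (hxq ?_))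
  rw [Submodule.mem_colon_singleton, Submodule.mem_bot, smul_eq_mul]
  exact hu

/-- The closed fibre stays reduced after finite field extensions. -/
def RedClosed (A B : Type u) [CommRing A] [CommRing B] [Algebra A B] : Prop :=
  ∀ (L : Type u) [Field L] [Algebra A L], Module.Finite A L → IsReduced (L ⊗[A] B)

theorem redClosed_of_isGeometricallyReduced (A B : Type u) [CommRing A] [IsLocalRing A] [CommRing B] [Algebra A B]
    [Algebra.IsGeometricallyReduced (maximalIdeal A).ResidueField ((maximalIdeal A).Fiber B)] :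
    RedClosed A B := by
  intro L _ _ hL
  haveI := hL
  let k := (maximalIdeal A).ResidueField
  haveI : Algebra.IsIntegral A L := Algebra.IsIntegral.of_finite A L
  have hker : RingHom.ker (algebraMap A L) = maximalIdeal A :=
    IsLocalRing.eq_maximalIdeal (by
      rw [RingHom.ker_eq_comap_bot]
      exact Ideal.isMaximal_comap_of_isIntegral_of_isMaximal (⊥ : Ideal L))
  letI : Algebra k L := (Ideal.ResidueField.lift (maximalIdeal A) (algebraMap A L) hker.ge
    fun x hx => isUnit_iff_ne_zero.mpr fun h0 => hx (hker ▸ h0)).toAlgebra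
  haveI : IsScalarTower A k L :=
    .of_algebraMap_eq fun x => (Ideal.ResidueField.lift_algebraMap _ _ _ _ x).symm
  haveI : Module.Finite k L := Module.Finite.of_restrictScalars_finite A k L
  haveI : Algebra.IsAlgebraic k L := Algebra.IsAlgebraic.of_finite k L
  haveI : IsReduced (L ⊗[k] (maximalIdeal A).Fiber B) := inferInstance
  exact isReduced_of_injective (Algebra.TensorProduct.cancelBaseChange A k L L B).symm.toRingHom
    (AlgEquiv.injective _)

theorem finite_of_finite_atPrime {A' C L : Type u} [CommRing A'] [CommRing C] [IsLocalRing C] [Field L]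
    (n : Ideal A') [n.IsMaximal] [Algebra A' C] [IsLocalization.AtPrime C n]
    [Algebra A' L] [Algebra C L] [IsScalarTower A' C L]
    [Module.Finite C L] : Module.Finite A' L := by
  haveI : Algebra.IsIntegral C L := Algebra.IsIntegral.of_finite C L
  have hker : RingHom.ker (algebraMap C L) = maximalIdeal C := IsLocalRing.eq_maximalIdeal (by
    rw [RingHom.ker_eq_comap_bot]
    exact Ideal.isMaximal_comap_of_isIntegral_of_isMaximal (⊥ : Ideal L))
  have hsurj : ∀ c : C, ∃ a : A', algebraMap A' L a = algebraMap C L c := fun c => by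
    obtain ⟨⟨r, s⟩, hrs⟩ := IsLocalization.surj n.primeCompl c
    obtain ⟨y, i, hi, hys⟩ := Ideal.IsMaximal.exists_inv (I := n) inferInstance s.2
    refine ⟨y * r, ?_⟩
    rw [IsScalarTower.algebraMap_apply A' C L, map_mul (algebraMap A' C), ← hrs, ← sub_eq_zero, ← map_sub,
      ← RingHom.mem_ker, hker]
    have h1 : algebraMap A' C y * (c * algebraMap A' C s) - c = c * algebraMap A' C (y * s - 1) := by
      rw [map_sub, map_mul, map_one]; ring
    rw [h1]
    refine Ideal.mul_mem_left _ _ ((IsLocalization.AtPrime.to_map_mem_maximal_iff C n _).2 ?_)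
    rw [show y * (s : A') - 1 = -i by rw [← hys]; ring]
    exact neg_mem hi
  obtain ⟨g, hg⟩ := Module.Finite.fg_top (R := C) (M := L)
  refine ⟨⟨g, eq_top_iff.2 fun l _ => ?_⟩⟩
  have hl : l ∈ Submodule.span C (g : Set L) := hg ▸ Submodule.mem_top
  induction hl using Submodule.span_induction with
  | mem x hx => exact Submodule.subset_span hx
  | zero => exact zero_mem _
  | add x y _ _ hx hy => exact add_mem (hx trivial) (hy trivial)
  | smul c x _ hx =>
    obtain ⟨a, ha⟩ := hsurj c
    rw [show c • x = a • x by rw [Algebra.smul_def, Algebra.smul_def, ha]]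
    exact Submodule.smul_mem _ _ (hx trivial)

/-- The closed fibre condition passes to the localizations of a finite base change. -/
theorem redClosed_localization {A A' B C D : Type u} [CommRing A] [CommRing A'] [CommRing B] [Algebra A A']
    [Algebra A B] [Module.Finite A A'] [CommRing C] [IsLocalRing C] [CommRing D] [Algebra A' C]
    (n : Ideal A') [n.IsMaximal] [IsLocalization.AtPrime C n]
    (M : Ideal (A' ⊗[A] B)) [M.IsPrime] [Algebra (A' ⊗[A] B) D] [IsLocalization.AtPrime D M]
    [Algebra A' D] [IsScalarTower A' (A' ⊗[A] B) D] [Algebra C D] [IsScalarTower A' C D]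
    (hred : RedClosed A B) : RedClosed C D := by
  intro L _ _ hL
  haveI := hL
  letI : Algebra A' L := ((algebraMap C L).comp (algebraMap A' C)).toAlgebra
  haveI : IsScalarTower A' C L := .of_algebraMap_eq fun _ => rfl
  haveI : Module.Finite A' L := finite_of_finite_atPrime (C := C) n
  letI : Algebra A L := ((algebraMap A' L).comp (algebraMap A A')).toAlgebra
  haveI : IsScalarTower A A' L := .of_algebraMap_eq fun _ => rfl
  haveI := hred L (Module.Finite.trans A' L)
  haveI : IsReduced (L ⊗[A'] (A' ⊗[A] B)) := isReduced_of_injective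
    (Algebra.TensorProduct.cancelBaseChange A A' L L B).toRingHom (AlgEquiv.injective _)
  letI : Algebra (L ⊗[A'] (A' ⊗[A] B)) (L ⊗[A'] D) :=
    (Algebra.TensorProduct.map (AlgHom.id A' L) (IsScalarTower.toAlgHom A' (A' ⊗[A] B) D)).toAlgebra
  haveI : IsScalarTower L (L ⊗[A'] (A' ⊗[A] B)) (L ⊗[A'] D) :=
    @IsScalarTower.of_algebraMap_eq L (L ⊗[A'] (A' ⊗[A] B)) (L ⊗[A'] D) _ _ _ _ _ _ fun x => by
      show x ⊗ₜ[A'] (1 : D) = Algebra.TensorProduct.map (AlgHom.id A' L) (IsScalarTower.toAlgHom A' (A' ⊗[A] B) D) (x ⊗ₜ[A'] (1 : (A' ⊗[A] B)))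
      simp
  haveI := IsLocalization.tensorProduct_tensorProduct_right A' L M.primeCompl D
    (RingHom.ext fun x => by simp [RingHom.algebraMap_toAlgebra]; try rfl)
  haveI : IsReduced (L ⊗[A'] D) :=
    isReduced_of_isLocalization (M.primeCompl.map (Algebra.TensorProduct.includeRight (R := A') (A := L)))
  exact isReduced_of_injective (IsLocalization.algebraTensorEquiv n.primeCompl C L D).toRingHom
    (AlgEquiv.injective _)

/-- The inductive step at a normal local domain. -/
theorem isReduced_of_ih {C D : Type u} [CommRing C] [IsDomain C] [IsIntegrallyClosed C] [IsLocalRing C]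
    [IsNoetherianRing C] [CommRing D] [IsLocalRing D] [IsNoetherianRing D] [Algebra C D]
    [IsLocalHom (algebraMap C D)] [Module.Flat C D] (d : ℕ)
    (ih : ∀ m < d, ∀ (A B : Type u) [CommRing A] [IsLocalRing A] [CommRing B] [IsLocalRing B] [IsNoetherianRing B]
      [Algebra A B] [IsLocalHom (algebraMap A B)] [Module.Flat A B],
      CAlg.IsNagata A → RedClosed A B → ∀ (p : Ideal A) [p.IsPrime],
      ringKrullDim (A ⧸ p) ≤ ((m : ℕ∞) : WithBot ℕ∞) →
      ∀ (K : Type u) [Field K] [Algebra A K] [Algebra p.ResidueField K] [IsScalarTower A p.ResidueField K]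
        [FiniteDimensional p.ResidueField K], IsReduced (K ⊗[A] B))
    (hNC : CAlg.IsNagata C) (hredC : RedClosed C D) (hdimC : ringKrullDim C ≤ ((d : ℕ∞) : WithBot ℕ∞)) :
    IsReduced D := by
  refine isReduced_of_normal_base (C := C) ?_ fun P _ hP => ?_
  · exact hredC _ (Module.Finite.of_surjective (Algebra.linearMap C (maximalIdeal C).ResidueField)
      (Ideal.algebraMap_residueField_surjective (maximalIdeal C)))
  · haveI : IsLocalRing (C ⧸ P) := IsLocalRing.of_surjective' (Ideal.Quotient.mk P) Ideal.Quotient.mk_surjective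
    obtain ⟨e, he⟩ := exists_nat_ringKrullDim_eq (C ⧸ P)
    have hlt : e < d := by
      haveI : IsLocalRing (C ⧸ (⊥ : Ideal C)) :=
        IsLocalRing.of_surjective' (Ideal.Quotient.mk ⊥) Ideal.Quotient.mk_surjective
      have h1 := (Groth.Agent.CAlgH3.ringKrullDim_quotient_add_one_le
        (p := (⊥ : Ideal C)) (q := P) (bot_lt_iff_ne_bot.2 hP)).trans
        ((ringKrullDim_eq_of_ringEquiv (RingEquiv.quotientBot C)).le.trans hdimC)
      rw [he, ← WithBot.coe_one, ← WithBot.coe_add, WithBot.coe_le_coe, ← Nat.cast_one, ← Nat.cast_add,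
        Nat.cast_le] at h1
      omega
    exact ih e hlt C D hNC hredC P he.le P.ResidueField

set_option maxHeartbeats 1600000 in
set_option synthInstance.maxHeartbeats 100000 in
/-- All fibres are geometrically reduced once the closed one is. -/
theorem isReduced_tensor_resFinite : ∀ (d : ℕ) (A B : Type u) [CommRing A] [IsLocalRing A] [CommRing B]
    [IsLocalRing B] [IsNoetherianRing B] [Algebra A B] [IsLocalHom (algebraMap A B)] [Module.Flat A B],
    CAlg.IsNagata A → RedClosed A B → ∀ (p : Ideal A) [p.IsPrime],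
    ringKrullDim (A ⧸ p) ≤ ((d : ℕ∞) : WithBot ℕ∞) →
    ∀ (K : Type u) [Field K] [Algebra A K] [Algebra p.ResidueField K] [IsScalarTower A p.ResidueField K]
      [FiniteDimensional p.ResidueField K], IsReduced (K ⊗[A] B) := by
  intro d
  induction d using Nat.strong_induction_on with | _ d ih =>
  intro A B _ _ _ _ _ _ _ _ hN hred p _ hd K _ _ _ _ _
  haveI := hN.1
  let k := p.ResidueField
  letI : Algebra (A ⧸ p) K := ((algebraMap k K).comp (algebraMap (A ⧸ p) k)).toAlgebra
  haveI : IsScalarTower (A ⧸ p) k K := .of_algebraMap_eq fun _ => rfl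
  haveI : IsScalarTower A (A ⧸ p) K := .of_algebraMap_eq fun a => by
    show _ = algebraMap k K (algebraMap (A ⧸ p) k (algebraMap A (A ⧸ p) a))
    rw [← IsScalarTower.algebraMap_apply A (A ⧸ p) k, ← IsScalarTower.algebraMap_apply A k K]
  let A' := integralClosure (A ⧸ p) K
  letI : CommRing A' := A'.toCommRing
  haveI : Module.Finite (A ⧸ p) A' := Groth.Agent.CAlgH.isN2_apply (hN.2 p) k K
  haveI : IsFractionRing A' K := IsIntegralClosure.isFractionRing_of_finite_extension (A ⧸ p) k K A'
  haveI : IsIntegrallyClosed A' := integralClosure.isIntegrallyClosedOfFiniteExtension k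
  haveI : Module.Finite A A' := Module.Finite.trans (A ⧸ p) A'
  haveI : Algebra.IsIntegral A A' := Algebra.IsIntegral.of_finite A A'
  haveI : IsNoetherianRing A' := IsNoetherianRing.of_finite A A'
  have hdimA' : ringKrullDim A' ≤ ((d : ℕ∞) : WithBot ℕ∞) := by
    refine (Order.krullDim_le_of_strictMono _ (DimLib.strictMono_comap_of_isIntegral (R := A ⧸ p) (S := A'))).trans hd
  let T := A' ⊗[A] B
  letI : Algebra B T := Algebra.TensorProduct.rightAlgebra
  haveI : Module.Finite B T := Module.Finite.equiv (Algebra.TensorProduct.commRight A B A').toLinearEquiv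
  haveI : IsNoetherianRing T := IsNoetherianRing.of_finite B T
  haveI : Algebra.IsIntegral B T := Algebra.IsIntegral.of_finite B T
  haveI : IsReduced T := by
    refine isReduced_ofLocalizationMaximal T fun M hM => ?_
    let n := M.under A'
    haveI : M.LiesOver n := ⟨rfl⟩
    haveI hn : n.IsMaximal := by
      refine Ideal.isMaximal_of_isIntegral_of_isMaximal_comap (R := A) n ?_
      have h1 : M.comap (algebraMap B T) = maximalIdeal B :=
        IsLocalRing.eq_maximalIdeal (Ideal.isMaximal_comap_of_isIntegral_of_isMaximal M)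
      have h2 : n.comap (algebraMap A A') = maximalIdeal A := by
        show (M.comap (algebraMap A' T)).comap (algebraMap A A') = _
        rw [Ideal.comap_comap, ← IsScalarTower.algebraMap_eq A A' T,
          show algebraMap A T = (algebraMap B T).comp (algebraMap A B) from
            (Algebra.TensorProduct.includeRight : B →ₐ[A] A' ⊗[A] B).comp_algebraMap.symm,
          ← Ideal.comap_comap, h1]
        exact ((IsLocalRing.local_hom_TFAE (algebraMap A B)).out 0 4).1 ‹_›
      rw [h2]; exact maximalIdeal.isMaximal A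
    letI := Localization.AtPrime.algebraOfLiesOver n M
    haveI : IsLocalHom (algebraMap (Localization.AtPrime n) (Localization.AtPrime M)) :=
      Localization.isLocalHom_localRingHom n M (algebraMap A' T) Ideal.LiesOver.over
    haveI : Module.Flat (Localization.AtPrime n) (Localization.AtPrime M) := inferInstance
    haveI : IsNoetherianRing (Localization.AtPrime n) := IsLocalization.isNoetherianRing n.primeCompl (Localization.AtPrime n) inferInstance
    haveI : IsNoetherianRing (Localization.AtPrime M) := IsLocalization.isNoetherianRing M.primeCompl (Localization.AtPrime M) inferInstance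
    haveI : IsDomain (Localization.AtPrime n) := IsLocalization.isDomain_localization n.primeCompl_le_nonZeroDivisors
    haveI : IsIntegrallyClosed (Localization.AtPrime n) :=
      isIntegrallyClosed_of_isLocalization _ n.primeCompl n.primeCompl_le_nonZeroDivisors
    have hNC : CAlg.IsNagata (Localization.AtPrime n) := Groth.Agent.S4710.result A' (Groth.Agent.CAlgH.isNagata_of_finite hN) n.primeCompl
    have hredC : RedClosed (Localization.AtPrime n) (Localization.AtPrime M) :=
      redClosed_localization n M hred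
    have hdimC : ringKrullDim (Localization.AtPrime n) ≤ ((d : ℕ∞) : WithBot ℕ∞) := by
      rw [IsLocalization.AtPrime.ringKrullDim_eq_height n (Localization.AtPrime n)]
      exact Ideal.height_le_ringKrullDim_of_isPrime.trans hdimA'
    exact isReduced_of_ih (C := (Localization.AtPrime n)) d ih hNC hredC hdimC
  -- the fibre is a localization of `T`
  haveI : IsReduced (B ⊗[A] A') := isReduced_of_injective (Algebra.TensorProduct.comm A B A').toRingHom
    (AlgEquiv.injective _)
  letI : Algebra (B ⊗[A] A') (B ⊗[A] K) :=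
    (Algebra.TensorProduct.map (AlgHom.id A B) (IsScalarTower.toAlgHom A A' K)).toAlgebra
  haveI : IsScalarTower B (B ⊗[A] A') (B ⊗[A] K) :=
    @IsScalarTower.of_algebraMap_eq B (B ⊗[A] A') (B ⊗[A] K) _ _ _ _ _ _ fun x => by
      show x ⊗ₜ[A] (1 : K) = Algebra.TensorProduct.map (AlgHom.id A B) (IsScalarTower.toAlgHom A A' K) (x ⊗ₜ[A] (1 : A'))
      simp
  haveI := IsLocalization.tensorProduct_tensorProduct_right A B (nonZeroDivisors A') K
    (RingHom.ext fun x => by simp [RingHom.algebraMap_toAlgebra])
  haveI : IsReduced (B ⊗[A] K) :=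
    isReduced_of_isLocalization ((nonZeroDivisors A').map (Algebra.TensorProduct.includeRight (R := A) (A := B)))
  exact isReduced_of_injective (Algebra.TensorProduct.comm A K B).toRingHom (AlgEquiv.injective _)

/-- A flat local algebra over a Nagata local ring with geometrically reduced closed fibre has
geometrically reduced fibres. -/
theorem geomReduced_fibres_of_closed (A B : Type u) [CommRing A] [IsNoetherianRing A] [IsLocalRing A] [CommRing B]
    [IsLocalRing B] [IsNoetherianRing B] [Algebra A B] [IsLocalHom (algebraMap A B)] [Module.Flat A B]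
    (hN : CAlg.IsNagata A) (hred : RedClosed A B) :
    ∀ (p : Ideal A) [p.IsPrime], Algebra.IsGeometricallyReduced p.ResidueField (p.Fiber B) := by
  rw [geomReduced_fibres_iff]
  rintro K _ _ ⟨p, _, _, _, _⟩
  haveI : IsLocalRing (A ⧸ p) := IsLocalRing.of_surjective' (Ideal.Quotient.mk p) Ideal.Quotient.mk_surjective
  obtain ⟨d, hd⟩ := exists_nat_ringKrullDim_eq (A ⧸ p)
  exact isReduced_tensor_resFinite d A B hN hred p hd.le K

/-- The closed fibre condition descends along faithfully flat extensions. -/
theorem redClosed_descend (A B C : Type u) [CommRing A] [CommRing B] [CommRing C] [Algebra A B] [Algebra B C]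
    [Algebra A C] [IsScalarTower A B C] [Module.FaithfullyFlat B C] (h : RedClosed A C) : RedClosed A B := by
  intro L _ _ hL
  haveI := h L hL
  haveI : IsReduced ((B ⊗[A] L) ⊗[B] C) :=
    isReduced_of_injective (towerEquiv (B := B) (C := C) L).toRingHom (RingEquiv.injective _)
  haveI : IsReduced (B ⊗[A] L) := by
    refine isReduced_of_injective
      (Algebra.TensorProduct.includeLeft : B ⊗[A] L →ₐ[B] (B ⊗[A] L) ⊗[B] C) fun x y hxy => ?_
    refine Module.FaithfullyFlat.tensorProduct_mk_injective (A := B) (B := C) (B ⊗[A] L) ?_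
    have h2 := congrArg (TensorProduct.comm B (B ⊗[A] L) C) hxy
    simpa using h2
  exact isReduced_of_injective (Algebra.TensorProduct.comm A L B).toRingHom (AlgEquiv.injective _)

end Groth.Agent.CommAlg6
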