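import Mathlib
import Groth.Prelude.Def_Koszul
import Groth.Agent.Misc15.KoszulElem

/-! Terms of the Koszul complex are finite free; its differentials have entries in the ideal. -/

set_option autoImplicit false
set_option backward.isDefEq.respectTransparency false
set_option backward.isDefEq.respectTransparency.types false
universe u

open CategoryTheory CategoryTheory.Limits CochainComplex

namespace Groth.Agent.CommAlg6.KoszulFree

open Groth.Agent.Misc15.Koszul
open CohIII (koszulCx)

variable {A : Type u} [CommRing A]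

theorem koszul_eq : ∀ l : List A, _root_.Koszul.koszul A l = koszulCx (ModuleCat.of A A) l
  | [] => rfl
  | f :: l => by
    show CochainComplex.mappingCone (f • 𝟙 (_root_.Koszul.koszul A l)) =
      CochainComplex.mappingCone (f • 𝟙 (koszulCx (ModuleCat.of A A) l))
    rw [koszul_eq l]

/-- The terms of a cone. -/
noncomputable def coneEquiv {K : CochainComplex (ModuleCat.{u} A) ℤ} (f : A) (i : ℤ) :
    ((mappingCone (f • 𝟙 K)).X i) ≃ₗ[A] (K.X (i + 1) × K.X i) where
  toFun x := (cfst _ (i + 1) rfl x, csnd _ x)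
  map_add' x y := by simp [cfst_add, csnd_add]
  map_smul' r x := by simp [cfst_smul, csnd_smul]
  invFun p := cmk _ (i + 1) rfl p.1 p.2
  left_inv x := cone_ext _ (i + 1) rfl (cfst_cmk ..) (csnd_cmk ..)
  right_inv p := Prod.ext (cfst_cmk ..) (csnd_cmk ..)

theorem free_finite_X : ∀ (l : List A) (i : ℤ),
    Module.Free A ((koszulCx (ModuleCat.of A A) l).X i) ∧ Module.Finite A ((koszulCx (ModuleCat.of A A) l).X i)
  | [], i => by
    by_cases hi : i = 0
    · subst hi
      exact ⟨Module.Free.of_equiv (bot0 (ModuleCat.of A A)).symm, Module.Finite.equiv (bot0 (ModuleCat.of A A)).symm⟩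
    · haveI := subsingleton_X (ModuleCat.of A A) [] i (by simp; omega)
      exact ⟨Module.Free.of_subsingleton A _, inferInstance⟩
  | f :: l, i => by
    obtain ⟨h1, h2⟩ := free_finite_X l (i + 1)
    obtain ⟨h3, h4⟩ := free_finite_X l i
    exact ⟨Module.Free.of_equiv (coneEquiv f i).symm, Module.Finite.equiv (coneEquiv f i).symm⟩

theorem finrank_top [Nontrivial A] : ∀ (l : List A),
    Module.finrank A ((koszulCx (ModuleCat.of A A) l).X (-(l.length : ℤ))) = 1
  | [] => by
    show Module.finrank A ((koszulCx (ModuleCat.of A A) []).X 0) = 1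
    rw [(bot0 (ModuleCat.of A A)).finrank_eq]
    exact Module.finrank_self A
  | f :: l => by
    obtain ⟨i, hi⟩ : ∃ i : ℤ, i = -((f :: l).length : ℤ) := ⟨_, rfl⟩
    have hi1 : i + 1 = -(l.length : ℤ) := by rw [hi, List.length_cons]; push_cast; ring
    rw [← hi]
    haveI := subsingleton_X (ModuleCat.of A A) l i (Or.inl (by omega))
    haveI := (free_finite_X l (i + 1)).1
    haveI := (free_finite_X l (i + 1)).2
    have e := (coneEquiv (K := koszulCx (ModuleCat.of A A) l) f i).finrank_eq
    have e2 : Module.finrank A ((koszulCx (ModuleCat.of A A) l).X (i + 1)) = 1 := by rw [hi1]; exact finrank_top l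
    refine e.trans ?_
    rw [Module.finrank_prod, e2, Module.finrank_zero_of_subsingleton]

theorem d_mem_smul_top (I : Ideal A) : ∀ (l : List A), (∀ f ∈ l, f ∈ I) → ∀ (i j : ℤ) (x : (koszulCx (ModuleCat.of A A) l).X i),
    ((koszulCx (ModuleCat.of A A) l).d i j).hom x ∈ I • (⊤ : Submodule A ((koszulCx (ModuleCat.of A A) l).X j))
  | [], _, i, j, x => by
    rw [show ((koszulCx (ModuleCat.of A A) ([] : List A)).d i j) = 0 from HomologicalComplex.single_obj_d _ _ _ _ _]
    exact zero_mem _
  | f :: l, hf, i, j, x => by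
    by_cases hij : i + 1 = j
    · subst hij
      let K := koszulCx (ModuleCat.of A A) l
      let inl : K.X (i + 1 + 1) →ₗ[A] (mappingCone (f • 𝟙 K)).X (i + 1) :=
        { toFun := fun a => cmk _ (i + 1 + 1) rfl a 0
          map_add' := fun a b => cone_ext _ (i + 1 + 1) rfl (by simp [cfst_cmk, cfst_add]) (by simp [csnd_cmk, csnd_add])
          map_smul' := fun r a => cone_ext _ (i + 1 + 1) rfl (by simp [cfst_cmk, cfst_smul]) (by simp [csnd_cmk, csnd_smul]) }
      let inr : K.X (i + 1) →ₗ[A] (mappingCone (f • 𝟙 K)).X (i + 1) :=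
        { toFun := fun b => cmk _ (i + 1 + 1) rfl 0 b
          map_add' := fun a b => cone_ext _ (i + 1 + 1) rfl (by simp [cfst_cmk, cfst_add]) (by simp [csnd_cmk, csnd_add])
          map_smul' := fun r a => cone_ext _ (i + 1 + 1) rfl (by simp [cfst_cmk, cfst_smul]) (by simp [csnd_cmk, csnd_smul]) }
      have key : ∀ z : (mappingCone (f • 𝟙 K)).X (i + 1), z = inl (cfst _ (i + 1 + 1) rfl z) + inr (csnd _ z) :=
        fun z => cone_ext _ (i + 1 + 1) rfl (by simp [inl, inr, cfst_cmk, cfst_add]) (by simp [inl, inr, csnd_cmk, csnd_add])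
      have hl : ∀ g ∈ l, g ∈ I := fun g hg => hf g (List.mem_cons_of_mem _ hg)
      show ((mappingCone (f • 𝟙 K)).d i (i + 1)).hom x ∈ I • (⊤ : Submodule A ((mappingCone (f • 𝟙 K)).X (i + 1)))
      rw [key (((mappingCone (f • 𝟙 K)).d i (i + 1)).hom x)]
      refine add_mem (Submodule.smul_top_le_comap_smul_top I inl ?_) (Submodule.smul_top_le_comap_smul_top I inr ?_)
      · rw [cfst_d _ (i + 1) (i + 1 + 1) rfl rfl]
        exact neg_mem (d_mem_smul_top I l hl (i + 1) (i + 1 + 1) _)
      · rw [csnd_d _ (i + 1) rfl, smul_id_f]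
        exact add_mem (Submodule.smul_mem_smul (hf f (List.mem_cons_self ..)) trivial) (d_mem_smul_top I l hl i (i + 1) _)
    · rw [show ((koszulCx (ModuleCat.of A A) (f :: l)).d i j) = 0 from HomologicalComplex.shape _ _ _ hij]
      exact zero_mem _

end Groth.Agent.CommAlg6.KoszulFree
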