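import Mathlib.RingTheory.Length
import Mathlib.RingTheory.FiniteLength
import Mathlib.Algebra.Module.SnakeLemma
import Mathlib.Algebra.Module.Torsion.Basic
import Mathlib.RingTheory.OrderOfVanishing.Basic
import Mathlib.RingTheory.Finiteness.Basic
import Mathlib.RingTheory.QuotSMulTop
import Mathlib.RingTheory.Nakayama

/-! The defect `length(coker v) - length(ker v)` of an endomorphism and its additivity. -/

open Function

namespace Groth.Agent.CommAlg6

variable {A : Type*} [CommRing A]
variable {M M' M'' : Type*} [AddCommGroup M] [Module A M] [AddCommGroup M'] [Module A M'] [AddCommGroup M'']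
  [Module A M'']

/-- length as an integer (meaningful when finite). -/
noncomputable def len (A : Type*) [CommRing A] (N : Type*) [AddCommGroup N] [Module A N] : ℤ :=
  ((Module.length A N).toNat : ℤ)

theorem len_congr {N N' : Type*} [AddCommGroup N] [Module A N] [AddCommGroup N'] [Module A N'] (e : N ≃ₗ[A] N') :
    len A N = len A N' := by rw [len, len, e.length_eq]

theorem len_eq_add_of_exact {N₁ N₂ N₃ : Type*} [AddCommGroup N₁] [Module A N₁] [AddCommGroup N₂] [Module A N₂]
    [AddCommGroup N₃] [Module A N₃] (f : N₁ →ₗ[A] N₂) (g : N₂ →ₗ[A] N₃) (hf : Injective f) (hg : Surjective g)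
    (hex : Exact f g) (h : IsFiniteLength A N₂) : len A N₂ = len A N₁ + len A N₃ := by
  have h1 := Module.length_ne_top_iff.2 (h.of_injective hf)
  have h3 := Module.length_ne_top_iff.2 (h.of_surjective hg)
  rw [len, len, len, Module.length_eq_add_of_exact f g hf hg hex, ENat.toNat_add h1 h3, Nat.cast_add]

theorem len_eq_range_add_range {N₁ N₂ N₃ : Type*} [AddCommGroup N₁] [Module A N₁] [AddCommGroup N₂] [Module A N₂]
    [AddCommGroup N₃] [Module A N₃] (f : N₁ →ₗ[A] N₂) (g : N₂ →ₗ[A] N₃) (hex : Exact f g)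
    (h : IsFiniteLength A N₂) : len A N₂ = len A (LinearMap.range f) + len A (LinearMap.range g) :=
  len_eq_add_of_exact (LinearMap.range f).subtype g.rangeRestrict (Submodule.injective_subtype _)
    g.surjective_rangeRestrict
    (fun x => by
      constructor
      · intro hx
        obtain ⟨y, hy⟩ := (hex x).1 (congrArg Subtype.val hx)
        exact ⟨⟨x, ⟨y, hy⟩⟩, rfl⟩
      · rintro ⟨⟨x, y, rfl⟩, rfl⟩
        exact Subtype.ext ((hex _).2 ⟨y, rfl⟩)) h

theorem len_range_of_injective {N₁ N₂ : Type*} [AddCommGroup N₁] [Module A N₁] [AddCommGroup N₂] [Module A N₂]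
    (f : N₁ →ₗ[A] N₂) (hf : Injective f) : len A N₁ = len A (LinearMap.range f) :=
  len_congr (LinearEquiv.ofInjective f hf)

theorem len_range_of_surjective {N₁ N₂ : Type*} [AddCommGroup N₁] [Module A N₁] [AddCommGroup N₂] [Module A N₂]
    (f : N₁ →ₗ[A] N₂) (hf : Surjective f) : len A (LinearMap.range f) = len A N₂ :=
  len_congr (LinearEquiv.ofTop _ (LinearMap.range_eq_top.2 hf))

/-- Both kernel and cokernel have finite length. -/
def FinDefect (v : M →ₗ[A] M) : Prop :=
  IsFiniteLength A (LinearMap.ker v) ∧ IsFiniteLength A (M ⧸ LinearMap.range v)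

/-- `length(coker v) - length(ker v)`. -/
noncomputable def defect (v : M →ₗ[A] M) : ℤ := len A (M ⧸ LinearMap.range v) - len A (LinearMap.ker v)

theorem isFiniteLength_of_exact {N₁ N₂ N₃ : Type*} [AddCommGroup N₁] [Module A N₁] [AddCommGroup N₂] [Module A N₂]
    [AddCommGroup N₃] [Module A N₃] (f : N₁ →ₗ[A] N₂) (g : N₂ →ₗ[A] N₃) (hex : Exact f g)
    (h1 : IsFiniteLength A N₁) (h3 : IsFiniteLength A N₃) : IsFiniteLength A N₂ := by
  obtain ⟨_, _⟩ := isFiniteLength_iff_isNoetherian_isArtinian.1 (h1.of_surjective f.surjective_rangeRestrict)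
  obtain ⟨_, _⟩ := isFiniteLength_iff_isNoetherian_isArtinian.1 (h3.of_injective (LinearMap.range g).injective_subtype)
  have hker : LinearMap.ker g = LinearMap.range f := hex.linearMap_ker_eq
  refine isFiniteLength_iff_isNoetherian_isArtinian.2 ⟨?_, ?_⟩
  · exact isNoetherian_of_range_eq_ker (LinearMap.range f).subtype g.rangeRestrict
      (by rw [Submodule.range_subtype, LinearMap.ker_rangeRestrict, hker])
  · exact isArtinian_of_range_eq_ker (LinearMap.range f).subtype g.rangeRestrict
      (by rw [Submodule.range_subtype, LinearMap.ker_rangeRestrict, hker])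

section Additive

variable (i : M' →ₗ[A] M) (p : M →ₗ[A] M'') (hi : Injective i) (hp : Surjective p) (hex : Exact i p)
  (v' : M' →ₗ[A] M') (v : M →ₗ[A] M) (v'' : M'' →ₗ[A] M'') (h1 : i.comp v' = v.comp i) (h2 : p.comp v = v''.comp p)

include hi hp hex h1 h2 in
theorem defect_add (f' : FinDefect v') (f'' : FinDefect v'') :
    FinDefect v ∧ defect v = defect v' + defect v'' := by
  let k1 : LinearMap.ker v' →ₗ[A] LinearMap.ker v := i.restrict fun x hx => by
    rw [LinearMap.mem_ker] at hx ⊢
    rw [← LinearMap.comp_apply v i, ← h1, LinearMap.comp_apply, hx, map_zero]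
  let k2 : LinearMap.ker v →ₗ[A] LinearMap.ker v'' := p.restrict fun x hx => by
    rw [LinearMap.mem_ker] at hx ⊢
    rw [← LinearMap.comp_apply v'' p, ← h2, LinearMap.comp_apply, hx, map_zero]
  let c1 : (M' ⧸ LinearMap.range v') →ₗ[A] (M ⧸ LinearMap.range v) := Submodule.mapQ _ _ i (by
    rintro _ ⟨x, rfl⟩; exact ⟨i x, (LinearMap.congr_fun h1 x).symm⟩)
  let c2 : (M ⧸ LinearMap.range v) →ₗ[A] (M'' ⧸ LinearMap.range v'') := Submodule.mapQ _ _ p (by
    rintro _ ⟨x, rfl⟩; exact ⟨p x, (LinearMap.congr_fun h2 x).symm⟩)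
  let ι'' := (LinearMap.ker v'').subtype
  let π' := (LinearMap.range v').mkQ
  have hι'' : Exact ι'' v'' := LinearMap.exact_subtype_ker_map _
  have hπ' : Exact v' π' := LinearMap.exact_map_mkQ_range _
  let δ := SnakeLemma.δ' v' v v'' i p hex i p hex h1 h2 ι'' hι'' π' hπ' hp hi
  have e1 : Injective k1 := fun a b h => Subtype.ext (hi (congrArg Subtype.val h))
  have e2 : Exact k1 k2 := by
    intro x
    constructor
    · intro hx
      obtain ⟨y, hy⟩ := (hex x.1).1 (congrArg Subtype.val hx)
      refine ⟨⟨y, hi ?_⟩, Subtype.ext hy⟩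
      rw [← LinearMap.comp_apply i v', h1, LinearMap.comp_apply, hy, LinearMap.mem_ker.1 x.2, map_zero]
    · rintro ⟨y, rfl⟩
      exact Subtype.ext (hex.apply_apply_eq_zero y.1)
  have e3 : Exact k2 δ :=
    SnakeLemma.exact_δ'_right v' v v'' i p hex i p hex h1 h2 (LinearMap.ker v).subtype
      (LinearMap.exact_subtype_ker_map _) ι'' hι'' π' hπ' hp hi k2 (by ext; rfl) (Submodule.injective_subtype _)
  have e4 : Exact δ c1 :=
    SnakeLemma.exact_δ'_left v' v v'' i p hex i p hex h1 h2 ι'' hι'' π' hπ' (LinearMap.range v).mkQ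
      (LinearMap.exact_map_mkQ_range _) hp hi c1 (by ext; rfl) (Submodule.mkQ_surjective _)
  have e5 : Exact c1 c2 := by
    intro q
    obtain ⟨x, rfl⟩ := Submodule.Quotient.mk_surjective _ q
    constructor
    · intro hx
      obtain ⟨y'', hy''⟩ := (Submodule.Quotient.mk_eq_zero _).1 hx
      obtain ⟨y, rfl⟩ := hp y''
      rw [← LinearMap.comp_apply v'' p, ← h2, LinearMap.comp_apply] at hy''
      obtain ⟨z, hz⟩ := (hex (x - v y)).1 (by rw [map_sub, hy'', sub_self])
      refine ⟨Submodule.Quotient.mk z, ?_⟩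
      change Submodule.Quotient.mk (i z) = _
      rw [hz, Submodule.Quotient.eq]
      exact ⟨-y, by rw [map_neg]; abel⟩
    · rintro ⟨z, hz⟩
      obtain ⟨z, rfl⟩ := Submodule.Quotient.mk_surjective _ z
      rw [← hz]
      change Submodule.Quotient.mk (p (i z)) = 0
      rw [hex.apply_apply_eq_zero, Submodule.Quotient.mk_zero]
  have e6 : Surjective c2 := by
    intro q
    obtain ⟨x, rfl⟩ := Submodule.Quotient.mk_surjective _ q
    obtain ⟨y, rfl⟩ := hp x
    exact ⟨Submodule.Quotient.mk y, rfl⟩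
  have fk : IsFiniteLength A (LinearMap.ker v) := isFiniteLength_of_exact k1 k2 e2 f'.1 f''.1
  have fc : IsFiniteLength A (M ⧸ LinearMap.range v) := isFiniteLength_of_exact c1 c2 e5 f'.2 f''.2
  refine ⟨⟨fk, fc⟩, ?_⟩
  have a1 := len_range_of_injective k1 e1
  have a2 := len_eq_range_add_range k1 k2 e2 fk
  have a3 := len_eq_range_add_range k2 δ e3 f''.1
  have a4 := len_eq_range_add_range δ c1 e4 f'.2
  have a5 := len_eq_range_add_range c1 c2 e5 fc
  have a6 := len_range_of_surjective c2 e6
  simp only [defect]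
  linarith

end Additive

theorem finDefect_of_isFiniteLength (v : M →ₗ[A] M) (h : IsFiniteLength A M) : FinDefect v :=
  ⟨h.of_injective (Submodule.injective_subtype _), h.of_surjective (Submodule.mkQ_surjective _)⟩

theorem defect_of_isFiniteLength (v : M →ₗ[A] M) (h : IsFiniteLength A M) : defect v = 0 := by
  have h1 := len_eq_add_of_exact (LinearMap.ker v).subtype v.rangeRestrict (Submodule.injective_subtype _)
    v.surjective_rangeRestrict (fun x => by
      constructor
      · intro hx; exact ⟨⟨x, congrArg Subtype.val hx⟩, rfl⟩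
      · rintro ⟨y, rfl⟩; exact Subtype.ext y.2) h
  have h2 := len_eq_add_of_exact (LinearMap.range v).subtype (LinearMap.range v).mkQ (Submodule.injective_subtype _)
    (Submodule.mkQ_surjective _) (LinearMap.exact_subtype_mkQ _) h
  simp only [defect]
  linarith

theorem defect_congr {N : Type*} [AddCommGroup N] [Module A N] (e : M ≃ₗ[A] N) (v : M →ₗ[A] M) (w : N →ₗ[A] N)
    (h : e.toLinearMap.comp v = w.comp e.toLinearMap) :
    (FinDefect v ↔ FinDefect w) ∧ defect v = defect w := by
  have hk : (LinearMap.ker v).map e.toLinearMap = LinearMap.ker w := by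
    ext y
    constructor
    · rintro ⟨x, hx, rfl⟩
      rw [LinearMap.mem_ker, ← LinearMap.comp_apply w, ← h, LinearMap.comp_apply, LinearMap.mem_ker.1 hx, map_zero]
    · intro hy
      obtain ⟨x, rfl⟩ := e.surjective y
      refine ⟨x, e.injective ?_, rfl⟩
      rw [map_zero]
      exact (LinearMap.congr_fun h x).trans hy
  have hr : (LinearMap.range v).map e.toLinearMap = LinearMap.range w := by
    ext y
    constructor
    · rintro ⟨_, ⟨x, rfl⟩, rfl⟩
      exact ⟨e x, (LinearMap.congr_fun h x).symm⟩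
    · rintro ⟨z, rfl⟩
      obtain ⟨x, rfl⟩ := e.surjective z
      exact ⟨v x, ⟨x, rfl⟩, LinearMap.congr_fun h x⟩
  let ek : LinearMap.ker v ≃ₗ[A] LinearMap.ker w := (e.submoduleMap _).trans (LinearEquiv.ofEq _ _ hk)
  let ec := Submodule.Quotient.equiv _ _ e hr
  exact ⟨⟨fun f => ⟨ek.isFiniteLength f.1, ec.isFiniteLength f.2⟩,
    fun f => ⟨ek.symm.isFiniteLength f.1, ec.symm.isFiniteLength f.2⟩⟩,
    by simp only [defect, len_congr ek, len_congr ec]⟩

section TorsionFiniteLength

variable [IsNoetherianRing A] [Ring.KrullDimLE 1 A]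

theorem isFiniteLength_of_smul_eq_zero [Module.Finite A M] {s : A} (hs : s ∈ nonZeroDivisors A)
    (h : ∀ x : M, s • x = 0) : IsFiniteLength A M := by
  obtain ⟨n, g, hg⟩ := Module.Finite.exists_fin (R := A) (M := M)
  let φ : (Fin n → A ⧸ Ideal.span {s}) →ₗ[A] M :=
    ∑ i, (Submodule.liftQ _ (LinearMap.toSpanSingleton A M (g i)) (by
      rw [Ideal.span, Submodule.span_le]; rintro _ rfl; exact h (g i))).comp (LinearMap.proj i)
  have hφ : Surjective φ := by
    rw [← LinearMap.range_eq_top, eq_top_iff, ← hg, Submodule.span_le]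
    rintro _ ⟨i, rfl⟩
    refine ⟨Pi.single i (Submodule.Quotient.mk 1), ?_⟩
    rw [LinearMap.sum_apply, Finset.sum_eq_single i]
    · simp only [LinearMap.comp_apply, LinearMap.proj_apply, Pi.single_eq_same, Submodule.liftQ_apply,
        LinearMap.toSpanSingleton_apply, one_smul]
    · intro j _ hj; simp [hj]
    · simp
  have hfl := Module.length_ne_top_iff.2 (isFiniteLength_quotient_span_singleton A hs)
  refine IsFiniteLength.of_surjective ?_ hφ
  rw [← Module.length_ne_top_iff, Module.length_pi_of_fintype]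
  exact Finset.sum_induction _ (· ≠ ⊤) (fun a b ha hb => WithTop.add_ne_top.2 ⟨ha, hb⟩) (by simp) (fun i _ => hfl)

theorem finDefect_smul [Module.Finite A M] {t : A} (ht : t ∈ nonZeroDivisors A) :
    FinDefect (t • (LinearMap.id : M →ₗ[A] M)) := by
  haveI : IsNoetherian A M := isNoetherian_of_isNoetherianRing_of_finite A M
  refine ⟨isFiniteLength_of_smul_eq_zero ht fun x => Subtype.ext ?_, isFiniteLength_of_smul_eq_zero ht fun q => ?_⟩
  · exact LinearMap.mem_ker.1 x.2
  · obtain ⟨x, rfl⟩ := Submodule.Quotient.mk_surjective _ q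
    rw [← Submodule.Quotient.mk_smul, Submodule.Quotient.mk_eq_zero]
    exact ⟨x, rfl⟩

theorem defect_smul_add [Module.Finite A M] [Module.Finite A M'] [Module.Finite A M''] {t : A}
    (ht : t ∈ nonZeroDivisors A) (i : M' →ₗ[A] M) (p : M →ₗ[A] M'') (hi : Injective i) (hp : Surjective p)
    (hex : Exact i p) :
    defect (t • (LinearMap.id : M →ₗ[A] M)) =
      defect (t • (LinearMap.id : M' →ₗ[A] M')) + defect (t • (LinearMap.id : M'' →ₗ[A] M'')) :=
  (defect_add i p hi hp hex _ _ _ (by ext; simp) (by ext; simp) (finDefect_smul ht) (finDefect_smul ht)).2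

end TorsionFiniteLength

open scoped Pointwise in
theorem range_smul_id (t : A) : LinearMap.range (t • (LinearMap.id : M →ₗ[A] M)) = t • (⊤ : Submodule A M) := by
  ext x
  simp [Submodule.mem_smul_pointwise_iff_exists]

theorem quotSMulTop_length (t : A) :
    Module.length A (QuotSMulTop t M) = Module.length A (M ⧸ LinearMap.range (t • (LinearMap.id : M →ₗ[A] M))) :=
  (Submodule.quotEquivOfEq _ _ (range_smul_id t).symm).length_eq

/-- `defect (t) ≥ 0` with equality iff finite length. -/
theorem defect_smul_nonneg [IsNoetherianRing A] [Ring.KrullDimLE 1 A] [Module.Finite A M] {t : A}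
    (ht : t ∈ nonZeroDivisors A) (htm : t ∈ Ideal.jacobson (⊥ : Ideal A)) :
    0 ≤ defect (t • (LinearMap.id : M →ₗ[A] M)) ∧
      (defect (t • (LinearMap.id : M →ₗ[A] M)) = 0 ↔ IsFiniteLength A M) := by
  haveI : IsNoetherian A M := isNoetherian_of_isNoetherianRing_of_finite A M
  let T : ℕ →o Submodule A M :=
    { toFun := fun n => LinearMap.ker ((t ^ n) • (LinearMap.id : M →ₗ[A] M))
      monotone' := monotone_nat_of_le_succ fun n x hx => by
        simp only [LinearMap.mem_ker, LinearMap.smul_apply, LinearMap.id_apply] at hx ⊢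
        rw [pow_succ', mul_smul, hx, smul_zero] }
  obtain ⟨k, hk⟩ := monotone_stabilizes_iff_noetherian.2 ‹IsNoetherian A M› T
  have hTfl : IsFiniteLength A (T k) :=
    isFiniteLength_of_smul_eq_zero (pow_mem ht k) fun x => Subtype.ext (LinearMap.mem_ker.1 x.2)
  have hreg : ∀ q : M ⧸ T k, t • q = 0 → q = 0 := by
    intro q hq
    obtain ⟨x, rfl⟩ := Submodule.Quotient.mk_surjective _ q
    rw [← Submodule.Quotient.mk_smul, Submodule.Quotient.mk_eq_zero] at hq
    rw [Submodule.Quotient.mk_eq_zero]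
    have : x ∈ T (k + 1) := by
      change (t ^ k) • (t • x) = 0 at hq
      change (t ^ (k + 1)) • x = 0
      rwa [pow_succ, mul_smul]
    rwa [← hk (k + 1) k.le_succ] at this
  have hadd := defect_smul_add ht (T k).subtype (T k).mkQ (Submodule.injective_subtype _)
    (Submodule.mkQ_surjective _) (LinearMap.exact_subtype_mkQ _)
  rw [defect_of_isFiniteLength _ hTfl, zero_add] at hadd
  have hker : LinearMap.ker (t • (LinearMap.id : (M ⧸ T k) →ₗ[A] (M ⧸ T k))) = ⊥ := by
    rw [eq_bot_iff]
    intro q hq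
    exact hreg q hq
  have hk0 : len A (LinearMap.ker (t • (LinearMap.id : (M ⧸ T k) →ₗ[A] (M ⧸ T k)))) = 0 := by
    rw [hker]; simp [len]
  rw [hadd]
  refine ⟨by simp only [defect, hk0, sub_zero]; simp [len], fun h => ?_, fun h => ?_⟩
  · simp only [defect] at h
    rw [hk0, sub_zero, len, Nat.cast_eq_zero] at h
    have hfin := finDefect_smul (M := M ⧸ T k) ht
    have h0 : Module.length A ((M ⧸ T k) ⧸ LinearMap.range (t • (LinearMap.id : (M ⧸ T k) →ₗ[A] (M ⧸ T k)))) = 0 := by
      rcases ENat.toNat_eq_zero.1 h with h0 | h0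
      · exact h0
      · exact absurd h0 (Module.length_ne_top_iff.2 hfin.2)
    rw [Module.length_eq_zero_iff, Submodule.Quotient.subsingleton_iff] at h0
    have htop : (⊤ : Submodule A (M ⧸ T k)) = ⊥ := by
      refine Submodule.eq_bot_of_le_smul_of_le_jacobson_bot (Ideal.span {t}) ⊤ Module.Finite.fg_top ?_
        ((Ideal.span_singleton_le_iff_mem _).2 htm)
      conv_lhs => rw [← h0, range_smul_id, ← Submodule.ideal_span_singleton_smul]
    have : Subsingleton (M ⧸ T k) := by
      refine ⟨fun a b => ?_⟩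
      have ha : a ∈ (⊥ : Submodule A (M ⧸ T k)) := htop ▸ trivial
      have hb : b ∈ (⊥ : Submodule A (M ⧸ T k)) := htop ▸ trivial
      rw [Submodule.mem_bot] at ha hb
      rw [ha, hb]
    exact isFiniteLength_of_exact (T k).subtype (T k).mkQ (LinearMap.exact_subtype_mkQ _) hTfl .of_subsingleton
  · exact defect_of_isFiniteLength _ (h.of_surjective (Submodule.mkQ_surjective _))

end Groth.Agent.CommAlg6
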