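import Mathlib.RingTheory.KrullDimension.Polynomial
import Mathlib.RingTheory.KrullDimension.PID
import Mathlib.RingTheory.Ideal.KrullsHeightTheorem
import Mathlib.RingTheory.Localization.Algebra
import Mathlib.RingTheory.AlgebraicIndependent.TranscendenceBasis
import Mathlib.RingTheory.Ideal.GoingDown
import Mathlib.RingTheory.Polynomial.Quotient

/-! Heights of primes of `A[X]` over a Noetherian ring. -/

universe u

open Polynomial Ideal

namespace Groth.Agent.CommAlg6

section Domain

variable {D : Type u} [CommRing D] [IsDomain D] (q : Ideal D[X]) [q.IsPrime]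

attribute [local instance] Polynomial.algebra in
theorem height_eq_one_of_comap_eq_bot (hne : q ≠ ⊥) (h : q.comap C = ⊥) : q.height = 1 := by
  let K := FractionRing D
  haveI : IsLocalization ((nonZeroDivisors D).map (C : D →+* D[X])) K[X] :=
    Polynomial.isLocalization (nonZeroDivisors D) K
  have disj : Disjoint (((nonZeroDivisors D).map (C : D →+* D[X]) : Submonoid D[X]) : Set D[X])
      (q : Set D[X]) := by
    refine Set.disjoint_left.mpr fun a ha haq => ?_
    obtain ⟨d, hd, rfl⟩ := ha
    have : d ∈ q.comap C := haq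
    rw [h, Ideal.mem_bot] at this
    exact nonZeroDivisors.ne_zero hd this
  rw [← IsLocalization.height_map_of_disjoint (S := K[X]) _ q disj]
  set Q := q.map (algebraMap D[X] K[X])
  haveI hQp : Q.IsPrime := IsLocalization.isPrime_of_isPrime_disjoint _ _ q ‹_› disj
  have hQ : Q ≠ ⊥ := by
    intro e
    apply hne
    rw [Ideal.map_eq_bot_iff_of_injective] at e
    · exact e
    · exact IsLocalization.injective (M := (nonZeroDivisors D).map (C : D →+* D[X])) K[X] (by
        rintro a ⟨d, hd, rfl⟩
        exact mem_nonZeroDivisors_of_ne_zero (by simpa using nonZeroDivisors.ne_zero hd))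
  haveI : Q.IsMaximal := IsPrime.to_maximal_ideal hQ
  exact IsPrincipalIdealRing.height_eq_one_of_isMaximal Q (Polynomial.not_isField K)

end Domain

variable {A : Type u} [CommRing A] [IsNoetherianRing A] (p : Ideal A) [p.IsPrime]

theorem liesOver_map_C : (p.map (C : A →+* A[X])).LiesOver p := by
  refine ⟨le_antisymm (Ideal.le_comap_map) fun a ha => ?_⟩
  have h : (C a : A[X]) ∈ p.map C := ha
  simpa using Ideal.mem_map_C_iff.mp h 0

theorem height_map_C' : (p.map (C : A →+* A[X])).height = p.height := by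
  haveI := liesOver_map_C p
  rw [Ideal.height_eq_height_add_of_liesOver_of_hasGoingDown p (p.map (C : A →+* A[X])),
    Polynomial.algebraMap_eq, Ideal.map_quotient_self]
  haveI : Nontrivial (A[X] ⧸ p.map (C : A →+* A[X])) :=
    Ideal.Quotient.nontrivial_iff.mpr Ideal.IsPrime.ne_top'
  simp

variable (q : Ideal A[X]) [q.IsPrime] [q.LiesOver p]

omit [IsNoetherianRing A] [p.IsPrime] [q.IsPrime] in
theorem map_C_le : p.map (C : A →+* A[X]) ≤ q := by
  rw [Ideal.map_le_iff_le_comap, q.over_def p]
  exact le_rfl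

theorem height_eq_add_one (hne : q ≠ p.map (C : A →+* A[X])) : q.height = p.height + 1 := by
  rw [Ideal.height_eq_height_add_of_liesOver_of_hasGoingDown p q, Polynomial.algebraMap_eq]
  congr 1
  let e : A[X] ⧸ p.map (C : A →+* A[X]) ≃+* (A ⧸ p)[X] :=
    (polynomialQuotientEquivQuotientPolynomial p).symm
  set q1 := q.map (Ideal.Quotient.mk (p.map (C : A →+* A[X]))) with hq1
  haveI : q1.IsPrime := Ideal.map_isPrime_of_surjective Ideal.Quotient.mk_surjective
    (by rw [Ideal.mk_ker]; exact map_C_le p q)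
  haveI : (q1.map e).IsPrime := Ideal.map_isPrime_of_equiv e
  rw [← e.height_map q1]
  refine height_eq_one_of_comap_eq_bot (q1.map e) (fun h => hne ?_) (le_antisymm (fun a ha => ?_) bot_le)
  · refine le_antisymm ?_ (map_C_le p q)
    rw [Ideal.map_eq_bot_iff_of_injective e.injective, hq1, Ideal.map_eq_bot_iff_le_ker,
      Ideal.mk_ker] at h
    exact h
  · obtain ⟨a, rfl⟩ := Ideal.Quotient.mk_surjective a
    have h : (C (Ideal.Quotient.mk p a) : (A ⧸ p)[X]) ∈ q1.map e := ha
    have he : e (Ideal.Quotient.mk _ (C a)) = C (Ideal.Quotient.mk p a) := by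
      rw [show e = (polynomialQuotientEquivQuotientPolynomial p).symm from rfl,
        polynomialQuotientEquivQuotientPolynomial_symm_mk, Polynomial.map_C]
    rw [← he, Ideal.apply_mem_of_equiv_iff, hq1,
      Ideal.mem_quotient_iff_mem (map_C_le p q)] at h
    rw [Ideal.mem_bot, Ideal.Quotient.eq_zero_iff_mem, q.over_def p]
    exact h

omit [IsNoetherianRing A] in
theorem trdeg_eq_zero_of_ne (hne : q ≠ p.map (C : A →+* A[X])) :
    Algebra.trdeg (A ⧸ p) (A[X] ⧸ q) = 0 := by
  classical
  have : ¬ q ≤ p.map (C : A →+* A[X]) := fun h => hne (le_antisymm h (map_C_le p q))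
  obtain ⟨g, hgq, hgp⟩ := SetLike.not_le_iff_exists.mp this
  set g' : (A ⧸ p)[X] := g.map (Ideal.Quotient.mk p) with hg'
  have hg0 : g' ≠ 0 := by
    intro h
    apply hgp
    rw [Ideal.mem_map_C_iff]
    intro n
    have := congrArg (fun r : (A ⧸ p)[X] => r.coeff n) h
    simp only [hg', Polynomial.coeff_map, Polynomial.coeff_zero] at this
    exact Ideal.Quotient.eq_zero_iff_mem.mp this
  set x : A[X] ⧸ q := Ideal.Quotient.mk q X
  have hcomp : (algebraMap (A ⧸ p) (A[X] ⧸ q)).comp (Ideal.Quotient.mk p) =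
      (Ideal.Quotient.mk q).comp C := rfl
  have hx : IsAlgebraic (A ⧸ p) x := by
    refine ⟨g', hg0, ?_⟩
    rw [hg', aeval_def, eval₂_map, hcomp, ← hom_eval₂, eval₂_C_X]
    exact Ideal.Quotient.eq_zero_iff_mem.mpr hgq
  haveI : Algebra.IsAlgebraic (A ⧸ p) (A[X] ⧸ q) := by
    refine ⟨fun z => ?_⟩
    obtain ⟨f, rfl⟩ := Ideal.Quotient.mk_surjective z
    induction f using Polynomial.induction_on with
    | C a => exact isAlgebraic_algebraMap (Ideal.Quotient.mk p a)
    | add f g hf hg => rw [map_add]; exact hf.add hg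
    | monomial n a h =>
      rw [pow_succ, ← mul_assoc, map_mul]
      exact h.mul hx
  exact trdeg_eq_zero

omit [IsNoetherianRing A] in
theorem trdeg_eq_one_of_eq [h : (p.map (C : A →+* A[X])).LiesOver p] :
    Algebra.trdeg (A ⧸ p) (A[X] ⧸ p.map (C : A →+* A[X])) = 1 := by
  let e : (A ⧸ p)[X] ≃ₐ[A ⧸ p] (A[X] ⧸ p.map (C : A →+* A[X])) :=
    AlgEquiv.ofRingEquiv (f := polynomialQuotientEquivQuotientPolynomial p) fun a => by
      obtain ⟨a, rfl⟩ := Ideal.Quotient.mk_surjective a
      rw [Polynomial.algebraMap_eq, ← RingEquiv.eq_symm_apply,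
        show algebraMap (A ⧸ p) (A[X] ⧸ p.map (C : A →+* A[X])) (Ideal.Quotient.mk p a) =
          Ideal.Quotient.mk _ (C a) from rfl,
        polynomialQuotientEquivQuotientPolynomial_symm_mk, Polynomial.map_C]
  rw [← e.trdeg_eq, Polynomial.trdeg_of_isDomain]

end Groth.Agent.CommAlg6
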