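import Groth.Agent.CommAlg6.CompletedKaehlerEtale
import Groth.Agent.EGA41Lib.CartierEquality
import Groth.Agent.CAlgH.PowerSeriesComplete
import Groth.Agent.EGA41Lib.FieldSeparableSmooth
import Mathlib.RingTheory.MvPowerSeries.Expand

/-! Differentials of power series and of their fraction fields. -/

set_option autoImplicit false
set_option linter.style.haveILetI false

universe u

open IsLocalRing TensorProduct

namespace Groth.Agent.CommAlg6

theorem exists_finite_decomposition {R S : Type u} [CommRing R] [CommRing S] (f : R →+* S) (hf : f.Finite) :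
    ∃ (N : ℕ) (β : Fin N → S), ∀ a : S, ∃ γ : Fin N → R, a = ∑ b, f (γ b) * β b := by
  letI : Algebra R S := f.toAlgebra
  haveI : Module.Finite R S := hf
  obtain ⟨N, β, hβ⟩ := Module.Finite.exists_fin (R := R) (M := S)
  refine ⟨N, β, fun a => ?_⟩
  have ha : a ∈ Submodule.span R (Set.range β) := hβ ▸ Submodule.mem_top
  obtain ⟨γ, hγ⟩ := (Submodule.mem_span_range_iff_exists_fun R).1 ha
  exact ⟨γ, hγ.symm.trans (Finset.sum_congr rfl fun b _ => Algebra.smul_def _ _)⟩

variable (k : Type u) [Field k] (n : ℕ)

/-- The partial derivatives of power series as fractions. -/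
noncomputable def partialFrac (L : Type u) [Field L] [Algebra (MvPowerSeries (Fin n) k) L] [Algebra k L]
    [IsScalarTower k (MvPowerSeries (Fin n) k) L] : Derivation k (MvPowerSeries (Fin n) k) (Fin n → L) :=
  Derivation.mk'
    { toFun := fun r i => algebraMap (MvPowerSeries (Fin n) k) L (MvPowerSeries.pderiv k i r)
      map_add' := fun a b => funext fun i => by simp only [map_add, Pi.add_apply]
      map_smul' := fun c a => funext fun i => by
        simp only [Derivation.map_smul, Pi.smul_apply, RingHom.id_apply]
        rw [Algebra.smul_def, map_mul, ← IsScalarTower.algebraMap_apply, Algebra.smul_def] }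
    fun a b => funext fun i => by
      show algebraMap _ L (MvPowerSeries.pderiv k i (a * b)) = _
      rw [Derivation.leibniz, map_add, smul_eq_mul, smul_eq_mul, map_mul, map_mul]
      simp [Algebra.smul_def]

/-- The fraction field of power series has `n` independent differentials. -/
theorem exists_surjective_kaehler_fractionRing (L : Type u) [Field L] [Algebra (MvPowerSeries (Fin n) k) L]
    [IsFractionRing (MvPowerSeries (Fin n) k) L] [Algebra k L] [IsScalarTower k (MvPowerSeries (Fin n) k) L] :
    ∃ f : Ω[L⁄k] →ₗ[L] (Fin n → L), Function.Surjective f := by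
  classical
  haveI : IsRegularLocalRing (MvPowerSeries (Fin n) k) := (CAlgH.isRegularLocalRing_mvPowerSeries k n).1
  haveI : IsDomain (MvPowerSeries (Fin n) k) := CAlgH3.isDomain_of_isRegularLocalRing _
  obtain ⟨dL, hdL⟩ := exists_derivation_fractionRing (L := L) (partialFrac k n L)
  refine ⟨dL.liftKaehlerDifferential, ?_⟩
  rw [← LinearMap.range_eq_top, eq_top_iff, ← (Pi.basisFun L (Fin n)).span_eq, Submodule.span_le]
  rintro _ ⟨j, rfl⟩
  refine ⟨KaehlerDifferential.D k L (algebraMap (MvPowerSeries (Fin n) k) L (MvPowerSeries.X j)), ?_⟩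
  rw [Derivation.liftKaehlerDifferential_comp_D, hdL]
  funext i
  show algebraMap (MvPowerSeries (Fin n) k) L (MvPowerSeries.pderiv k i (MvPowerSeries.X j)) = _
  rw [MvPowerSeries.pderiv_X, Pi.basisFun_apply]
  simp only [Pi.single_apply]
  split_ifs with h1 h2 <;> simp_all

/-- The fraction field of power series is separable over the constants. -/
theorem injective_mapBaseChange_fractionRing (L : Type u) [Field L] [Algebra (MvPowerSeries (Fin n) k) L]
    [IsFractionRing (MvPowerSeries (Fin n) k) L] [Algebra k L] [IsScalarTower k (MvPowerSeries (Fin n) k) L] :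
    Function.Injective (KaehlerDifferential.mapBaseChange ℤ k L) := by
  have h := CAlgH.AdicSmooth.isGeometricallyRegular_localization k (MvPowerSeries (Fin n) k)
    (isGeometricallyRegular_mvPowerSeries_field k n) (nonZeroDivisors (MvPowerSeries (Fin n) k)) L
  haveI := (CAlgH.isGeometricallyRegular_iff_isGeometricallyReduced k L).1 h
  exact EGA41Lib.injective_mapBaseChange_of_isGeometricallyReduced ℤ k L

variable (p : ℕ) [Fact p.Prime] [CharP k p]

/-- In characteristic `p` with finite Frobenius, power series have finitely generated differentials. -/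
theorem finite_kaehler_mvPowerSeries (hk : (frobenius k p).Finite) :
    Module.Finite (MvPowerSeries (Fin n) k) Ω[MvPowerSeries (Fin n) k⁄k] := by
  classical
  let R := MvPowerSeries (Fin n) k
  have hp0 : p ≠ 0 := (Fact.out : p.Prime).ne_zero
  haveI : CharP R p := charP_of_injective_algebraMap (algebraMap k R).injective p
  obtain ⟨N, β, hβ⟩ : ∃ (N : ℕ) (β : Fin N → k), ∀ a : k, ∃ γ : Fin N → k, a = ∑ b, γ b ^ p * β b := by
    exact exists_finite_decomposition (frobenius k p) hk
  choose γ hγ using hβ
  have hexp : ∀ f : R, ∃ g : Fin N → R, MvPowerSeries.expand p hp0 f = ∑ b, MvPowerSeries.C (β b) * g b ^ p := by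
    intro f
    let g : Fin N → R := fun b d => γ (MvPowerSeries.coeff d f) b
    refine ⟨g, ?_⟩
    have hf : f = ∑ b, MvPowerSeries.C (β b) * MvPowerSeries.map (frobenius k p) (g b) := by
      ext d
      rw [map_sum, hγ (MvPowerSeries.coeff d f)]
      refine Finset.sum_congr rfl fun b _ => ?_
      rw [MvPowerSeries.coeff_C_mul, MvPowerSeries.coeff_map, frobenius_def, mul_comm]
      rfl
    conv_lhs => rw [hf, map_sum]
    refine Finset.sum_congr rfl fun b _ => ?_
    rw [map_mul, MvPowerSeries.expand_C, ← MvPowerSeries.map_expand]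
    exact congrArg _ (MvPowerSeries.map_frobenius_expand p hp0)
  let φ : R →+* R := (MvPowerSeries.expand p hp0).toRingHom
  have hXp : ∀ i, φ (MvPowerSeries.X i) = MvPowerSeries.X i ^ p := fun i => MvPowerSeries.expand_X p hp0 i
  haveI : IsRegularLocalRing R := (CAlgH.isRegularLocalRing_mvPowerSeries k n).1
  haveI : IsAdicComplete (maximalIdeal R) R := CAlgH.isAdicComplete_maximalIdeal_mvPowerSeries
  haveI : Module.Finite k (ResidueField R) := by
    refine Module.Finite.of_surjective (Algebra.linearMap k (ResidueField R)) fun x => ?_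
    obtain ⟨r, rfl⟩ := IsLocalRing.residue_surjective x
    refine ⟨MvPowerSeries.constantCoeff r, ?_⟩
    refine ((Ideal.Quotient.eq).2 ?_).symm
    rw [mem_maximalIdeal, mem_nonunits_iff, MvPowerSeries.isUnit_iff_constantCoeff, map_sub]
    show ¬ IsUnit (MvPowerSeries.constantCoeff r - MvPowerSeries.constantCoeff (MvPowerSeries.C (MvPowerSeries.constantCoeff r)))
    rw [MvPowerSeries.constantCoeff_C, sub_self]
    exact not_isUnit_zero
  have hfin : φ.Finite := by
    refine CAlgH.finite_mvPowerSeries_hom φ (maximalIdeal R) (fun i => ?_) ?_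
    · rw [hXp, CAlgH3.maximalIdeal_mvPowerSeries_eq]
      exact Ideal.pow_mem_of_mem (Ideal.span (Set.range MvPowerSeries.X)) (Ideal.subset_span ⟨i, rfl⟩) p (Fact.out : p.Prime).pos
    · obtain ⟨M, hM⟩ : ∃ M, maximalIdeal R ^ M ≤ Ideal.span (Set.range fun i => φ (MvPowerSeries.X i)) := by
        refine Ideal.exists_pow_le_of_le_radical_of_fg ?_ (IsNoetherian.noetherian _)
        rw [CAlgH3.maximalIdeal_mvPowerSeries_eq, Ideal.span_le]
        rintro _ ⟨i, rfl⟩
        exact Ideal.mem_radical_iff.2 ⟨p, Ideal.subset_span ⟨i, hXp i⟩⟩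
      rw [show φ.comp MvPowerSeries.C = algebraMap k R from RingHom.ext fun c => MvPowerSeries.expand_C p hp0 c]
      haveI := finite_quotient_pow_maximalIdeal (k := k) (A := R) M
      haveI : Module.Finite k (R ⧸ Ideal.span (Set.range fun i => φ (MvPowerSeries.X i))) :=
        Module.Finite.of_surjective (Ideal.Quotient.factorₐ k hM).toLinearMap (Ideal.Quotient.factor_surjective hM)
      exact (RingHom.finite_algebraMap (A := k) (B := R ⧸ _)).2 this
  obtain ⟨M, s, hs⟩ : ∃ (M : ℕ) (s : Fin M → R), ∀ r : R, ∃ c : Fin M → R, r = ∑ j, φ (c j) * s j := by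
    exact exists_finite_decomposition φ hfin
  refine ⟨⟨Finset.univ.image fun j => KaehlerDifferential.D k R (s j), eq_top_iff.2
    ((KaehlerDifferential.span_range_derivation k R).ge.trans (Submodule.span_le.2 ?_))⟩⟩
  rintro _ ⟨r, rfl⟩
  obtain ⟨c, rfl⟩ := hs r
  rw [SetLike.mem_coe, map_sum]
  refine Submodule.sum_mem _ fun j _ => ?_
  have h0 : KaehlerDifferential.D k R (φ (c j)) = 0 := by
    obtain ⟨g, hg⟩ := hexp (c j)
    show KaehlerDifferential.D k R (MvPowerSeries.expand p hp0 (c j)) = 0
    rw [hg, map_sum]
    refine Finset.sum_eq_zero fun b _ => ?_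
    rw [Derivation.leibniz, Derivation.leibniz_pow, ← Nat.cast_smul_eq_nsmul R p, CharP.cast_eq_zero, zero_smul, smul_zero,
      show KaehlerDifferential.D k R (MvPowerSeries.C (β b)) = 0 from (KaehlerDifferential.D k R).map_algebraMap _,
      smul_zero, add_zero]
  rw [Derivation.leibniz, h0, smul_zero, add_zero]
  exact Submodule.smul_mem _ _ (Submodule.subset_span (by simp))

/-- In characteristic `p` with finite Frobenius, the variables' differentials generate. -/
theorem span_D_X_mvPowerSeries (hk : (frobenius k p).Finite) :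
    Submodule.span (MvPowerSeries (Fin n) k)
      (Set.range fun i => KaehlerDifferential.D k (MvPowerSeries (Fin n) k) (MvPowerSeries.X i)) = ⊤ := by
  let R := MvPowerSeries (Fin n) k
  haveI : IsRegularLocalRing R := (CAlgH.isRegularLocalRing_mvPowerSeries k n).1
  haveI := finite_kaehler_mvPowerSeries k n p hk
  let P : Submodule R Ω[R⁄k] := Submodule.span R (Set.range fun i => KaehlerDifferential.D k R (MvPowerSeries.X i))
  haveI : IsHausdorff (maximalIdeal R) (Ω[R⁄k] ⧸ P) :=
    IsHausdorff.of_le_jacobson (M := Ω[R⁄k] ⧸ P) (maximalIdeal R) (IsLocalRing.maximalIdeal_le_jacobson _)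
  refine eq_top_iff.2 ((KaehlerDifferential.span_range_derivation k R).ge.trans (Submodule.span_le.2 ?_))
  rintro _ ⟨r, rfl⟩
  exact (Submodule.Quotient.mk_eq_zero P).1 (derivation_eq_zero_mvPowerSeries
    (P.mkQ.compDer (KaehlerDifferential.D k R))
    (fun i => (Submodule.Quotient.mk_eq_zero P).2 (Submodule.subset_span ⟨i, rfl⟩)) r)

/-- A finite algebra over power series has finitely generated differentials. -/
theorem finite_kaehler_of_finite_mvPowerSeries (hk : (frobenius k p).Finite) (A : Type u) [CommRing A] [Algebra k A]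
    [Algebra (MvPowerSeries (Fin n) k) A] [IsScalarTower k (MvPowerSeries (Fin n) k) A]
    [Module.Finite (MvPowerSeries (Fin n) k) A] : Module.Finite A Ω[A⁄k] := by
  classical
  let R := MvPowerSeries (Fin n) k
  obtain ⟨M, s, hs⟩ := Module.Finite.exists_fin (R := R) (M := A)
  refine ⟨⟨(Finset.univ.image fun i => KaehlerDifferential.D k A (algebraMap R A (MvPowerSeries.X i))) ∪
    (Finset.univ.image fun j => KaehlerDifferential.D k A (s j)), eq_top_iff.2
    ((KaehlerDifferential.span_range_derivation k A).ge.trans (Submodule.span_le.2 ?_))⟩⟩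
  rintro _ ⟨a, rfl⟩
  have ha : a ∈ Submodule.span R (Set.range s) := hs ▸ Submodule.mem_top
  obtain ⟨c, rfl⟩ := (Submodule.mem_span_range_iff_exists_fun R).1 ha
  rw [SetLike.mem_coe, map_sum]
  refine Submodule.sum_mem _ fun j _ => ?_
  rw [Algebra.smul_def, Derivation.leibniz]
  refine add_mem (Submodule.smul_mem _ _ (Submodule.subset_span (Finset.mem_coe.2 (Finset.mem_union_right _
    (Finset.mem_image_of_mem _ (Finset.mem_univ j)))))) (Submodule.smul_mem _ _ ?_)
  rw [← KaehlerDifferential.map_D k k R A (c j)]
  have hc : KaehlerDifferential.D k R (c j) ∈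
      Submodule.span R (Set.range fun i => KaehlerDifferential.D k R (MvPowerSeries.X i)) :=
    span_D_X_mvPowerSeries k n p hk ▸ Submodule.mem_top
  have h2 := Submodule.mem_map_of_mem (f := KaehlerDifferential.map k k R A) hc
  rw [Submodule.map_span, ← Set.range_comp] at h2
  refine Submodule.span_mono ?_ (Submodule.span_le_restrictScalars R A _ h2)
  rintro _ ⟨i, rfl⟩
  rw [Finset.coe_union]
  exact Set.mem_union_left _ (Finset.mem_coe.2 (Finset.mem_image.2 ⟨i, Finset.mem_univ _,
    (KaehlerDifferential.map_D k k R A _).symm⟩))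

/-- The differentials of the fraction field of power series. -/
theorem finrank_kaehler_fractionRing (hk : (frobenius k p).Finite) (L : Type u) [Field L]
    [Algebra (MvPowerSeries (Fin n) k) L] [IsFractionRing (MvPowerSeries (Fin n) k) L] [Algebra k L]
    [IsScalarTower k (MvPowerSeries (Fin n) k) L] :
    Module.Finite L Ω[L⁄k] ∧ Module.finrank L Ω[L⁄k] = n := by
  classical
  let R := MvPowerSeries (Fin n) k
  let g : Fin n → Ω[L⁄k] := fun i => KaehlerDifferential.D k L (algebraMap R L (MvPowerSeries.X i))
  have hspan : Submodule.span L (Set.range g) = ⊤ := by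
    have h := span_eq_top_of_isLocalizedModule L (nonZeroDivisors R) (KaehlerDifferential.map k k R L)
      (v := Set.range fun i => KaehlerDifferential.D k R (MvPowerSeries.X i)) (span_D_X_mvPowerSeries k n p hk)
    rw [← Set.range_comp] at h
    rw [← h]
    congr 1
    exact congrArg Set.range (funext fun i => (KaehlerDifferential.map_D k k R L _).symm)
  haveI : Module.Finite L Ω[L⁄k] := ⟨by rw [← hspan]; exact Submodule.fg_span (Set.finite_range g)⟩
  refine ⟨inferInstance, le_antisymm ?_ ?_⟩
  · have h1 := finrank_range_le_card (R := L) (b := g)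
    rw [Set.finrank, hspan, finrank_top, Fintype.card_fin] at h1
    exact h1
  · obtain ⟨f, hf⟩ := exists_surjective_kaehler_fractionRing k n L
    have h1 := LinearMap.finrank_le_finrank_of_injective (f := f.dualMap) (LinearMap.dualMap_injective_of_surjective hf)
    rwa [Subspace.dual_finrank_eq, Subspace.dual_finrank_eq, Module.finrank_fin_fun] at h1

end Groth.Agent.CommAlg6
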