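import Groth.Agent.Pure6.Closed

set_option autoImplicit false
universe u

open AlgebraicGeometry CategoryTheory Opposite

namespace Groth.Agent.CommAlg6.PushCompl

open Groth.Agent.Pure6 (Fam IsLocFrac)

variable {A : Type u} [CommRing A] (J : Ideal A) (M : Type u) [AddCommGroup M] [Module A M]

/-- Families of germs off `V(J)`. -/
abbrev Germs : Type u :=
  ∀ x : {p : _root_.PrimeSpectrum A // ¬ J ≤ p.asIdeal}, LocalizedModule x.1.asIdeal.primeCompl M

variable {J M} in
/-- The curried family. -/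
def curry (σ : Germs J M) : Fam J M := fun p hp => σ ⟨p, hp⟩

/-- Sections of `M~` off `V(J)`, as families of germs. -/
def Secs : Submodule A (Germs J M) where
  carrier := {σ | IsLocFrac (curry σ)}
  add_mem' := by
    intro σ τ hσ hτ p hp
    obtain ⟨r, s, hsJ, hs, hr⟩ := hσ p hp
    obtain ⟨r', s', _, hs', hr'⟩ := hτ p hp
    refine ⟨s' • r + s • r', s * s', J.mul_mem_right _ hsJ,
      fun h => (p.2.mem_or_mem h).elim hs hs', fun q hq h => ?_⟩
    have h1 : s ∉ q.asIdeal := fun hh => h (q.asIdeal.mul_mem_right _ hh)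
    have h2 : s' ∉ q.asIdeal := fun hh => h (q.asIdeal.mul_mem_left _ hh)
    show curry σ q hq + curry τ q hq = _
    rw [hr q hq h1, hr' q hq h2, LocalizedModule.mk_add_mk]
    rfl
  zero_mem' := by
    intro p hp
    obtain ⟨s, hs, hsp⟩ := SetLike.not_le_iff_exists.mp hp
    exact ⟨0, s, hs, hsp, fun q hq h => (LocalizedModule.zero_mk _).symm⟩
  smul_mem' := by
    intro c σ hσ p hp
    obtain ⟨r, s, hsJ, hs, hr⟩ := hσ p hp
    exact ⟨c • r, s, hsJ, hs, fun q hq h => by
      show c • curry σ q hq = _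
      rw [hr q hq h, LocalizedModule.smul'_mk]⟩

theorem mem_Secs {σ : Germs J M} : σ ∈ Secs J M ↔ IsLocFrac (curry σ) := Iff.rfl

noncomputable abbrev ρ : A →+* (Spec (CommRingCat.of A)).ringCatSheaf.obj.obj (op ⊤) :=
  (Scheme.ΓSpecIso (CommRingCat.of A)).inv.hom

theorem ρ_bijective : Function.Bijective (ρ (A := A)) :=
  (Scheme.ΓSpecIso (CommRingCat.of A)).commRingCatIsoToRingEquiv.symm.bijective

/-- Families of germs as sections over `Spec A ∖ V(J)`. -/
noncomputable def toSect : Secs J M →ₛₗ[ρ (A := A)] (((ModuleCat.restrictScalars ((Spec (CommRingCat.of A)).ringCatSheaf.obj.map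
        (homOfLE (le_top : EGA4.openCompl A J ≤ ⊤)).op).hom).obj
      ((EGA4.tildeOf A M).val.obj (op (EGA4.openCompl A J))))) where
  toFun σ := (⟨fun x => σ.1 ⟨x.1, x.2⟩, fun x => by
      obtain ⟨r, s, hsJ, hs, hr⟩ := σ.2 x.1 x.2
      exact ⟨PrimeSpectrum.basicOpen s ⊓ EGA4.openCompl A J, ⟨hs, x.2⟩, homOfLE inf_le_right, r, s,
        fun y => ⟨y.2.1, hr y.1 y.2.2 y.2.1⟩⟩⟩ : (EGA4.tildeOf A M).val.obj (op (EGA4.openCompl A J)))
  map_add' σ τ := Subtype.ext (funext fun x => rfl)
  map_smul' a σ := Subtype.ext (funext fun x => (algebraMap_smul (Localization.AtPrime x.1.asIdeal) a _).symm)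

theorem toSect_bijective : Function.Bijective (toSect J M) := by
  constructor
  · intro σ τ h
    exact Subtype.ext (funext fun x => congrFun (congrArg Subtype.val h) ⟨x.1, x.2⟩)
  · intro sec
    refine ⟨⟨fun x => sec.1 ⟨x.1, x.2⟩, fun p hp => ?_⟩, Subtype.ext (funext fun x => rfl)⟩
    obtain ⟨V, hpV, i, r, s, hr⟩ := sec.2 ⟨p, hp⟩
    obtain ⟨B, ⟨g, rfl⟩, hgp, hgV⟩ := PrimeSpectrum.isTopologicalBasis_basic_opens.exists_subset_of_mem_open
      hpV V.2
    obtain ⟨e, he, he'⟩ := SetLike.not_le_iff_exists.1 hp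
    obtain ⟨hsp, -⟩ := hr ⟨p, hpV⟩
    refine ⟨(g * e) • r, g * e * s, J.mul_mem_right _ (J.mul_mem_left _ he),
      fun hmem => (p.2.mem_or_mem hmem).elim (fun hge => (p.2.mem_or_mem hge).elim hgp he') hsp,
      fun q hq hs => ?_⟩
    have hgeq : g * e ∉ q.asIdeal := fun hmem => hs (q.asIdeal.mul_mem_right _ hmem)
    have hgq : g ∉ q.asIdeal := fun hmem => hgeq (q.asIdeal.mul_mem_right _ hmem)
    obtain ⟨hsq, e1⟩ := hr ⟨q, hgV hgq⟩
    refine (show sec.1 ⟨q, hq⟩ = LocalizedModule.mk r ⟨s, hsq⟩ from e1).trans ?_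
    rw [LocalizedModule.mk_eq]
    exact ⟨1, by simp [Submonoid.smul_def, smul_smul, mul_comm]⟩

/-- Coherence of the direct image is finiteness of the module of families. -/
theorem isCoherentPushCompl_iff : EGA4.IsCoherentPushCompl A J M ↔ Module.Finite A (Secs J M) := by
  haveI : RingHomSurjective (ρ (A := A)) := ⟨ρ_bijective.2⟩
  constructor
  · intro h
    haveI : Module.Finite _ _ := h
    let e := RingEquiv.ofBijective (ρ (A := A)) ρ_bijective
    let g := Equiv.ofBijective _ (toSect_bijective J M)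
    haveI : RingHomSurjective (e.symm.toRingHom) := ⟨e.symm.surjective⟩
    refine Module.Finite.of_surjective (σ := e.symm.toRingHom) (M := ((ModuleCat.restrictScalars ((Spec (CommRingCat.of A)).ringCatSheaf.obj.map
        (homOfLE (le_top : EGA4.openCompl A J ≤ ⊤)).op).hom).obj
      ((EGA4.tildeOf A M).val.obj (op (EGA4.openCompl A J)))))
      { toFun := g.symm
        map_add' := fun x y => (toSect_bijective J M).1 (by
          rw [map_add (toSect J M)]
          exact (g.apply_symm_apply _).trans (congrArg₂ (· + ·) (g.apply_symm_apply x).symm (g.apply_symm_apply y).symm))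
        map_smul' := fun r x => (toSect_bijective J M).1 (by
          rw [map_smulₛₗ (toSect J M)]
          refine (g.apply_symm_apply _).trans ?_
          rw [show toSect J M (g.symm x) = x from g.apply_symm_apply x]
          exact congrArg (· • x) (e.apply_symm_apply r).symm) } g.symm.surjective
  · intro h
    exact Module.Finite.of_surjective (toSect J M) (toSect_bijective J M).2

end Groth.Agent.CommAlg6.PushCompl
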