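import Groth.Agent.CommAlg6.PushCompl
import Groth.Agent.CAlgMisc2.TorsionFree
import Mathlib.RingTheory.Ideal.KrullsHeightTheorem
import Mathlib.RingTheory.Ideal.MinimalPrime.Noetherian
import Mathlib.RingTheory.Ideal.GoingUp

/-! Finiteness of sections off a closed set. -/

set_option autoImplicit false
universe u

namespace Groth.Agent.CommAlg6.PushCompl

open Groth.Agent.Pure6 (IsLocFrac extIdeal not_extIdeal_le exists_pow_smul_eq_zero)

variable {A : Type u} [CommRing A] (J : Ideal A)

section functorial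

variable {M N P : Type u} [AddCommGroup M] [Module A M] [AddCommGroup N] [Module A N] [AddCommGroup P] [Module A P]

noncomputable def gmap (φ : M →ₗ[A] N) (q : Ideal A) [q.IsPrime] :
    LocalizedModule q.primeCompl M →ₗ[A] LocalizedModule q.primeCompl N :=
  IsLocalizedModule.map q.primeCompl (LocalizedModule.mkLinearMap _ M) (LocalizedModule.mkLinearMap _ N) φ

theorem gmap_mk (φ : M →ₗ[A] N) (q : Ideal A) [q.IsPrime] (r : M) (s : q.primeCompl) :
    gmap φ q (LocalizedModule.mk r s) = LocalizedModule.mk (φ r) s := by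
  rw [IsLocalizedModule.mk_eq_mk', gmap, IsLocalizedModule.map_mk', ← IsLocalizedModule.mk_eq_mk']

theorem gmap_injective (φ : M →ₗ[A] N) (hφ : Function.Injective φ) (q : Ideal A) [q.IsPrime] :
    Function.Injective (gmap φ q) :=
  IsLocalizedModule.map_injective q.primeCompl _ _ φ hφ

/-- The induced map on sections. -/
noncomputable def mapSecs (φ : M →ₗ[A] N) : Secs J M →ₗ[A] Secs J N :=
  LinearMap.codRestrict (Secs J N)
    ((LinearMap.pi fun x => (gmap φ x.1.asIdeal).comp (LinearMap.proj x)).comp (Secs J M).subtype)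
    (fun σ p hp => by
      obtain ⟨r, s, hsJ, hs, hr⟩ := σ.2 p hp
      refine ⟨φ r, s, hsJ, hs, fun q hq h => ?_⟩
      show gmap φ q.asIdeal (curry σ.1 q hq) = _
      rw [hr q hq h, gmap_mk])

theorem mapSecs_apply (φ : M →ₗ[A] N) (σ : Secs J M) (x) :
    (mapSecs J φ σ).1 x = gmap φ x.1.asIdeal (σ.1 x) := rfl

theorem mapSecs_injective (φ : M →ₗ[A] N) (hφ : Function.Injective φ) : Function.Injective (mapSecs J φ) :=
  fun σ τ h => Subtype.ext (funext fun x => gmap_injective φ hφ x.1.asIdeal (by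
    rw [← mapSecs_apply, ← mapSecs_apply, h]))

theorem finite_of_injective [IsNoetherianRing A] (φ : M →ₗ[A] N) (hφ : Function.Injective φ)
    [Module.Finite A (Secs J N)] : Module.Finite A (Secs J M) :=
  haveI := isNoetherian_of_isNoetherianRing_of_finite A (Secs J N)
  Module.Finite.of_injective _ (mapSecs_injective J φ hφ)

theorem ker_mapSecs_le (f : M →ₗ[A] N) (g : N →ₗ[A] P) (hf : Function.Injective f) (hfg : Function.Exact f g) :
    LinearMap.ker (mapSecs J g) ≤ LinearMap.range (mapSecs J f) := by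
  intro σ hσ
  have hlift : ∀ x, ∃ y, gmap f x.1.asIdeal y = σ.1 x := fun x => by
    obtain ⟨n, s, hns⟩ : ∃ n s, LocalizedModule.mk n s = σ.1 x := by
      induction σ.1 x using LocalizedModule.induction_on with
      | h n s => exact ⟨n, s, rfl⟩
    have h0 : gmap g x.1.asIdeal (σ.1 x) = 0 := congrFun (congrArg Subtype.val (LinearMap.mem_ker.mp hσ)) x
    rw [← hns, gmap_mk, ← LocalizedModule.zero_mk s, LocalizedModule.mk_eq] at h0
    obtain ⟨u, hu⟩ := h0
    simp only [smul_zero, Submonoid.smul_def, smul_smul] at hu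
    rw [← map_smul] at hu
    obtain ⟨m, hm⟩ := (hfg _).mp hu
    refine ⟨LocalizedModule.mk m (u * s * s), ?_⟩
    rw [gmap_mk, hm, ← hns, LocalizedModule.mk_eq]
    exact ⟨1, by simp only [Submonoid.smul_def, OneMemClass.coe_one, one_smul, smul_smul, Submonoid.coe_mul]; ring_nf⟩
  choose τ hτ using hlift
  refine ⟨⟨τ, fun p hp => ?_⟩, Subtype.ext (funext fun x => hτ x)⟩
  obtain ⟨n, s, hsJ, hs, hr⟩ := σ.2 p hp
  obtain ⟨k, hk⟩ : ∃ k : ℕ, s ^ k • g n = 0 := exists_pow_smul_eq_zero fun q hq => by
    have hqJ : ¬ J ≤ q.asIdeal := fun h => hq (h hsJ)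
    have h0 : gmap g q.asIdeal (σ.1 ⟨q, hqJ⟩) = 0 :=
      congrFun (congrArg Subtype.val (LinearMap.mem_ker.mp hσ)) ⟨q, hqJ⟩
    rw [show σ.1 ⟨q, hqJ⟩ = curry σ.1 q hqJ from rfl, hr q hqJ hq, gmap_mk,
      ← LocalizedModule.zero_mk ⟨s, hq⟩, LocalizedModule.mk_eq] at h0
    obtain ⟨u, hu⟩ := h0
    simp only [smul_zero, Submonoid.smul_def, smul_smul] at hu
    exact ⟨u * s, fun hmem => (q.2.mem_or_mem hmem).elim u.2 hq, hu⟩
  rw [← map_smul] at hk
  obtain ⟨m, hm⟩ := (hfg _).mp hk
  refine ⟨m, s ^ (k + 1), Ideal.pow_mem_of_mem J hsJ _ k.succ_pos,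
    fun h => hs (p.2.mem_of_pow_mem _ h), fun q hq h => gmap_injective f hf q.asIdeal ?_⟩
  have hsq : s ∉ q.asIdeal := fun h' => h (Ideal.pow_mem_of_mem _ h' _ k.succ_pos)
  refine (hτ ⟨q, hq⟩).trans ?_
  rw [show σ.1 ⟨q, hq⟩ = curry σ.1 q hq from rfl, hr q hq hsq, gmap_mk, hm, LocalizedModule.mk_eq]
  exact ⟨1, by simp only [Submonoid.smul_def, OneMemClass.coe_one, one_smul, smul_smul, pow_succ]; ring_nf⟩

/-- Finiteness passes to extensions. -/
theorem finite_of_exact (f : M →ₗ[A] N) (g : N →ₗ[A] P) (hf : Function.Injective f)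
    (hfg : Function.Exact f g) [IsNoetherianRing A] [Module.Finite A (Secs J M)] [Module.Finite A (Secs J P)] :
    Module.Finite A (Secs J N) := by
  haveI := isNoetherian_of_isNoetherianRing_of_finite A (Secs J M)
  haveI := isNoetherian_of_isNoetherianRing_of_finite A (Secs J P)
  have h1 : (LinearMap.ker (mapSecs J g)).FG :=
    Module.Finite.iff_fg.mp (Module.Finite.of_injective
      (Submodule.inclusion (ker_mapSecs_le J f g hf hfg)) (Submodule.inclusion_injective _))
  refine ⟨Submodule.fg_of_fg_map_of_fg_inf_ker (mapSecs J g) ?_ (by rwa [top_inf_eq])⟩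
  exact IsNoetherian.noetherian _

/-- Finite powers. -/
theorem finite_pi [IsNoetherianRing A] [Module.Finite A (Secs J M)] (n : ℕ) :
    Module.Finite A (Secs J (Fin n → M)) := by
  haveI := isNoetherian_of_isNoetherianRing_of_finite A (Secs J M)
  refine Module.Finite.of_injective (LinearMap.pi fun i => mapSecs J (LinearMap.proj (R := A) (φ := fun _ : Fin n => M) i)) ?_
  rw [injective_iff_map_eq_zero]
  intro σ hσ
  refine Subtype.ext (funext fun x => ?_)
  have h0 : ∀ i, gmap (LinearMap.proj (R := A) (φ := fun _ : Fin n => M) i) x.1.asIdeal (σ.1 x) = 0 :=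
    fun i => congrFun (congrArg Subtype.val (congrFun hσ i)) x
  show σ.1 x = 0
  revert h0
  induction σ.1 x using LocalizedModule.induction_on with
  | h m s =>
    intro h0
    have h1 : ∀ i, ∃ u : x.1.asIdeal.primeCompl, (u : A) • m i = 0 := fun i => by
      have h := h0 i
      rw [gmap_mk, ← LocalizedModule.zero_mk s, LocalizedModule.mk_eq] at h
      obtain ⟨u, hu⟩ := h
      simp only [smul_zero, Submonoid.smul_def, smul_smul] at hu
      exact ⟨u * s, by rw [Submonoid.coe_mul]; exact hu⟩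
    choose u hu using h1
    rw [← LocalizedModule.zero_mk s, LocalizedModule.mk_eq]
    refine ⟨∏ i, u i, ?_⟩
    simp only [smul_zero, Submonoid.smul_def, smul_smul]
    funext i
    obtain ⟨c, hc⟩ := Finset.dvd_prod_of_mem u (Finset.mem_univ i)
    rw [Pi.smul_apply, Pi.zero_apply, hc, Submonoid.coe_mul,
      show ((u i : A) * (c : A)) * (s : A) = ((c : A) * (s : A)) * (u i : A) by ring, mul_smul, hu i, smul_zero]

theorem subsingleton_secs (h : ∀ q : PrimeSpectrum A, ¬ J ≤ q.asIdeal → ∀ m : M, ∃ s ∉ q.asIdeal, s • m = 0) :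
    Subsingleton (Secs J M) := by
  refine ⟨fun σ τ => Subtype.ext (funext fun x => ?_)⟩
  haveI : Subsingleton (LocalizedModule x.1.asIdeal.primeCompl M) :=
    LocalizedModule.subsingleton_iff.mpr fun m => by
      obtain ⟨s, hs, hsm⟩ := h x.1 x.2 m
      exact ⟨s, hs, hsm⟩
  exact Subsingleton.elim _ _

end functorial

section domain

variable (B : Type u) [CommRing B] [IsDomain B] [Algebra A B]

/-- The sections of a domain quotient off `V(J)`, inside the fraction field. -/
def cSub : Subalgebra B (FractionRing B) where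
  carrier := {f | ∃ k : ℕ, ∀ a ∈ J ^ k, ∃ b : B,
    algebraMap B (FractionRing B) b = algebraMap B (FractionRing B) (algebraMap A B a) * f}
  mul_mem' := by
    rintro x y ⟨k, hk⟩ ⟨l, hl⟩
    refine ⟨k + l, fun a ha => ?_⟩
    rw [pow_add] at ha
    refine Submodule.mul_induction_on ha (fun c hc d hd => ?_) (fun c d hc hd => ?_)
    · obtain ⟨b, hb⟩ := hk c hc
      obtain ⟨b', hb'⟩ := hl d hd
      exact ⟨b * b', by rw [map_mul, map_mul, map_mul, hb, hb']; ring⟩
    · obtain ⟨b, hb⟩ := hc
      obtain ⟨b', hb'⟩ := hd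
      exact ⟨b + b', by rw [map_add, map_add, map_add, hb, hb', add_mul]⟩
  add_mem' := by
    rintro x y ⟨k, hk⟩ ⟨l, hl⟩
    refine ⟨k + l, fun a ha => ?_⟩
    obtain ⟨b, hb⟩ := hk a (Ideal.pow_le_pow_right (Nat.le_add_right k l) ha)
    obtain ⟨b', hb'⟩ := hl a (Ideal.pow_le_pow_right (Nat.le_add_left l k) ha)
    exact ⟨b + b', by rw [map_add, hb, hb', mul_add]⟩
  algebraMap_mem' := fun r => ⟨0, fun a _ => ⟨algebraMap A B a * r, by rw [map_mul]⟩⟩

variable {B}

variable (A B) in
/-- The generic point of `Spec B`, in `Spec A`. -/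
def kerPt : PrimeSpectrum A := ⟨RingHom.ker (algebraMap A B), RingHom.ker_isPrime _⟩

noncomputable def evalLift (h : ¬ J ≤ (kerPt A B).asIdeal) :
    Secs J B →ₗ[A] FractionRing B :=
  (LocalizedModule.lift (kerPt A B).asIdeal.primeCompl
    ((Algebra.linearMap B (FractionRing B)).restrictScalars A) (fun s => by
      rw [Module.End.isUnit_iff]
      have hs : algebraMap A (FractionRing B) (s : A) ≠ 0 := by
        rw [IsScalarTower.algebraMap_apply A B (FractionRing B)]
        exact fun h0 => s.2 (RingHom.mem_ker.mpr (IsFractionRing.injective B (FractionRing B) (h0.trans (map_zero _).symm)))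
      constructor
      · intro x y hxy
        simp only [Module.algebraMap_end_apply, Algebra.smul_def] at hxy
        exact mul_left_cancel₀ hs hxy
      · intro z
        refine ⟨z / algebraMap A (FractionRing B) (s : A), ?_⟩
        rw [Module.algebraMap_end_apply, Algebra.smul_def, mul_div_cancel₀ z hs])).comp
    ((LinearMap.proj (⟨kerPt A B, h⟩ :
      {p : PrimeSpectrum A // ¬ J ≤ p.asIdeal})).comp (Secs J B).subtype)

theorem evalLift_mk (h : ¬ J ≤ (kerPt A B).asIdeal) (σ : Secs J B) (r : B) (s : A)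
    (hs : s ∉ (kerPt A B).asIdeal)
    (hσ : curry σ.1 (kerPt A B) h = LocalizedModule.mk r ⟨s, hs⟩) :
    algebraMap A (FractionRing B) s * evalLift J h σ = algebraMap B (FractionRing B) r := by
  rw [evalLift, LinearMap.comp_apply, LinearMap.comp_apply, LinearMap.proj_apply, Submodule.subtype_apply]
  rw [show σ.1 ⟨kerPt A B, h⟩ = _ from hσ, LocalizedModule.lift_mk, ← Algebra.smul_def, ← Module.algebraMap_end_apply (R := A) (S := A)]
  exact Module.End.isUnit_apply_inv_apply_of_isUnit _ _ |>.trans rfl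

theorem evalLift_injective (hsurj : Function.Surjective (algebraMap A B))
    (h : ¬ J ≤ (kerPt A B).asIdeal) : Function.Injective (evalLift J h) := by
  rw [injective_iff_map_eq_zero]
  intro σ hσ
  refine Subtype.ext (funext fun ⟨q, hq⟩ => ?_)
  obtain ⟨r, s, hsJ, hs, hr⟩ := σ.2 q hq
  show curry σ.1 q hq = 0
  rw [hr q hq hs]
  by_cases hker : (kerPt A B).asIdeal ≤ q.asIdeal
  · have h1 := evalLift_mk J h σ r s (fun h0 => hs (hker h0)) (hr _ h fun h0 => hs (hker h0))
    rw [hσ, mul_zero] at h1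
    rw [IsFractionRing.injective B (FractionRing B) (h1.symm.trans (map_zero _).symm), LocalizedModule.zero_mk]
  · obtain ⟨a, ha, haq⟩ := SetLike.not_le_iff_exists.mp hker
    rw [← LocalizedModule.zero_mk ⟨s, hs⟩, LocalizedModule.mk_eq]
    refine ⟨⟨a, haq⟩, ?_⟩
    simp only [smul_zero, Submonoid.smul_def]
    rw [Algebra.smul_def, RingHom.mem_ker.mp ha, zero_mul]

theorem range_evalLift [IsNoetherianRing A] (hsurj : Function.Surjective (algebraMap A B))
    (h : ¬ J ≤ (kerPt A B).asIdeal) :
    (LinearMap.range (evalLift J h) : Set (FractionRing B)) = (cSub J B : Set (FractionRing B)) := by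
  classical
  ext f
  constructor
  · rintro ⟨σ, rfl⟩
    have hrad : J ≤ (extIdeal (curry σ.1)).radical := by
      rw [Ideal.radical_eq_sInf]
      refine le_sInf ?_
      rintro q ⟨hle, hq⟩
      by_contra hne
      exact not_extIdeal_le σ.2 ⟨q, hq⟩ hne hle
    obtain ⟨k, hk⟩ := Ideal.exists_pow_le_of_le_radical_of_fg hrad (IsNoetherian.noetherian _)
    refine ⟨k, fun a ha => ?_⟩
    obtain ⟨m, hm⟩ := hk ha
    refine ⟨m, ?_⟩
    have h1 := evalLift_mk J h (a • σ) m 1 ((Ideal.ne_top_iff_one _).mp (kerPt A B).2.ne_top)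
      (hm (kerPt A B) h)
    rw [map_one, one_mul, map_smul, Algebra.smul_def] at h1
    rw [← h1, ← IsScalarTower.algebraMap_apply]
  · rintro ⟨k, hk⟩
    have hk1 : ∀ a ∈ J ^ (k + 1), ∃ b : B,
        algebraMap B (FractionRing B) b = algebraMap B (FractionRing B) (algebraMap A B a) * f :=
      fun a ha => hk a (Ideal.pow_le_pow_right k.le_succ ha)
    choose! b hb using hk1
    have hex : ∀ x : {p : PrimeSpectrum A // ¬ J ≤ p.asIdeal}, ∃ a ∈ J ^ (k + 1), a ∉ x.1.asIdeal := fun x =>
      SetLike.not_le_iff_exists.mp fun hle => x.2 ((Ideal.IsPrime.pow_le_iff k.succ_ne_zero).mp hle)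
    choose a ha haq using hex
    have hloc : ∀ (x : {p : PrimeSpectrum A // ¬ J ≤ p.asIdeal}) (a' : A) (ha' : a' ∈ J ^ (k + 1))
        (haq' : a' ∉ x.1.asIdeal), (LocalizedModule.mk (b (a x)) ⟨a x, haq x⟩ :
          LocalizedModule x.1.asIdeal.primeCompl B) = LocalizedModule.mk (b a') ⟨a', haq'⟩ := by
      intro x a' ha' haq'
      rw [LocalizedModule.mk_eq]
      refine ⟨1, ?_⟩
      simp only [Submonoid.smul_def, OneMemClass.coe_one, one_smul, Algebra.smul_def]
      refine IsFractionRing.injective B (FractionRing B) ?_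
      rw [map_mul, map_mul, hb _ (ha x), hb _ ha']
      ring
    let σ : Secs J B := ⟨fun x => LocalizedModule.mk (b (a x)) ⟨a x, haq x⟩, fun p hp =>
      ⟨b (a ⟨p, hp⟩), a ⟨p, hp⟩, Ideal.pow_le_self k.succ_ne_zero (ha ⟨p, hp⟩), haq ⟨p, hp⟩,
        fun q hq hs => hloc ⟨q, hq⟩ _ (ha ⟨p, hp⟩) hs⟩⟩
    refine ⟨σ, ?_⟩
    let x0 : {p : PrimeSpectrum A // ¬ J ≤ p.asIdeal} := ⟨kerPt A B, h⟩
    have hne : algebraMap A B (a x0) ≠ 0 := fun h0 => haq x0 (RingHom.mem_ker.mpr h0)
    have h1 := evalLift_mk J h σ (b (a x0)) (a x0) (haq x0) rfl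
    rw [hb _ (ha x0), ← IsScalarTower.algebraMap_apply] at h1
    exact mul_left_cancel₀ (by
      rw [IsScalarTower.algebraMap_apply A B (FractionRing B)]
      exact (map_ne_zero_iff _ (IsFractionRing.injective B (FractionRing B))).mpr hne) h1

theorem finite_secs_iff [IsNoetherianRing A] (hsurj : Function.Surjective (algebraMap A B))
    (h : ¬ J ≤ (kerPt A B).asIdeal) :
    Module.Finite A (Secs J B) ↔ Module.Finite B (cSub J B) := by
  haveI : Module.Finite A B := Module.Finite.of_surjective (Algebra.linearMap A B) hsurj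
  let e : Secs J B ≃ₗ[A] cSub J B :=
    LinearEquiv.ofBijective
      { toFun := fun σ => (⟨evalLift J h σ, (Set.ext_iff.mp (range_evalLift J hsurj h) _).mp ⟨σ, rfl⟩⟩ : cSub J B)
        map_add' := fun x y => Subtype.ext (map_add _ x y)
        map_smul' := fun c x => Subtype.ext (map_smul _ c x) }
      ⟨fun x y hxy => evalLift_injective J hsurj h (congrArg Subtype.val hxy),
       fun f => by
        obtain ⟨σ, hσ⟩ := (Set.ext_iff.mp (range_evalLift J hsurj h) f.1).mpr f.2
        exact ⟨σ, Subtype.ext hσ⟩⟩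
  constructor
  · intro hfin
    haveI : Module.Finite A (cSub J B) := Module.Finite.equiv e
    exact Module.Finite.of_restrictScalars_finite A B _
  · intro hfin
    haveI : Module.Finite A (cSub J B) := Module.Finite.trans B _
    exact Module.Finite.equiv e.symm

/-- The sections are finite only if `V(J)` has codimension at least two. -/
theorem two_le_height_of_finite [IsNoetherianRing B] (hJ : J.map (algebraMap A B) ≠ ⊥)
    [Module.Finite B (cSub J B)] : (2 : ℕ∞) ≤ (J.map (algebraMap A B)).height := by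
  classical
  let I := J.map (algebraMap A B)
  let L := FractionRing B
  by_contra hlt
  obtain ⟨Q, hQmin, hQ2⟩ : ∃ Q ∈ I.minimalPrimes, Q.height < 2 := by
    by_contra hne
    push Not at hne
    apply hlt
    rw [Ideal.height_eq_inf_minimalPrimes]
    exact le_iInf₂ hne
  haveI := hQmin.1.1
  have hQ0 : Q ≠ ⊥ := fun h => hJ (le_bot_iff.mp (h ▸ hQmin.1.2))
  have hq : Q.height ≤ 1 := by
    rw [← one_add_one_eq_two] at hQ2
    exact (ENat.lt_add_one_iff ENat.one_ne_top).mp hQ2
  obtain ⟨x, hxq, hx0⟩ := Submodule.exists_mem_ne_zero_of_ne_bot hQ0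
  have hmin : Q ∈ (Ideal.span {x}).minimalPrimes := by
    refine ⟨⟨inferInstance, (Ideal.span_singleton_le_iff_mem _).mpr hxq⟩, fun P hP hPq => ?_⟩
    haveI := hP.1
    by_contra hne
    have h1 := (Ideal.height_strict_mono_of_isPrime (I := P) (lt_of_le_not_ge hPq hne)).trans_le hq
    rw [ENat.lt_one_iff_eq_zero] at h1
    have hP0 : P = ⊥ := by
      by_contra hne'
      have := Ideal.height_strict_mono_of_isPrime (I := (⊥ : Ideal B)) (bot_lt_iff_ne_bot.mpr hne')
      rw [h1] at this
      exact not_lt_zero this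
    exact hx0 (Ideal.mem_bot.mp (hP0 ▸ hP.2 (Ideal.mem_span_singleton_self x)))
  obtain ⟨c, hc, hcq⟩ : ∃ c : B, (∀ P ∈ (Ideal.span {x}).minimalPrimes, P ≠ Q → c ∈ P) ∧ c ∉ Q := by
    let s := ((Ideal.span {x}).finite_minimalPrimes_of_isNoetherianRing).toFinset.erase Q
    have hns : ¬ s.inf id ≤ Q := fun hle => by
      obtain ⟨P, hPs, hPq⟩ := (Ideal.IsPrime.inf_le' ‹Q.IsPrime›).mp hle
      obtain ⟨hne, hP⟩ := Finset.mem_erase.mp hPs
      have hP' := Set.Finite.mem_toFinset _ |>.mp hP
      exact hne (le_antisymm hPq (hmin.2 hP'.1 hPq))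
    obtain ⟨c, hc, hcq⟩ := SetLike.not_le_iff_exists.mp hns
    exact ⟨c, fun P hP hne => Finset.inf_le (f := id) (Finset.mem_erase.mpr
      ⟨hne, (Set.Finite.mem_toFinset _).mpr hP⟩) hc, hcq⟩
  have hrad : Ideal.span {c} * Q ≤ (Ideal.span {x}).radical := by
    rw [← Ideal.sInf_minimalPrimes]
    refine le_sInf fun P hP => ?_
    by_cases hPq : P = Q
    · exact hPq ▸ Ideal.mul_le_right
    · exact Ideal.mul_le_left.trans ((Ideal.span_singleton_le_iff_mem _).mpr (hc P hP hPq))
  obtain ⟨k, hk⟩ := Ideal.exists_pow_le_of_le_radical_of_fg hrad (IsNoetherian.noetherian _)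
  have hxL : algebraMap B L x ≠ 0 := fun h => hx0 (IsFractionRing.injective B L (h.trans (map_zero _).symm))
  have hf : algebraMap B L (c ^ k) / algebraMap B L x ∈ cSub J B := by
    refine ⟨k, fun a ha => ?_⟩
    have h1 : algebraMap A B a ∈ Q ^ k := by
      refine Ideal.pow_right_mono hQmin.1.2 k ?_
      rw [← Ideal.map_pow]
      exact Ideal.mem_map_of_mem _ ha
    have h2 : c ^ k * algebraMap A B a ∈ Ideal.span {x} := hk (by
      rw [mul_pow, Ideal.span_singleton_pow]
      exact Ideal.mul_mem_mul (Ideal.mem_span_singleton_self _) h1)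
    obtain ⟨b, hb⟩ := Ideal.mem_span_singleton'.mp h2
    refine ⟨b, ?_⟩
    rw [mul_div_assoc', eq_div_iff hxL, ← map_mul, ← map_mul, hb, mul_comm]
  obtain ⟨P, hP, hPq⟩ := Ideal.exists_ideal_over_prime_of_isIntegral_of_isDomain
    (S := cSub J B) Q (by
      rw [(RingHom.injective_iff_ker_eq_bot _).mp
        (fun a b h => IsFractionRing.injective B L (congrArg Subtype.val h))]
      exact bot_le)
  have h1 : algebraMap B (cSub J B) (c ^ k) = algebraMap B (cSub J B) x * ⟨_, hf⟩ := Subtype.ext (by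
    show algebraMap B L (c ^ k) = algebraMap B L x * _
    rw [mul_div_cancel₀ _ hxL])
  have h2 : c ^ k ∈ Q := by
    rw [← hPq, Ideal.mem_comap, h1]
    exact Ideal.mul_mem_right _ _ (by rw [← Ideal.mem_comap, hPq]; exact hxq)
  exact hcq (Ideal.IsPrime.mem_of_pow_mem ‹_› _ h2)

end domain

section devissage

variable [IsNoetherianRing A]

theorem mem_of_smul_mem {M : Type u} [AddCommGroup M] [Module A M] {p : Ideal A} (hreg : ∀ s ∉ p, IsSMulRegular M s)
    {q : Ideal A} {s : A} (hs : s ∉ p) {m : M} (h : ∀ a ∈ q, a • (s • m) = 0) : ∀ a ∈ q, a • m = 0 :=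
  fun a ha => (hreg s hs).right_eq_zero_of_smul (by rw [smul_comm]; exact h a ha)

/-- Modules killed by a prime, with regular complement, embed in a power of the quotient. -/
theorem finite_killed (p : Ideal A) [p.IsPrime] [Module.Finite A (Secs J (A ⧸ p))] (N : Type u) [AddCommGroup N]
    [Module A N] [Module.Finite A N] (hreg : ∀ s ∉ p, IsSMulRegular N s)
    (hp : ∀ a ∈ p, ∀ n : N, a • n = 0) : Module.Finite A (Secs J N) := by
  have htor : Module.IsTorsionBySet A N (p : Set A) := fun n a => hp a a.2 n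
  letI := htor.module
  haveI : IsScalarTower A (A ⧸ p) N := htor.isScalarTower
  haveI : Module.Finite (A ⧸ p) N := Module.Finite.of_restrictScalars_finite A _ _
  haveI : Module.IsTorsionFree (A ⧸ p) N := .of_smul_eq_zero fun r n hrn => or_iff_not_imp_left.2 fun hr => by
    obtain ⟨s, rfl⟩ := Ideal.Quotient.mk_surjective r
    exact (hreg s fun hs => hr (Ideal.Quotient.eq_zero_iff_mem.mpr hs)).right_eq_zero_of_smul hrn
  obtain ⟨n, f, hf⟩ := CAlgMisc2.exists_injective_pi (R := A ⧸ p) (M := N)
  haveI := finite_pi (M := A ⧸ p) J n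
  exact finite_of_injective J (f.restrictScalars A) hf

theorem finite_coprimary (p : Ideal A) [p.IsPrime] [Module.Finite A (Secs J (A ⧸ p))] (k : ℕ) :
    ∀ (N : Type u) [AddCommGroup N] [Module A N] [Module.Finite A N], (∀ s ∉ p, IsSMulRegular N s) →
      (∀ a ∈ p ^ k, ∀ n : N, a • n = 0) → Module.Finite A (Secs J N) := by
  induction k with
  | zero =>
    intro N _ _ _ _ hk
    haveI := subsingleton_secs J (M := N) fun q _ n =>
      ⟨1, (Ideal.ne_top_iff_one _).mp q.2.ne_top, hk 1 (by simp) n⟩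
    infer_instance
  | succ k ih =>
    intro N _ _ _ hreg hk
    let N1 : Submodule A N :=
      { carrier := {n | ∀ a ∈ p, a • n = 0}
        add_mem' := fun hx hy a ha => by rw [smul_add, hx a ha, hy a ha, add_zero]
        zero_mem' := fun a _ => smul_zero a
        smul_mem' := fun c x hx a ha => by rw [smul_comm, hx a ha, smul_zero] }
    haveI : Module.Finite A (Secs J N1) := finite_killed J p N1
      (fun s hs x y hxy => Subtype.ext (hreg s hs (congrArg Subtype.val hxy)))
      (fun a ha n => Subtype.ext (n.2 a ha))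
    haveI : Module.Finite A (Secs J (N ⧸ N1)) := by
      refine ih (N ⧸ N1) (fun s hs => ?_) (fun a ha n => ?_)
      · rw [isSMulRegular_iff_right_eq_zero_of_smul]
        intro n hn
        obtain ⟨n, rfl⟩ := Submodule.Quotient.mk_surjective _ n
        rw [← Submodule.Quotient.mk_smul, Submodule.Quotient.mk_eq_zero] at hn
        rw [Submodule.Quotient.mk_eq_zero]
        exact fun a ha => mem_of_smul_mem hreg hs hn a ha
      · obtain ⟨n, rfl⟩ := Submodule.Quotient.mk_surjective _ n
        rw [← Submodule.Quotient.mk_smul, Submodule.Quotient.mk_eq_zero]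
        intro c hc
        rw [smul_smul]
        exact hk _ (by rw [pow_succ']; exact Ideal.mul_mem_mul hc ha) n
    exact finite_of_exact J N1.subtype N1.mkQ N1.injective_subtype (LinearMap.exact_subtype_mkQ N1)

/-- Dévissage to the prime quotients. -/
theorem finite_of_associatedPrimes (k : ℕ) : ∀ (M : Type u) [AddCommGroup M] [Module A M] [Module.Finite A M],
    (associatedPrimes A M).ncard ≤ k →
    (∀ p ∈ associatedPrimes A M, ¬ J ≤ p → Module.Finite A (Secs J (A ⧸ p))) →
    Module.Finite A (Secs J M) := by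
  induction k with
  | zero =>
    intro M _ _ _ hk _
    haveI : Subsingleton M := by
      by_contra hne
      rw [not_subsingleton_iff_nontrivial] at hne
      have h := associatedPrimes.nonempty A M
      rw [(Set.ncard_eq_zero (associatedPrimes.finite A M)).mp (Nat.le_zero.mp hk)] at h
      exact Set.not_nonempty_empty h
    haveI := subsingleton_secs J (M := M) fun q _ n =>
      ⟨1, (Ideal.ne_top_iff_one _).mp q.2.ne_top, Subsingleton.elim _ _⟩
    infer_instance
  | succ k ih =>
    intro M _ _ _ hk hfin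
    by_cases hne : (associatedPrimes A M).Nonempty
    swap
    · exact ih M (by rw [Set.not_nonempty_iff_eq_empty.mp hne, Set.ncard_empty]; exact k.zero_le) hfin
    obtain ⟨p, hp⟩ := (associatedPrimes.finite A M).exists_maximal hne
    haveI : p.IsPrime := IsAssociatedPrime.isPrime hp.1
    let N : Submodule A M :=
      { carrier := {m | ∃ n : ℕ, ∀ a ∈ p ^ n, a • m = 0}
        add_mem' := by
          rintro x y ⟨n, hn⟩ ⟨n', hn'⟩
          exact ⟨n + n', fun a ha => by
            rw [smul_add, hn a (Ideal.pow_le_pow_right (Nat.le_add_right n n') ha),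
              hn' a (Ideal.pow_le_pow_right (Nat.le_add_left n' n) ha), add_zero]⟩
        zero_mem' := ⟨0, fun a _ => smul_zero a⟩
        smul_mem' := by
          rintro c x ⟨n, hn⟩
          exact ⟨n, fun a ha => by rw [smul_comm, hn a ha, smul_zero]⟩ }
    obtain ⟨n0, hn0⟩ : ∃ n : ℕ, ∀ a ∈ p ^ n, ∀ m : N, a • m = 0 := by
      obtain ⟨G, hG⟩ := (inferInstance : Module.Finite A N).fg_top
      choose n hn using fun g : N => g.2
      refine ⟨G.sup n, fun a ha m => ?_⟩
      have hm : m ∈ Submodule.span A (G : Set N) := hG ▸ Submodule.mem_top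
      induction hm using Submodule.span_induction with
      | mem g hg => exact Subtype.ext (hn g a (Ideal.pow_le_pow_right (Finset.le_sup (f := n) hg) ha))
      | zero => exact smul_zero a
      | add x y _ _ hx hy => rw [smul_add, hx, hy, add_zero]
      | smul c x _ hx => rw [smul_comm, hx, smul_zero]
    haveI : Module.Finite A (Secs J N) := by
      by_cases hJp : J ≤ p
      · haveI := subsingleton_secs J (M := N) fun q hq n => by
          obtain ⟨a, haJ, haq⟩ := SetLike.not_le_iff_exists.mp hq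
          exact ⟨a ^ n0, fun h => haq (q.2.mem_of_pow_mem _ h), hn0 _ (Ideal.pow_mem_pow (hJp haJ) n0) n⟩
        infer_instance
      · haveI := hfin p hp.1 hJp
        refine finite_coprimary J p n0 N (fun s hs => ?_) hn0
        rw [isSMulRegular_iff_right_eq_zero_of_smul]
        intro m hm
        by_contra hm0
        obtain ⟨q, hq, hle⟩ := exists_le_isAssociatedPrime_of_isNoetherianRing A m hm0
        have hsq : s ∈ q := hle (Submodule.mem_colon_singleton.mpr hm)
        have hpq : p ≤ q := fun a ha => hq.isPrime.mem_of_pow_mem n0 (hle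
          (Submodule.mem_colon_singleton.mpr (hn0 _ (Ideal.pow_mem_pow ha n0) m)))
        exact hs (hp.2 (associatedPrimes.subset_of_injective N.injective_subtype hq) hpq hsq)
    have hsub : associatedPrimes A (M ⧸ N) ⊆ associatedPrimes A M \ {p} := by
      intro q hq
      obtain ⟨hqp, x, hx⟩ := isAssociatedPrime_iff.mp hq
      obtain ⟨m, rfl⟩ := Submodule.Quotient.mk_surjective _ x
      have hq' : ∀ z, z ∈ q ↔ z • m ∈ N := fun z => by
        rw [hx, Submodule.mem_colon_singleton, Submodule.mem_bot, ← Submodule.Quotient.mk_smul,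
          Submodule.Quotient.mk_eq_zero]
      have hnle : ¬ p ≤ q := fun hle => by
        have hmN : m ∈ N := by
          refine ⟨n0 + 1, fun a ha => ?_⟩
          rw [pow_succ] at ha
          refine Submodule.mul_induction_on ha (fun c hc d hd => ?_) (fun c d hc hd => by rw [add_smul, hc, hd, add_zero])
          rw [mul_smul]
          exact congrArg Subtype.val (hn0 c hc ⟨d • m, (hq' d).mp (hle hd)⟩)
        exact hqp.ne_top ((Ideal.eq_top_iff_one q).mpr ((hq' 1).mpr (by rwa [one_smul])))
      obtain ⟨a, hap, haq⟩ := SetLike.not_le_iff_exists.mp hnle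
      refine ⟨isAssociatedPrime_iff.mpr ⟨hqp, a ^ n0 • m, ?_⟩, fun h => hnle (Set.mem_singleton_iff.mp h).ge⟩
      ext z
      rw [Submodule.mem_colon_singleton, Submodule.mem_bot]
      constructor
      · intro hz
        rw [smul_comm]
        exact congrArg Subtype.val (hn0 _ (Ideal.pow_mem_pow hap n0) ⟨z • m, (hq' z).mp hz⟩)
      · intro hz
        have h1 : z * a ^ n0 ∈ q := (hq' _).mpr (by rw [mul_smul, hz]; exact zero_mem _)
        exact (hqp.mem_or_mem h1).resolve_right fun h => haq (hqp.mem_of_pow_mem _ h)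
    haveI : Module.Finite A (Secs J (M ⧸ N)) := by
      refine ih (M ⧸ N) ?_ fun q hq => hfin q (hsub hq).1
      refine (Set.ncard_le_ncard hsub ((associatedPrimes.finite A M).subset Set.sdiff_subset)).trans ?_
      rw [Set.ncard_sdiff_singleton_of_mem hp.1]
      omega
    exact finite_of_exact J N.subtype N.mkQ N.injective_subtype (LinearMap.exact_subtype_mkQ N)

end devissage

end Groth.Agent.CommAlg6.PushCompl

namespace Groth.Agent.CommAlg6.PushCompl

open Groth.Agent.Pure6 (IsLocFrac)

variable {A : Type u} [CommRing A] (J : Ideal A)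

theorem not_le_kerPt_quotient {p : Ideal A} [p.IsPrime] (hJ : ¬ J ≤ p) :
    ¬ J ≤ (kerPt A (A ⧸ p)).asIdeal := by
  show ¬ J ≤ RingHom.ker (algebraMap A (A ⧸ p))
  rwa [Ideal.Quotient.algebraMap_eq, Ideal.mk_ker]

theorem map_quotient_ne_bot {p : Ideal A} (hJ : ¬ J ≤ p) : J.map (Ideal.Quotient.mk p) ≠ ⊥ := by
  rwa [ne_eq, Ideal.map_eq_bot_iff_le_ker, Ideal.mk_ker]

theorem cSub_map {B : Type u} [CommRing B] [IsDomain B] [Algebra A B]
    (hsurj : Function.Surjective (algebraMap A B)) :
    (cSub (A := B) (J.map (algebraMap A B)) B) = cSub J B := by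
  ext f
  constructor
  · rintro ⟨k, hk⟩
    refine ⟨k, fun a ha => hk (algebraMap A B a) ?_⟩
    rw [← Ideal.map_pow]; exact Ideal.mem_map_of_mem _ ha
  · rintro ⟨k, hk⟩
    refine ⟨k, fun b hb => ?_⟩
    rw [← Ideal.map_pow, Ideal.mem_map_iff_of_surjective _ hsurj] at hb
    obtain ⟨a, ha, rfl⟩ := hb
    exact hk a ha

/-- Coherence for a prime quotient, in either ring. -/
theorem isCoherentPushCompl_quotient_iff [IsNoetherianRing A] {p : Ideal A} [p.IsPrime] (hJ : ¬ J ≤ p) :
    EGA4.IsCoherentPushCompl (A ⧸ p) (J.map (Ideal.Quotient.mk p)) (A ⧸ p) ↔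
      Module.Finite A (Secs J (A ⧸ p)) := by
  have h : ¬ J.map (Ideal.Quotient.mk p) ≤ (kerPt (A ⧸ p) (A ⧸ p)).asIdeal := by
    show ¬ J.map (Ideal.Quotient.mk p) ≤ RingHom.ker (algebraMap (A ⧸ p) (A ⧸ p))
    rw [(RingHom.injective_iff_ker_eq_bot (algebraMap (A ⧸ p) (A ⧸ p))).mp Function.injective_id, le_bot_iff]
    exact map_quotient_ne_bot J hJ
  rw [isCoherentPushCompl_iff, finite_secs_iff J Ideal.Quotient.mk_surjective (not_le_kerPt_quotient J hJ),
    finite_secs_iff _ Function.surjective_id h, ← cSub_map J (B := A ⧸ p) Ideal.Quotient.mk_surjective]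
  exact Iff.rfl

/-- The submodule spanned by a witness of an associated prime. -/
theorem exists_injective_of_associated [IsNoetherianRing A] {M : Type u} [AddCommGroup M] [Module A M]
    {p : Ideal A} (hp : p ∈ associatedPrimes A M) :
    ∃ ι : (A ⧸ p) →ₗ[A] M, Function.Injective ι := by
  obtain ⟨-, x, hx⟩ := isAssociatedPrime_iff.mp hp
  refine ⟨Submodule.liftQ p (LinearMap.toSpanSingleton A M x) (fun a ha => ?_),
    LinearMap.ker_eq_bot.mp (Submodule.ker_liftQ_eq_bot _ _ _ fun a ha => ?_)⟩
  · rw [hx, Submodule.mem_colon_singleton, Submodule.mem_bot] at ha; exact ha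
  · rw [hx, Submodule.mem_colon_singleton, Submodule.mem_bot]; exact ha

theorem finite_iff_associatedPrimes [IsNoetherianRing A] (M : Type u) [AddCommGroup M] [Module A M]
    [Module.Finite A M] :
    Module.Finite A (Secs J M) ↔ ∀ p ∈ associatedPrimes A M, ¬ J ≤ p → Module.Finite A (Secs J (A ⧸ p)) := by
  refine ⟨fun h p hp _ => ?_, finite_of_associatedPrimes J _ M le_rfl⟩
  obtain ⟨ι, hι⟩ := exists_injective_of_associated hp
  haveI := h
  exact finite_of_injective J ι hι

end Groth.Agent.CommAlg6.PushCompl
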